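import Cfsg.Statements.S1534
import Cfsg.Agent.Lib.CyclicTI.TIAlternatives

set_option autoImplicit false
open Cfsg

namespace Cfsg.Agent.S1534

/-- Let G be a finite group and K a nontrivial nilpotent subgroup whose underlying set is a TI-subset of G, properly contained in its set normaliser N, with C_G(k) ≤ K for every non-identity k ∈ K; let e be the index of K in N and S the set of irreducible characters χ of N with χ k ≠ χ 1 for some k ∈ K. Then one of: S has exactly one member, Nat.card K = e + 1 and K is an elementary abelian p-group for some prime p; or K is a Sylow 2-subgroup of G (Nat.card K is the largest power of 2 dividing Nat.card G) and [K : [K,K]] < 4e²; or (S, N minus 1, induction to G) is coherent. -/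
theorem result {G : Type*} [Group G] [Fintype G] (K : Subgroup G) (hK1 : K ≠ ⊥) (hnil : Group.IsNilpotent K) (hTI : Cfsg.IsTISubset (K : Set G)) (hlt : K < Subgroup.normalizer (K : Set G)) (hC : ∀ k ∈ K, k ≠ 1 → Subgroup.centralizer ({k} : Set G) ≤ K) [Fintype ↥(Subgroup.normalizer (K : Set G))] : (Nat.card {χ : ↥(Subgroup.normalizer (K : Set G)) → ℂ // Cfsg.IsIrrCharacter ↥(Subgroup.normalizer (K : Set G)) χ ∧ ∃ k : ↥(Subgroup.normalizer (K : Set G)), (k : G) ∈ K ∧ χ k ≠ χ 1} = 1 ∧ Nat.card K = (K.subgroupOf (Subgroup.normalizer (K : Set G))).index + 1 ∧ ∃ p : ℕ, p.Prime ∧ Cfsg.IsElementaryAbelian p K) ∨ (Nat.card K = 2 ^ (Nat.card G).factorization 2 ∧ (⁅K, K⁆.subgroupOf K).index < 4 * (K.subgroupOf (Subgroup.normalizer (K : Set G))).index ^ 2) ∨ Cfsg.IsCoherent {χ : ↥(Subgroup.normalizer (K : Set G)) → ℂ | Cfsg.IsIrrCharacter ↥(Subgroup.normalizer (K : Set G)) χ ∧ ∃ k : ↥(Subgroup.normalizer (K : Set G)), (k : G) ∈ K ∧ χ k ≠ χ 1} {1}ᶜ (fun α => Cfsg.indFun (Subgroup.normalizer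 (K : Set G)) α) := by
  classical
  have hn : (K.subgroupOf (Subgroup.normalizer (K : Set G))).Normal :=
    CfsgLib.CyclicTI.TIInd.subgroupOf_normal fun x hx h hh => (Subgroup.mem_normalizer_iff.1 hx h).1 hh
  have hKL := hlt.le
  have hKC : CfsgLib.CyclicTI.Frob.KernelCond (K.subgroupOf (Subgroup.normalizer (K : Set G))) :=
    CfsgLib.CyclicTI.TIInd.kernelCond fun k hk hk1 => inf_le_right.trans (hC k hk hk1)
  have hnil' : Group.IsNilpotent (K.subgroupOf (Subgroup.normalizer (K : Set G))) :=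
    Group.nilpotent_of_mulEquiv (Subgroup.subgroupOfEquivOfLe hKL).symm
  rcases CfsgLib.CyclicTI.TIKernel.alternatives K _ hKL hK1 hlt.ne hnil' hKC hTI rfl with
    h | ⟨h2, hodd, he1, hsmall⟩ | h
  · exact Or.inl h
  · refine Or.inr (Or.inl ?_)
    have : Fact (Nat.Prime 2) := ⟨Nat.prime_two⟩
    obtain ⟨S, hS⟩ := h2.exists_le_sylow
    have : Nontrivial (S : Subgroup G) := (Subgroup.nontrivial_iff_ne_bot _).2
      fun h => hK1 (le_bot_iff.1 (h ▸ hS))
    obtain ⟨⟨z, hz⟩, hz1⟩ := Subgroup.ne_bot_iff_exists_ne_one.mp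
      (bot_lt_iff_ne_bot.mp S.2.bot_lt_center)
    obtain ⟨k, hk, hk1⟩ := (Subgroup.bot_or_exists_ne_one K).resolve_left hK1
    have hzc : ∀ y : (S : Subgroup G), (y : G) * z = z * y := fun y =>
      congrArg Subtype.val (Subgroup.mem_center_iff.1 hz y)
    have hzK : (z : G) ∈ K :=
      hC k hk hk1 (Subgroup.mem_centralizer_singleton_iff.2 (hzc ⟨k, hS hk⟩).symm)
    have hSK : (S : Subgroup G) = K := le_antisymm (fun y hy =>
      hC z hzK (fun h => hz1 (Subtype.ext (Subtype.ext h)))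
        (Subgroup.mem_centralizer_singleton_iff.2 (hzc ⟨y, hy⟩))) hS
    refine ⟨hSK ▸ S.card_eq_multiplicity, ?_⟩
    set e := (K.subgroupOf (Subgroup.normalizer (K : Set G))).index
    have hrel : (⁅K.subgroupOf (Subgroup.normalizer (K : Set G)),
        K.subgroupOf (Subgroup.normalizer (K : Set G))⁆).relIndex
          (K.subgroupOf (Subgroup.normalizer (K : Set G))) = (⁅K, K⁆.subgroupOf K).index := by
      rw [← Subgroup.relIndex_map_map_of_injective _ _ (Subgroup.subtype_injective _),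
        Subgroup.map_commutator, Subgroup.subgroupOf_map_subtype, inf_eq_left.2 hKL]
      rfl
    rw [hrel] at hsmall
    obtain ⟨m, hm⟩ := IsPGroup.iff_card.1 h2
    obtain ⟨i, -, hi⟩ := (Nat.dvd_prime_pow Nat.prime_two).1
      (hm ▸ (⁅K, K⁆.subgroupOf K).index_dvd_card)
    rw [hi] at hsmall ⊢
    have h4 : 2 ^ i ≠ 4 * e ^ 2 := fun h => by
      obtain ⟨j, -, hj⟩ := (Nat.dvd_prime_pow Nat.prime_two).1
        (show e ∣ 2 ^ i from h ▸ (dvd_pow_self e two_ne_zero).mul_left 4)
      rcases j with - | j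
      · rw [hj, pow_zero] at he1; omega
      · exact Nat.not_even_iff_odd.2 hodd (hj ▸ (even_two).pow_of_ne_zero (Nat.succ_ne_zero j))
    have h5 : 2 ^ i ≠ 4 * e ^ 2 + 1 := fun h => by
      rcases i with - | i
      · have : 0 < e ^ 2 := pow_pos (by omega) 2
        simp at h; omega
      · have : Even (4 * e ^ 2 + 1) := h ▸ (even_two).pow_of_ne_zero (Nat.succ_ne_zero i)
        simp [Nat.even_add_one, Nat.even_mul, show Even 4 from ⟨2, rfl⟩] at this
    omega
  · exact Or.inr (Or.inr h)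

end Cfsg.Agent.S1534
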