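import Cfsg.Statements.S0738
import Cfsg.Agent.Lib.AltGroups.ZassenhausBasic
import Mathlib.GroupTheory.Sylow

set_option autoImplicit false
open Cfsg

namespace Cfsg.Agent.S0738

/-- Let a finite Zassenhaus group of degree `n + 1` have two-point stabilisers of order `d` with `2d ≥ n - 1`. Then a normal subgroup of a point stabiliser acting regularly on the remaining points is elementary abelian, and the degree is a prime power plus one. -/
theorem result {G Ω : Type*} [Group G] [Finite G] [MulAction G Ω] [Fintype Ω] (hZ : Cfsg.IsZassenhausGroup G Ω) {a b : Ω} (hab : a ≠ b) (hd : Fintype.card Ω - 2 ≤ 2 * Nat.card ↥(MulAction.stabilizer G a ⊓ MulAction.stabilizer G b)) (F : Subgroup G) (hFle : F ≤ MulAction.stabilizer G a) (hFn : (F.subgroupOf (MulAction.stabilizer G a)).Normal) (hreg : ∀ y z : Ω, y ≠ a → z ≠ a → ∃! u : F, (u : G) • y = z) : IsMulCommutative F ∧ ∃ p f : ℕ, p.Prime ∧ (∀ u ∈ F, u ^ p = 1) ∧ Fintype.card Ω = p ^ f + 1 := by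
  classical
  haveI := Fintype.ofFinite G
  set H := MulAction.stabilizer G a ⊓ MulAction.stabilizer G b with hHdef
  set n := Fintype.card Ω - 1 with hn
  have hn3 : 3 ≤ Fintype.card Ω := CfsgLib.AltGroups.IsZassenhaus.three_le_card hZ
  set d := Nat.card H with hd_def
  -- the bijection `u ↦ u • b`
  have hFa : ∀ u ∈ F, u • a = a := fun u hu => hFle hu
  have hmem : ∀ u ∈ F, u • b ≠ a := fun u hu h => hab (MulAction.injective u (h.trans (hFa u hu).symm)).symm
  have hbij : ∀ u ∈ F, ∀ v ∈ F, u • b = v • b → u = v := fun u hu v hv h => by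
    obtain ⟨w, -, huniq⟩ := hreg b (v • b) hab.symm (hmem v hv)
    exact congrArg Subtype.val ((huniq ⟨u, hu⟩ h).trans (huniq ⟨v, hv⟩ rfl).symm)
  have hFcard : Nat.card F = n := by
    rw [hn, ← Nat.card_eq_fintype_card]
    have e : Nat.card F = Nat.card {y : Ω // y ≠ a} := by
      refine Nat.card_eq_of_bijective (fun u => ⟨(u : G) • b, hmem u u.2⟩) ⟨fun u v h => ?_, fun y => ?_⟩
      · exact Subtype.ext (hbij u u.2 v v.2 (congrArg Subtype.val h))
      · obtain ⟨w, hw, -⟩ := hreg b y hab.symm y.2
        exact ⟨w, Subtype.ext hw⟩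
    rw [e, Nat.card_eq_fintype_card, Nat.card_eq_fintype_card, Fintype.card_subtype_compl]
    simp
  have hconj : ∀ h ∈ H, ∀ u ∈ F, h * u * h⁻¹ ∈ F ∧ (h * u * h⁻¹) • b = h • (u • b) := by
    intro h hh u hu
    obtain ⟨hha, hhb⟩ := Subgroup.mem_inf.mp hh
    refine ⟨?_, ?_⟩
    · have := hFn.conj_mem ⟨u, hFle hu⟩ (Subgroup.mem_subgroupOf.mpr hu) ⟨h, hha⟩
      exact Subgroup.mem_subgroupOf.mp this
    · rw [mul_smul, mul_smul, inv_smul_eq_iff.mpr (MulAction.mem_stabilizer_iff.mp hhb).symm]
  set S : Finset G := Finset.univ.filter fun u => u ∈ F ∧ u ≠ 1 with hS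
  have hScard : S.card + 1 = n := by
    rw [← hFcard, Nat.card_eq_fintype_card, Fintype.card_subtype]
    have : (Finset.univ.filter fun u : G => u ∈ F) = insert 1 S := by
      ext u
      by_cases h : u = 1 <;> simp [hS, h, F.one_mem]
    rw [this, Finset.card_insert_of_notMem (by simp [hS])]
  -- an invariant non-empty part of `S` has at least `d` elements
  have horb : ∀ A : Finset G, A ⊆ S → A.Nonempty → (∀ h ∈ H, ∀ u ∈ A, h * u * h⁻¹ ∈ A) → d ≤ A.card := by
    intro A hAS ⟨u, hu⟩ hA
    obtain ⟨huF, hu1⟩ := (Finset.mem_filter.mp (hAS hu)).2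
    rw [hd_def, Nat.card_eq_fintype_card, ← Finset.card_univ]
    refine Finset.card_le_card_of_injOn (fun h => (h : G) * u * (h : G)⁻¹)
      (fun h _ => hA h h.2 u hu) ?_
    intro h _ k _ hk
    simp only at hk
    have h1 : (h : G) • (u • b) = (k : G) • (u • b) := by
      rw [← (hconj h h.2 u huF).2, ← (hconj k k.2 u huF).2, hk]
    have hfix : ((k : G)⁻¹ * h) • (u • b) = u • b := by rw [mul_smul, h1, inv_smul_smul]
    have hkh := H.mul_mem (H.inv_mem k.2) h.2
    obtain ⟨h2, h3⟩ := Subgroup.mem_inf.mp hkh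
    have hub : u • b ≠ b := fun h => hu1 (hbij u huF 1 F.one_mem (by rw [h, one_smul]))
    have := CfsgLib.AltGroups.IsZassenhaus.eq_one_of_fix hZ hab (Ne.symm (hmem u huF)) (Ne.symm hub)
      h2 h3 hfix
    exact Subtype.ext (inv_mul_eq_one.mp this).symm
  have hd1 : 0 < d := hd_def ▸ Nat.card_pos
  have hS2d : S.card ≤ 2 * d + 0 := by
    have : n - 1 ≤ 2 * d := by omega
    omega
  -- at most two disjoint invariant parts, and then both of size `d`
  have hthree : ∀ A B C : Finset G, A ⊆ S → B ⊆ S → C ⊆ S → A.Nonempty → B.Nonempty → C.Nonempty →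
      (∀ h ∈ H, ∀ u ∈ A, h * u * h⁻¹ ∈ A) → (∀ h ∈ H, ∀ u ∈ B, h * u * h⁻¹ ∈ B) →
      (∀ h ∈ H, ∀ u ∈ C, h * u * h⁻¹ ∈ C) → Disjoint A B → Disjoint A C → Disjoint B C → False := by
    intro A B C hA hB hC nA nB nC iA iB iC dAB dAC dBC
    have h1 := horb A hA nA iA
    have h2 := horb B hB nB iB
    have h3 := horb C hC nC iC
    have h4 : (A ∪ B ∪ C).card ≤ S.card := Finset.card_le_card (Finset.union_subset (Finset.union_subset hA hB) hC)
    rw [Finset.card_union_of_disjoint (Finset.disjoint_union_left.mpr ⟨dAC, dBC⟩),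
      Finset.card_union_of_disjoint dAB] at h4
    omega
  have htwo : ∀ A : Finset G, A ⊆ S → A.Nonempty → (∀ h ∈ H, ∀ u ∈ A, h * u * h⁻¹ ∈ A) →
      A ≠ S → A.card = d ∧ n = 2 * d + 1 := by
    intro A hA nA iA hne
    have nB : (S \ A).Nonempty := Finset.sdiff_nonempty.mpr fun h => hne (Finset.Subset.antisymm hA h)
    have iB : ∀ h ∈ H, ∀ u ∈ S \ A, h * u * h⁻¹ ∈ S \ A := by
      intro h hh u hu
      simp only [Finset.mem_sdiff, hS, Finset.mem_filter, Finset.mem_univ, true_and] at hu ⊢
      refine ⟨⟨(hconj h hh u hu.1.1).1, ?_⟩, fun h' => hu.2 ?_⟩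
      · rw [Ne, conj_eq_one_iff]; exact hu.1.2
      · have := iA h⁻¹ (H.inv_mem hh) _ h'
        simpa [mul_assoc] using this
    have h1 := horb A hA nA iA
    have h2 := horb _ Finset.sdiff_subset nB iB
    rw [Finset.card_sdiff_of_subset hA] at h2
    have := Finset.card_le_card hA
    omega
  have hsub : ∀ P : G → Prop, [DecidablePred P] → S.filter P ⊆ S := fun P _ => Finset.filter_subset _ _
  have hord : ∀ m : ℕ, ∀ h ∈ H, ∀ u ∈ S.filter (fun u => orderOf u = m), h * u * h⁻¹ ∈ S.filter (fun u => orderOf u = m) := by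
    intro m h hh u hu
    simp only [hS, Finset.mem_filter, Finset.mem_univ, true_and] at hu ⊢
    refine ⟨⟨(hconj h hh u hu.1.1).1, ?_⟩, ?_⟩
    · rw [Ne, conj_eq_one_iff]; exact hu.1.2
    · rw [← hu.2]
      exact orderOf_injective (MulAut.conj h).toMonoidHom (MulAut.conj h).injective u
  have hne_of : ∀ m, m ≠ 1 → ∀ u ∈ F, orderOf u = m → (S.filter fun u => orderOf u = m).Nonempty := by
    intro m hm u hu hum
    exact ⟨u, Finset.mem_filter.mpr ⟨Finset.mem_filter.mpr ⟨Finset.mem_univ _, hu,
      fun h => hm (by rw [← hum, h, orderOf_one])⟩, hum⟩⟩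
  have hord3 : ∀ i j k : ℕ, i ≠ 1 → j ≠ 1 → k ≠ 1 → i ≠ j → i ≠ k → j ≠ k →
      ∀ x ∈ F, ∀ y ∈ F, ∀ z ∈ F, orderOf x = i → orderOf y = j → orderOf z = k → False := by
    intro i j k hi hj hk hij hik hjk x hx y hy z hz hxi hyj hzk
    refine hthree _ _ _ (hsub _) (hsub _) (hsub _) (hne_of i hi x hx hxi) (hne_of j hj y hy hyj)
      (hne_of k hk z hz hzk) (hord i) (hord j) (hord k) ?_ ?_ ?_ <;>
    · rw [Finset.disjoint_filter]
      intro u _ h1 h2
      omega
  have hn2 : 2 ≤ n := by omega
  obtain ⟨p, hp, hpn⟩ := Nat.exists_prime_and_dvd (show n ≠ 1 by omega)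
  haveI := Fact.mk hp
  -- `F` is a `p`-group
  have hpgroup : IsPGroup p F := by
    by_contra hnp
    obtain ⟨r, hr, hrn, hrp⟩ : ∃ r, r.Prime ∧ r ∣ n ∧ r ≠ p := by
      by_contra h
      push Not at h
      exact hnp (IsPGroup.of_card (n := n.primeFactorsList.length) (by
        rw [hFcard]
        exact Nat.eq_prime_pow_of_unique_prime_dvd (by omega) (fun {q} hq hqn => h q hq hqn)))
    haveI := Fact.mk hr
    obtain ⟨x, hx⟩ := exists_prime_orderOf_dvd_card' (G := F) p (by rw [hFcard]; exact hpn)
    obtain ⟨y, hy⟩ := exists_prime_orderOf_dvd_card' (G := F) r (by rw [hFcard]; exact hrn)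
    have hox : orderOf (x : G) = p := by rw [Subgroup.orderOf_coe, hx]
    have hoy : orderOf (y : G) = r := by rw [Subgroup.orderOf_coe, hy]
    have hall : ∀ u : F, u ≠ 1 → orderOf u = p ∨ orderOf u = r := by
      intro u hu
      by_contra h
      push Not at h
      exact hord3 p r (orderOf u) hp.ne_one hr.ne_one (fun h' => hu (orderOf_eq_one_iff.mp h')) (Ne.symm hrp)
        (Ne.symm h.1) (Ne.symm h.2) x x.2 y y.2 u u.2 hox hoy (by rw [Subgroup.orderOf_coe])
    -- the centraliser in `F` of an element of order `q` is a `q`-group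
    have main : ∀ q o : ℕ, q.Prime → o.Prime → q ≠ o →
        (∀ u : F, u ≠ 1 → orderOf u = q ∨ orderOf u = o) →
        (∃ w : F, orderOf w = o) → (∃ x : F, orderOf x = q) → q ^ (n.factorization q) ∣ n ∧
          n / q ^ (n.factorization q) ∣ d := by
      intro q o hq ho hqo hall ⟨w, hw⟩ ⟨x, hx⟩
      refine ⟨Nat.ordProj_dvd n q, ?_⟩
      haveI := Fact.mk hq
      let A : Finset G := S.filter fun u => orderOf u = q
      have hox : orderOf (x : G) = q := by rw [Subgroup.orderOf_coe, hx]
      have hAc : A.card = d := by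
        refine (htwo A (hsub _) (hne_of q hq.ne_one x x.2 hox) (hord q) ?_).1
        intro h
        obtain ⟨v, hv⟩ := hne_of o ho.ne_one w w.2 (by rw [Subgroup.orderOf_coe, hw])
        simp only [Finset.mem_filter] at hv
        have := (Finset.mem_filter.mp (h.symm ▸ hv.1)).2
        omega
      let Q : Sylow q F := default
      have hQc : Nat.card (Q : Subgroup F) = q ^ n.factorization q := by rw [Q.card_eq_multiplicity, hFcard]
      have hqn : q ∣ n := by rw [← hFcard, ← hx]; exact orderOf_dvd_natCard x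
      haveI : Nontrivial (Q : Subgroup F) := by
        rw [← Finite.one_lt_card_iff_nontrivial, hQc]
        exact Nat.one_lt_pow (by rw [← Nat.pos_iff_ne_zero]; exact hq.factorization_pos_of_dvd (by omega) hqn) hq.one_lt
      have := Q.isPGroup'.center_nontrivial
      obtain ⟨z, hz⟩ := exists_ne (1 : Subgroup.center (Q : Subgroup F))
      set z' : F := ((z : (Q : Subgroup F)) : F) with hz'
      have hz1 : z' ≠ 1 := fun h => hz (Subtype.ext (Subtype.ext h))
      have hzq : orderOf z' = q := by
        obtain ⟨k, hk⟩ := (IsPGroup.iff_orderOf.mp Q.isPGroup') (z : (Q : Subgroup F))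
        have hzc : orderOf z' = q ^ k := by rw [hz', Subgroup.orderOf_coe, hk]
        rcases hall z' hz1 with h | h
        · exact h
        · have hdvd : o ∣ q ^ k := by rw [← hzc, h]
          exact absurd ((Nat.prime_dvd_prime_iff_eq ho hq).mp (ho.dvd_of_dvd_pow hdvd)).symm hqo
      -- centralisers
      have hcent : ∀ u : F, orderOf u = q → IsPGroup q (Subgroup.centralizer ({u} : Set F)) := by
        intro u hu
        rw [IsPGroup.iff_orderOf]
        rintro ⟨v, hv⟩
        rw [Subgroup.orderOf_mk]
        by_cases hv1 : v = 1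
        · exact ⟨0, by simp [hv1]⟩
        rcases hall v hv1 with h | h
        · exact ⟨1, by rw [h, pow_one]⟩
        · exfalso
          have hc : Commute u v := (Subgroup.mem_centralizer_singleton_iff.mp hv).symm
          have hm := hc.orderOf_mul_eq_mul_orderOf_of_coprime (by rw [hu, h]; exact (Nat.coprime_primes hq ho).mpr hqo)
          rw [hu, h] at hm
          have h4 : 4 ≤ q * o := Nat.mul_le_mul hq.two_le ho.two_le
          rcases hall (u * v) (fun e => by rw [e, orderOf_one] at hm; omega) with e | e <;> rw [hm] at e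
          · exact ho.ne_one (Nat.eq_of_mul_eq_mul_left hq.pos (by rw [e, mul_one]))
          · exact hq.ne_one (Nat.eq_of_mul_eq_mul_right ho.pos (by rw [e, one_mul]))
      -- all centralisers have the order of the Sylow subgroup
      have hcard : ∀ u : F, orderOf u = q → Nat.card (Subgroup.centralizer ({u} : Set F)) = q ^ n.factorization q := by
        have hle : ∀ u : F, orderOf u = q → Nat.card (Subgroup.centralizer ({u} : Set F)) ≤ q ^ n.factorization q := by
          intro u hu
          obtain ⟨Q', hQ'⟩ := (hcent u hu).exists_le_sylow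
          refine le_trans (Subgroup.card_le_of_le hQ') ?_
          rw [Q'.card_eq_multiplicity, hFcard]
        have hzc : q ^ n.factorization q ≤ Nat.card (Subgroup.centralizer ({z'} : Set F)) := by
          rw [← hQc]
          refine Subgroup.card_le_of_le fun v hv => ?_
          rw [Subgroup.mem_centralizer_singleton_iff]
          exact congrArg Subtype.val (Subgroup.mem_center_iff.mp z.2 ⟨v, hv⟩)
        intro u hu
        -- some element of `H` conjugates `z'` to `u`
        obtain ⟨h, hh, hhu⟩ : ∃ h ∈ H, h * (z' : G) * h⁻¹ = u := by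
          by_contra hne
          push Not at hne
          set B := (Finset.univ : Finset H).image (fun h : H => (h : G) * (z' : G) * (h : G)⁻¹) with hB
          have hBA : B ⊆ A := by
            intro v hv
            obtain ⟨h, -, rfl⟩ := Finset.mem_image.mp hv
            refine hord q h h.2 _ (Finset.mem_filter.mpr ⟨Finset.mem_filter.mpr ⟨Finset.mem_univ _, z'.2, ?_⟩, ?_⟩)
            · exact fun e => hz1 (Subtype.ext e)
            · rw [Subgroup.orderOf_coe, hzq]
          have hiB : ∀ k ∈ H, ∀ v ∈ B, k * v * k⁻¹ ∈ B := by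
            intro k hk v hv
            obtain ⟨h, -, rfl⟩ := Finset.mem_image.mp hv
            exact Finset.mem_image.mpr ⟨⟨k, hk⟩ * h, Finset.mem_univ _, by simp [mul_assoc]⟩
          have h1 := horb B (hBA.trans (hsub _)) (Finset.univ_nonempty.image _) hiB
          have : B = A := Finset.eq_of_subset_of_card_le hBA (by omega)
          have hu1 : (u : G) ∈ B := by
            rw [this]
            refine Finset.mem_filter.mpr ⟨Finset.mem_filter.mpr ⟨Finset.mem_univ _, u.2, ?_⟩, by rw [Subgroup.orderOf_coe, hu]⟩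
            intro e
            rw [← Subgroup.orderOf_coe, e, orderOf_one] at hu
            exact hq.ne_one hu.symm
          obtain ⟨h, -, he⟩ := Finset.mem_image.mp hu1
          exact hne h h.2 he
        refine le_antisymm (hle u hu) (le_trans hzc (Nat.card_le_card_of_injective
          (fun v : Subgroup.centralizer ({z'} : Set F) =>
            (⟨⟨h * (v.1 : G) * h⁻¹, (hconj h hh v.1 v.1.2).1⟩, by
              rw [Subgroup.mem_centralizer_singleton_iff]
              have := congrArg Subtype.val (Subgroup.mem_centralizer_singleton_iff.mp v.2)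
              apply Subtype.ext
              simp only [Subgroup.coe_mul] at this ⊢
              rw [← hhu]
              calc h * (v.1 : G) * h⁻¹ * (h * (z' : G) * h⁻¹) = h * ((v.1 : G) * (z' : G)) * h⁻¹ := by group
                _ = h * ((z' : G) * (v.1 : G)) * h⁻¹ := by rw [this]
                _ = h * (z' : G) * h⁻¹ * (h * (v.1 : G) * h⁻¹) := by group⟩ : Subgroup.centralizer ({u} : Set F))) ?_))
        intro v w hvw
        exact Subtype.ext (Subtype.ext (mul_left_cancel (mul_right_cancel (congrArg (fun x => ((x.1 : F) : G)) hvw))))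
      -- count the elements of order `q`
      let K := ConjAct F
      let T : SubMulAction K F :=
        { carrier := {u | orderOf u = q}
          smul_mem' := fun k u hu => by
            show orderOf (k • u) = q
            rw [ConjAct.smul_def]
            exact (orderOf_injective (MulAut.conj (ConjAct.ofConjAct k)).toMonoidHom
              (MulAut.conj (ConjAct.ofConjAct k)).injective u).trans hu }
      have hdvd := CfsgLib.AltGroups.dvd_card_of_card_stabilizer (K := K) (β := T)
        (m := q ^ n.factorization q) (r := n / q ^ n.factorization q)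
        (by rw [Nat.mul_div_cancel' (Nat.ordProj_dvd n q), ← hFcard]; exact Nat.card_congr (Equiv.refl _))
        (fun u => by
          rw [← hcard u.1 u.2]
          refine Nat.card_congr
            { toFun := fun k => ⟨ConjAct.ofConjAct k.1, ?_⟩
              invFun := fun v => ⟨ConjAct.toConjAct v.1, ?_⟩
              left_inv := fun k => rfl
              right_inv := fun v => rfl }
          · have := congrArg Subtype.val k.2
            rw [SetLike.val_smul, ConjAct.smul_def] at this
            rw [Subgroup.mem_centralizer_singleton_iff]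
            exact (eq_mul_inv_iff_mul_eq.mp this.symm).symm
          · apply Subtype.ext
            rw [SetLike.val_smul, ConjAct.smul_def, ConjAct.ofConjAct_toConjAct,
              ← Subgroup.mem_centralizer_singleton_iff.mp v.2 |>.symm, mul_inv_cancel_right])
      have hT : Nat.card T = A.card := by
        rw [← Nat.card_eq_finsetCard]
        refine Nat.card_congr
          { toFun := fun u => ⟨((u.1 : F) : G), ?_⟩
            invFun := fun u => ⟨⟨u.1, (Finset.mem_filter.mp (Finset.mem_filter.mp u.2).1).2.1⟩, ?_⟩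
            left_inv := fun u => rfl
            right_inv := fun u => rfl }
        · have h0 : orderOf u.1 = q := u.2
          refine Finset.mem_filter.mpr ⟨Finset.mem_filter.mpr ⟨Finset.mem_univ _, u.1.2, ?_⟩, by rw [Subgroup.orderOf_coe, h0]⟩
          intro e
          rw [← Subgroup.orderOf_coe, e, orderOf_one] at h0
          exact hq.ne_one h0.symm
        · show orderOf _ = q
          rw [Subgroup.orderOf_mk]
          exact (Finset.mem_filter.mp u.2).2
      rw [hT, hAc] at hdvd
      exact hdvd
    obtain ⟨hp1, hp2⟩ := main p r hp hr (Ne.symm hrp) hall ⟨y, hy⟩ ⟨x, hx⟩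
    obtain ⟨hr1, hr2⟩ := main r p hr hp hrp (fun u hu => (hall u hu).symm) ⟨x, hx⟩ ⟨y, hy⟩
    have hnd : n ∣ d := by
      have hcop : Nat.Coprime (p ^ n.factorization p) (r ^ n.factorization r) :=
        Nat.Coprime.pow _ _ ((Nat.coprime_primes hp hr).mpr (Ne.symm hrp))
      have h1 : p ^ n.factorization p ∣ n / r ^ n.factorization r :=
        hcop.dvd_of_dvd_mul_right (by rw [Nat.div_mul_cancel hr1]; exact hp1)
      have h2 : Nat.Coprime (p ^ n.factorization p) (n / p ^ n.factorization p) :=
        (Nat.coprime_ordCompl hp (by omega)).pow_left _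
      have h3 := h2.mul_dvd_of_dvd_of_dvd (h1.trans hr2) hp2
      rwa [Nat.mul_div_cancel' hp1] at h3
    have hxS : (S.filter fun u => orderOf u = p).Nonempty := hne_of p hp.ne_one x x.2 hox
    have := Nat.le_of_dvd hd1 hnd
    have h1 := Finset.card_le_card (hsub fun u => orderOf u = p)
    have h2 := horb _ (hsub _) hxS (hord p)
    omega
  -- invariant subgroups of `F` are trivial or everything
  have hsubgp : ∀ M : Subgroup G, M ≤ F → M ≠ ⊥ → (∀ h ∈ H, ∀ u ∈ M, h * u * h⁻¹ ∈ M) → M = F := by
    intro M hMF hM hMi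
    by_contra hne
    set A := S.filter fun u => u ∈ M with hA
    have hAi : ∀ h ∈ H, ∀ u ∈ A, h * u * h⁻¹ ∈ A := by
      intro h hh u hu
      simp only [hA, hS, Finset.mem_filter, Finset.mem_univ, true_and] at hu ⊢
      refine ⟨⟨(hconj h hh u hu.1.1).1, ?_⟩, hMi h hh u hu.2⟩
      rw [Ne, conj_eq_one_iff]; exact hu.1.2
    have hAne : A.Nonempty := by
      haveI := (Subgroup.nontrivial_iff_ne_bot M).mpr hM
      obtain ⟨⟨u, hu⟩, hu1⟩ := exists_ne (1 : M)
      refine ⟨u, Finset.mem_filter.mpr ⟨Finset.mem_filter.mpr ⟨Finset.mem_univ _, hMF hu, fun e => hu1 (Subtype.ext e)⟩, hu⟩⟩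
    have hAS : A ≠ S := by
      intro e
      refine hne (le_antisymm hMF fun u hu => ?_)
      by_cases h1 : u = 1
      · rw [h1]; exact M.one_mem
      · have : u ∈ A := by rw [e]; simp [hS, hu, h1]
        exact (Finset.mem_filter.mp this).2
    obtain ⟨hA1, hA2⟩ := htwo A (hsub _) hAne hAi hAS
    have hMc : Nat.card M = d + 1 := by
      rw [← hA1, Nat.card_eq_fintype_card, Fintype.card_subtype]
      have : (Finset.univ.filter fun u : G => u ∈ M) = insert 1 A := by
        ext u
        by_cases h : u = 1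
        · simp [h, M.one_mem]
        · simp [hA, hS, h]
          exact fun hu => hMF hu
      rw [this, Finset.card_insert_of_notMem (by simp [hA, hS])]
    have hdvd := Subgroup.card_dvd_of_le hMF
    rw [hMc, hFcard, hA2, show 2 * d + 1 = (d + 1) + d by ring] at hdvd
    have := Nat.le_of_dvd hd1 ((Nat.dvd_add_right (dvd_refl _)).mp hdvd)
    omega
  haveI : Nontrivial F := Finite.one_lt_card_iff_nontrivial.mp (by omega)
  -- the centre
  have hab' : IsMulCommutative F := by
    have hZc := hpgroup.center_nontrivial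
    have hM := hsubgp ((Subgroup.center F).map F.subtype) (Subgroup.map_subtype_le _) (by
      rw [Ne, Subgroup.map_eq_bot_iff_of_injective _ Subtype.val_injective]
      exact (Subgroup.nontrivial_iff_ne_bot _).mp hZc) (by
      intro h hh u hu
      obtain ⟨v, hv, rfl⟩ := Subgroup.mem_map.mp hu
      refine Subgroup.mem_map.mpr ⟨⟨_, (hconj h hh v v.2).1⟩, Subgroup.mem_center_iff.mpr fun w => ?_, rfl⟩
      have hw : h⁻¹ * (w : G) * h ∈ F := by simpa using (hconj h⁻¹ (H.inv_mem hh) w w.2).1
      have := congrArg Subtype.val (Subgroup.mem_center_iff.mp hv ⟨_, hw⟩)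
      apply Subtype.ext
      simp only [Subgroup.coe_mul, Subgroup.coe_subtype] at this ⊢
      calc (w : G) * (h * v * h⁻¹) = h * ((h⁻¹ * w * h) * v) * h⁻¹ := by group
        _ = h * (v * (h⁻¹ * w * h)) * h⁻¹ := by rw [this]
        _ = h * v * h⁻¹ * w := by group)
    have htop : ∀ u : F, u ∈ Subgroup.center F := by
      intro u
      have hu : (u : G) ∈ (Subgroup.center F).map F.subtype := by rw [hM]; exact u.2
      obtain ⟨v, hv, he⟩ := Subgroup.mem_map.mp hu
      rwa [← Subtype.ext he]
    exact ⟨⟨fun u v => (Subgroup.mem_center_iff.mp (htop v) u)⟩⟩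
  refine ⟨hab', p, ?_⟩
  obtain ⟨f, hf⟩ := IsPGroup.iff_card.mp hpgroup
  refine ⟨f, hp, ?_, by rw [← hf, hFcard]; omega⟩
  let M : Subgroup G :=
    { carrier := {u | u ∈ F ∧ u ^ p = 1}
      one_mem' := ⟨F.one_mem, one_pow p⟩
      mul_mem' := fun {u v} hu hv => ⟨F.mul_mem hu.1 hv.1, by
        have hc : Commute u v := congrArg Subtype.val (hab'.is_comm.comm ⟨u, hu.1⟩ ⟨v, hv.1⟩)
        rw [hc.mul_pow, hu.2, hv.2, one_mul]⟩
      inv_mem' := fun {u} hu => ⟨F.inv_mem hu.1, by rw [inv_pow, hu.2, inv_one]⟩ }
  have hM : M = F := by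
    refine hsubgp M (fun u hu => hu.1) ?_ (fun h hh u hu => ⟨(hconj h hh u hu.1).1, by rw [conj_pow, hu.2]; group⟩)
    obtain ⟨x, hx⟩ := exists_prime_orderOf_dvd_card' (G := F) p (by rw [hFcard]; exact hpn)
    intro e
    have : (x : G) ∈ M := ⟨x.2, by rw [← hx, ← Subgroup.orderOf_coe, pow_orderOf_eq_one]⟩
    rw [e, Subgroup.mem_bot] at this
    rw [← Subgroup.orderOf_coe, this, orderOf_one] at hx
    exact hp.ne_one hx.symm
  intro u hu
  rw [← hM] at hu
  exact hu.2

end Cfsg.Agent.S0738
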