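import Cfsg.Statements.S5120
import Cfsg.Agent.Lib.Alperin.InvariantCore
import Cfsg.Agent.Lib.Alperin.PPowerIndex
import Cfsg.Agent.Lib.FusionSub.Induction

set_option autoImplicit false
open Cfsg Cfsg.FusionSystem

namespace Cfsg.Agent.S5120

/-- Let F be a saturated fusion system over a finite p-group S and T a subgroup of S containing the hyperfocal subgroup of F and normal in S. Then every saturated subsystem of F over T of p-power index is a normal subsystem of F. -/
theorem result {Ω : Type*} [Group Ω] {S : Subgroup Ω} [Finite S] (p : ℕ) [Fact p.Prime] (hS : IsPGroup p S) (F : Cfsg.FusionSystem S) (hF : F.IsSaturated p) (T : Subgroup Ω) (hTS : T ≤ S) (hTn : (T.subgroupOf S).Normal) (hT : F.hyperfocalSubgroup p ≤ T) (E : Cfsg.FusionSystem T) (hEs : E.IsSaturated p) (hEi : E.HasPPowerIndexIn F p) : E.IsNormalIn F p := by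
  haveI := CfsgLib.Alperin.finite_of_le hTS
  have hTp := CfsgLib.Alperin.isPGroup_of_le hS hTS
  have hconjT : ∀ s ∈ S, ∀ t ∈ T, s * t * s⁻¹ ∈ T := fun s hs t ht =>
    hTn.conj_mem ⟨t, hTS ht⟩ ht ⟨s, hs⟩
  -- `T` is strongly closed
  have hiff : ∀ (P : Subgroup Ω) (φ : P →* Ω), φ ∈ F.Hom P → ∀ x : P, (x : Ω) ∈ T ↔ φ x ∈ T := by
    intro P φ hφ
    refine CfsgLib.FusionSub.closed_induction
      (Good := fun P φ => ∀ x : P, (x : Ω) ∈ T ↔ φ x ∈ T)
      hS hF ⟨fun hQ _ h x => h (Subgroup.inclusion hQ x),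
        fun _ _ h h₁ h₂ x => (h₁ x).trans (h₂ ⟨_, h x⟩), ?_⟩ (fun P hP _ α hα => ?_) hφ
    · intro P Q φ ψ _ _ hr hψ h y
      obtain ⟨w, hw⟩ := hr.ge y.2
      obtain rfl : y = ⟨φ w, hr.le ⟨w, rfl⟩⟩ := Subtype.ext hw.symm
      rw [hψ]
      exact (h w).symm
    · let M : Subgroup (MulAut P) :=
        { carrier := {a | ∀ x : P, (x : Ω) ∈ T ↔ ((a x : P) : Ω) ∈ T}
          one_mem' := fun x => Iff.rfl
          mul_mem' := fun {a b} ha hb x => (hb x).trans (ha (b x))
          inv_mem' := fun {a} ha x => by simpa using (ha (a⁻¹ x)).symm }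
      refine CfsgLib.Alperin.autGroup_le_of_pPrime hS hF hP (B := M) (fun a ha x => ?_)
        (fun γ hγ hc x => ?_) hα
      · obtain ⟨s, hs, hsx⟩ := CfsgLib.Alperin.mem_autInducedBy_iff.mp ha
        rw [hsx]
        refine ⟨hconjT s hs _, fun h => ?_⟩
        have := hconjT s⁻¹ (S.inv_mem hs) _ h
        simpa [mul_assoc] using this
      · have hg : (x : Ω)⁻¹ * ((γ x : P) : Ω) ∈ T :=
          hT (CfsgLib.FusionExamples.hyperfocal_gen_mem (α := ⟨γ, hγ⟩) hP.1 (Subgroup.subset_closure (by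
            show Nat.Coprime (orderOf _) p
            rwa [Subgroup.orderOf_mk])) x)
        refine ⟨fun h => by simpa using T.mul_mem h hg, fun h => ?_⟩
        simpa [mul_assoc] using T.mul_mem h (T.inv_mem hg)
  have hsc : F.StronglyClosed T := ⟨hTS, fun R hR φ hφ x => (hiff R φ hφ x).mp (hR x.2)⟩
  have hpE : ∀ P : Subgroup Ω, P ≤ T → ∀ γ ∈ F.autGroup P, (orderOf γ).Coprime p →
      γ ∈ E.autGroup P := fun P hP γ hγ hc =>
    CfsgLib.Alperin.pPrime_mem_of_hasPPowerIndexIn hEi hP hγ hc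
  -- invariance
  have hinv : CfsgLib.Alperin.InvCond E F := by
    have hcore : ∀ P : Subgroup Ω,
        E.Hom P ⊆ (CfsgLib.Alperin.invariantCore E F).Hom P := by
      refine CfsgLib.Alperin.le_of_pPrime_le hTp hEs hEi.1 hTS _ fun P hP γ hγ hc => ?_
      refine (CfsgLib.Alperin.mem_autGroup_iff _ hP).mpr
        ⟨(CfsgLib.Alperin.mem_autGroup_iff E hP).mp (hpE P hP γ hγ hc), fun a ha => ?_⟩
      let φ : P →* Ω := T.subtype.comp (a.toMonoidHom.comp (Subgroup.inclusion hP))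
      have hφ : φ ∈ F.Hom P := CfsgLib.Alperin.restrict_mem_apply
        ((CfsgLib.Alperin.mem_autGroup_iff F hTS).mp ha) hP fun x => rfl
      have hr : φ.range = CfsgLib.Alperin.autImage a P := by
        ext y
        constructor
        · rintro ⟨x, rfl⟩
          exact CfsgLib.Alperin.mem_autImage _ x.2
        · rintro ⟨x, hx, rfl⟩
          exact ⟨⟨x, hx⟩, rfl⟩
      set e := CfsgLib.Alperin.isoOfHom φ (F.injective_of_mem hφ) hr
      have hγ' : MulAut.congr e γ ∈ F.autGroup (CfsgLib.Alperin.autImage a P) := by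
        rw [← CfsgLib.Alperin.autGroup_map_congr hφ hr]
        exact ⟨γ, hγ, rfl⟩
      have h := hpE _ (CfsgLib.Alperin.autImage_le a P) _ hγ' (by
        rwa [show orderOf (MulAut.congr e γ) = orderOf γ from
          orderOf_injective (MulAut.congr e).toMonoidHom (MulEquiv.injective _) γ])
      refine ⟨_, (CfsgLib.Alperin.mem_autGroup_iff E (CfsgLib.Alperin.autImage_le a P)).mp h,
        fun x hxT hφx => ?_⟩
      show (((MulAut.congr e γ) (e x) : CfsgLib.Alperin.autImage a P) : Ω) = _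
      rw [MulAut.congr_apply]
      simp only [MulEquiv.trans_apply, MulEquiv.symm_apply_apply]
      rfl
    intro P hPT φ hφ α hα
    obtain ⟨χ, hχ, hχx⟩ := (hcore P hφ).2 α hα
    exact ⟨χ, hχ, fun x hφx _ => hχx x (hPT x.2) hφx⟩
  -- Frattini
  have hfrat : ∀ P : Subgroup Ω, P ≤ T → ∀ φ : P →* Ω, φ ∈ F.Hom P →
      CfsgLib.Alperin.Decomp E F P φ := by
    refine CfsgLib.Alperin.frattini_of_aut hS hF hinv hsc fun Q hQT hQn _ α hα => ?_
    refine (CfsgLib.Alperin.mem_autGroup_iff _ hQT).mp ?_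
    refine CfsgLib.Alperin.autGroup_le_of_pPrime hS hF hQn
      (B := (CfsgLib.Alperin.frattiniSystem E F hinv).autGroup Q) (fun a ha => ?_)
      (fun γ hγ hc => ?_) hα
    · obtain ⟨s, hs, hsx⟩ := CfsgLib.Alperin.mem_autInducedBy_iff.mp ha
      obtain ⟨b, hb, hbx⟩ := CfsgLib.Alperin.exists_aut_of_hom' F (F.conj_mem hTS hs)
        (fun t => hconjT s hs t t.2)
      refine (CfsgLib.Alperin.mem_autGroup_iff _ hQT).mpr
        ⟨b, hb, Q.subtype, CfsgLib.Alperin.incl_mem E hQT, fun x hx => ?_⟩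
      exact (hsx x).trans (hbx ⟨x, hQT x.2⟩).symm
    · exact (CfsgLib.Alperin.mem_autGroup_iff _ hQT).mpr
        (CfsgLib.Alperin.mem_frattiniSystem_of_mem hinv
          ((CfsgLib.Alperin.mem_autGroup_iff E hQT).mp (hpE Q hQT γ hγ hc)))
  refine ⟨⟨hEs, hF, hEi.1, hsc, hinv, hfrat⟩, fun α hα => ?_⟩
  -- extension condition
  set U : Subgroup Ω := T ⊔ centralizerIn S T with hU
  have hTU : T ≤ U := le_sup_left
  have hUS : U ≤ S := sup_le hTS (CfsgLib.Alperin.centralizerIn_le S T)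
  let Good : MulAut T → MulAut U → Prop := fun a b =>
    (∀ x : T, ((b (Subgroup.inclusion hTU x) : U) : Ω) = ((a x : T) : Ω)) ∧
      ∀ c : U, (c : Ω) ∈ centralizerIn S T →
        (c : Ω)⁻¹ * ((b c : U) : Ω) ∈ T ⊓ Subgroup.centralizer (T : Set Ω)
  have hZ : ∀ (a : MulAut T) (b : MulAut U), Good a b → ∀ z : U,
      (z : Ω) ∈ T ⊓ Subgroup.centralizer (T : Set Ω) →
        ((b z : U) : Ω) ∈ T ⊓ Subgroup.centralizer (T : Set Ω) := by
    intro a b hab z hz
    have e : ((b z : U) : Ω) = ((a ⟨z, hz.1⟩ : T) : Ω) := hab.1 ⟨z, hz.1⟩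
    refine ⟨e ▸ (a _).2, fun t ht => ?_⟩
    have h1 : a⁻¹ ⟨t, ht⟩ * ⟨z, hz.1⟩ = ⟨z, hz.1⟩ * a⁻¹ ⟨t, ht⟩ :=
      Subtype.ext (hz.2 _ (a⁻¹ ⟨t, ht⟩).2)
    have h2 := congrArg (fun w : T => ((a w : T) : Ω)) h1
    simp only [map_mul, MulAut.apply_inv_self] at h2
    rw [e]
    exact h2
  have hC : ∀ (a : MulAut T) (b : MulAut U), Good a b → ∀ c : U,
      (c : Ω) ∈ centralizerIn S T → ((b c : U) : Ω) ∈ centralizerIn S T := by
    intro a b hab c hc
    have h := hab.2 c hc
    have := Subgroup.mul_mem (centralizerIn S T) hc ⟨hTS h.1, h.2⟩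
    rwa [mul_inv_cancel_left] at this
  let M : Subgroup (MulAut T) :=
    { carrier := {a | ∃ b ∈ F.autGroup U, Good a b}
      one_mem' := ⟨1, Subgroup.one_mem _, fun x => rfl, fun c _ => by simp⟩
      mul_mem' := by
        rintro a₁ a₂ ⟨b₁, hb₁, hg₁⟩ ⟨b₂, hb₂, hg₂⟩
        refine ⟨b₁ * b₂, Subgroup.mul_mem _ hb₁ hb₂, fun x => ?_, fun c hc => ?_⟩
        · show ((b₁ (b₂ (Subgroup.inclusion hTU x)) : U) : Ω) = _
          rw [show b₂ (Subgroup.inclusion hTU x) = Subgroup.inclusion hTU (a₂ x) from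
            Subtype.ext (hg₂.1 x)]
          exact hg₁.1 (a₂ x)
        · have h2 := hg₂.2 c hc
          have h1 := hg₁.2 (b₂ c) (hC _ _ hg₂ c hc)
          have := Subgroup.mul_mem _ h2 h1
          show (c : Ω)⁻¹ * ((b₁ (b₂ c) : U) : Ω) ∈ _
          simpa [mul_assoc] using this
      inv_mem' := by
        rintro a ⟨b, hb, hg⟩
        refine ⟨b⁻¹, Subgroup.inv_mem _ hb, fun x => ?_, fun c hc => ?_⟩
        · have : b⁻¹ (Subgroup.inclusion hTU x) = Subgroup.inclusion hTU (a⁻¹ x) := by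
            apply b.injective
            rw [MulAut.apply_inv_self]
            exact Subtype.ext (by rw [hg.1 (a⁻¹ x), MulAut.apply_inv_self]; rfl)
          rw [this]
          rfl
        · have hc' : ((b⁻¹ c : U) : Ω) ∈ centralizerIn S T := by
            refine ⟨hUS (b⁻¹ c).2, fun t ht => ?_⟩
            have h1 : b (Subgroup.inclusion hTU ⟨t, ht⟩) * c = c * b (Subgroup.inclusion hTU ⟨t, ht⟩) :=
              Subtype.ext (hc.2 _ (by rw [hg.1]; exact (a _).2))
            have h2 := congrArg (fun w : U => ((b⁻¹ w : U) : Ω)) h1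
            simp only [map_mul, MulAut.inv_apply_self] at h2
            exact h2
          have h3 := hg.2 _ hc'
          rw [MulAut.apply_inv_self] at h3
          simpa using Subgroup.inv_mem _ h3 }
  suffices hM : E.autGroup T ≤ M from hM hα
  refine CfsgLib.Alperin.autGroup_le_of_pPrime hTp hEs
    (CfsgLib.Alperin.isFullyNormalized_top E) (fun a ha => ?_) fun γ hγ hc => ?_
  · obtain ⟨t, ht, htx⟩ := CfsgLib.Alperin.mem_autInducedBy_iff.mp ha
    refine ⟨CfsgLib.Alperin.conjAut U t (Subgroup.le_normalizer (hTU ht)),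
      CfsgLib.Alperin.autInducedBy_le_autGroup F hUS (CfsgLib.Alperin.conjAut_mem (hTS ht) _),
      fun x => (htx x).symm, fun c hc' => ?_⟩
    have : t * (c : Ω) * t⁻¹ = c := by rw [hc'.2 t ht, mul_inv_cancel_right]
    simp [this]
  · have hγF : γ ∈ F.autGroup T := (CfsgLib.Alperin.mem_autGroup_iff F hTS).mpr
      (hEi.1 T ((CfsgLib.Alperin.mem_autGroup_iff E le_rfl).mp hγ))
    have hTfn : F.IsFullyNormalized T := by
      refine ⟨hTS, fun Q hQ => ?_⟩
      have hQT : Q ≤ T := by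
        obtain ⟨ψ, hψ, rfl⟩ := hQ
        rintro _ ⟨x, rfl⟩
        exact hsc.2 T le_rfl ψ hψ x
      rw [Subgroup.eq_of_le_of_card_ge hQT (CfsgLib.Alperin.IsConj.card_eq hQ).ge]
    obtain ⟨ψ, hψ, hext⟩ := (CfsgLib.Alperin.receptive_of_fullyNormalized hS hF hTfn).2 T _
      ((CfsgLib.Alperin.mem_autGroup_iff F hTS).mp hγF) (by
        rw [MonoidHom.range_comp, MonoidHom.range_eq_top.mpr γ.surjective,
          ← MonoidHom.range_eq_map, Subgroup.range_subtype])
    have hγ' := (CfsgLib.Alperin.mem_autGroup_iff F hTS).mp hγF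
    have hUE := CfsgLib.Alperin.sup_centralizerIn_le_extender hγ'
    have hψU := CfsgLib.Alperin.restrict_mem hψ hUE
    have hmap : (T.subgroupOf U).map (ψ.comp (Subgroup.inclusion hUE)) = T := by
      refine (CfsgLib.Alperin.map_subgroupOf_of_extends (φ := T.subtype.comp γ.toMonoidHom) hTU
        fun x hx hxU => hext x hx _).trans ?_
      rw [MonoidHom.range_comp, MonoidHom.range_eq_top.mpr γ.surjective,
        ← MonoidHom.range_eq_map, Subgroup.range_subtype]
    haveI := CfsgLib.Alperin.finite_of_le hUS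
    obtain ⟨b, hb, hbx⟩ := CfsgLib.Alperin.exists_aut_of_hom' F hψU (by
      intro x
      have hle : U ≤ (U.comap (ψ.comp (Subgroup.inclusion hUE))).map U.subtype := by
        refine sup_le (fun y hy => ⟨⟨y, hTU hy⟩, hTU (hmap.le ⟨_, hy, rfl⟩), rfl⟩)
          (fun y hy => ⟨⟨y, le_sup_right (a := T) hy⟩, le_sup_right (a := T)
            (CfsgLib.Alperin.apply_mem_centralizerIn hψU hTU hmap _ hy.2), rfl⟩)
      obtain ⟨y, hy, hyx⟩ := hle x.2
      exact Subtype.ext hyx ▸ hy)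
    have hbT : ∀ x : T, b (Subgroup.inclusion hTU x) = Subgroup.inclusion hTU (γ x) :=
      fun x => Subtype.ext ((hbx _).trans (hext x x.2 _))
    haveI := CfsgLib.Alperin.finite_autGroup F hUS
    let b' : F.autGroup U := ⟨b, hb⟩
    obtain ⟨k, m, hkm, hm⟩ := CfsgLib.FusionExamples.exists_coprime_power (p := p) b'
    have hco : (p ^ k).Coprime (orderOf γ) := (hc.symm.pow_left k)
    obtain ⟨n, hn1, hn2⟩ := Nat.chineseRemainder hco 0 1
    have hbn : (b' ^ n) ^ m = 1 := by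
      obtain ⟨j, hj⟩ := (Nat.modEq_zero_iff_dvd.mp hn1)
      rw [hj, pow_mul b' (p ^ k) j, ← pow_mul, mul_comm, pow_mul, hkm, one_pow]
    have hγn : γ ^ n = γ := by
      conv_rhs => rw [← pow_one γ]
      exact pow_eq_pow_iff_modEq.mpr hn2
    have hpow : ∀ (j : ℕ) (x : T), (b ^ j) (Subgroup.inclusion hTU x) =
        Subgroup.inclusion hTU ((γ ^ j) x) := by
      intro j
      induction j with
      | zero => intro x; rfl
      | succ j ih =>
        intro x
        rw [pow_succ, pow_succ, MulAut.mul_apply, MulAut.mul_apply, hbT, ih]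
    refine ⟨b ^ n, Subgroup.pow_mem _ hb n, fun x => ?_, fun c hc' => ?_⟩
    · rw [hpow, hγn]
      rfl
    · have h1 : (c : Ω)⁻¹ * (((b ^ n) c : U) : Ω) ∈ T :=
        hT (CfsgLib.FusionExamples.hyperfocal_gen_mem (α := b' ^ n) hUS
          (CfsgLib.FusionExamples.mem_pResidual_of_pow_eq_one hbn hm) c)
      refine ⟨h1, ?_⟩
      refine Subgroup.mul_mem _ (Subgroup.inv_mem _ hc'.2) ?_
      intro t ht
      have e1 : Subgroup.inclusion hTU (γ⁻¹ ⟨t, ht⟩) * c = c * Subgroup.inclusion hTU (γ⁻¹ ⟨t, ht⟩) :=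
        Subtype.ext (hc'.2 _ (γ⁻¹ ⟨t, ht⟩).2)
      have e2 := congrArg (fun w : U => (((b ^ n) w : U) : Ω)) e1
      simp only [map_mul, hpow, hγn, MulAut.apply_inv_self] at e2
      exact e2

end Cfsg.Agent.S5120
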