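import Cfsg.Statements.S0945
import Cfsg.Agent.Lib.BlockLocal.Homocyclic

set_option autoImplicit false
open Cfsg

namespace Cfsg.Agent.S0945

/-- Let P be a Sylow 2-subgroup of the finite group G isomorphic to Z/2^m × Z/2^m with m ≥ 1. Then (i) the index of C_G(P) in N_G(P) is 1 or 3, and (ii) if it is not 1, then for every z ≠ 1 in P, C_G(z) ∩ N_G(P) = C_G(P). -/
theorem result {G : Type*} [Group G] [Finite G] (P : Sylow 2 G) (m : ℕ) (hm : 1 ≤ m) (e : (P : Subgroup G) ≃* Multiplicative (ZMod (2 ^ m) × ZMod (2 ^ m))) : ((Subgroup.centralizer (P : Set G)).relIndex (Subgroup.normalizer (P : Set G)) = 1 ∨ (Subgroup.centralizer (P : Set G)).relIndex (Subgroup.normalizer (P : Set G)) = 3) ∧ ((Subgroup.centralizer (P : Set G)).relIndex (Subgroup.normalizer (P : Set G)) ≠ 1 → ∀ z ∈ (P : Subgroup G), z ≠ 1 → Subgroup.centralizer ({z} : Set G) ⊓ Subgroup.normalizer (P : Set G) = Subgroup.centralizer (P : Set G)) := by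
  classical
  have hcomm : IsMulCommutative (P : Subgroup G) :=
    ⟨⟨fun a b => e.injective (by rw [map_mul, map_mul, mul_comm])⟩⟩
  open scoped IsMulCommutative in
  set f := (P : Subgroup G).normalizerMonoidHom with hf
  have hrel : (Subgroup.centralizer ((P : Subgroup G) : Set G)).relIndex
      (Subgroup.normalizer ((P : Subgroup G) : Set G)) = Nat.card f.range := by
    rw [Subgroup.relIndex, ← Subgroup.normalizerMonoidHom_ker, Subgroup.index_ker]
  have hodd : ∀ φ ∈ f.range, Odd (orderOf φ) := by
    rintro _ ⟨n, rfl⟩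
    exact CfsgLib.BlockLocal.odd_orderOf_normalizerMonoidHom P n
  have hkey : ∀ φ ∈ f.range, φ ≠ 1 → orderOf φ = 3 ∧
      (∀ z : (P : Subgroup G), φ z = z → z = 1) ∧ ∀ s t : (P : Subgroup G), orderOf s = 2 →
        orderOf t = 2 → s = t ∨ φ s = t ∨ φ (φ s) = t := fun φ hφ hne =>
    CfsgLib.BlockLocal.aut_homocyclic_odd hm e φ (hodd φ hφ) hne
  constructor
  · show (Subgroup.centralizer ((P : Subgroup G) : Set G)).relIndex
        (Subgroup.normalizer ((P : Subgroup G) : Set G)) = 1 ∨
      (Subgroup.centralizer ((P : Subgroup G) : Set G)).relIndex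
        (Subgroup.normalizer ((P : Subgroup G) : Set G)) = 3
    rw [hrel]
    by_cases h : ∃ φ ∈ f.range, φ ≠ 1
    · right
      obtain ⟨φ, hφ, hne⟩ := h
      obtain ⟨h3, hfree, htr⟩ := hkey φ hφ hne
      have hz : Subgroup.zpowers φ = f.range := by
        refine le_antisymm (Subgroup.zpowers_le.2 hφ) (fun ψ hψ => ?_)
        obtain ⟨⟨s, hs⟩, -⟩ : ∃ _ : {x : (P : Subgroup G) // orderOf x = 2}, True := by
          haveI : Nonempty {x : (P : Subgroup G) // orderOf x = 2} :=
            (Nat.card_pos_iff.1 (by rw [CfsgLib.BlockLocal.three_involutions hm e]; norm_num)).1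
          exact ⟨Classical.arbitrary _, trivial⟩
        have hs' : orderOf (ψ s) = 2 := by rw [MulEquiv.orderOf_eq]; exact hs
        have hsne : s ≠ 1 := fun h => by simp [h] at hs
        have hstep : ∀ χ ∈ f.range, χ s = s → χ = 1 := fun χ hχ hfix => by
          by_contra hne'
          exact hsne ((hkey χ hχ hne').2.1 s hfix)
        rcases htr s (ψ s) hs hs' with h | h | h
        · rw [hstep ψ hψ h.symm]; exact one_mem _
        · have : φ⁻¹ * ψ = 1 := hstep _ (mul_mem (inv_mem hφ) hψ)
            (by rw [MulAut.mul_apply, ← h, MulAut.inv_apply_self])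
          rw [← inv_mul_eq_one.1 this]; exact Subgroup.mem_zpowers φ
        · have : (φ * φ)⁻¹ * ψ = 1 := hstep _ (mul_mem (inv_mem (mul_mem hφ hφ)) hψ)
            (by rw [MulAut.mul_apply, ← h]; exact MulAut.inv_apply_self _ (φ * φ) s)
          rw [← inv_mul_eq_one.1 this]
          exact mul_mem (Subgroup.mem_zpowers φ) (Subgroup.mem_zpowers φ)
      rw [← hz, Nat.card_zpowers, h3]
    · left
      push Not at h
      rw [Subgroup.card_eq_one, Subgroup.eq_bot_iff_forall]
      exact h
  · intro hne z hz hz1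
    apply le_antisymm
    · rintro n ⟨hnz, hnN⟩
      have hψ : f ⟨n, hnN⟩ ∈ f.range := ⟨_, rfl⟩
      have hψ1 : f ⟨n, hnN⟩ = 1 := by
        by_contra hψ1
        have hfix : f ⟨n, hnN⟩ ⟨z, hz⟩ = ⟨z, hz⟩ := by
          apply Subtype.ext
          show n * z * n⁻¹ = z
          have := Subgroup.mem_centralizer_singleton_iff.1 hnz
          rw [this, mul_inv_cancel_right]
        exact hz1 (congrArg Subtype.val ((hkey _ hψ hψ1).2.1 _ hfix))
      rw [← MonoidHom.mem_ker, hf, Subgroup.normalizerMonoidHom_ker, Subgroup.mem_subgroupOf] at hψ1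
      exact hψ1
    · refine le_inf ?_ ?_
      · exact Subgroup.centralizer_le (Set.singleton_subset_iff.2 hz)
      · intro g hg
        show g ∈ Subgroup.normalizer ((P : Subgroup G) : Set G)
        rw [Subgroup.mem_normalizer_iff]
        intro h
        constructor
        · intro hh
          rwa [show g * h * g⁻¹ = h by rw [← hg h hh, mul_inv_cancel_right]]
        · intro hh
          have hx : g⁻¹ * (g * h * g⁻¹) * g = g * h * g⁻¹ := by
            have := hg _ hh
            rw [mul_assoc, this, ← mul_assoc, inv_mul_cancel, one_mul]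
          rw [show g⁻¹ * (g * h * g⁻¹) * g = h by group] at hx
          rwa [hx]

end Cfsg.Agent.S0945
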