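import Cfsg.Statements.S4675
import Cfsg.Agent.Lib.BrauerCharacters.Rank
import Cfsg.Agent.Lib.BrauerCharacters.Consequences
import Cfsg.Agent.Lib.Blocks.Defect
-- import your own Cfsg.Agent.* helpers here

set_option autoImplicit false
open Cfsg

namespace Cfsg.Agent.S4675

open Cfsg CfsgLib.BrauerCharacters Finset

/-- Fix a prime p and a maximal ideal M of the algebraic integers containing p. Let B be a p-block of the finite group G with defect group P and p-regular rank one (a single irreducible Brauer character). Then there are a function φ on G that is, on the p-regular elements, an integer combination of the members of B, and natural numbers d_χ (χ ∈ B), such that every χ ∈ B agrees with d_χ·φ on the p-regular elements and Σ_{χ ∈ B} d_χ² equals the order of P (the single Cartan invariant of B is the order of P). -/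
theorem result {G : Type*} [Group G] [Fintype G] (p : ℕ) [Fact p.Prime] (M : Ideal Cfsg.AlgInt) (hM : Cfsg.IsPModular p M) (B : Set (Cfsg.IrrCharacter G)) (hB : Cfsg.IsPBlock M B) (P : Subgroup G) (hP : Cfsg.IsDefectGroup p M B P) (hl : Cfsg.blockRank p B = 1) : ∃ φ : G → ℂ, ∃ d : Cfsg.IrrCharacter G → ℕ, (∃ n : Cfsg.IrrCharacter G → ℤ, ∀ x : G, Cfsg.IsPRegular p x → φ x = ∑ᶠ ψ ∈ B, (n ψ : ℂ) * (ψ : G → ℂ) x) ∧ (∀ χ ∈ B, ∀ x : G, Cfsg.IsPRegular p x → (χ : G → ℂ) x = (d χ : ℂ) * φ x) ∧ ∑ᶠ χ ∈ B, d χ ^ 2 = Nat.card P := by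
  classical
  haveI := CfsgLib.Blocks.isPrime_of_isPModular hM
  have hw := weakOrth (p := p) hM hB
  obtain ⟨j0, hj0, hj00⟩ := exists_height_eq_zero (p := p) (CfsgLib.Blocks.isPBlock_nonempty hB)
  set F := blockFinset B with hF
  have hmem : ∀ {χ}, χ ∈ F ↔ χ ∈ B := mem_blockFinset
  set t := pRegularPart p (j0 : G → ℂ) with ht
  have hd0 : ((charDegree (j0 : G → ℂ) : ℕ) : ℂ) ≠ 0 :=
    Nat.cast_ne_zero.2 (charDegree_spec j0).2.1.ne'
  have ht1 : t 1 = (charDegree (j0 : G → ℂ) : ℂ) := by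
    rw [ht, pRegularPart_apply, if_neg (by simp [(Fact.out : p.Prime).one_lt.ne']), (charDegree_spec j0).1]
  have ht0 : t ≠ 0 := fun h => hd0 (by rw [← ht1, h]; rfl)
  have hratio : ∀ χ ∈ B, pRegularPart p (χ : G → ℂ) =
      ((charDegree (χ : G → ℂ) : ℂ) / (charDegree (j0 : G → ℂ) : ℂ)) • t := by
    intro χ hχ
    have hle : (ℂ ∙ t) ≤ Submodule.span ℂ
        ((fun χ : IrrCharacter G => pRegularPart p (χ : G → ℂ)) '' B) :=
      (Submodule.span_singleton_le_iff_mem _ _).2 (Submodule.subset_span ⟨_, hj0, rfl⟩)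
    have heq := Submodule.eq_of_le_of_finrank_le hle (by
      rw [finrank_span_singleton ht0]; exact hl.le)
    obtain ⟨a, ha⟩ := Submodule.mem_span_singleton.1 (heq.ge (Submodule.subset_span ⟨χ, hχ, rfl⟩))
    have h1 := congrFun ha 1
    simp only [Pi.smul_apply, smul_eq_mul, ht1, pRegularPart_apply, orderOf_one, Nat.dvd_one,
      (Fact.out : p.Prime).one_lt.ne', if_false] at h1
    show _ = _
    have ha' : a • t = pRegularPart p (χ : G → ℂ) := ha
    rw [← ha', ← (charDegree_spec χ).1, ← h1, mul_div_cancel_right₀ _ hd0]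
  set deg : IrrCharacter G → ℤ := fun χ => (charDegree (χ : G → ℂ) : ℤ) with hdeg
  set g := F.gcd fun χ => charDegree (χ : G → ℂ) with hg
  set d : IrrCharacter G → ℕ := fun χ => charDegree (χ : G → ℂ) / g with hd
  have hdmul : ∀ χ ∈ B, (charDegree (χ : G → ℂ) : ℂ) = (g : ℂ) * (d χ : ℂ) := fun χ hχ => by
    rw [← Nat.cast_mul, hd, Nat.mul_div_cancel' (Finset.gcd_dvd (hmem.2 hχ))]
  have hg0 : (g : ℂ) ≠ 0 := fun h => hd0 (by rw [hdmul j0 hj0, h, zero_mul])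
  have hgcd : F.gcd d = 1 := Finset.gcd_div_eq_one (hmem.2 hj0) (charDegree_spec j0).2.1.ne'
  obtain ⟨n, hn⟩ := Finset.gcd_eq_sum_mul F (fun χ => (d χ : ℤ))
  have hn1 : (∑ χ ∈ F, (n χ : ℂ) * (d χ : ℂ)) = 1 := by
    have h1 : F.gcd (fun χ => (d χ : ℤ)) = 1 := by
      have hu : ∀ χ ∈ F, F.gcd (fun χ => (d χ : ℤ)) ∣ (d χ : ℤ) := fun χ hχ => Finset.gcd_dvd hχ
      have h2 : (F.gcd (fun χ => (d χ : ℤ))).natAbs ∣ 1 :=
        hgcd ▸ Finset.dvd_gcd fun χ hχ => Int.natAbs_dvd_natAbs.2 (hu χ hχ)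
      rw [← Finset.normalize_gcd, ← Int.abs_eq_normalize, Int.abs_eq_natAbs,
        Nat.dvd_one.1 h2, Nat.cast_one]
    rw [h1] at hn
    have := congrArg (fun z : ℤ => (z : ℂ)) hn
    push_cast at this
    rw [this]
    exact sum_congr rfl fun χ _ => mul_comm _ _
  set φ : G → ℂ := fun x => ∑ ψ ∈ F, (n ψ : ℂ) * (ψ : G → ℂ) x with hφ
  have hφreg : ∀ x : G, ¬ p ∣ orderOf x → φ x = (d j0 : ℂ)⁻¹ * t x := by
    intro x hx
    have hdj : (d j0 : ℂ) ≠ 0 := fun h => hd0 (by rw [hdmul j0 hj0, h, mul_zero])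
    calc φ x = ∑ ψ ∈ F, ((n ψ : ℂ) * (d ψ : ℂ)) * ((d j0 : ℂ)⁻¹ * t x) := by
          refine sum_congr rfl fun ψ hψ => ?_
          have h1 := congrFun (hratio ψ (hmem.1 hψ)) x
          rw [pRegularPart_apply, if_neg hx, Pi.smul_apply, smul_eq_mul,
            hdmul ψ (hmem.1 hψ), hdmul j0 hj0] at h1
          rw [h1]
          field_simp
      _ = _ := by rw [← sum_mul, hn1, one_mul]
  have hφval : ∀ χ ∈ B, ∀ x : G, ¬ p ∣ orderOf x → (χ : G → ℂ) x = (d χ : ℂ) * φ x := by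
    intro χ hχ x hx
    have hdj : (d j0 : ℂ) ≠ 0 := fun h => hd0 (by rw [hdmul j0 hj0, h, mul_zero])
    have h1 := congrFun (hratio χ hχ) x
    rw [pRegularPart_apply, if_neg hx, Pi.smul_apply, smul_eq_mul, hdmul χ hχ, hdmul j0 hj0] at h1
    rw [h1, hφreg x hx]
    field_simp
  refine ⟨φ, d, ⟨n, fun x _ => by rw [finsum_mem_eq_sum_blockFinset]⟩, fun χ hχ x hx => hφval χ hχ x hx, ?_⟩
  rw [finsum_mem_eq_sum_blockFinset, CfsgLib.Blocks.card_isDefectGroup hM hB hP]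
  set c := regInner p φ φ with hc
  have hform : ∀ χ ∈ B, ∀ ψ ∈ B, regInner p (χ : G → ℂ) (ψ : G → ℂ) = (d χ : ℂ) * (d ψ : ℂ) * c := by
    intro χ hχ ψ hψ
    simp only [hc, regInner, classInner, mul_sum]
    refine sum_congr rfl fun x _ => ?_
    rw [pRegularPart_apply, pRegularPart_apply]
    split_ifs with hx
    · simp
    · rw [hφval χ hχ x hx, hφval ψ hψ x hx, map_mul, map_natCast]
      ring
  set S := ∑ χ ∈ F, d χ ^ 2 with hS
  have htr : (S : ℂ) * c = 1 := by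
    have h1 := sum_regInner_self_eq_blockRank hw
    rw [hl, Nat.cast_one] at h1
    rw [← h1, hS, Nat.cast_sum, sum_mul]
    refine sum_congr rfl fun χ hχ => ?_
    rw [hform χ (hmem.1 hχ) χ (hmem.1 hχ), Nat.cast_pow, sq]
  set D := blockDefect p B with hD
  have hent : ∀ χ ∈ B, ∀ ψ ∈ B, (S : ℤ) * regEntry p B χ ψ = (p : ℤ) ^ D * ((d χ : ℤ) * (d ψ : ℤ)) := by
    intro χ hχ ψ hψ
    apply Int.cast_injective (α := ℂ)
    push_cast
    rw [coe_regEntry hχ, hform χ hχ ψ hψ]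
    linear_combination ((p : ℂ) ^ D * (d χ : ℂ) * (d ψ : ℂ)) * htr
  have hdvd1 : ∀ χ ∈ F, S ∣ p ^ D * d χ := by
    intro χ hχ
    have h1 : ∀ ψ ∈ F, S ∣ p ^ D * d χ * d ψ := fun ψ hψ =>
      Int.natCast_dvd_natCast.1 ⟨regEntry p B χ ψ, by push_cast; rw [hent χ (hmem.1 hχ) ψ (hmem.1 hψ)]; ring⟩
    have h2 := Finset.dvd_gcd h1
    rwa [Finset.gcd_mul_left, hgcd, normalize_eq, mul_one] at h2
  have hdvd : S ∣ p ^ D := by
    have h2 := Finset.dvd_gcd hdvd1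
    rwa [Finset.gcd_mul_left, hgcd, normalize_eq, mul_one] at h2
  obtain ⟨j, hjD, hj⟩ := (Nat.dvd_prime_pow Fact.out).1 hdvd
  rcases hjD.lt_or_eq with hlt | rfl
  · refine absurd ?_ (not_pow_succ_height_dvd hw hM hB hj0 hj0 hj00)
    rw [hj00, zero_add, pow_one]
    refine ⟨(p : ℤ) ^ (D - j - 1) * ((d j0 : ℤ) * (d j0 : ℤ)), ?_⟩
    refine mul_left_cancel₀ (pow_ne_zero j (Nat.cast_ne_zero.2 (Fact.out : p.Prime).ne_zero) :
      (p : ℤ) ^ j ≠ 0) ?_
    have h3 := hent j0 hj0 j0 hj0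
    rw [hj, Nat.cast_pow] at h3
    rw [h3, ← mul_assoc ((p : ℤ) ^ j), ← mul_assoc ((p : ℤ) ^ j * p), ← pow_succ, ← pow_add]
    congr 2
    omega
  · exact hj

end Cfsg.Agent.S4675
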