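import Cfsg.Statements.S2300
import Cfsg.Agent.Lib.InvCentralizers.SL2Even

set_option autoImplicit false
open Cfsg
open CfsgLib.CharDegrees CfsgLib.InvCentralizers.SL2Tables

namespace Cfsg.Agent.S2300

/-- Over a finite field F with q elements, q even, every irreducible complex character of SL₂ has degree 1, q − 1, q or q + 1; and when q ≥ 4 (so that these four numbers are distinct) there are exactly one irreducible character of degree 1, one of degree q, (q − 2)/2 of degree q + 1 and q/2 of degree q − 1. -/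
theorem result {F : Type*} [Field F] [Fintype F] [CharP F 2] :
    (∀ χ : Matrix.SpecialLinearGroup (Fin 2) F → ℂ, Cfsg.IsIrrCharacter (Matrix.SpecialLinearGroup (Fin 2) F) χ →
      χ 1 = 1 ∨ χ 1 = (Fintype.card F : ℂ) - 1 ∨ χ 1 = (Fintype.card F : ℂ) ∨ χ 1 = (Fintype.card F : ℂ) + 1) ∧
    (4 ≤ Fintype.card F →
      Nat.card {χ : Cfsg.IrrCharacter (Matrix.SpecialLinearGroup (Fin 2) F) // (χ : Matrix.SpecialLinearGroup (Fin 2) F → ℂ) 1 = 1} = 1 ∧
      Nat.card {χ : Cfsg.IrrCharacter (Matrix.SpecialLinearGroup (Fin 2) F) // (χ : Matrix.SpecialLinearGroup (Fin 2) F → ℂ) 1 = (Fintype.card F : ℂ)} = 1 ∧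
      Nat.card {χ : Cfsg.IrrCharacter (Matrix.SpecialLinearGroup (Fin 2) F) // (χ : Matrix.SpecialLinearGroup (Fin 2) F → ℂ) 1 = (Fintype.card F : ℂ) + 1} = (Fintype.card F - 2) / 2 ∧
      Nat.card {χ : Cfsg.IrrCharacter (Matrix.SpecialLinearGroup (Fin 2) F) // (χ : Matrix.SpecialLinearGroup (Fin 2) F → ℂ) 1 = (Fintype.card F : ℂ) - 1} = Fintype.card F / 2) := by
  classical
  obtain ⟨one, st, A, D, h1, hst, hA, hD, hAd, hDd, hcov, h1A, h1D, hsA, hsD, h1s, hAD, -⟩ :=
    CfsgLib.InvCentralizers.SL2Even.partition (F := F)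
  have hq := Fintype.one_lt_card (α := F)
  have hval : ∀ (χ : Cfsg.IrrCharacter (Matrix.SpecialLinearGroup (Fin 2) F)) (n : ℕ),
      Cfsg.charDegree (χ : Matrix.SpecialLinearGroup (Fin 2) F → ℂ) = n →
      (χ : Matrix.SpecialLinearGroup (Fin 2) F → ℂ) 1 = (n : ℂ) := fun χ n h =>
    CfsgLib.InvCentralizers.SL2Even.degree_eq χ.2 h
  refine ⟨fun χ hχ => ?_, fun h4 => ?_⟩
  · rcases hcov ⟨χ, hχ⟩ with e | e | e | e
    · exact Or.inl ((hval ⟨χ, hχ⟩ 1 (by rw [e]; exact h1)).trans Nat.cast_one)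
    · exact Or.inr (Or.inr (Or.inl (hval ⟨χ, hχ⟩ _ (by rw [e]; exact hst))))
    · exact Or.inr (Or.inr (Or.inr ((hval ⟨χ, hχ⟩ _ (hAd _ e)).trans (Nat.cast_succ _))))
    · exact Or.inr (Or.inl ((hval ⟨χ, hχ⟩ _ (hDd _ e)).trans (by rw [Nat.cast_sub (by omega), Nat.cast_one])))
  have key : ∀ (n : ℕ) (z : ℂ) (s : Finset (Cfsg.IrrCharacter (Matrix.SpecialLinearGroup (Fin 2) F))),
      (n : ℂ) = z → (∀ χ ∈ s, Cfsg.charDegree (χ : Matrix.SpecialLinearGroup (Fin 2) F → ℂ) = n) →
      (∀ χ : Cfsg.IrrCharacter (Matrix.SpecialLinearGroup (Fin 2) F),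
        Cfsg.charDegree (χ : Matrix.SpecialLinearGroup (Fin 2) F → ℂ) = n → χ ∈ s) →
      Nat.card {χ : Cfsg.IrrCharacter (Matrix.SpecialLinearGroup (Fin 2) F) //
        (χ : Matrix.SpecialLinearGroup (Fin 2) F → ℂ) 1 = z} = s.card := by
    intro n z s hz hs hs'
    rw [← Nat.card_eq_finsetCard]
    refine Nat.card_congr (Equiv.subtypeEquivRight fun χ => ⟨fun e => hs' χ ?_, fun e => hz ▸ hval χ n (hs χ e)⟩)
    have h := CfsgLib.Correspondences.charDegree_cast
      (CfsgLib.CharTheory.IsIrrCharacter.isCharacter χ.2)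
    rw [e, ← hz] at h
    exact Nat.cast_injective h
  refine ⟨?_, ?_, ?_, ?_⟩
  · rw [key 1 1 {one} Nat.cast_one (by simpa using h1) fun χ h => ?_, Finset.card_singleton]
    rw [Finset.mem_singleton]
    rcases hcov χ with e | e | e | e
    · exact e
    · rw [e, hst] at h; omega
    · rw [hAd _ e] at h; omega
    · rw [hDd _ e] at h; omega
  · rw [key _ _ {st} rfl (by simpa using hst) fun χ h => ?_, Finset.card_singleton]
    rw [Finset.mem_singleton]
    rcases hcov χ with e | e | e | e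
    · rw [e, h1] at h; omega
    · exact e
    · rw [hAd _ e] at h; omega
    · rw [hDd _ e] at h; omega
  · rw [key _ _ A (Nat.cast_succ _) hAd fun χ h => ?_]
    · omega
    rcases hcov χ with e | e | e | e
    · rw [e, h1] at h; omega
    · rw [e, hst] at h; omega
    · exact e
    · rw [hDd _ e] at h; omega
  · rw [key _ _ D (by rw [Nat.cast_sub (by omega), Nat.cast_one]) hDd fun χ h => ?_]
    · omega
    rcases hcov χ with e | e | e | e
    · rw [e, h1] at h; omega
    · rw [e, hst] at h; omega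
    · rw [hAd _ e] at h; omega
    · exact e

end Cfsg.Agent.S2300
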