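import Cfsg.Statements.S2434
import Cfsg.Agent.Lib.CharDegrees.SL2Classify

set_option autoImplicit false
open Cfsg
open CfsgLib.CharDegrees CfsgLib.SL2
open CfsgLib.ClassicalLinear (upS upS_coe upS_injective)

namespace Cfsg.Agent.S2434

/-- Let F be a finite field with q elements, q odd, and C a cyclic subgroup of order q + 1 of SL₂ over F (a non-split torus; it contains the centre). For every homomorphism θ from C to the non-zero complex numbers with θ² ≠ 1 there is an irreducible complex character χ of degree q − 1 such that χ(c) = −θ(c) − θ(c)⁻¹ for every non-central c in C, χ(zg) = θ(z)χ(g) for central z in C, χ vanishes at diagonal elements with entry a, a² ≠ 1, and χ takes the value −1 at every upper unitriangular element other than 1. Conversely every irreducible character of degree q − 1 has, for some such θ, the values −θ(c) − θ(c)⁻¹ at the non-central elements c of C (for q ≥ 5 these are exactly the cuspidal characters of degree q − 1). -/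
theorem result {F : Type*} [Field F] [Fintype F] (hodd : Odd (Fintype.card F))
    (C : Subgroup (Matrix.SpecialLinearGroup (Fin 2) F)) (hC : IsCyclic C) (hcard : Nat.card C = Fintype.card F + 1) :
    (∀ θ : C →* ℂˣ, (∃ c : C, θ c ^ 2 ≠ 1) →
      ∃ χ : Matrix.SpecialLinearGroup (Fin 2) F → ℂ, Cfsg.IsIrrCharacter (Matrix.SpecialLinearGroup (Fin 2) F) χ ∧ χ 1 = (Fintype.card F : ℂ) - 1 ∧
        (∀ c : C, (c : Matrix.SpecialLinearGroup (Fin 2) F) ∉ Subgroup.center (Matrix.SpecialLinearGroup (Fin 2) F) → χ c = -((θ c).val + (θ c)⁻¹.val)) ∧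
        (∀ c : C, (c : Matrix.SpecialLinearGroup (Fin 2) F) ∈ Subgroup.center (Matrix.SpecialLinearGroup (Fin 2) F) → ∀ g : Matrix.SpecialLinearGroup (Fin 2) F, χ ((c : Matrix.SpecialLinearGroup (Fin 2) F) * g) = (θ c).val * χ g) ∧
        (∀ g : Matrix.SpecialLinearGroup (Fin 2) F, (g : Matrix (Fin 2) (Fin 2) F) 0 1 = 0 → (g : Matrix (Fin 2) (Fin 2) F) 1 0 = 0 → (g : Matrix (Fin 2) (Fin 2) F) 0 0 ^ 2 ≠ 1 → χ g = 0) ∧
        (∀ g : Matrix.SpecialLinearGroup (Fin 2) F, (g : Matrix (Fin 2) (Fin 2) F) 1 0 = 0 → (g : Matrix (Fin 2) (Fin 2) F) 0 0 = 1 → (g : Matrix (Fin 2) (Fin 2) F) 1 1 = 1 → (g : Matrix (Fin 2) (Fin 2) F) 0 1 ≠ 0 → χ g = -1)) ∧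
    (∀ χ : Matrix.SpecialLinearGroup (Fin 2) F → ℂ, Cfsg.IsIrrCharacter (Matrix.SpecialLinearGroup (Fin 2) F) χ → χ 1 = (Fintype.card F : ℂ) - 1 →
      ∃ θ : C →* ℂˣ, (∃ c : C, θ c ^ 2 ≠ 1) ∧
        ∀ c : C, (c : Matrix.SpecialLinearGroup (Fin 2) F) ∉ Subgroup.center (Matrix.SpecialLinearGroup (Fin 2) F) → χ c = -((θ c).val + (θ c)⁻¹.val)) := by
  classical
  have h2 := two_ne_zero_of_odd_card hodd
  have hT : NonsplitTorus C := ⟨h2, hC, hcard⟩
  haveI := hT.finite_hom
  letI := Fintype.ofFinite (C →* ℂˣ)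
  have hne : ∀ θ : C →* ℂˣ, θ⁻¹ ≠ θ ↔ ∃ c : C, θ c ^ 2 ≠ 1 := by
    intro θ
    constructor
    · intro h
      by_contra hc
      push Not at hc
      exact h (MonoidHom.ext fun c => inv_eq_of_mul_eq_one_right (by rw [← sq]; exact hc c))
    · rintro ⟨c, hc⟩ h
      apply hc
      rw [sq]
      nth_rewrite 1 [← h]
      exact inv_mul_cancel (θ c)
  refine ⟨fun θ hθ => ?_, fun χ hχ h1 => ?_⟩
  · have hθ' := (hne θ).2 hθ
    have hirr : IsIrrCharacter _ (hT.dser θ) := by
      refine CfsgLib.CharTheory.isIrrCharacter_of_norm_one (hT.dser_isGen θ) ?_ ?_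
      · rw [hT.dser_inner, if_pos rfl, if_neg hθ', add_zero]
      · rw [hT.dser_one]; simpa using Fintype.one_lt_card (α := F)
    refine ⟨hT.dser θ, hirr, hT.dser_one θ, fun c hc => hT.dser_torus θ c hc, fun c hc g => ?_,
      fun g h01 h10 hsq => ?_, fun g h10 h00 h11 h01 => ?_⟩
    · rcases (hT.central_iff c).1 hc with rfl | rfl
      · simp
      · have hval : hT.dser θ (-1) = (θ hT.negOne : ℂ) * hT.dser θ 1 := by
          rw [hT.dser_negOne, hT.dser_one, mul_comm]
        exact mul_left_cancel₀ (CfsgLib.CharTheory.apply_one_ne_zero_of_isIrr hirr) (by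
          rw [show ((hT.negOne : C) : Matrix.SpecialLinearGroup (Fin 2) F) = -1 from rfl,
            apply_central_mul hirr neg_one_mem_center g, hval]
          ring)
    · have h0 : (g : Matrix (Fin 2) (Fin 2) F) 0 0 ≠ 0 := by
        intro e
        have hd := det_eq g
        rw [e, h01] at hd
        simp at hd
      have ha : (Units.mk0 _ h0 : Fˣ) ^ 2 ≠ 1 := fun e => hsq (by simpa [Units.ext_iff] using e)
      have := hT.dser_diag θ ha 0
      rwa [upS_zero, mul_one, ← diag_mk0_eq h01 h10 h0] at this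
    · have : g = upS ((g : Matrix (Fin 2) (Fin 2) F) 0 1) := by
        apply Subtype.ext
        rw [upS_coe]
        ext i j; fin_cases i <;> fin_cases j <;> simp [h10, h00, h11]
      rw [this]
      exact hT.dser_upS θ h01
  · obtain ⟨n, -, hn⟩ := CfsgLib.CharTheory.exists_degree_of_isIrr hχ
    obtain ⟨m, hm⟩ := hodd
    have hq := Fintype.one_lt_card (α := F)
    rcases hT.irr_trichotomy hχ with ⟨h', hs⟩ | ⟨h', hs⟩ | ⟨h', hs⟩ | ⟨θ, hθ, e, h', hs⟩ | ⟨h', hs, hd, -⟩ | ⟨h', hs, -⟩
    case inr.inr.inr.inl => exact ⟨θ, (hne θ).1 hθ, fun c hc => e ▸ hT.dser_torus θ c hc⟩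
    case inr.inr.inr.inr.inl =>
      obtain ⟨g, hg, htg, -⟩ := hT.exists_gen
      have hgc := notMem_center_of_tr htg
      have hgz := fun e => hgc ((hT.central_iff g).2 e)
      have hg2 : g * g ≠ 1 := fun e => hgz (Or.inr (Subtype.ext (eq_neg_one_of_sq_eq_one h2
        (by rw [sq]; exact congrArg Subtype.val e) (fun e1 => hgz (Or.inl (Subtype.ext e1))))))
      obtain ⟨θ, hθ⟩ := hT.exists_hom_ne_one hg2
      refine ⟨θ, ⟨g, by rwa [sq, ← map_mul]⟩, fun c hc => ?_⟩
      have h4 : Nat.card C = 4 := by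
        rw [hcard]
        rw [h1] at h'
        have : ((Fintype.card F : ℕ) : ℂ) = ((3 : ℕ) : ℂ) := by push_cast; linear_combination h'
        rw [Nat.cast_injective this]
      have hc4 : ∀ d : C, (d : Matrix.SpecialLinearGroup (Fin 2) F) ∉ Subgroup.center _ → d * d = hT.negOne := by
        intro d hd
        have h41 : d ^ 4 = 1 := by rw [← h4]; exact pow_card_eq_one'
        have hd2 : d * d ≠ 1 := fun e => hd ((hT.central_iff d).2 (by
          by_cases e1 : d = 1
          · exact Or.inl e1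
          · exact Or.inr (Subtype.ext (eq_neg_one_of_sq_eq_one h2 (by rw [sq]; exact congrArg Subtype.val e)
              (fun e2 => e1 (Subtype.ext e2))))))
        refine Subtype.ext (eq_neg_one_of_sq_eq_one h2 ?_ (fun e2 => hd2 (Subtype.ext e2)))
        have := congrArg Subtype.val h41
        simpa [pow_succ, mul_assoc] using this
      rw [hc4 g hgc] at hθ
      have hval := (hT.theta_negOne θ).resolve_left fun e => hθ (Units.ext e)
      rw [← hc4 c hc, map_mul, Units.val_mul] at hval
      rw [hT.elliptic_formula (CfsgLib.CharTheory.IsIrrCharacter.isClassFunction hχ) c hc]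
      simp only [hd, mul_zero, Finset.sum_const_zero, Units.val_inv_eq_inv_val]
      field_simp
      linear_combination hval
    all_goals
      exfalso
      rw [hn] at h1 h'
      try simp only [sub_eq_iff_eq_add, eq_sub_iff_add_eq] at h1 h'
      norm_cast at h1 h'
      omega

end Cfsg.Agent.S2434
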