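import Cfsg.Statements.S1226

set_option autoImplicit false
open Cfsg

namespace Cfsg.Agent.S1226

/-- Let G be a finite group with a Sylow 2-subgroup T that is neither cyclic nor normal, such that the centralizer of every involution is an elementary abelian 2-group. Then N_G(T) is a strongly embedded subgroup of G. -/
theorem result {G : Type*} [Group G] [Finite G] (T : Sylow 2 G) (hnc : ¬ IsCyclic (T : Subgroup G)) (hnn : ¬ (T : Subgroup G).Normal) (hC : ∀ t : G, orderOf t = 2 → IsMulCommutative (Subgroup.centralizer ({t} : Set G)) ∧ ∀ c ∈ Subgroup.centralizer ({t} : Set G), c ^ 2 = 1) : Cfsg.IsStronglyEmbedded (Subgroup.normalizer ((T : Subgroup G) : Set G)) := by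
  classical
  haveI : Fact (Nat.Prime 2) := ⟨Nat.prime_two⟩
  have hT : IsPGroup 2 (T : Subgroup G) := T.2
  haveI : Nontrivial (T : Subgroup G) := by
    by_contra h
    rw [not_nontrivial_iff_subsingleton] at h
    exact hnc inferInstance
  haveI := hT.center_nontrivial
  obtain ⟨z, hz⟩ := exists_prime_orderOf_dvd_card' (G := Subgroup.center (T : Subgroup G)) 2
    ((hT.to_subgroup _).card_eq_or_dvd.resolve_left Finite.one_lt_card.ne')
  have hz' : orderOf ((z : (T : Subgroup G)) : G) = 2 := by
    rw [Subgroup.orderOf_coe, Subgroup.orderOf_coe, hz]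
  have hTC : (T : Subgroup G) ≤ Subgroup.centralizer ({((z : (T : Subgroup G)) : G)} : Set G) := by
    intro t ht
    rw [Subgroup.mem_centralizer_singleton_iff]
    exact (congrArg Subtype.val (Subgroup.mem_center_iff.mp z.2 ⟨t, ht⟩) : _)
  have hcomm : ∀ a ∈ (T : Subgroup G), ∀ b ∈ (T : Subgroup G), a * b = b * a := fun a ha b hb =>
    haveI := (hC _ hz').1
    congrArg Subtype.val
      (mul_comm' (⟨a, hTC ha⟩ : Subgroup.centralizer ({((z : (T : Subgroup G)) : G)} : Set G))
        ⟨b, hTC hb⟩)
  have key : ∀ t : G, orderOf t = 2 → t ∈ (T : Subgroup G) →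
      Subgroup.centralizer ({t} : Set G) = (T : Subgroup G) := by
    intro t ht htT
    have hp : IsPGroup 2 (Subgroup.centralizer ({t} : Set G)) := fun c => ⟨1, by
      rw [pow_one]; exact Subtype.ext ((hC t ht).2 c c.2)⟩
    exact T.3 hp (fun a ha => Subgroup.mem_centralizer_singleton_iff.mpr (hcomm a ha t htT))
  refine ⟨fun h => hnn (Subgroup.normalizer_eq_top_iff.mp h), ?_, ?_⟩
  · rw [even_iff_two_dvd]
    have := Subgroup.orderOf_dvd_natCard (Subgroup.normalizer ((T : Subgroup G) : Set G))
      (Subgroup.le_normalizer (SetLike.coe_mem (z : (T : Subgroup G))))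
    rwa [hz'] at this
  · intro g hg
    rw [← Nat.not_even_iff_odd, even_iff_two_dvd]
    intro hev
    obtain ⟨⟨t, htH, htg⟩, ht⟩ := exists_prime_orderOf_dvd_card' 2 hev
    rw [← Subgroup.orderOf_coe] at ht
    dsimp only at ht
    have inT : ∀ s : G, orderOf s = 2 → s ∈ Subgroup.normalizer ((T : Subgroup G) : Set G) →
        s ∈ (T : Subgroup G) := by
      intro s hs hsN
      have hp : IsPGroup 2 (Subgroup.zpowers s) := IsPGroup.of_card (n := 1) (by
        rw [Nat.card_zpowers, hs, pow_one])
      have hle : Subgroup.zpowers s ≤ Subgroup.normalizer ((T : Subgroup G) : Set G) :=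
        Subgroup.zpowers_le.mpr hsN
      have hsup : IsPGroup 2 (Subgroup.zpowers s ⊔ (T : Subgroup G) : Subgroup G) :=
        hp.to_sup_of_normal_right' hT hle
      rw [← T.3 hsup le_sup_right]
      exact Subgroup.mem_sup_left (Subgroup.mem_zpowers s)
    obtain ⟨h, hh, rfl⟩ := htg
    have hho : orderOf h = 2 := by
      rwa [orderOf_injective _ (MulAut.conj g).injective] at ht
    have c1 := key _ ht (inT _ ht htH)
    have hhT := inT h hho hh
    have hle : (T : Subgroup G).map (MulAut.conj g).toMonoidHom ≤ (T : Subgroup G) := by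
      rintro _ ⟨a, ha, rfl⟩
      rw [← c1, Subgroup.mem_centralizer_singleton_iff]
      simp only [MulEquiv.coe_toMonoidHom, MulAut.conj_apply]
      calc g * a * g⁻¹ * (g * h * g⁻¹) = g * (a * h) * g⁻¹ := by group
        _ = g * (h * a) * g⁻¹ := by rw [hcomm a ha h hhT]
        _ = _ := by group
    have heq := Subgroup.eq_of_le_of_card_ge hle
      (le_of_eq (Subgroup.card_map_of_injective (MulAut.conj g).injective).symm)
    apply hg
    rw [Subgroup.mem_normalizer_iff]
    intro a
    constructor
    · intro ha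
      exact hle ⟨a, ha, rfl⟩
    · intro ha
      rw [← heq] at ha
      obtain ⟨b, hb, hb'⟩ := ha
      obtain rfl : b = a := (MulAut.conj g).injective hb'
      exact hb

end Cfsg.Agent.S1226
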