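import Cfsg.Statements.S1229
import Cfsg.Agent.Lib.TwoFusion.ElemCent

set_option autoImplicit false
open Cfsg

namespace Cfsg.Agent.S1229

/-- Let G be a finite group with a Sylow 2-subgroup T that is neither cyclic nor normal, such that the centralizer of every involution is an elementary abelian 2-group; put H = N_G(T) and X = G/H. Then G is triply transitive on X, an element fixing three distinct points of X is the identity, and T acts regularly on X minus the point H. -/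
theorem result {G : Type*} [Group G] [Finite G] (T : Sylow 2 G) (hnc : ¬ IsCyclic (T : Subgroup G)) (hnn : ¬ (T : Subgroup G).Normal) (hC : ∀ t : G, orderOf t = 2 → IsMulCommutative (Subgroup.centralizer ({t} : Set G)) ∧ ∀ c ∈ Subgroup.centralizer ({t} : Set G), c ^ 2 = 1) : (∀ x₁ x₂ x₃ y₁ y₂ y₃ : G ⧸ Subgroup.normalizer ((T : Subgroup G) : Set G), x₁ ≠ x₂ → x₁ ≠ x₃ → x₂ ≠ x₃ → y₁ ≠ y₂ → y₁ ≠ y₃ → y₂ ≠ y₃ → ∃ g : G, g • x₁ = y₁ ∧ g • x₂ = y₂ ∧ g • x₃ = y₃) ∧ (∀ g : G, ∀ x₁ x₂ x₃ : G ⧸ Subgroup.normalizer ((T : Subgroup G) : Set G), x₁ ≠ x₂ → x₁ ≠ x₃ → x₂ ≠ x₃ → g • x₁ = x₁ → g • x₂ = x₂ → g • x₃ = x₃ → g = 1) ∧ (∀ x y : G ⧸ Subgroup.normalizer ((T : Subgroup G) : Set G), x ≠ QuotientGroup.mk 1 → y ≠ QuotientGroup.mk 1 → ∃! t : G, t ∈ T ∧ t • x = y) := by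
  classical
  have E : CfsgLib.TwoFusion.ElemCentHyp T := ⟨hnc, hnn, hC⟩
  obtain ⟨u, hu, hux⟩ := E.exists_outside
  set x : G ⧸ Subgroup.normalizer ((T : Subgroup G) : Set G) := QuotientGroup.mk 1 with hxdef
  obtain ⟨z, hz, hzT, -⟩ := E.exists_involution_le
  have hTx : ∀ t ∈ (T : Subgroup G), t • x = x := fun t ht =>
    CfsgLib.TwoFusion.ElemCentHyp.smul_pt_eq_iff.mpr
      (CfsgLib.TwoFusion.ElemCentHyp.le_normalizer_self ht)
  -- every triple can be moved to the standard one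
  have move : ∀ x₁ x₂ x₃ : G ⧸ Subgroup.normalizer ((T : Subgroup G) : Set G),
      x₁ ≠ x₂ → x₁ ≠ x₃ → x₂ ≠ x₃ → ∃ g : G, g • x₁ = x ∧ g • x₂ = u • x ∧ g • x₃ = z • u • x := by
    intro x₁ x₂ x₃ h12 h13 h23
    obtain ⟨g, hg⟩ := MulAction.exists_smul_eq G x₁ x
    obtain ⟨t, ht, htu⟩ := E.exists_translation hu hux (y := g • x₂)
      (fun h => h12 (smul_left_cancel g (hg.trans h.symm)))
    have h1 : (t⁻¹ * g) • x₁ = x := by rw [mul_smul, hg, hTx _ (inv_mem ht)]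
    have h2 : (t⁻¹ * g) • x₂ = u • x := by rw [mul_smul, ← htu, inv_smul_smul]
    obtain ⟨a, ha, hau⟩ := E.exists_translation hu hux (y := (t⁻¹ * g) • x₃)
      (fun h => h13 (smul_left_cancel _ (h1.trans h.symm)))
    have ha1 : a ≠ 1 := fun h => h23 (smul_left_cancel (t⁻¹ * g) (by rw [h2, ← hau, h, one_smul]))
    obtain ⟨d, hd, hdz⟩ := E.exists_conj hu hux ha ha1 hzT (CfsgLib.Involutions.ne_one hz)
    refine ⟨d * (t⁻¹ * g), ?_, ?_, ?_⟩
    · rw [mul_smul, h1, (E.mem_twoPoint.mp hd).1]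
    · rw [mul_smul, h2, (E.mem_twoPoint.mp hd).2]
    · rw [mul_smul, ← hau, E.smul_conj_pt hu hux hd, hdz]
  refine ⟨fun x₁ x₂ x₃ y₁ y₂ y₃ a b c a' b' c' => ?_,
    fun g x₁ x₂ x₃ a b c g1 g2 g3 => ?_, fun y w hy hw => ?_⟩
  · obtain ⟨g, e1, e2, e3⟩ := move x₁ x₂ x₃ a b c
    obtain ⟨h, f1, f2, f3⟩ := move y₁ y₂ y₃ a' b' c'
    refine ⟨h⁻¹ * g, ?_, ?_, ?_⟩ <;> rw [mul_smul]
    · rw [e1, ← f1, inv_smul_smul]
    · rw [e2, ← f2, inv_smul_smul]
    · rw [e3, ← f3, inv_smul_smul]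
  · obtain ⟨k, e1, e2, e3⟩ := move x₁ x₂ x₃ a b c
    have hcon : ∀ (w : G ⧸ Subgroup.normalizer ((T : Subgroup G) : Set G)), g • w = w → (k * g * k⁻¹) • k • w = k • w := fun w h => by
      rw [← mul_smul, inv_mul_cancel_right, mul_smul, h]
    set d := k * g * k⁻¹ with hd'
    have d1 := hcon x₁ g1; have d2 := hcon x₂ g2; have d3 := hcon x₃ g3
    rw [e1] at d1; rw [e2] at d2; rw [e3] at d3
    have hd : d ∈ E.twoPoint u := E.mem_twoPoint.mpr ⟨d1, d2⟩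
    rw [E.smul_conj_pt hu hux hd] at d3
    have hdN := E.twoPoint_le hux hd
    have h1 := E.eq_of_smul_eq ((Subgroup.mem_normalizer_iff.mp hdN z).mp hzT) hzT hux d3
    have h2 : d ∈ Subgroup.centralizer ({z} : Set G) := by
      rw [Subgroup.mem_centralizer_singleton_iff]
      calc d * z = d * z * d⁻¹ * d := by group
        _ = z * d := by rw [h1]
    rw [E.centralizer_eq hzT (CfsgLib.Involutions.ne_one hz)] at h2
    exact conj_eq_one_iff.mp (E.inter_eq_one hux hd h2)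
  · obtain ⟨a, ha, hau⟩ := E.exists_translation hu hux hy
    obtain ⟨b, hb, hbu⟩ := E.exists_translation hu hux hw
    refine ⟨b * a⁻¹, ⟨mul_mem hb (inv_mem ha), ?_⟩, fun t ⟨ht, htw⟩ => ?_⟩
    · rw [← hau, ← mul_smul, inv_mul_cancel_right, hbu]
    · refine E.eq_of_smul_eq ht (mul_mem hb (inv_mem ha)) hy ?_
      rw [htw, ← hau, ← mul_smul, inv_mul_cancel_right, hbu]

end Cfsg.Agent.S1229
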