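import Cfsg.Statements.S1237
import Cfsg.Agent.Lib.TwoFusion.RankTwoClassify
import Cfsg.Agent.Lib.TwoFusion.PSUFourSylow

set_option autoImplicit false
open Cfsg

namespace Cfsg.Agent.S1237

theorem exists_tri_sylow {F : Type*} [Field F] [Fintype F] (hF : Fintype.card F = 16)
    (P : Sylow 2 (Cfsg.PSU 3 F 4)) :
    ∃ β : MulAut (P : Subgroup (Cfsg.PSU 3 F 4)), CfsgLib.TwoFusion.RankTwo.Tri β ∧
      ∃ a b : (P : Subgroup (Cfsg.PSU 3 F 4)), a * b ≠ b * a := by
  classical
  obtain ⟨β, hβ⟩ := CfsgLib.TwoFusion.PSUFour.exists_coord hF P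
  obtain ⟨hcard, hK, hcl, hder, -, -⟩ := CfsgLib.TwoFusion.PSUFour.coord_facts hF hβ
  have h16 : ∀ a : F, a ≠ 0 → a ^ 15 = 1 := fun a ha => by
    have := FiniteField.pow_card_sub_one_eq_one a ha
    rwa [hF] at this
  obtain ⟨u, hu⟩ := IsCyclic.exists_generator (α := Fˣ)
  have hou : orderOf u = 15 := by
    rw [orderOf_eq_card_of_forall_mem_zpowers hu, Nat.card_units, Nat.card_eq_fintype_card, hF]
  set l : F := (u : F) with hl
  have hl0 : l ≠ 0 := u.ne_zero
  have hl15 : l ^ 15 = 1 := h16 l hl0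
  set w : F := l ^ 5 with hwdef
  have hw3 : w ^ 3 = 1 := by rw [hwdef, ← pow_mul]; exact hl15
  have hw1 : w ≠ 1 := fun h => by
    have h1 : u ^ 5 = 1 := Units.ext (by simpa [hwdef, hl] using h)
    have := Nat.le_of_dvd (by norm_num) (hou ▸ orderOf_dvd_of_pow_eq_one h1)
    omega
  have hroots : ∀ m : F, m ^ 3 = 1 → m = 1 ∨ m = w ∨ m = w ^ 2 := by
    intro m hm
    have h0 : 1 + w + w ^ 2 = 0 := by
      refine (mul_eq_zero.1 (?_ : (w - 1) * (1 + w + w ^ 2) = 0)).resolve_left (sub_ne_zero.2 hw1)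
      linear_combination hw3
    have h1 : (m - 1) * ((m - w) * (m - w ^ 2)) = 0 := by
      linear_combination hm + (m - m ^ 2 + (-1 + 0) * 0) * h0 + (m - 1) * hw3
    rcases mul_eq_zero.1 h1 with h | h
    · exact Or.inl (sub_eq_zero.1 h)
    rcases mul_eq_zero.1 h with h | h
    · exact Or.inr (Or.inl (sub_eq_zero.1 h))
    · exact Or.inr (Or.inr (sub_eq_zero.1 h))
  have hmem : ∀ g, ∃ g', β g' = (l * (β g).1, w * (β g).2) := fun g => hβ.surj _ _ (by
    have h4 : w ^ 4 = w := by linear_combination w * hw3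
    have h5 : (l * (β g).1) ^ 5 = w * (β g).1 ^ 5 := by rw [hwdef]; ring
    rw [h5, mul_pow, h4]
    linear_combination w * hβ.rel g)
  choose f hf using hmem
  have hfm : ∀ g h, f (g * h) = f g * f h := fun g h => hβ.inj (by
    rw [hf, hβ.mul, hβ.mul, hf, hf]
    refine Prod.ext (by ring) ?_
    simp only [hwdef]
    ring)
  have hfi : Function.Injective f := fun g h he => hβ.inj (by
    have := congrArg β he
    rw [hf, hf, Prod.mk.injEq] at this
    have hw0 : w ≠ 0 := pow_ne_zero _ hl0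
    exact Prod.ext (mul_left_cancel₀ hl0 this.1) (mul_left_cancel₀ hw0 this.2))
  let φ : MulAut (P : Subgroup (Cfsg.PSU 3 F 4)) :=
    MulEquiv.ofBijective (MonoidHom.mk' f hfm) (Finite.injective_iff_bijective.1 hfi)
  have hφ : ∀ (j : ℕ) g, β ((φ ^ j) g) = (l ^ j * (β g).1, w ^ j * (β g).2) := by
    intro j
    induction j with
    | zero => intro g; simp
    | succ j ih =>
      intro g
      rw [pow_succ φ, MulAut.mul_apply, ih, show φ g = f g from rfl, hf]
      refine Prod.ext ?_ ?_ <;> simp only <;> ring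
  have hinv : ∀ g : (P : Subgroup (Cfsg.PSU 3 F 4)), g * g = 1 ↔ g ∈ Subgroup.center _ := by
    intro g
    constructor
    · intro hg
      by_cases h1 : g = 1
      · subst h1; exact one_mem _
      rw [hcl]
      exact Subgroup.subset_closure (orderOf_eq_prime (by rw [pow_two]; exact hg) h1)
    · intro hg
      haveI := hK
      exact congrArg Subtype.val (IsKleinFour.mul_self (⟨g, hg⟩ : Subgroup.center (P : Subgroup (Cfsg.PSU 3 F 4))))
  have h1 : β 1 = (0, 0) := by
    have h := hβ.mul 1 1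
    rw [mul_one] at h
    have e1 : (β 1).1 = 0 := by simpa using congrArg Prod.fst h
    have e2 := congrArg Prod.snd h
    simp [e1] at e2
    exact Prod.ext e1 e2
  have hcoord : ∀ g, g * g = 1 → g ≠ 1 → (β g).1 = 0 ∧ (β g).2 ≠ 0 ∧ (β g).2 ^ 3 = 1 := by
    intro g hg hg1
    have h2 := hβ.mul g g
    rw [hg, h1, Prod.mk.injEq] at h2
    have ha : (β g).1 = 0 := by
      have e : (β g).1 ^ 4 * (β g).1 = 0 := by
        linear_combination -h2.2 - CfsgLib.TwoFusion.PSUFour.add_self hF (β g).2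
      rcases mul_eq_zero.1 e with h | h
      · exact pow_eq_zero_iff (by norm_num) |>.1 h
      · exact h
    have hb : (β g).2 ≠ 0 := fun hb => hg1 (hβ.inj (by rw [h1]; exact Prod.ext ha hb))
    refine ⟨ha, hb, mul_left_cancel₀ hb ?_⟩
    have := hβ.rel g
    rw [ha] at this
    linear_combination this - CfsgLib.TwoFusion.PSUFour.add_self hF (β g).2
  have htrans : ∀ s t : (P : Subgroup (Cfsg.PSU 3 F 4)), orderOf s = 2 → orderOf t = 2 →
      ∃ k : ℕ, (φ ^ k) s = t := by
    intro s t hs ht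
    have ne1 : ∀ {g : (P : Subgroup (Cfsg.PSU 3 F 4))}, orderOf g = 2 → g * g = 1 ∧ g ≠ 1 :=
      fun {g} hg => ⟨by
        have h2 := pow_orderOf_eq_one g
        rw [hg, pow_two] at h2
        exact h2,
        fun e => by rw [e, orderOf_one] at hg; omega⟩
    obtain ⟨as, bs, cs⟩ := hcoord s (ne1 hs).1 (ne1 hs).2
    obtain ⟨at', bt, ct⟩ := hcoord t (ne1 ht).1 (ne1 ht).2
    have hm : ((β t).2 / (β s).2) ^ 3 = 1 := by rw [div_pow, ct, cs, div_one]
    have hex : ∃ k : ℕ, w ^ k = (β t).2 / (β s).2 := by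
      rcases hroots _ hm with e | e | e
      · exact ⟨0, by rw [e, pow_zero]⟩
      · exact ⟨1, by rw [e, pow_one]⟩
      · exact ⟨2, e.symm⟩
    obtain ⟨k, hk⟩ := hex
    refine ⟨k, hβ.inj ?_⟩
    rw [hφ, as, hk, div_mul_cancel₀ _ bs, mul_zero]
    exact Prod.ext at'.symm rfl
  have hle : ∀ A : Subgroup (P : Subgroup (Cfsg.PSU 3 F 4)), (∀ a ∈ A, a ^ 2 = 1) →
      A ≤ Subgroup.center _ := fun A hA a ha => (hinv a).1 (by rw [← pow_two]; exact hA a ha)
  have h4 : Nat.card (Subgroup.center (P : Subgroup (Cfsg.PSU 3 F 4))) = 4 := hK.card_four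
  obtain ⟨α, hα⟩ := CfsgLib.TwoFusion.RankTwo.exists_tri P.2
    (fun A _ hA => (Subgroup.card_le_of_le (hle A hA)).trans (by rw [h4]; norm_num))
    (fun hh => by
      have := hh (Subgroup.center _)
        (isMulCommutative_iff.2 fun a b => Subtype.ext (Subgroup.mem_center_iff.1 b.2 (a : (P : Subgroup (Cfsg.PSU 3 F 4)))))
        (fun a ha => by rw [pow_two]; exact (hinv a).2 ha)
      rw [h4] at this
      norm_num at this) φ htrans
  refine ⟨α, hα, ?_⟩
  by_contra! hall
  have hZ : Subgroup.center (P : Subgroup (Cfsg.PSU 3 F 4)) = ⊤ :=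
    (Subgroup.eq_top_iff' _).2 fun a => Subgroup.mem_center_iff.2 fun b => hall b a
  rw [hZ, Subgroup.card_top] at h4
  omega

/-- Let T be a finite 2-group of 2-rank exactly 2 (it has a Klein four-subgroup but no elementary abelian subgroup of order 8) admitting an automorphism φ such that any two involutions of T are carried to one another by a power of φ. Then T ≅ Z_{2^n} × Z_{2^n} for some n ≥ 1, or T is isomorphic to a Sylow 2-subgroup of PSU(3) over the field with 16 elements. -/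
theorem result {T : Type*} [Group T] [Finite T] (hT : IsPGroup 2 T) (h2 : Cfsg.PRankLE 2 2 T) (h1 : ¬ Cfsg.PRankLE 2 1 T) (φ : MulAut T) (htrans : ∀ s t : T, orderOf s = 2 → orderOf t = 2 → ∃ k : ℕ, (φ ^ k) s = t) {F : Type*} [Field F] [Fintype F] (hF : Fintype.card F = 16) (P : Sylow 2 (Cfsg.PSU 3 F 4)) : (∃ n : ℕ, 1 ≤ n ∧ Nonempty (T ≃* Multiplicative (ZMod (2 ^ n) × ZMod (2 ^ n)))) ∨ Nonempty (T ≃* (P : Subgroup (Cfsg.PSU 3 F 4))) := by
  obtain ⟨α, hα⟩ := CfsgLib.TwoFusion.RankTwo.exists_tri hT h2 h1 φ htrans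
  obtain ⟨β, hβ, hn'⟩ := exists_tri_sylow hF P
  by_cases hc : ∀ a b : T, a * b = b * a
  · exact Or.inl (hα.homocyclic hc)
  · push Not at hc
    exact Or.inr (hα.nonempty_equiv hβ hc hn')

end Cfsg.Agent.S1237
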