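import Cfsg.Statements.S1238
import Cfsg.Agent.Lib.TwoFusion.RankTwoCentre
import Cfsg.Agent.Lib.FusionBasics.Group
import Cfsg.Agent.Lib.FusionSub.LocalTools
import Cfsg.Agent.S1237

set_option autoImplicit false
open Cfsg

namespace Cfsg.Agent.S1238

/-- Let G be a finite group of 2-rank 2 (a Klein four-subgroup but no elementary abelian subgroup of order 8) which is fusion simple: G has no subgroup of index 2 and no isolated involution. Let S be a Sylow 2-subgroup. Then S is dihedral, quasi-dihedral, wreathed, isomorphic to Z_{2^n} × Z_{2^n} for some n ≥ 2, or isomorphic to a Sylow 2-subgroup of PSU(3) over the field with 16 elements. -/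
theorem result {G : Type*} [Group G] [Finite G] (h2 : Cfsg.PRankLE 2 2 G) (h1 : ¬ Cfsg.PRankLE 2 1 G) (hidx : ∀ H : Subgroup G, H.index ≠ 2) (hiso : ∀ z : G, ¬ Cfsg.IsIsolatedInvolution z) (S : Sylow 2 G) {F : Type*} [Field F] [Fintype F] (hF : Fintype.card F = 16) (P : Sylow 2 (Cfsg.PSU 3 F 4)) : (∃ m : ℕ, 2 ≤ m ∧ Nonempty ((S : Subgroup G) ≃* DihedralGroup m)) ∨ Cfsg.IsQuasiDihedral (S : Subgroup G) ∨ Cfsg.IsWreathed (S : Subgroup G) ∨ (∃ n : ℕ, 2 ≤ n ∧ Nonempty ((S : Subgroup G) ≃* Multiplicative (ZMod (2 ^ n) × ZMod (2 ^ n)))) ∨ Nonempty ((S : Subgroup G) ≃* (P : Subgroup (Cfsg.PSU 3 F 4))) := by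
  haveI : Fact (Nat.Prime 2) := ⟨Nat.prime_two⟩
  let _ := hidx
  set T : Subgroup G := (S : Subgroup G) with hT
  -- two-subgroups are conjugate into `T`
  have hsyl : ∀ A : Subgroup G, IsPGroup 2 A → ∃ h : G, ∀ a ∈ A, h * a * h⁻¹ ∈ T := by
    intro A hA
    obtain ⟨Q, hQ⟩ := hA.exists_le_sylow
    obtain ⟨h, hh⟩ := MulAction.exists_smul_eq G Q S
    refine ⟨h, fun a ha => ?_⟩
    rw [hT, ← hh, Sylow.coe_subgroup_smul]
    exact ⟨a, hQ ha, rfl⟩
  have h1S : ¬ Cfsg.PRankLE 2 1 T := fun hle => h1 fun A hA hA2 => by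
    obtain ⟨h, hh⟩ := hsyl A fun a => ⟨1, Subtype.ext (by rw [pow_one]; exact hA2 a a.2)⟩
    let f : A →* T := MonoidHom.mk' (fun a => ⟨h * a * h⁻¹, hh a a.2⟩) fun a b =>
      Subtype.ext (by show h * (a * b : G) * h⁻¹ = h * a * h⁻¹ * (h * b * h⁻¹); group)
    have hf : Function.Injective f := fun a b e =>
      Subtype.ext (mul_left_cancel (mul_right_cancel (congrArg Subtype.val e :)))
    rw [Nat.card_congr (MonoidHom.ofInjective hf).toEquiv]
    refine hle _ inferInstance ?_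
    rintro _ ⟨a, rfl⟩
    rw [← map_pow, show a ^ 2 = 1 from Subtype.ext (hA2 a a.2), map_one]
  have hZ : (groupFusionSystem T).center = ⊥ := by
    rw [FusionSystem.center, sSup_eq_bot]
    intro Q hQ
    rw [Subgroup.eq_bot_iff_forall]
    intro x hx
    by_contra hx1
    obtain ⟨s, hsx, hs2, hs1⟩ := CfsgLib.TwoFusion.RankTwoCentre.exists_involution
      (S.2.to_le hQ.1) (g := (⟨x, hx⟩ : Q)) fun e => hx1 (congrArg Subtype.val e)
    have hs' : (s : G) * s = 1 := congrArg Subtype.val hs2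
    have hfix : ∀ k : G, k * s * k⁻¹ ∈ T → k * (s : G) * k⁻¹ = s := fun k hk =>
      CfsgLib.FusionSub.apply_eq_of_isCentral hQ (P := Subgroup.zpowers (s : G))
        (φ := conjHom _ k) (CfsgLib.FusionBasics.conjHom_mem_group k
          (Subgroup.zpowers_le.2 (hQ.1 s.2)) fun y hy => by
            obtain ⟨i, rfl⟩ := hy
            have := zpow_mem hk i
            rwa [conj_zpow] at this)
        s.2 (Subgroup.mem_zpowers _)
    refine hiso s ⟨CfsgLib.TwoFusion.RankTwoCentre.orderOf_two_iff.2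
      ⟨hs', fun e => hs1 (Subtype.ext e)⟩, fun g hg => ?_⟩
    set u := g * (s : G) * g⁻¹ with hu
    have hu2 : u * u = 1 := by
      rw [hu, show g * (s : G) * g⁻¹ * (g * s * g⁻¹) = g * (s * s) * g⁻¹ by group, hs', mul_one,
        mul_inv_cancel]
    have hp : IsPGroup 2 (Subgroup.closure ({(s : G), u} : Set G)) := by
      have hcm : ∀ a ∈ ({(s : G), u} : Set G), ∀ b ∈ ({(s : G), u} : Set G), a * b = b * a := by
        rintro a (rfl | rfl) b (rfl | rfl)
        exacts [rfl, hg.eq, hg.eq.symm, rfl]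
      haveI := Subgroup.isMulCommutative_closure hcm
      intro a
      refine ⟨1, ?_⟩
      obtain ⟨a, ha⟩ := a
      induction ha using Subgroup.closure_induction with
      | mem y hy => rcases hy with rfl | rfl <;> exact Subtype.ext (by
          simp only [pow_one, pow_two, Subgroup.coe_mul, OneMemClass.coe_one]; assumption)
      | one => exact one_pow _
      | mul y z hy hz ey ez =>
        rw [show (⟨y * z, mul_mem hy hz⟩ : Subgroup.closure ({(s : G), u} : Set G)) =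
          ⟨y, hy⟩ * ⟨z, hz⟩ from rfl, Commute.mul_pow (mul_comm' _ _), ey, ez, one_mul]
      | inv y hy ey =>
        rw [show (⟨y⁻¹, inv_mem hy⟩ : Subgroup.closure ({(s : G), u} : Set G)) = ⟨y, hy⟩⁻¹ from rfl,
          inv_pow, ey, inv_one]
    obtain ⟨h, hh⟩ := hsyl _ hp
    have e1 := hfix h (hh _ (Subgroup.subset_closure (by simp)))
    have e2 := hfix (h * g) (by
      rw [show h * g * (s : G) * (h * g)⁻¹ = h * u * h⁻¹ by rw [hu]; group]
      exact hh _ (Subgroup.subset_closure (by simp)))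
    calc u = h⁻¹ * (h * g * (s : G) * (h * g)⁻¹) * h := by rw [hu]; group
      _ = h⁻¹ * (h * s * h⁻¹) * h := by rw [e2, e1]
      _ = s := by group
  have hcard : 3 ≤ Nat.card T := by
    simp only [Cfsg.PRankLE, not_forall, not_le] at h1S
    obtain ⟨A, -, -, hA⟩ := h1S
    have := Subgroup.card_le_card_group A
    omega
  rcases CfsgLib.TwoFusion.RankTwoCentre.classify S.2 (CfsgLib.FusionBasics.group_isSaturated S)
    (CfsgLib.TwoFusion.RankTwoCentre.pRankLE_of_injective _ T.subtype_injective h2) h1S hZ with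
    ((⟨m, ⟨e⟩⟩ | h) | h) | ⟨β, hβ⟩
  · refine Or.inl ⟨m, ?_, ⟨e⟩⟩
    have : Nat.card T = 2 * m := (Nat.card_congr e.toEquiv).trans DihedralGroup.nat_card
    omega
  · exact Or.inr (Or.inl h)
  · exact Or.inr (Or.inr (Or.inl h))
  by_cases hc : ∀ a b : T, a * b = b * a
  · obtain ⟨n, hn, ⟨e⟩⟩ := hβ.homocyclic hc
    by_cases hn2 : 2 ≤ n
    · exact Or.inr (Or.inr (Or.inr (Or.inl ⟨n, hn2, ⟨e⟩⟩)))
    · obtain rfl : n = 1 := by omega
      haveI : IsKleinFour (Multiplicative (ZMod (2 ^ 1) × ZMod (2 ^ 1))) :=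
        inferInstanceAs (IsKleinFour (Multiplicative (ZMod 2 × ZMod 2)))
      obtain ⟨e'⟩ := IsKleinFour.nonempty_mulEquiv
        (G₁ := Multiplicative (ZMod (2 ^ 1) × ZMod (2 ^ 1))) (G₂ := DihedralGroup 2)
      exact Or.inl ⟨2, le_rfl, ⟨e.trans e'⟩⟩
  · push Not at hc
    obtain ⟨γ, hγ, hn⟩ := Cfsg.Agent.S1237.exists_tri_sylow hF P
    exact Or.inr (Or.inr (Or.inr (Or.inr (hβ.nonempty_equiv hγ hc hn))))

end Cfsg.Agent.S1238
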