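import Cfsg.Statements.S4200
import Mathlib

set_option autoImplicit false
open Cfsg

namespace Cfsg.Agent.S4200
/-- number of elements of `s` commuting with `a` -/
private noncomputable def cnt {X : Type*} [Group X] [Fintype X] [DecidableEq X] (s : Finset X) (a : X) : ℕ :=
  {b ∈ s | a * b = b * a}.card

private theorem sum_cnt {X : Type*} [Group X] [Fintype X] [DecidableEq X] :
    ∑ a : X, cnt Finset.univ a = Nat.card (ConjClasses X) * Nat.card X := by
  rw [← card_comm_eq_card_conjClasses_mul_card,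
    Nat.card_congr (β := (a : X) × {b : X // a * b = b * a})
      { toFun := fun p => ⟨p.1.1, p.1.2, p.2⟩, invFun := fun p => ⟨(p.1, p.2.1), p.2.2⟩,
        left_inv := fun _ => rfl, right_inv := fun _ => rfl }, Nat.card_eq_fintype_card, Fintype.card_sigma]
  refine Finset.sum_congr rfl fun a _ => ?_
  rw [Fintype.card_subtype]
  rfl

private theorem sum_cnt_subgroup {X : Type*} [Group X] [Fintype X] [DecidableEq X] (Y : Subgroup X) [Fintype Y]
    (s : Finset X) (hs : ∀ x, x ∈ s ↔ x ∈ Y) :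
    ∑ a ∈ s, cnt s a = Nat.card (ConjClasses Y) * Nat.card Y := by
  rw [← sum_cnt]
  refine (Finset.sum_bij (fun (a : Y) _ => (a : X)) (fun a _ => (hs _).mpr a.2)
    (fun a _ b _ h => Subtype.ext h) (fun b hb => ⟨⟨b, (hs b).mp hb⟩, Finset.mem_univ _, rfl⟩)
    fun a _ => ?_).symm
  refine Finset.card_bij (fun (b : Y) _ => (b : X)) (fun b hb => ?_) (fun a _ b _ h => Subtype.ext h)
    fun b hb => ?_
  · rw [Finset.mem_filter] at hb ⊢
    exact ⟨(hs _).mpr b.2, congrArg Subtype.val hb.2⟩
  · rw [Finset.mem_filter] at hb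
    exact ⟨⟨b, (hs b).mp hb.1⟩, Finset.mem_filter.mpr ⟨Finset.mem_univ _, Subtype.ext hb.2⟩, rfl⟩

private theorem sum_cnt_swap {X : Type*} [Group X] [Fintype X] [DecidableEq X] (s t : Finset X) :
    ∑ a ∈ s, cnt t a = ∑ b ∈ t, cnt s b := by
  simp only [cnt, Finset.card_filter]
  rw [Finset.sum_comm]
  exact Finset.sum_congr rfl fun b _ => Finset.sum_congr rfl fun a _ => by
    simp only [eq_comm (a := a * b)]


/-- Let Y be a subgroup of the finite group X, of index m. Then the numbers of conjugacy classes satisfy k(Y) ≤ m·k(X) and k(X) ≤ m·k(Y), and the second inequality is strict unless Y is normal in X. -/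
theorem result {X : Type*} [Group X] [Finite X] (Y : Subgroup X) : Nat.card (ConjClasses Y) ≤ Y.index * Nat.card (ConjClasses X) ∧ Nat.card (ConjClasses X) ≤ Y.index * Nat.card (ConjClasses Y) ∧ (¬ Y.Normal → Nat.card (ConjClasses X) < Y.index * Nat.card (ConjClasses Y)) := by
  classical
  cases nonempty_fintype X
  haveI : Fintype Y := Fintype.ofFinite _
  set Ys : Finset X := Finset.univ.filter (· ∈ Y) with hYs
  have hYs' : ∀ x, x ∈ Ys ↔ x ∈ Y := fun x => by simp [hYs]
  haveI : Fintype (X ⧸ Y) := Fintype.ofFinite _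
  have hm : Y.index = Fintype.card (X ⧸ Y) := by rw [Subgroup.index, Nat.card_eq_fintype_card]
  have hY : Nat.card X = Y.index * Nat.card Y := by rw [mul_comm, Subgroup.card_mul_index]
  have step : ∀ a : X, cnt Finset.univ a ≤ Y.index * cnt Ys a := by
    intro a
    rw [hm, cnt, cnt, Finset.card_eq_sum_card_fiberwise (f := fun x : X => (x : X ⧸ Y)) (t := Finset.univ)
      (fun _ _ => Finset.mem_univ _)]
    rw [← smul_eq_mul, ← Finset.card_univ (α := X ⧸ Y)]
    refine Finset.sum_le_card_nsmul _ _ _ fun q _ => ?_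
    rcases Finset.eq_empty_or_nonempty (({b ∈ (Finset.univ : Finset X) | a * b = b * a}).filter fun x : X => (x : X ⧸ Y) = q)
      with h | ⟨b0, hb0⟩
    · simp [h]
    refine Finset.card_le_card_of_injOn (fun b => b0⁻¹ * b) (fun b hb => ?_)
      (fun x _ y _ h => mul_left_cancel h)
    simp only [Finset.coe_filter, Set.mem_setOf_eq, Finset.mem_filter, Finset.mem_univ, true_and] at hb hb0
    simp only [Finset.coe_filter, Set.mem_setOf_eq, hYs']
    refine ⟨QuotientGroup.eq.mp (hb0.2.trans hb.2.symm), ?_⟩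
    have h1 : a * b0⁻¹ = b0⁻¹ * a := (Commute.inv_right (show Commute a b0 from hb0.1)).eq
    rw [← mul_assoc, h1, mul_assoc, hb.1, mul_assoc]
  have strict : ∀ a : X, (∃ g : X, ∀ c, a * c = c * a → (c : X ⧸ Y) ≠ (g : X ⧸ Y)) → a ∈ Y →
      cnt Finset.univ a < Y.index * cnt Ys a := by
    rintro a ⟨g, hg⟩ ha
    have hpos : 0 < cnt Ys a := Finset.card_pos.mpr ⟨1, by simp [hYs]⟩
    rw [hm]
    conv_lhs => rw [cnt, Finset.card_eq_sum_card_fiberwise (f := fun x : X => (x : X ⧸ Y)) (t := Finset.univ)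
      (fun _ _ => Finset.mem_univ _)]
    rw [show Fintype.card (X ⧸ Y) * cnt Ys a = ∑ _q : X ⧸ Y, cnt Ys a by
      rw [Finset.sum_const, smul_eq_mul, Finset.card_univ]]
    refine Finset.sum_lt_sum (fun q _ => ?_) ⟨(g : X ⧸ Y), Finset.mem_univ _, ?_⟩
    · rcases Finset.eq_empty_or_nonempty (({b ∈ (Finset.univ : Finset X) | a * b = b * a}).filter fun x : X => (x : X ⧸ Y) = q)
        with h | ⟨b0, hb0⟩
      · simp [h]
      refine Finset.card_le_card_of_injOn (fun b => b0⁻¹ * b) (fun b hb => ?_)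
        (fun x _ y _ h => mul_left_cancel h)
      simp only [Finset.coe_filter, Set.mem_setOf_eq, Finset.mem_filter, Finset.mem_univ, true_and] at hb hb0
      simp only [Finset.coe_filter, Set.mem_setOf_eq, hYs']
      refine ⟨QuotientGroup.eq.mp (hb0.2.trans hb.2.symm), ?_⟩
      have h1 : a * b0⁻¹ = b0⁻¹ * a := (Commute.inv_right (show Commute a b0 from hb0.1)).eq
      rw [← mul_assoc, h1, mul_assoc, hb.1, mul_assoc]
    · refine lt_of_eq_of_lt (Finset.card_eq_zero.mpr ?_) hpos
      rw [Finset.filter_eq_empty_iff]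
      intro b hb
      exact hg b (Finset.mem_filter.mp hb).2
  have hk : 0 < Nat.card Y := Nat.card_pos
  refine ⟨?_, ?_, fun hn => ?_⟩
  · have : Nat.card (ConjClasses Y) * Nat.card Y ≤ Nat.card (ConjClasses X) * Nat.card X := by
      rw [← sum_cnt_subgroup Y Ys hYs', ← sum_cnt]
      refine (Finset.sum_le_sum fun a _ => ?_).trans (Finset.sum_le_sum_of_subset (Finset.subset_univ Ys))
      exact Finset.card_le_card (Finset.filter_subset_filter _ (Finset.subset_univ Ys))
    rw [hY] at this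
    exact Nat.le_of_mul_le_mul_right (by linarith [this]) hk
  · have : Nat.card (ConjClasses X) * Nat.card X ≤ Y.index * (Y.index * (Nat.card (ConjClasses Y) * Nat.card Y)) := by
      rw [← sum_cnt, ← sum_cnt_subgroup Y Ys hYs']
      refine (Finset.sum_le_sum fun a _ => step a).trans ?_
      rw [← Finset.mul_sum, sum_cnt_swap]
      refine Nat.mul_le_mul_left _ ?_
      rw [Finset.mul_sum]
      exact Finset.sum_le_sum fun a _ => step a
    rw [hY] at this
    have hi : 0 < Y.index := Nat.pos_of_ne_zero Subgroup.index_ne_zero_of_finite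
    exact Nat.le_of_mul_le_mul_right (by linarith [this]) (mul_pos hi hk)
  · have hex : ∃ a ∈ Y, ∃ g : X, ∀ c, a * c = c * a → (c : X ⧸ Y) ≠ (g : X ⧸ Y) := by
      by_contra hc
      push Not at hc
      refine hn ⟨fun a ha g => ?_⟩
      obtain ⟨c, hc1, hc2⟩ := hc a ha g⁻¹
      have hy : c⁻¹ * g⁻¹ ∈ Y := QuotientGroup.eq.mp hc2
      have : g * a * g⁻¹ = (c⁻¹ * g⁻¹)⁻¹ * a * (c⁻¹ * g⁻¹) := by
        have h1 : c * a * c⁻¹ = a := by rw [← hc1]; group
        calc g * a * g⁻¹ = g * (c * a * c⁻¹) * g⁻¹ := by rw [h1]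
          _ = _ := by group
      rw [this]
      exact Y.mul_mem (Y.mul_mem (Y.inv_mem hy) ha) hy
    obtain ⟨a, ha, hg⟩ := hex
    have : Nat.card (ConjClasses X) * Nat.card X < Y.index * (Y.index * (Nat.card (ConjClasses Y) * Nat.card Y)) := by
      rw [← sum_cnt, ← sum_cnt_subgroup Y Ys hYs']
      refine lt_of_le_of_lt (Finset.sum_le_sum fun a _ => step a) ?_
      rw [← Finset.mul_sum, sum_cnt_swap]
      have hi : 0 < Y.index := Nat.pos_of_ne_zero Subgroup.index_ne_zero_of_finite
      refine Nat.mul_lt_mul_of_pos_left ?_ hi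
      rw [Finset.mul_sum]
      exact Finset.sum_lt_sum (fun a _ => step a) ⟨a, (hYs' a).mpr ha, strict a hg ha⟩
    rw [hY] at this
    exact Nat.lt_of_mul_lt_mul_right (a := Y.index * Nat.card Y) (by linarith [this])

end Cfsg.Agent.S4200
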