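import Cfsg.Statements.S4364
import Cfsg.Agent.Lib.Frobenius.Kazarin
import Cfsg.Agent.Lib.Cores.Fitting

set_option autoImplicit false
set_option linter.style.haveILetI false
open Cfsg

namespace Cfsg.Agent.S4364

theorem commute_of_pCore_eq_bot {G : Type*} [Group G] [Finite G] {p a : ℕ} [hp : Fact p.Prime]
    (hO : pCore p G = ⊥) {x : G} (hx : (Subgroup.centralizer ({x} : Set G)).index = p ^ a) :
    ∀ u ∈ Subgroup.normalClosure ({x} : Set G), ∀ v ∈ Subgroup.normalClosure ({x} : Set G),
      Commute u v := by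
  classical
  set C := Subgroup.centralizer ({x} : Set G) with hC
  have hF : fittingSubgroup G ≤ C := by
    refine (CfsgLib.Cores.le_iSup_pCore CfsgLib.Cores.isNilpotent_fittingSubgroup).trans
      (iSup_le fun r => ?_)
    haveI hr : Fact (r : ℕ).Prime := ⟨Nat.prime_of_mem_primeFactors r.2⟩
    by_cases hrp : (r : ℕ) = p
    · rw [hrp, hO]; exact bot_le
    obtain ⟨R₀⟩ : Nonempty (Sylow (r : ℕ) C) := inferInstance
    have hi : ¬ (r : ℕ) ∣ ((R₀ : Subgroup C).map C.subtype).index := by
      rw [Subgroup.index_map_subtype]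
      refine hr.out.not_dvd_mul R₀.not_dvd_index ?_
      rw [hx]
      exact fun h => hrp ((Nat.prime_dvd_prime_iff_eq hr.out hp.out).1 (hr.out.dvd_of_dvd_pow h))
    exact (CfsgLib.Cores.pCore_le_sylow ((R₀.2.map C.subtype).toSylow hi)).trans
      (Subgroup.map_subtype_le _)
  set H := Subgroup.normalClosure ({x} : Set G) with hH
  have hHC : H ≤ Subgroup.centralizer (fittingSubgroup G : Set G) := by
    refine Subgroup.normalClosure_le_normal (Set.singleton_subset_iff.2 ?_)
    exact Subgroup.mem_centralizer_iff.2 fun f hf => Subgroup.mem_centralizer_singleton_iff.1 (hF hf)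
  haveI : Group.IsSolvable H :=
    CfsgLib.Frobenius.isSolvable_normalClosure_of_index_centralizer_prime_pow x hp.out hx
  have hmap := CfsgLib.Cores.map_subtype_fittingSubgroup_eq
    (Subgroup.Normal.isSubnormal (H := H) inferInstance)
  have hle : H ≤ fittingSubgroup G := by
    intro u hu
    have hu' : (⟨u, hu⟩ : H) ∈ fittingSubgroup H := by
      refine CfsgLib.Cores.centralizer_fittingSubgroup_le
        (Subgroup.mem_centralizer_iff.2 fun f hf => Subtype.ext ?_)
      exact Subgroup.mem_centralizer_iff.1 (hHC hu) _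
        (hmap.le (Subgroup.mem_map_of_mem H.subtype hf)).1
    exact (hmap.le (Subgroup.mem_map_of_mem H.subtype hu')).1
  intro u hu v hv
  exact (Subgroup.mem_centralizer_iff.1 (hHC hv) u (hle hu))

/-- Let G be a finite group, p a prime and x an element whose conjugacy class has p-power size. Then for any two conjugates y and z of x, the commutator y z y⁻¹ z⁻¹ lies in O_p(G), the largest normal p-subgroup of G. -/
theorem result {G : Type*} [Group G] [Finite G] (p : ℕ) [Fact p.Prime]
    (x : G) (hx : ∃ a : ℕ, (Subgroup.centralizer ({x} : Set G)).index = p ^ a) (g h : G) :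
    (g * x * g⁻¹) * (h * x * h⁻¹) * (g * x * g⁻¹)⁻¹ * (h * x * h⁻¹)⁻¹ ∈ Cfsg.pCore p G := by
  obtain ⟨a, ha⟩ := hx
  set f := QuotientGroup.mk' (Cfsg.pCore p G) with hf
  have hsurj : Function.Surjective f := QuotientGroup.mk'_surjective _
  have hle : (Subgroup.centralizer ({x} : Set G)).map f ≤
      Subgroup.centralizer ({f x} : Set (G ⧸ Cfsg.pCore p G)) := by
    rintro _ ⟨c, hc, rfl⟩
    rw [Subgroup.mem_centralizer_singleton_iff, ← map_mul, ← map_mul,
      Subgroup.mem_centralizer_singleton_iff.1 hc]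
  obtain ⟨b, -, hb⟩ := (Nat.dvd_prime_pow Fact.out).1 (ha ▸ (Subgroup.index_dvd_of_le hle).trans
    (Subgroup.index_map_dvd _ hsurj))
  have hmem : ∀ c : G, f (c * x * c⁻¹) ∈ Subgroup.normalClosure ({f x} : Set _) := fun c => by
    rw [map_mul, map_mul, map_inv]
    exact Subgroup.normalClosure_normal.conj_mem _
      (Subgroup.subset_normalClosure (Set.mem_singleton _)) _
  have key := commute_of_pCore_eq_bot (CfsgLib.Cores.pCore_quotient_pCore p G) hb _ (hmem g) _
    (hmem h)
  rw [← QuotientGroup.ker_mk' (Cfsg.pCore p G), MonoidHom.mem_ker, ← hf, map_mul, map_mul,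
    map_mul, map_inv, map_inv, key.eq]
  group

end Cfsg.Agent.S4364
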