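import Cfsg.Statements.S4125
import Cfsg.Agent.S4364
import Cfsg.Agent.S4126
import Cfsg.Agent.Lib.Cores.PCore
import Cfsg.Agent.Lib.CoprimeAction.Basic
import Cfsg.Agent.Lib.PGroups.Frattini
import Cfsg.Agent.Lib.Frobenius.SquarefreeComplement
import Cfsg.Agent.Lib.Frobenius.PPowerOrbits

set_option autoImplicit false
open Cfsg

namespace Cfsg.Agent.S4125

open Subgroup

section
variable {G : Type*} [Group G] [Finite G]

/-- A conjugate of an element with class of size prime to `q` is centralised by the whole Sylow. -/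
theorem index_centralizer_conj (g x : G) :
    (centralizer ({g * x * g⁻¹} : Set G)).index = (centralizer ({x} : Set G)).index := by
  have h : centralizer ({g * x * g⁻¹} : Set G) =
      (centralizer ({x} : Set G)).map (MulAut.conj g).toMonoidHom := by
    ext y
    rw [Subgroup.mem_map]
    constructor
    · intro hy
      refine ⟨g⁻¹ * y * g, ?_, by simp [mul_assoc]⟩
      rw [mem_centralizer_singleton_iff] at hy ⊢
      calc g⁻¹ * y * g * x = g⁻¹ * (y * (g * x * g⁻¹)) * g := by group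
        _ = g⁻¹ * ((g * x * g⁻¹) * y) * g := by rw [hy]
        _ = x * (g⁻¹ * y * g) := by group
    · rintro ⟨c, hc, rfl⟩
      rw [mem_centralizer_singleton_iff] at hc ⊢
      show g * c * g⁻¹ * (g * x * g⁻¹) = g * x * g⁻¹ * (g * c * g⁻¹)
      calc g * c * g⁻¹ * (g * x * g⁻¹) = g * (c * x) * g⁻¹ := by group
        _ = _ := by rw [hc]; group
  rw [h]
  exact Subgroup.index_map_equiv _ (MulAut.conj g)

/-- If all conjugates of a `q`-element commute modulo `R` then it lies in `O_q` modulo `R`. -/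
theorem mk_mem_pCore {q : ℕ} [Fact q.Prime] (R : Subgroup G) [R.Normal] {x : G} {k : ℕ}
    (hxq : x ^ q ^ k = 1)
    (hc : ∀ g h : G, (g * x * g⁻¹) * (h * x * h⁻¹) * (g * x * g⁻¹)⁻¹ * (h * x * h⁻¹)⁻¹ ∈ R) :
    (x : G ⧸ R) ∈ Cfsg.pCore q (G ⧸ R) := by
  let S : Set (G ⧸ R) := Set.range fun g : G => ((g * x * g⁻¹ : G) : G ⧸ R)
  haveI hn : (closure S).Normal := ⟨fun z hz c => by
    induction c using QuotientGroup.induction_on with
    | _ c =>
    induction hz using closure_induction with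
    | mem z hz =>
      obtain ⟨g, rfl⟩ := hz
      refine subset_closure ⟨c * g, ?_⟩
      show ((c * g * x * (c * g)⁻¹ : G) : G ⧸ R) = _
      rw [← QuotientGroup.mk_inv, ← QuotientGroup.mk_mul, ← QuotientGroup.mk_mul]
      congr 1
      group
    | one => simp
    | mul a b _ _ ha hb =>
      rw [show (c : G ⧸ R) * (a * b) * (c : G ⧸ R)⁻¹ =
        ((c : G ⧸ R) * a * (c : G ⧸ R)⁻¹) * ((c : G ⧸ R) * b * (c : G ⧸ R)⁻¹) by group]
      exact mul_mem ha hb
    | inv a _ ha =>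
      rw [show (c : G ⧸ R) * a⁻¹ * (c : G ⧸ R)⁻¹ = ((c : G ⧸ R) * a * (c : G ⧸ R)⁻¹)⁻¹ by group]
      exact inv_mem ha⟩
  haveI hcomm : IsMulCommutative (closure S) := by
    refine Subgroup.isMulCommutative_closure ?_
    rintro _ ⟨g, rfl⟩ _ ⟨h, rfl⟩
    have := (QuotientGroup.eq_one_iff _).mpr (hc g h)
    simp only [QuotientGroup.mk_mul, QuotientGroup.mk_inv] at this
    rwa [mul_inv_eq_one, mul_inv_eq_iff_eq_mul] at this
  have hp : IsPGroup q (closure S) := by
    rintro ⟨z, hz⟩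
    refine ⟨k, Subtype.ext ?_⟩
    show z ^ q ^ k = 1
    induction hz using closure_induction with
    | mem z hz =>
      obtain ⟨g, rfl⟩ := hz
      show ((g * x * g⁻¹ : G) : G ⧸ R) ^ q ^ k = 1
      rw [← QuotientGroup.mk_pow, conj_pow, hxq, mul_one, mul_inv_cancel, QuotientGroup.mk_one]
    | one => exact one_pow _
    | mul a b ha hb iha ihb =>
      have hab : Commute a b := congrArg Subtype.val (hcomm.is_comm.comm ⟨a, ha⟩ ⟨b, hb⟩)
      rw [hab.mul_pow, iha, ihb, one_mul]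
    | inv a _ ih => rw [inv_pow, ih, inv_one]
  exact CfsgLib.Cores.le_pCore hp (subset_closure ⟨1, by simp⟩)

variable {q : ℕ} [hqf : Fact q.Prime]

theorem mk_mem_pCore_of_class {x : G} {k : ℕ} (hxq : x ^ q ^ k = 1) {r a : ℕ} (hr : r.Prime)
    (hx : (centralizer ({x} : Set G)).index = r ^ a) :
    (x : G ⧸ Cfsg.pCore r G) ∈ Cfsg.pCore q (G ⧸ Cfsg.pCore r G) := by
  haveI := Fact.mk hr
  exact mk_mem_pCore _ hxq fun g h => Cfsg.Agent.S4364.result r x ⟨a, hx⟩ g h

theorem mem_pCore_of_class {x : G} {k : ℕ} (hxq : x ^ q ^ k = 1) {a : ℕ}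
    (hx : (centralizer ({x} : Set G)).index = q ^ a) : x ∈ Cfsg.pCore q G := by
  have h := mk_mem_pCore_of_class hxq hqf.out hx
  rw [CfsgLib.Cores.pCore_quotient_pCore, Subgroup.mem_bot] at h
  exact (QuotientGroup.eq_one_iff x).mp h

theorem mk_mem_pCore_quotient {x : G} {k : ℕ} (hxq : x ^ q ^ k = 1) {r a : ℕ} (hr : r.Prime)
    (hx : (centralizer ({x} : Set G)).index = r ^ a) :
    (x : G ⧸ Cfsg.pPrimeCore q G) ∈ Cfsg.pCore q (G ⧸ Cfsg.pPrimeCore q G) := by
  by_cases hrq : r = q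
  · subst hrq
    exact CfsgLib.Cores.map_pCore_le_of_surjective (QuotientGroup.mk'_surjective _)
      ⟨x, mem_pCore_of_class hxq hx, rfl⟩
  haveI := Fact.mk hr
  refine mk_mem_pCore _ hxq fun g h => ?_
  have hle : Cfsg.pCore r G ≤ Cfsg.pPrimeCore q G := by
    refine CfsgLib.Cores.le_pPrimeCore ?_
    obtain ⟨n, hn⟩ := IsPGroup.iff_card.mp (CfsgLib.Cores.isPGroup_pCore r G)
    rw [hn]
    exact ((Nat.coprime_primes hr hqf.out).mpr hrq).pow_left n
  exact hle (Cfsg.Agent.S4364.result r x ⟨a, hx⟩ g h)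

/-- An element with class of `s`-power size centralises `O_r` for every other prime `r`. -/
theorem commute_pCore {y : G} {k : ℕ} (hyq : y ^ q ^ k = 1) {r s a : ℕ} (hr : r.Prime) (hs : s.Prime)
    (hy : (centralizer ({y} : Set G)).index = s ^ a) (hrs : r ≠ s) (hrq : r ≠ q) {o : G}
    (ho : o ∈ Cfsg.pCore r G) : Commute o y := by
  haveI := Fact.mk hr
  haveI := Fact.mk hs
  have hyo : (o * y * o⁻¹ * y⁻¹) ∈ Cfsg.pCore r G := by
    rw [show o * y * o⁻¹ * y⁻¹ = o * (y * o⁻¹ * y⁻¹) by group]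
    exact mul_mem ho (Subgroup.Normal.conj_mem inferInstance _ (inv_mem ho) y)
  have hbar : ((o * y * o⁻¹ * y⁻¹ : G) : G ⧸ Cfsg.pCore s G) ∈
      Cfsg.pCore q (G ⧸ Cfsg.pCore s G) := by
    have h := mk_mem_pCore_of_class hyq hs hy
    simp only [QuotientGroup.mk_mul, QuotientGroup.mk_inv]
    exact mul_mem (Subgroup.Normal.conj_mem inferInstance _ h _) (inv_mem h)
  obtain ⟨i, hi⟩ := (CfsgLib.Cores.isPGroup_pCore q (G ⧸ Cfsg.pCore s G)) ⟨_, hbar⟩
  obtain ⟨j, hj⟩ := (CfsgLib.Cores.isPGroup_pCore r G) ⟨_, hyo⟩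
  have hi' : orderOf ((o * y * o⁻¹ * y⁻¹ : G) : G ⧸ Cfsg.pCore s G) ∣ q ^ i :=
    orderOf_dvd_of_pow_eq_one (congrArg Subtype.val hi)
  have hj' : orderOf ((o * y * o⁻¹ * y⁻¹ : G) : G ⧸ Cfsg.pCore s G) ∣ r ^ j :=
    orderOf_dvd_of_pow_eq_one (by
      rw [← QuotientGroup.mk_pow, show (o * y * o⁻¹ * y⁻¹ : G) ^ r ^ j = 1 from congrArg Subtype.val hj,
        QuotientGroup.mk_one])
  have h1 := orderOf_eq_one_iff.mp (Nat.eq_one_of_dvd_coprimes
    (((Nat.coprime_primes hqf.out hr).mpr (Ne.symm hrq)).pow i j) hi' hj')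
  have h2 := (CfsgLib.Cores.disjoint_pCore_of_ne (G := G) hrs).le_bot
    ⟨hyo, (QuotientGroup.eq_one_iff _).mp h1⟩
  rw [Subgroup.mem_bot, mul_inv_eq_one, mul_inv_eq_iff_eq_mul] at h2
  exact h2

/-- An element with class of `r`-power size centralising `O_r` lies in `O_q`. -/
theorem mem_pCore_of_centralizes {x : G} {k : ℕ} (hxq : x ^ q ^ k = 1) {r a : ℕ} (hr : r.Prime)
    (hx : (centralizer ({x} : Set G)).index = r ^ a)
    (hc : ∀ o ∈ Cfsg.pCore r G, Commute o x) : x ∈ Cfsg.pCore q G := by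
  haveI := Fact.mk hr
  set D := normalClosure ({x} : Set G) with hD
  have hDc : D ≤ centralizer (Cfsg.pCore r G : Set G) :=
    normalClosure_le_normal (by
      rintro _ rfl
      rw [SetLike.mem_coe, mem_centralizer_iff]
      exact fun o ho => hc o ho)
  let f : D →* G ⧸ Cfsg.pCore r G := (QuotientGroup.mk' (Cfsg.pCore r G)).comp D.subtype
  have hcomm : ∀ u v : D, f u * f v = f v * f u := by
    intro u v
    have hcc : ∀ g h : G, Commute ((g * x * g⁻¹ : G) : G ⧸ Cfsg.pCore r G)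
        ((h * x * h⁻¹ : G) : G ⧸ Cfsg.pCore r G) := by
      intro g h
      have := (QuotientGroup.eq_one_iff _).mpr (Cfsg.Agent.S4364.result r x ⟨a, hx⟩ g h)
      simp only [QuotientGroup.mk_mul, QuotientGroup.mk_inv] at this
      rw [mul_inv_eq_one, mul_inv_eq_iff_eq_mul] at this
      simp only [QuotientGroup.mk_mul, QuotientGroup.mk_inv]
      exact this
    have hle : D ≤ Subgroup.comap (QuotientGroup.mk' (Cfsg.pCore r G))
        (closure (Set.range fun g : G => ((g * x * g⁻¹ : G) : G ⧸ Cfsg.pCore r G))) := by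
      rw [hD, normalClosure, closure_le]
      intro z hz
      obtain ⟨_, rfl, hconj⟩ := Group.mem_conjugatesOfSet_iff.mp hz
      obtain ⟨g, rfl⟩ := isConj_iff.mp hconj
      exact subset_closure ⟨g, rfl⟩
    haveI := Subgroup.isMulCommutative_closure (k := Set.range fun g : G =>
      ((g * x * g⁻¹ : G) : G ⧸ Cfsg.pCore r G))
      (by rintro _ ⟨g, rfl⟩ _ ⟨h, rfl⟩; exact hcc g h)
    exact congrArg Subtype.val ((inferInstance : IsMulCommutative (closure (Set.range fun g : G =>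
      ((g * x * g⁻¹ : G) : G ⧸ Cfsg.pCore r G)))).is_comm.comm ⟨f u, hle u.2⟩ ⟨f v, hle v.2⟩)
  haveI : IsMulCommutative f.range := ⟨⟨by
    rintro ⟨_, u, rfl⟩ ⟨_, v, rfl⟩
    exact Subtype.ext (hcomm u v)⟩⟩
  haveI : Group.IsNilpotent f.range := by
    letI : CommGroup f.range := { (inferInstance : Group f.range) with
      mul_comm := (inferInstance : IsMulCommutative f.range).is_comm.comm }
    exact CommGroup.isNilpotent
  haveI : Group.IsNilpotent D := Subgroup.isNilpotent_of_ker_le_center f.rangeRestrict (by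
    intro u hu
    have hu' : (u : G) ∈ Cfsg.pCore r G :=
      (QuotientGroup.eq_one_iff (u : G)).mp (congrArg Subtype.val (MonoidHom.mem_ker.mp hu))
    rw [Subgroup.mem_center_iff]
    intro v
    exact Subtype.ext (mem_centralizer_iff.mp (hDc v.2) u hu').symm)
  let xD : D := ⟨x, subset_normalClosure rfl⟩
  obtain ⟨P, hP⟩ := (show IsPGroup q (zpowers xD) from by
    rintro ⟨z, hz⟩
    obtain ⟨i, rfl⟩ := mem_zpowers_iff.mp hz
    refine ⟨k, Subtype.ext ?_⟩
    show (xD ^ i) ^ q ^ k = 1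
    rw [← zpow_natCast, ← zpow_mul, mul_comm, zpow_mul, zpow_natCast,
      show xD ^ q ^ k = 1 from Subtype.ext hxq, one_zpow]).exists_le_sylow
  haveI : (P : Subgroup D).Normal :=
    Sylow.normal_of_normalizerCondition Group.normalizerCondition_of_isNilpotent P
  have hxP : xD ∈ Cfsg.pCore q D := CfsgLib.Cores.le_pCore P.2 (hP (mem_zpowers xD))
  exact CfsgLib.Cores.map_subtype_pCore_le (Subgroup.Normal.isSubnormal inferInstance) ⟨xD, hxP, rfl⟩

/-- The class of an element of `O_q` is not changed modulo `O_{q'}`. -/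
theorem index_centralizer_eq_of_mem_pCore {x : G} (hx : x ∈ Cfsg.pCore q G) :
    (centralizer ({x} : Set G)).index =
      (centralizer ({(x : G ⧸ Cfsg.pPrimeCore q G)} : Set (G ⧸ Cfsg.pPrimeCore q G))).index := by
  rw [← index_comap_of_surjective (f := QuotientGroup.mk' (Cfsg.pPrimeCore q G)) _
    (QuotientGroup.mk'_surjective _)]
  congr 1
  ext g
  rw [mem_comap, mem_centralizer_singleton_iff, mem_centralizer_singleton_iff]
  refine ⟨fun h => by
    show (g : G ⧸ Cfsg.pPrimeCore q G) * x = x * g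
    rw [← QuotientGroup.mk_mul, ← QuotientGroup.mk_mul, h], fun h => ?_⟩
  have h' : ((g * x * g⁻¹ * x⁻¹ : G) : G ⧸ Cfsg.pPrimeCore q G) = 1 := by
    simp only [QuotientGroup.mk_mul, QuotientGroup.mk_inv]
    rw [show (g : G ⧸ Cfsg.pPrimeCore q G) * x = x * g from h]
    group
  have h2 := (CfsgLib.Cores.disjoint_pCore_pPrimeCore (p := q) (G := G)).le_bot
    ⟨(Cfsg.pCore q G).mul_mem (Subgroup.Normal.conj_mem inferInstance _ hx g) ((Cfsg.pCore q G).inv_mem hx),
      (QuotientGroup.eq_one_iff _).mp h'⟩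
  rw [Subgroup.mem_bot, mul_inv_eq_one, mul_inv_eq_iff_eq_mul] at h2
  exact h2

theorem index_mk_dvd (R : Subgroup G) [R.Normal] (x : G) :
    (centralizer ({(x : G ⧸ R)} : Set (G ⧸ R))).index ∣ (centralizer ({x} : Set G)).index := by
  rw [← index_comap_of_surjective (f := QuotientGroup.mk' R) _ (QuotientGroup.mk'_surjective R)]
  refine index_dvd_of_le fun g hg => ?_
  rw [mem_centralizer_singleton_iff] at hg
  rw [mem_comap, mem_centralizer_singleton_iff]
  show (g : G ⧸ R) * x = x * g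
  rw [← QuotientGroup.mk_mul, ← QuotientGroup.mk_mul, hg]

/-- Prime power orders of one prime: equal powers. -/
theorem eq_prime_of_pow_eq {r s b d : ℕ} (hr : r.Prime) (hs : s.Prime) (hb : b ≠ 0)
    (h : r ^ b = s ^ d) : r = s :=
  (Nat.prime_dvd_prime_iff_eq hr hs).mp (hr.dvd_of_dvd_pow (h ▸ dvd_pow_self r hb))

/-- In a normal abelian `q`-subgroup, two classes of prime power size prime to `q` have the same
prime when the product also has prime power class size. -/
theorem same_prime {x y : G} (hxy : Commute x y) {k : ℕ} (hy : y ^ q ^ k = 1)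
    (hyc : ∀ g h : G, Commute (g * y * g⁻¹) (h * y * h⁻¹))
    {r s t b d c : ℕ} (hr : r.Prime) (hs : s.Prime) (ht : t.Prime) (hrq : r ≠ q) (hrs : r ≠ s)
    (hd : d ≠ 0) (hx : (centralizer ({x} : Set G)).index = r ^ b)
    (hys : (centralizer ({y} : Set G)).index = s ^ d)
    (hxys : (centralizer ({x * y} : Set G)).index = t ^ c) (htr : t = r) : False := by
  classical
  rw [htr] at ht hxys
  set C := centralizer ({x} : Set G)
  set D := centralizer ({y} : Set G)
  set F := centralizer ({x * y} : Set G)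
  have hCD : C.index.Coprime D.index := by
    rw [hx, hys]; exact ((Nat.coprime_primes hr hs).mpr hrs).pow b d
  have hFD : F.index.Coprime D.index := by
    rw [hxys, hys]; exact ((Nat.coprime_primes hr hs).mpr hrs).pow c d
  have e1 : C ⊓ D = F ⊓ D := by
    ext g
    simp only [C, D, F, mem_inf, mem_centralizer_singleton_iff]
    constructor
    · rintro ⟨h1, h2⟩
      exact ⟨by rw [← mul_assoc, h1, mul_assoc, h2, mul_assoc], h2⟩
    · rintro ⟨h1, h2⟩
      refine ⟨mul_right_cancel (b := y) ?_, h2⟩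
      rw [mul_assoc, h1, mul_assoc, mul_assoc, h2]
  have hbc : r ^ b = r ^ c := by
    have := congrArg Subgroup.index e1
    rw [CfsgLib.Hall.index_inf_of_coprime hCD, CfsgLib.Hall.index_inf_of_coprime hFD, hx, hys,
      hxys] at this
    exact Nat.eq_of_mul_eq_mul_right (pow_pos hs.pos d) this
  -- the class of `x` is invariant under translation by differences of conjugates of `y`
  have key : ∀ h₁ h₂ g : G, ∃ g' : G,
      g * x * g⁻¹ * (h₁ * y * h₁⁻¹) = g' * (x * y) * g'⁻¹ ∧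
      ∃ g'' : G, g' * (x * y) * g'⁻¹ * (h₂ * y * h₂⁻¹)⁻¹ = g'' * x * g''⁻¹ := by
    intro h₁ h₂ g
    obtain ⟨u, hu, w, hw, huw⟩ := CfsgLib.Hall.exists_mul_of_coprime_index hCD (g⁻¹ * h₁)
    rw [mem_centralizer_singleton_iff] at hu hw
    refine ⟨g * u, ?_, ?_⟩
    · have e : h₁ * y * h₁⁻¹ = g * u * y * (g * u)⁻¹ := by
        calc h₁ * y * h₁⁻¹ = g * (g⁻¹ * h₁) * y * (g * (g⁻¹ * h₁))⁻¹ := by group
          _ = g * u * (w * y) * (g * u * w)⁻¹ := by rw [huw]; group
          _ = g * u * y * (g * u)⁻¹ := by rw [hw]; group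
      rw [e, show g * x * g⁻¹ = g * u * x * (g * u)⁻¹ by
        rw [mul_assoc g u x, hu]; group]
      group
    · obtain ⟨v, hv, w', hw', hvw⟩ := CfsgLib.Hall.exists_mul_of_coprime_index hFD ((g * u)⁻¹ * h₂)
      rw [mem_centralizer_singleton_iff] at hv hw'
      refine ⟨g * u * v, ?_⟩
      have e : h₂ * y * h₂⁻¹ = g * u * v * y * (g * u * v)⁻¹ := by
        calc h₂ * y * h₂⁻¹ = g * u * ((g * u)⁻¹ * h₂) * y * (g * u * ((g * u)⁻¹ * h₂))⁻¹ := by group
          _ = g * u * v * (w' * y) * (g * u * v * w')⁻¹ := by rw [hvw]; group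
          _ = g * u * v * y * (g * u * v)⁻¹ := by rw [hw']; group
      rw [e, show g * u * (x * y) * (g * u)⁻¹ = g * u * v * (x * y) * (g * u * v)⁻¹ by
        rw [mul_assoc (g * u) v (x * y), hv]; group]
      group
  obtain ⟨h₀, hh₀⟩ : ∃ h : G, h * y * h⁻¹ ≠ y := by
    by_contra hcon
    push Not at hcon
    apply hd
    have : D = ⊤ := eq_top_iff.mpr fun h _ => by
      rw [mem_centralizer_singleton_iff, ← mul_inv_eq_iff_eq_mul]; exact hcon h
    rw [this, index_top] at hys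
    rcases Nat.pow_eq_one.mp hys.symm with h | h
    · exact absurd h hs.one_lt.ne'
    · exact h
  set δ := h₀ * y * h₀⁻¹ * y⁻¹ with hδ
  have hδ1 : δ ≠ 1 := fun h => hh₀ (mul_inv_eq_one.mp h)
  have hδq : δ ^ q ^ k = 1 := by
    have hc := hyc h₀ 1
    simp only [one_mul, inv_one, mul_one] at hc
    rw [hδ, (hc.inv_right).mul_pow, conj_pow, inv_pow, hy]
    simp
  let S : Set G := {z | ∃ g : G, g * x * g⁻¹ = z}
  have hS : ∀ z ∈ S, z * δ ∈ S := by
    rintro _ ⟨g, rfl⟩
    obtain ⟨g', e, g'', e'⟩ := key h₀ 1 g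
    refine ⟨g'', ?_⟩
    rw [← e', ← e, hδ]
    group
  have hSpow : ∀ (n : ℕ) (z : G), z ∈ S → z * δ ^ n ∈ S := by
    intro n
    induction n with
    | zero => intro z hz; simpa using hz
    | succ n ih => intro z hz; rw [pow_succ, ← mul_assoc]; exact hS _ (ih z hz)
  have hSz : ∀ w : zpowers δ, ∀ z ∈ S, z * (w : G)⁻¹ ∈ S := by
    intro w z hz
    obtain ⟨n, hn⟩ := (isOfFinOrder_of_finite δ).mem_powers_iff_mem_zpowers.mpr (inv_mem w.2)
    rw [← show δ ^ n = (w : G)⁻¹ from hn]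
    exact hSpow n z hz
  letI : MulAction (zpowers δ) S :=
    { smul := fun w z => ⟨z.1 * (w : G)⁻¹, hSz w z.1 z.2⟩
      one_smul := fun z => Subtype.ext (by show z.1 * ((1 : zpowers δ) : G)⁻¹ = z.1; simp)
      mul_smul := fun v w z => Subtype.ext (by
        show z.1 * ((v * w : zpowers δ) : G)⁻¹ = z.1 * (w : G)⁻¹ * (v : G)⁻¹
        simp [mul_assoc]) }
  have hP : IsPGroup q (zpowers δ) := by
    rintro ⟨z, hz⟩
    obtain ⟨i, rfl⟩ := mem_zpowers_iff.mp hz
    refine ⟨k, Subtype.ext ?_⟩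
    show (δ ^ i) ^ q ^ k = 1
    rw [← zpow_natCast, ← zpow_mul, mul_comm, zpow_mul, zpow_natCast, hδq, one_zpow]
  have hmod := hP.card_modEq_card_fixedPoints S
  have hfix : IsEmpty (MulAction.fixedPoints (zpowers δ) S) := ⟨fun ⟨z, hz⟩ => hδ1 (by
    have : (z : G) * δ⁻¹ = z := congrArg Subtype.val (hz ⟨δ, mem_zpowers δ⟩)
    simpa using this)⟩
  rw [Nat.card_eq_zero.mpr (Or.inl hfix), Nat.modEq_zero_iff_dvd] at hmod
  have hcard : Nat.card S = r ^ b := by
    rw [← hx]
    refine (Nat.card_congr (Equiv.ofBijective (Quotient.lift (s := QuotientGroup.leftRel C)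
      (fun g => (⟨g * x * g⁻¹, g, rfl⟩ : S)) ?_) ⟨?_, ?_⟩)).symm
    · intro g h hgh
      change QuotientGroup.leftRel C g h at hgh
      rw [QuotientGroup.leftRel_apply, mem_centralizer_singleton_iff] at hgh
      refine Subtype.ext ?_
      calc g * x * g⁻¹ = g * (x * (g⁻¹ * h)) * h⁻¹ := by group
        _ = g * ((g⁻¹ * h) * x) * h⁻¹ := by rw [hgh]
        _ = h * x * h⁻¹ := by group
    · intro a b hab
      induction a using Quotient.inductionOn with | _ g => ?_
      induction b using Quotient.inductionOn with | _ h => ?_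
      refine Quotient.sound ?_
      show QuotientGroup.leftRel C g h
      rw [QuotientGroup.leftRel_apply, mem_centralizer_singleton_iff]
      have e : g * x * g⁻¹ = h * x * h⁻¹ := congrArg Subtype.val hab
      calc g⁻¹ * h * x = g⁻¹ * (h * x * h⁻¹) * h := by group
        _ = g⁻¹ * (g * x * g⁻¹) * h := by rw [e]
        _ = x * (g⁻¹ * h) := by group
    · rintro ⟨_, g, rfl⟩
      exact ⟨Quotient.mk _ g, rfl⟩
  rw [hcard] at hmod
  exact hrq ((Nat.prime_dvd_prime_iff_eq hqf.out hr).mp (hqf.out.dvd_of_dvd_pow hmod)).symm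

/-- If the Sylow subgroup is commutative modulo `O_{q'}` then two non-trivial classes of `q`-elements
in it have the same prime. -/
theorem one_prime (Q : Sylow q G) (hab : ∀ x ∈ (Q : Subgroup G), ∀ y ∈ (Q : Subgroup G), Commute x y)
    (hB : ∀ x ∈ (Q : Subgroup G), ∃ (r a : ℕ), r.Prime ∧ (centralizer ({x} : Set G)).index = r ^ a)
    {x y : G} (hx : x ∈ (Q : Subgroup G)) (hy : y ∈ (Q : Subgroup G)) {r s b d : ℕ} (hr : r.Prime)
    (hs : s.Prime) (hb : b ≠ 0) (hd : d ≠ 0) (hxr : (centralizer ({x} : Set G)).index = r ^ b)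
    (hys : (centralizer ({y} : Set G)).index = s ^ d) : r = s := by
  classical
  by_contra hrs
  set K := Cfsg.pPrimeCore q G
  have hnq : ∀ z ∈ (Q : Subgroup G), ∀ {t c : ℕ}, c ≠ 0 →
      (centralizer ({z} : Set G)).index = t ^ c → t ≠ q := by
    intro z hz t c hc he htq
    subst htq
    refine Q.not_dvd_index ((dvd_pow_self _ hc).trans (he ▸ index_dvd_of_le fun w hw => ?_))
    rw [mem_centralizer_singleton_iff]
    exact (hab w hw z hz).eq
  have hpow : ∀ z ∈ (Q : Subgroup G), ∃ k : ℕ, z ^ q ^ k = 1 := fun z hz => by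
    obtain ⟨k, hk⟩ := Q.2 ⟨z, hz⟩
    exact ⟨k, congrArg Subtype.val hk⟩
  -- an element whose class is fixed modulo `K` is in trouble
  have hcentral : ∀ {x : G}, x ∈ (Q : Subgroup G) → ∀ {r b : ℕ}, r.Prime → b ≠ 0 →
      (centralizer ({x} : Set G)).index = r ^ b →
      (centralizer ({(x : G ⧸ K)} : Set (G ⧸ K))).index = 1 →
      ∀ {y : G}, y ∈ (Q : Subgroup G) → ∀ {s d : ℕ}, s.Prime →
      (centralizer ({y} : Set G)).index = s ^ d → s ≠ r →
      ∀ {t c : ℕ}, t.Prime → (centralizer ({x * y} : Set G)).index = t ^ c → t ≠ r → False := by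
    intro x hx r b hr hb hxr hx1 y hy s d hs hys hsr t c ht hxys htr
    obtain ⟨k, hk⟩ := hpow x hx
    obtain ⟨l, hl⟩ := hpow y hy
    obtain ⟨m, hm⟩ := hpow _ (mul_mem hx hy)
    have hrq := hnq x hx hb hxr
    have hxO : x ∈ Cfsg.pCore q G := mem_pCore_of_centralizes hk hr hxr fun o ho => by
      have h1 := commute_pCore hm hr ht hxys (Ne.symm htr) hrq ho
      have h2 := commute_pCore hl hr hs hys (Ne.symm hsr) hrq ho
      have := h1.mul_right h2.inv_right
      rwa [mul_inv_cancel_right] at this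
    rw [index_centralizer_eq_of_mem_pCore hxO, hx1] at hxr
    rcases Nat.pow_eq_one.mp hxr.symm with h | h
    · exact hr.one_lt.ne' h
    · exact hb h
  obtain ⟨t, c, ht, hxys⟩ := hB _ (mul_mem hx hy)
  obtain ⟨b', -, hb'⟩ := (Nat.dvd_prime_pow hr).mp (hxr ▸ index_mk_dvd K x)
  obtain ⟨d', -, hd'⟩ := (Nat.dvd_prime_pow hs).mp (hys ▸ index_mk_dvd K y)
  obtain ⟨c', -, hc'⟩ := (Nat.dvd_prime_pow ht).mp (hxys ▸ index_mk_dvd K (x * y))
  have hcomm : Commute x y := hab x hx y hy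
  by_cases hb0 : b' = 0
  · rw [hb0, pow_zero] at hb'
    by_cases htr : t = r
    · subst htr
      by_cases hd0 : d' = 0
      · rw [hd0, pow_zero] at hd'
        exact hcentral hy hs hd hys hd' hx hr hxr hrs ht (by rwa [← hcomm.eq]) hrs
      · -- the image of the product has the class of the image of `y`
        have hcx : ∀ g : G ⧸ K, g * (x : G ⧸ K) = (x : G ⧸ K) * g := fun g =>
          mem_centralizer_singleton_iff.mp ((index_eq_one.mp hb').ge (mem_top g))
        have : (centralizer ({((x * y : G) : G ⧸ K)} : Set (G ⧸ K))).index =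
            (centralizer ({(y : G ⧸ K)} : Set (G ⧸ K))).index := by
          congr 1
          ext g
          rw [mem_centralizer_singleton_iff, mem_centralizer_singleton_iff, QuotientGroup.mk_mul,
            ← mul_assoc, hcx g, mul_assoc, mul_assoc, mul_right_inj]
        rw [hc', hd'] at this
        exact hrs (eq_prime_of_pow_eq hr hs (fun h => by
          rw [h, pow_zero] at this
          rcases Nat.pow_eq_one.mp this.symm with h | h
          · exact hs.one_lt.ne' h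
          · exact hd0 h) this)
    · exact hcentral hx hr hb hxr hb' hy hs hys (Ne.symm hrs) ht hxys htr
  by_cases hd0 : d' = 0
  · rw [hd0, pow_zero] at hd'
    have hxy' : (centralizer ({y * x} : Set G)).index = t ^ c := by rwa [← hcomm.eq]
    by_cases hts : t = s
    · subst hts
      have hcy : ∀ g : G ⧸ K, g * (y : G ⧸ K) = (y : G ⧸ K) * g := fun g =>
        mem_centralizer_singleton_iff.mp ((index_eq_one.mp hd').ge (mem_top g))
      have : (centralizer ({((x * y : G) : G ⧸ K)} : Set (G ⧸ K))).index =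
          (centralizer ({(x : G ⧸ K)} : Set (G ⧸ K))).index := by
        congr 1
        ext g
        rw [mem_centralizer_singleton_iff, mem_centralizer_singleton_iff, hcomm.eq,
          QuotientGroup.mk_mul, ← mul_assoc, hcy g, mul_assoc, mul_assoc, mul_right_inj]
      rw [hc', hb'] at this
      exact hrs (eq_prime_of_pow_eq hr hs hb0 this.symm)
    · exact hcentral hy hs hd hys hd' hx hr hxr hrs ht hxy' hts
  -- both move modulo `K`
  obtain ⟨k, hk⟩ := hpow x hx
  obtain ⟨l, hl⟩ := hpow y hy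
  have himg : ∀ z ∈ (Q : Subgroup G), (z : G ⧸ K) ∈ Cfsg.pCore q (G ⧸ K) := fun z hz => by
    obtain ⟨t, c, ht, hzt⟩ := hB z hz
    obtain ⟨i, hi⟩ := hpow z hz
    exact mk_mem_pCore_quotient hi ht hzt
  have hM : ∀ u ∈ Cfsg.pCore q (G ⧸ K), ∀ v ∈ Cfsg.pCore q (G ⧸ K), Commute u v := by
    intro u hu v hv
    have hle := CfsgLib.Cores.pCore_le_sylow (p := q)
      (Q.mapSurjective (QuotientGroup.mk'_surjective K))
    obtain ⟨a, ha, rfl⟩ := hle hu
    obtain ⟨b, hb, rfl⟩ := hle hv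
    exact (hab a ha b hb).map _
  have hyc : ∀ {z : G}, z ∈ (Q : Subgroup G) → ∀ g h : G ⧸ K,
      Commute (g * (z : G ⧸ K) * g⁻¹) (h * (z : G ⧸ K) * h⁻¹) := fun hz g h =>
    hM _ (Subgroup.Normal.conj_mem inferInstance _ (himg _ hz) g) _
      (Subgroup.Normal.conj_mem inferInstance _ (himg _ hz) h)
  have hcomm' : Commute (x : G ⧸ K) (y : G ⧸ K) := hcomm.map (QuotientGroup.mk' K)
  have hpowy : ((y : G ⧸ K)) ^ q ^ l = 1 := by rw [← QuotientGroup.mk_pow, hl]; rfl
  have hpowx : ((x : G ⧸ K)) ^ q ^ k = 1 := by rw [← QuotientGroup.mk_pow, hk]; rfl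
  rw [QuotientGroup.mk_mul] at hc'
  rcases eq_or_ne t r with htr | htr
  · exact same_prime hcomm' hpowy (hyc hy) hr hs ht (hnq x hx hb hxr) hrs hd0 hb' hd' hc' htr
  rcases eq_or_ne t s with hts | hts
  · exact same_prime hcomm'.symm hpowx (hyc hx) hs hr ht (hnq y hy hd hys) (Ne.symm hrs) hb0 hd' hb'
      (by rwa [← hcomm'.eq]) hts
  -- the three centralisers meet in one
  set C := centralizer ({(x : G ⧸ K)} : Set (G ⧸ K))
  set D := centralizer ({(y : G ⧸ K)} : Set (G ⧸ K))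
  set F := centralizer ({(x : G ⧸ K) * (y : G ⧸ K)} : Set (G ⧸ K))
  have e1 : C ⊓ F = C ⊓ D := by
    ext g
    simp only [C, D, F, mem_inf, mem_centralizer_singleton_iff]
    constructor
    · rintro ⟨h1, h2⟩
      refine ⟨h1, mul_left_cancel (a := (x : G ⧸ K)) ?_⟩
      rw [← mul_assoc, ← h1, mul_assoc, h2, mul_assoc]
    · rintro ⟨h1, h2⟩
      exact ⟨h1, by rw [← mul_assoc, h1, mul_assoc, h2, mul_assoc]⟩
  have hcopF : C.index.Coprime F.index := by
    rw [hb', hc']; exact ((Nat.coprime_primes hr ht).mpr (Ne.symm htr)).pow _ _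
  have hcopD : C.index.Coprime D.index := by
    rw [hb', hd']; exact ((Nat.coprime_primes hr hs).mpr hrs).pow _ _
  have := congrArg Subgroup.index e1
  rw [CfsgLib.Hall.index_inf_of_coprime hcopF, CfsgLib.Hall.index_inf_of_coprime hcopD, hb', hc',
    hd'] at this
  exact hts (eq_prime_of_pow_eq hs ht hd0 (Nat.eq_of_mul_eq_mul_left (pow_pos hr.pos _) this).symm).symm

/-- If a Sylow subgroup is not commutative then every class of `q`-elements has `q`-power size. -/
theorem class_q_power (Q : Sylow q G)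
    (hB : ∀ x ∈ (Q : Subgroup G), ∃ (r a : ℕ), r.Prime ∧ (centralizer ({x} : Set G)).index = r ^ a)
    {u₀ v₀ : G} (hu₀ : u₀ ∈ (Q : Subgroup G)) (hv₀ : v₀ ∈ (Q : Subgroup G))
    (hne : ¬ Commute u₀ v₀) : ∀ x ∈ (Q : Subgroup G), ∃ a : ℕ,
      (centralizer ({x} : Set G)).index = q ^ a := by
  classical
  set K := Cfsg.pPrimeCore q G
  have hpow : ∀ z ∈ (Q : Subgroup G), ∃ k : ℕ, z ^ q ^ k = 1 := fun z hz => by
    obtain ⟨k, hk⟩ := Q.2 ⟨z, hz⟩
    exact ⟨k, congrArg Subtype.val hk⟩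
  let f := QuotientGroup.mk' K
  have hsurj : Function.Surjective f := QuotientGroup.mk'_surjective K
  let Qb := Q.mapSurjective hsurj
  have hinjQ : ∀ w ∈ (Q : Subgroup G), (w : G ⧸ K) = 1 → w = 1 := by
    intro w hw h
    obtain ⟨i, hi⟩ := hpow w hw
    exact orderOf_eq_one_iff.mp (Nat.eq_one_of_dvd_coprimes
      ((CfsgLib.Cores.card_pPrimeCore_coprime (G := G) q).symm.pow_left i)
      (orderOf_dvd_of_pow_eq_one hi)
      (orderOf_dvd_natCard _ ((QuotientGroup.eq_one_iff w).mp h)))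
  have hQb : ∀ {u : G ⧸ K}, u ∈ (Qb : Subgroup (G ⧸ K)) ↔ ∃ w ∈ (Q : Subgroup G), f w = u :=
    Iff.rfl
  haveI hQn : (Qb : Subgroup (G ⧸ K)).Normal := by
    have heq : (Qb : Subgroup (G ⧸ K)) = Cfsg.pCore q (G ⧸ K) := by
      refine le_antisymm ?_ (CfsgLib.Cores.pCore_le_sylow Qb)
      intro u hu
      obtain ⟨w, hw, rfl⟩ := hQb.mp hu
      obtain ⟨r, a, hr, hwr⟩ := hB w hw
      obtain ⟨i, hi⟩ := hpow w hw
      exact mk_mem_pCore_quotient hi hr hwr
    rw [heq]
    infer_instance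
  -- elements which are not central in the image have `q`-power class and lie in `O_q`
  have hnoncentral : ∀ w ∈ (Q : Subgroup G), (∃ v ∈ (Q : Subgroup G), ¬ Commute (w : G ⧸ K) v) →
      ∃ a : ℕ, a ≠ 0 ∧ (centralizer ({(w : G ⧸ K)} : Set (G ⧸ K))).index = q ^ a ∧
        w ∈ Cfsg.pCore q G := by
    rintro w hw ⟨v, hv, hvw⟩
    obtain ⟨r, a, hr, hwr⟩ := hB w hw
    obtain ⟨b, -, hb⟩ := (Nat.dvd_prime_pow hr).mp (hwr ▸ index_mk_dvd K w)
    set S := centralizer ({(w : G ⧸ K)} : Set (G ⧸ K))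
    have hd : S.relIndex (Qb : Subgroup (G ⧸ K)) ∣ S.index :=
      CfsgLib.Frobenius.PPower.relIndex_dvd_of_normal S Qb
    have h1 : S.relIndex (Qb : Subgroup (G ⧸ K)) ≠ 1 := fun h => by
      rw [relIndex_eq_one] at h
      exact hvw (mem_centralizer_singleton_iff.mp (h (hQb.mpr ⟨v, hv, rfl⟩))).symm
    obtain ⟨n, hn⟩ := IsPGroup.iff_card.mp Qb.2
    have h2 : S.relIndex (Qb : Subgroup (G ⧸ K)) ∣ q ^ n := hn ▸ index_dvd_card _
    obtain ⟨l, -, hl⟩ := (Nat.dvd_prime_pow hqf.out).mp h2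
    have hl0 : l ≠ 0 := fun h => h1 (by rw [hl, h, pow_zero])
    have hdvd : q ∣ r ^ b := (dvd_pow_self q hl0).trans (hl ▸ hb ▸ hd)
    have hrq := (Nat.prime_dvd_prime_iff_eq hqf.out hr).mp (hqf.out.dvd_of_dvd_pow hdvd)
    subst hrq
    obtain ⟨i, hi⟩ := hpow w hw
    exact ⟨b, fun h => by rw [h, pow_zero] at hdvd; exact hqf.out.not_dvd_one hdvd, hb,
      mem_pCore_of_class hi hwr⟩
  have hneK : ¬ Commute (u₀ : G ⧸ K) v₀ := fun h => hne (by
    have h1 := hinjQ (u₀ * v₀ * u₀⁻¹ * v₀⁻¹)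
      (mul_mem (mul_mem (mul_mem hu₀ hv₀) (inv_mem hu₀)) (inv_mem hv₀))
      (by simp only [QuotientGroup.mk_mul, QuotientGroup.mk_inv]; rw [h.eq]; group)
    rwa [mul_inv_eq_one, mul_inv_eq_iff_eq_mul] at h1)
  -- everything acts trivially on the Frattini quotient of the image
  have hfrat : ∀ g : G ⧸ K, ∀ w ∈ (Q : Subgroup G), (w : G ⧸ K)⁻¹ * (g * w * g⁻¹) ∈
      (frattini (Qb : Subgroup (G ⧸ K))).map (Qb : Subgroup (G ⧸ K)).subtype := by
    intro g
    set Φ := (frattini (Qb : Subgroup (G ⧸ K))).map (Qb : Subgroup (G ⧸ K)).subtype with hΦ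
    have hconjΦ : ∀ c ∈ Φ, ∀ a ∈ (Qb : Subgroup (G ⧸ K)), a⁻¹ * c * a ∈ Φ := by
      rintro _ ⟨c, hc, rfl⟩ a ha
      refine ⟨⟨a, ha⟩⁻¹ * c * ⟨a, ha⟩, ?_, rfl⟩
      simpa using Subgroup.Normal.conj_mem inferInstance c hc (⟨a, ha⟩⁻¹ : (Qb : Subgroup (G ⧸ K)))
    have hgood : ∀ w ∈ (Q : Subgroup G), (∃ v ∈ (Q : Subgroup G), ¬ Commute (w : G ⧸ K) v) →
        (w : G ⧸ K)⁻¹ * (g * w * g⁻¹) ∈ Φ := by
      intro w hw hv
      obtain ⟨a, -, ha, -⟩ := hnoncentral w hw hv
      have hcop : (Qb : Subgroup (G ⧸ K)).index.Coprime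
          (centralizer ({(w : G ⧸ K)} : Set (G ⧸ K))).index := by
        rw [ha]; exact ((hqf.out.coprime_iff_not_dvd.mpr Qb.not_dvd_index).pow_left a).symm
      obtain ⟨v', hv', c, hc, rfl⟩ := CfsgLib.Hall.exists_mul_of_coprime_index hcop g
      rw [mem_centralizer_singleton_iff] at hc
      have hwQ : (w : G ⧸ K) ∈ (Qb : Subgroup (G ⧸ K)) := hQb.mpr ⟨w, hw, rfl⟩
      rw [show (w : G ⧸ K)⁻¹ * (v' * c * w * (v' * c)⁻¹) = (w : G ⧸ K)⁻¹ * (v' * (c * w) * (v' * c)⁻¹) by
        group, hc]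
      refine ⟨(⟨_, hwQ⟩ : (Qb : Subgroup (G ⧸ K)))⁻¹ * (⟨v', hv'⟩ * ⟨_, hwQ⟩ * ⟨v', hv'⟩⁻¹), ?_, ?_⟩
      · have := CfsgLib.PGroups.commutatorElement_mem_frattini Qb.2
          (⟨_, hwQ⟩ : (Qb : Subgroup (G ⧸ K)))⁻¹ ⟨v', hv'⟩
        rw [commutatorElement_def, inv_inv] at this
        simpa [mul_assoc] using this
      · show (w : G ⧸ K)⁻¹ * (v' * w * v'⁻¹) = _
        group
    intro w hw
    by_cases hwc : ∃ v ∈ (Q : Subgroup G), ¬ Commute (w : G ⧸ K) v
    · exact hgood w hw hwc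
    push Not at hwc
    have h1 := hgood (w * u₀) (mul_mem hw hu₀) ⟨v₀, hv₀, fun h => hneK (by
      rw [QuotientGroup.mk_mul] at h
      have := ((hwc v₀ hv₀).inv_left).mul_left h
      rwa [inv_mul_cancel_left] at this)⟩
    have h2 := hgood u₀ hu₀ ⟨v₀, hv₀, hneK⟩
    rw [QuotientGroup.mk_mul] at h1
    obtain ⟨A, hA⟩ : ∃ A, A = g * (w : G ⧸ K) * g⁻¹ := ⟨_, rfl⟩
    obtain ⟨B, hB'⟩ : ∃ B, B = g * (u₀ : G ⧸ K) * g⁻¹ := ⟨_, rfl⟩
    rw [← hA]
    have e : (w : G ⧸ K)⁻¹ * A = (u₀ : G ⧸ K) *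
        (((w : G ⧸ K) * u₀)⁻¹ * (g * ((w : G ⧸ K) * u₀) * g⁻¹) *
          ((u₀ : G ⧸ K)⁻¹ * (g * u₀ * g⁻¹))⁻¹) * (u₀ : G ⧸ K)⁻¹ := by
      rw [hA]; group
    rw [e]
    have := hconjΦ _ (mul_mem h1 (inv_mem h2)) (u₀ : G ⧸ K)⁻¹ (inv_mem (hQb.mpr ⟨u₀, hu₀, rfl⟩))
    rwa [inv_inv] at this
  have hcent : ∀ g : G ⧸ K, ¬ q ∣ orderOf g → ∀ u ∈ (Qb : Subgroup (G ⧸ K)), g * u = u * g := by
    intro g hg u hu
    have hle := CfsgLib.CoprimeAction.le_centralizer_of_frattini (A := zpowers g)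
      (K := (Qb : Subgroup (G ⧸ K)))
      (by rw [Subgroup.normalizer_eq_top]; exact le_top) (by
        obtain ⟨n, hn⟩ := IsPGroup.iff_card.mp (Qb.2.to_subgroup (frattini _))
        rw [hn, Nat.card_zpowers]
        exact (hqf.out.coprime_iff_not_dvd.mpr hg).symm.pow_right n) (fun a _ v hv => by
        obtain ⟨w, hw, rfl⟩ := hQb.mp hv
        exact hfrat a w hw) (mem_zpowers g)
    exact (mem_centralizer_iff.mp hle u hu).symm
  intro x hx
  obtain ⟨r, a, hr, hxr⟩ := hB x hx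
  by_cases hrq : r = q
  · exact ⟨a, hrq ▸ hxr⟩
  by_cases ha : a = 0
  · exact ⟨0, by rw [hxr, ha, pow_zero, pow_zero]⟩
  exfalso
  by_cases hxc : ∃ v ∈ (Q : Subgroup G), ¬ Commute (x : G ⧸ K) v
  · obtain ⟨b, hb0, hb, -⟩ := hnoncentral x hx hxc
    obtain ⟨c, -, hc⟩ := (Nat.dvd_prime_pow hr).mp (hxr ▸ index_mk_dvd K x)
    exact hrq (eq_prime_of_pow_eq hqf.out hr hb0 (hb.symm.trans hc)).symm
  push Not at hxc
  obtain ⟨-, -, -, huO⟩ := hnoncentral u₀ hu₀ ⟨v₀, hv₀, hneK⟩
  obtain ⟨-, -, -, hxuO⟩ := hnoncentral (x * u₀) (mul_mem hx hu₀) ⟨v₀, hv₀, fun h => hneK (by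
    rw [QuotientGroup.mk_mul] at h
    have := ((hxc v₀ hv₀).inv_left).mul_left h
    rwa [inv_mul_cancel_left] at this)⟩
  have hxO : x ∈ Cfsg.pCore q G := by simpa using mul_mem hxuO (inv_mem huO)
  rw [index_centralizer_eq_of_mem_pCore hxO] at hxr
  have hone : (centralizer ({(x : G ⧸ K)} : Set (G ⧸ K))).index = 1 := by
    rw [index_eq_one, eq_top_iff]
    intro g _
    obtain ⟨n, m, hm, hnm⟩ := Nat.exists_eq_pow_mul_and_not_dvd (orderOf_pos g).ne' q hqf.out.ne_one
    have hxQ : (x : G ⧸ K) ∈ (Qb : Subgroup (G ⧸ K)) := hQb.mpr ⟨x, hx, rfl⟩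
    have h1 : Commute (g ^ q ^ n) (x : G ⧸ K) := hcent _ (by
      rw [orderOf_pow_of_dvd (pow_ne_zero _ hqf.out.ne_zero) (hnm ▸ dvd_mul_right _ _), hnm,
        Nat.mul_div_cancel_left _ (pow_pos hqf.out.pos _)]
      exact hm) _ hxQ
    have h2 : Commute (g ^ m) (x : G ⧸ K) := by
      have hp : IsPGroup q (zpowers (g ^ m)) := IsPGroup.of_card (n := n) (by
        rw [Nat.card_zpowers, orderOf_pow_of_dvd (fun h => hm (by rw [h]; exact dvd_zero q))
          (hnm ▸ dvd_mul_left _ _), hnm, Nat.mul_div_cancel _ (Nat.pos_of_ne_zero fun h => hm (by rw [h]; exact dvd_zero q))])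
      have hle : zpowers (g ^ m) ≤ (Qb : Subgroup (G ⧸ K)) := by
        rw [← CfsgLib.Cores.pCore_eq_sylow_of_normal Qb]
        obtain ⟨R, hR⟩ := hp.exists_le_sylow
        obtain ⟨c, hc⟩ := MulAction.exists_smul_eq (G ⧸ K) Qb R
        intro z hz
        rw [CfsgLib.Cores.pCore_eq_sylow_of_normal Qb]
        have := hR hz
        rwa [← hc, Sylow.smul_eq_of_normal] at this
      obtain ⟨v, hv, hve⟩ := hQb.mp (hle (mem_zpowers _))
      rw [← hve]
      exact (hxc v hv).symm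
    obtain ⟨i, j, hij⟩ : ∃ i j : ℤ, i * (q ^ n : ℕ) + j * m = 1 :=
      Nat.Coprime.isCoprime ((hqf.out.coprime_iff_not_dvd.mpr hm).pow_left n)
    rw [mem_centralizer_singleton_iff]
    have h3 := (h1.zpow_left i).mul_left (h2.zpow_left j)
    rw [← zpow_natCast g, ← zpow_mul, ← zpow_natCast g, ← zpow_mul, ← zpow_add,
      mul_comm ((q ^ n : ℕ) : ℤ) i, mul_comm (m : ℤ) j, hij, zpow_one] at h3
    exact h3.eq
  rw [hone] at hxr
  rcases Nat.pow_eq_one.mp hxr.symm with h | h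
  · exact hr.one_lt.ne' h
  · exact ha h

end

/-- Let G be a finite group and q a prime dividing its order such that every element of q-power order has a conjugacy class of prime-power size. Then G is q-solvable of q-length 1: there are normal subgroups K ≤ L of G with K of order prime to q, L/K a q-group and L of index prime to q. Moreover there is a prime p such that every element of q-power order has a class of p-power size (one prime serving for all of them), and for a Sylow q-subgroup Q: if p = q then Q is normal with a normal complement (a direct factor), while if p ≠ q then Q is abelian, the product of Q with the largest normal p-subgroup O_p(G) is normal in G, and G/O_{q'}(G) is solvable, where O_{q'}(G) is the largest normal subgroup of order prime to q. -/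
theorem result {G : Type*} [Group G] [Finite G] (q : ℕ) [Fact q.Prime] (hq : q ∣ Nat.card G)
    (hBaer : ∀ x : G, (∃ k : ℕ, orderOf x = q ^ k) → ∃ (r : ℕ) (a : ℕ), r.Prime ∧ (Subgroup.centralizer ({x} : Set G)).index = r ^ a) (Q : Sylow q G) :
    (∃ K L : Subgroup G, K.Normal ∧ L.Normal ∧ K ≤ L ∧ (Nat.card K).Coprime q ∧ (∃ m : ℕ, K.relIndex L = q ^ m) ∧ L.index.Coprime q) ∧
    ∃ p : ℕ, p.Prime ∧ (∀ x : G, (∃ k : ℕ, orderOf x = q ^ k) → ∃ a : ℕ, (Subgroup.centralizer ({x} : Set G)).index = p ^ a) ∧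
      (p = q → (Q : Subgroup G).Normal ∧ ∃ N : Subgroup G, N.Normal ∧ N.IsComplement' (Q : Subgroup G)) ∧
      (p ≠ q → IsMulCommutative (Q : Subgroup G) ∧ (Cfsg.pCore p G ⊔ (Q : Subgroup G)).Normal ∧
        ∀ _h : (Cfsg.pPrimeCore q G).Normal, Group.IsSolvable (G ⧸ Cfsg.pPrimeCore q G)) := by
  classical
  have hq' := (Fact.out : q.Prime)
  have hpow : ∀ z ∈ (Q : Subgroup G), ∃ k : ℕ, z ^ q ^ k = 1 := fun z hz => by
    obtain ⟨k, hk⟩ := Q.2 ⟨z, hz⟩
    exact ⟨k, congrArg Subtype.val hk⟩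
  have hord : ∀ z ∈ (Q : Subgroup G), ∃ k : ℕ, orderOf z = q ^ k := fun z hz => by
    obtain ⟨k, hk⟩ := IsPGroup.iff_orderOf.mp Q.2 ⟨z, hz⟩
    exact ⟨k, by rw [← hk, Subgroup.orderOf_mk]⟩
  have hB : ∀ x ∈ (Q : Subgroup G), ∃ (r a : ℕ), r.Prime ∧
      (Subgroup.centralizer ({x} : Set G)).index = r ^ a := fun x hx => hBaer x (hord x hx)
  set K := Cfsg.pPrimeCore q G with hK
  -- the `q`-length
  have hQK : (Q : Subgroup G) ≤ (Cfsg.pCore q (G ⧸ K)).comap (QuotientGroup.mk' K) := by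
    intro x hx
    obtain ⟨r, a, hr, hxr⟩ := hB x hx
    obtain ⟨k, hk⟩ := hpow x hx
    exact mk_mem_pCore_quotient hk hr hxr
  refine ⟨⟨K, (Cfsg.pCore q (G ⧸ K)).comap (QuotientGroup.mk' K), inferInstance, inferInstance,
    fun z hz => ?_, CfsgLib.Cores.card_pPrimeCore_coprime q, ?_, ?_⟩, ?_⟩
  · show (z : G ⧸ K) ∈ Cfsg.pCore q (G ⧸ K)
    rw [(QuotientGroup.eq_one_iff z).mpr hz]
    exact one_mem _
  · obtain ⟨m, hm⟩ := IsPGroup.iff_card.mp (CfsgLib.Cores.isPGroup_pCore q (G ⧸ K))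
    refine ⟨m, ?_⟩
    have h := Subgroup.relIndex_comap (H := (⊥ : Subgroup (G ⧸ K))) (QuotientGroup.mk' K)
      ((Cfsg.pCore q (G ⧸ K)).comap (QuotientGroup.mk' K))
    rw [MonoidHom.comap_bot, QuotientGroup.ker_mk',
      Subgroup.map_comap_eq_self_of_surjective (QuotientGroup.mk'_surjective K),
      Subgroup.relIndex_bot_left, hm] at h
    exact h
  · exact ((hq'.coprime_iff_not_dvd.mpr fun h => Q.not_dvd_index
      (h.trans (Subgroup.index_dvd_of_le hQK)))).symm
  -- transfer to the given Sylow subgroup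
  have hall : ∀ {p : ℕ}, (∀ x ∈ (Q : Subgroup G), ∃ a : ℕ,
      (Subgroup.centralizer ({x} : Set G)).index = p ^ a) →
      ∀ x : G, (∃ k : ℕ, orderOf x = q ^ k) →
        ∃ a : ℕ, (Subgroup.centralizer ({x} : Set G)).index = p ^ a := by
    intro p hp x ⟨k, hk⟩
    have hpg : IsPGroup q (Subgroup.zpowers x) := IsPGroup.of_card (n := k) (by rw [Nat.card_zpowers, hk])
    obtain ⟨R, hR⟩ := hpg.exists_le_sylow
    obtain ⟨g, hg⟩ := MulAction.exists_smul_eq G R Q
    obtain ⟨a, ha⟩ := hp (g * x * g⁻¹) (by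
      rw [← hg]
      exact ⟨x, hR (Subgroup.mem_zpowers x), rfl⟩)
    exact ⟨a, by rw [← ha, index_centralizer_conj]⟩
  -- if the prime is `q`
  have hcaseq : (∀ x ∈ (Q : Subgroup G), ∃ a : ℕ, (Subgroup.centralizer ({x} : Set G)).index = q ^ a) →
      (Q : Subgroup G).Normal ∧ ∃ N : Subgroup G, N.Normal ∧ N.IsComplement' (Q : Subgroup G) := by
    intro hp
    have hle : (Q : Subgroup G) = Cfsg.pCore q G := le_antisymm (fun x hx => by
      obtain ⟨a, ha⟩ := hp x hx
      obtain ⟨k, hk⟩ := hpow x hx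
      exact mem_pCore_of_class hk ha) (CfsgLib.Cores.pCore_le_sylow Q)
    have hn : (Q : Subgroup G).Normal := hle ▸ inferInstance
    obtain ⟨P, N, hN, hc⟩ := Cfsg.Agent.S4126.result q fun x hx => hall hp x (by
      rcases hx with h | ⟨rfl, h⟩
      · exact ⟨1, by rw [pow_one]; exact h⟩
      · exact ⟨2, by rw [h]; norm_num⟩)
    letI := Sylow.unique_of_normal Q hn
    exact ⟨hn, N, hN, by rwa [Subsingleton.elim Q P]⟩
  by_cases hab : ∀ x ∈ (Q : Subgroup G), ∀ y ∈ (Q : Subgroup G), Commute x y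
  swap
  · push Not at hab
    obtain ⟨u₀, hu₀, v₀, hv₀, hne⟩ := hab
    have hp := class_q_power Q hB hu₀ hv₀ hne
    exact ⟨q, hq', hall hp, fun _ => hcaseq hp, fun h => absurd rfl h⟩
  by_cases hmove : ∃ x ∈ (Q : Subgroup G), (Subgroup.centralizer ({x} : Set G)).index ≠ 1
  swap
  · push Not at hmove
    have hp : ∀ x ∈ (Q : Subgroup G), ∃ a : ℕ, (Subgroup.centralizer ({x} : Set G)).index = q ^ a :=
      fun x hx => ⟨0, by rw [hmove x hx, pow_zero]⟩
    exact ⟨q, hq', hall hp, fun _ => hcaseq hp, fun h => absurd rfl h⟩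
  obtain ⟨x₀, hx₀, hx₀1⟩ := hmove
  obtain ⟨p, b, hp', hb⟩ := hB x₀ hx₀
  have hb0 : b ≠ 0 := fun h => hx₀1 (by rw [hb, h, pow_zero])
  have hp : ∀ x ∈ (Q : Subgroup G), ∃ a : ℕ, (Subgroup.centralizer ({x} : Set G)).index = p ^ a := by
    intro x hx
    obtain ⟨r, a, hr, hxr⟩ := hB x hx
    by_cases ha : a = 0
    · exact ⟨0, by rw [hxr, ha, pow_zero, pow_zero]⟩
    · exact ⟨a, by rw [one_prime Q hab hB hx₀ hx hp' hr hb0 ha hb hxr]; exact hxr⟩
  have hpq : p ≠ q := by
    intro h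
    refine Q.not_dvd_index ((dvd_pow_self q hb0).trans ?_)
    rw [show q ^ b = (Subgroup.centralizer ({x₀} : Set G)).index by rw [hb, h]]
    refine Subgroup.index_dvd_of_le fun w hw => ?_
    rw [Subgroup.mem_centralizer_singleton_iff]
    exact (hab w hw x₀ hx₀).eq
  refine ⟨p, hp', hall hp, fun h => absurd h hpq, fun _ => ⟨⟨⟨fun a b => Subtype.ext (hab a a.2 b b.2)⟩⟩,
    ?_, ?_⟩⟩
  · -- `O_p(G) Q` is normal
    haveI := Fact.mk hp'
    set R := Cfsg.pCore p G
    have hsurj : Function.Surjective (QuotientGroup.mk' R) := QuotientGroup.mk'_surjective R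
    have hle : (Q : Subgroup G).map (QuotientGroup.mk' R) = Cfsg.pCore q (G ⧸ R) := by
      refine le_antisymm ?_ (CfsgLib.Cores.pCore_le_sylow (Q.mapSurjective hsurj))
      rintro _ ⟨x, hx, rfl⟩
      obtain ⟨a, ha⟩ := hp x hx
      obtain ⟨k, hk⟩ := hpow x hx
      exact mk_mem_pCore_of_class hk hp' ha
    have heq : R ⊔ (Q : Subgroup G) = (Cfsg.pCore q (G ⧸ R)).comap (QuotientGroup.mk' R) := by
      rw [← hle, Subgroup.comap_map_eq, QuotientGroup.ker_mk', sup_comm]
    rw [heq]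
    infer_instance
  · -- `G/O_{q'}(G)` is solvable
    intro hKn
    show Group.IsSolvable (G ⧸ K)
    haveI := Fact.mk hp'
    set Gb := G ⧸ K
    set M := Cfsg.pCore q Gb with hM
    have hsurj : Function.Surjective (QuotientGroup.mk' K) := QuotientGroup.mk'_surjective K
    let Qb := Q.mapSurjective hsurj
    have hMQ : M = (Qb : Subgroup Gb) := le_antisymm (CfsgLib.Cores.pCore_le_sylow Qb)
      (Subgroup.map_le_iff_le_comap.mpr hQK)
    have hMel : ∀ m ∈ M, ∃ w ∈ (Q : Subgroup G), (w : Gb) = m := fun m hm => by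
      rw [hMQ] at hm; exact hm
    have hMc : ∀ a ∈ M, ∀ b ∈ M, Commute a b := by
      intro a ha b hb
      obtain ⟨a, ha', rfl⟩ := hMel a ha
      obtain ⟨b, hb', rfl⟩ := hMel b hb
      exact (hab a ha' b hb').map (QuotientGroup.mk' K)
    letI : CommGroup M := { (inferInstance : Group M) with
      mul_comm := fun a b => Subtype.ext (hMc a a.2 b b.2) }
    let ρ : Gb →* AddMonoid.End (Additive M) :=
      { toFun := fun g => MonoidHom.toAdditive ((MulAut.conjNormal g : MulAut M).toMonoidHom)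
        map_one' := by
          refine DFunLike.ext _ _ fun v => ?_
          show Additive.ofMul ((MulAut.conjNormal (1 : Gb) : MulAut M) v.toMul) = v
          simp
        map_mul' := fun g h => by
          refine DFunLike.ext _ _ fun v => ?_
          show Additive.ofMul ((MulAut.conjNormal (g * h) : MulAut M) v.toMul) =
            Additive.ofMul ((MulAut.conjNormal g : MulAut M) ((MulAut.conjNormal h : MulAut M) v.toMul))
          rw [map_mul]
          rfl }
    have hρ : ∀ (g : Gb) (v : Additive M), ρ g v = v ↔ g * (v.toMul : Gb) = (v.toMul : Gb) * g := by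
      intro g v
      show Additive.ofMul ((MulAut.conjNormal g : MulAut M) v.toMul) = v ↔ _
      rw [← mul_inv_eq_iff_eq_mul, ← MulAut.conjNormal_apply]
      exact ⟨fun h => congrArg (fun w : Additive M => (w.toMul : Gb)) h, fun h => Subtype.ext h⟩
    have hpp : CfsgLib.Frobenius.PPower.PPow ρ p := by
      intro v
      obtain ⟨w, hw, hwv⟩ := hMel _ v.toMul.2
      obtain ⟨a, ha⟩ := hp w hw
      obtain ⟨c, -, hc⟩ := (Nat.dvd_prime_pow hp').mp (ha ▸ index_mk_dvd K w)
      refine ⟨c, ?_⟩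
      rw [← hc]
      congr 1
      ext g
      rw [CfsgLib.Frobenius.PPower.mem_stab, hρ, Subgroup.mem_centralizer_singleton_iff, hwv]
    let τ : Gb ⧸ ρ.toHomUnits.ker →* AddMonoid.End (Additive M) :=
      (Units.coeHom _).comp (QuotientGroup.kerLift ρ.toHomUnits)
    have hMker : M ≤ ρ.toHomUnits.ker := fun m hm =>
      Units.ext (DFunLike.ext _ _ fun v => (hρ m v).mpr (hMc m hm _ v.toMul.2))
    haveI : Group.IsSolvable (Gb ⧸ ρ.toHomUnits.ker) :=
      CfsgLib.Frobenius.PPower.isSolvable_of_ppow (q := q) (p := p) (ρ := τ)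
        (fun v => CfsgLib.Cores.isPGroup_pCore q Gb (Multiplicative.toAdd v).toMul)
        (Units.val_injective.comp (QuotientGroup.kerLift_injective ρ.toHomUnits))
        (by
          rw [← Subgroup.index_eq_card]
          refine ((hq'.coprime_iff_not_dvd.mpr ?_)).symm
          intro h
          exact Qb.not_dvd_index (h.trans (Subgroup.index_dvd_of_le (hMQ ▸ hMker))))
        (fun v => by
          obtain ⟨a, ha⟩ := hpp v
          refine ⟨a, ?_⟩
          rw [← ha, ← Subgroup.index_comap_of_surjective (f := QuotientGroup.mk' ρ.toHomUnits.ker) _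
            (QuotientGroup.mk'_surjective _)]
          rfl)
    -- the kernel is `M`
    set C := ρ.toHomUnits.ker with hC
    have hCM : ∀ c ∈ C, ∀ m ∈ M, c * m = m * c := by
      intro c hc m hm
      exact (hρ c (Additive.ofMul ⟨m, hm⟩)).mp
        (DFunLike.congr_fun (congrArg Units.val (MonoidHom.mem_ker.mp hc)) _)
    haveI : Group.IsSolvable C := by
      let S : Sylow q C := Qb.subtype (hMQ ▸ hMker)
      have hS : ∀ s ∈ (S : Subgroup C), (s : Gb) ∈ M := fun s hs => by rw [hMQ]; exact hs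
      obtain ⟨P, N, hN, hc⟩ := CfsgLib.Frobenius.hasNormalPComplement_of_burnside (p := q) S
        (fun c _ => Subgroup.mem_centralizer_iff.mpr fun s hs =>
          Subtype.ext (hCM c c.2 _ (hS s hs)).symm)
      haveI := hN
      have hNcop : (Nat.card N).Coprime q := by
        refine (hq'.coprime_iff_not_dvd.mpr fun h => P.not_dvd_index ?_).symm
        rw [hc.index_eq_card]
        exact h
      have hNbot : N = ⊥ := by
        have h1 : N.map C.subtype ≤ Cfsg.pPrimeCore q Gb :=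
          (Subgroup.map_mono (CfsgLib.Cores.le_pPrimeCore hNcop)).trans
            (CfsgLib.Cores.map_subtype_pPrimeCore_le (Subgroup.Normal.isSubnormal inferInstance))
        rw [CfsgLib.Cores.pPrimeCore_quotient_pPrimeCore, le_bot_iff, Subgroup.map_eq_bot_iff,
          Subgroup.ker_subtype, le_bot_iff] at h1
        exact h1
      subst hNbot
      have hP : (P : Subgroup C) = ⊤ := Subgroup.isComplement'_bot_left.mp hc
      haveI : Group.IsNilpotent (P : Subgroup C) := P.2.isNilpotent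
      exact Group.isSolvable_of_surjective
        (f := (((MulEquiv.subgroupCongr hP).trans Subgroup.topEquiv) : (P : Subgroup C) ≃* C).toMonoidHom)
        (MulEquiv.surjective _)
    exact (Group.isSolvable_iff_subgroup_quotient C).mpr ⟨inferInstance, inferInstance⟩

end Cfsg.Agent.S4125
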