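import Cfsg.Statements.S4033
import Mathlib
import Cfsg.Agent.Lib.Subnormal.TwoRegularClassSizes
import Cfsg.Agent.Lib.Correspondences.PrincipalBlock

set_option autoImplicit false
set_option linter.style.haveILetI false
open Cfsg

namespace Cfsg.Agent.S4033

open CfsgLib.Subnormal.TwoSizes

theorem carrier_ncard {G : Type*} [Group G] [Finite G] (x : G) :
    (ConjClasses.mk x).carrier.ncard = (Cz x).index := by
  rw [← CfsgLib.Correspondences.natCard_carrier_eq_index, ← Nat.card_coe_set_eq]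
  exact Nat.card_congr (Equiv.subtypeEquivRight fun y => by
    rw [ConjClasses.mem_carrier_iff_mk_eq, ConjClasses.mk_eq_mk_iff_isConj]; exact isConj_comm)

/-- With two primes, the regular part of one centralizer is an abelian `p`-complement. -/
theorem abelian_complement {G : Type*} [Group G] [Finite G] {p m : ℕ} (H : OneSize p m G)
    (h2 : H.Two) {g : G} (hg : Reg p g) (hgc : g ∉ Subgroup.center G) :
    ∃ A : Subgroup G, IsMulCommutative A ∧ ¬ p ∣ Nat.card A ∧ ∃ k : ℕ, A.index = p ^ k := by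
  have hp := H.prime
  haveI := Fact.mk hp
  let A : Subgroup G :=
    { carrier := {h | h ∈ Cz g ∧ Cz g ≤ Cz h ∧ Reg p h}
      one_mem' := ⟨one_mem _, fun _ _ => mem_Cz.mpr (Commute.one_right _), by simp [Reg]⟩
      mul_mem' := by
        rintro a b ⟨ha, ha', har⟩ ⟨hb, hb', hbr⟩
        refine ⟨mul_mem ha hb, fun y hy => mem_Cz.mpr ((mem_Cz.mp (ha' hy)).mul_right
          (mem_Cz.mp (hb' hy))), ?_⟩
        exact Nat.Coprime.coprime_dvd_left
          (mem_Cz.mp (hb' ha) : Commute a b).orderOf_mul_dvd_mul_orderOf (har.mul_left hbr)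
      inv_mem' := by
        rintro a ⟨ha, ha', har⟩
        refine ⟨inv_mem ha, fun y hy => mem_Cz.mpr (mem_Cz.mp (ha' hy)).inv_right, ?_⟩
        show (orderOf a⁻¹).Coprime p
        rwa [orderOf_inv] }
  refine ⟨A, ⟨⟨fun a b => Subtype.ext (mem_Cz.mp (b.2.2.1 a.2.1)).eq⟩⟩, fun hd => ?_, _,
    Nat.eq_prime_pow_of_unique_prime_dvd Subgroup.index_ne_zero_of_finite fun {l} hl hld => ?_⟩
  · obtain ⟨x, hx⟩ := exists_prime_orderOf_dvd_card' p hd
    have h : (orderOf (x : G)).Coprime p := x.2.2.2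
    rw [Subgroup.orderOf_coe, hx, Nat.coprime_self] at h
    exact hp.ne_one h
  · by_contra hlp
    refine not_dvd_index_part H h2 hl hlp (not_dvd_size H h2 hl hlp hg hgc) hg hgc
      (hld.trans (Subgroup.index_dvd_of_le fun z hz => ?_))
    exact ⟨hz.1, hz.2.1, reg_of_pow hp hl hlp hz.2.2⟩

/-- With one prime `q`, the group is a `{p, q}`-group times a central factor. -/
theorem product_case {G : Type*} [Group G] [Finite G] {p q : ℕ} (hp : p.Prime) [Fact q.Prime]
    (hqp : q ≠ p) (hone : ∀ s : ℕ, s.Prime → s ≠ p → s ≠ q → ∀ x : G, ¬ NC s x)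
    (P : Sylow p G) (Q : Sylow q G) :
    ∃ A : Subgroup G,
        A ≤ Subgroup.center G ∧
        Nat.card ↥((P : Subgroup G) ⊔ (Q : Subgroup G)) = Nat.card P * Nat.card Q ∧
        ((P : Subgroup G) ⊔ (Q : Subgroup G)).Normal ∧
        ((P : Subgroup G) ⊔ (Q : Subgroup G)) ⊓ A = ⊥ ∧
        ((P : Subgroup G) ⊔ (Q : Subgroup G)) ⊔ A = ⊤ := by
  haveI := Fact.mk hp
  have hq : q.Prime := Fact.out
  let A : Subgroup G :=
    { carrier := {h | h ∈ Subgroup.center G ∧ (orderOf h).Coprime (p * q)}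
      one_mem' := ⟨one_mem _, by simp⟩
      mul_mem' := by
        rintro a b ⟨ha, har⟩ ⟨hb, hbr⟩
        exact ⟨mul_mem ha hb, Nat.Coprime.coprime_dvd_left
          (Commute.orderOf_mul_dvd_mul_orderOf (Subgroup.mem_center_iff.mp hb a))
          (har.mul_left hbr)⟩
      inv_mem' := by
        rintro a ⟨ha, har⟩
        exact ⟨inv_mem ha, by rwa [orderOf_inv]⟩ }
  have hAc : A ≤ Subgroup.center G := fun _ h => h.1
  haveI hAn : A.Normal := ⟨fun y hy g => by
    rw [Subgroup.mem_center_iff.mp hy.1 g, mul_inv_cancel_right]; exact hy⟩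
  -- the index of `A` involves only `p` and `q`
  have hidx : ∀ l : ℕ, l.Prime → l ∣ A.index → l = p ∨ l = q := by
    intro l hl hld
    by_contra hlpq
    push Not at hlpq
    haveI := Fact.mk hl
    obtain ⟨L⟩ : Nonempty (Sylow l G) := inferInstance
    refine L.not_dvd_index (hld.trans (Subgroup.index_dvd_of_le fun z hz => ?_))
    obtain ⟨k, hk⟩ := L.2 ⟨z, hz⟩
    have hk' : z ^ l ^ k = 1 := by simpa using congrArg Subtype.val hk
    refine ⟨by_contra fun h => hone l hl hlpq.1 hlpq.2 z ⟨h, k, hk'⟩, ?_⟩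
    exact Nat.Coprime.coprime_dvd_left (orderOf_dvd_of_pow_eq_one hk')
      (((Nat.coprime_primes hl hp).mpr hlpq.1).mul_right
        ((Nat.coprime_primes hl hq).mpr hlpq.2) |>.pow_left k)
  have hcard : ∀ l : ℕ, l.Prime → l ∣ Nat.card A → l ≠ p ∧ l ≠ q := by
    intro l hl hld
    haveI := Fact.mk hl
    obtain ⟨x, hx⟩ := exists_prime_orderOf_dvd_card' l hld
    have h : (orderOf (x : G)).Coprime (p * q) := x.2.2
    rw [Subgroup.orderOf_coe, hx] at h
    constructor <;> rintro rfl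
    · exact hl.ne_one ((Nat.coprime_self _).mp h.coprime_mul_right_right)
    · exact hl.ne_one ((Nat.coprime_self _).mp h.coprime_mul_left_right)
  have hco : (Nat.card A).Coprime A.index := Nat.coprime_of_dvd fun l hl h1 h2 => by
    rcases hidx l hl h2 with h | h
    · exact (hcard l hl h1).1 h
    · exact (hcard l hl h1).2 h
  obtain ⟨K, hK⟩ := Subgroup.exists_right_complement'_of_coprime hco
  haveI hKn : K.Normal := ⟨fun k hk g => by
    have hg : g ∈ A ⊔ K := by rw [hK.sup_eq_top]; trivial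
    obtain ⟨a, ha, k', hk', rfl⟩ := Subgroup.mem_sup_of_normal_left.mp hg
    have hca := Subgroup.mem_center_iff.mp (hAc ha) (k' * k * k'⁻¹)
    have : a * k' * k * (a * k')⁻¹ = k' * k * k'⁻¹ := by
      calc a * k' * k * (a * k')⁻¹ = a * (k' * k * k'⁻¹) * a⁻¹ := by group
        _ = _ := by rw [← hca, mul_inv_cancel_right]
    rw [this]
    exact mul_mem (mul_mem hk' hk) (inv_mem hk')⟩
  have hKidx : K.index = Nat.card A := hK.index_eq_card
  have hKcard : Nat.card K = A.index := hK.symm.index_eq_card.symm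
  -- `p`- and `q`-subgroups lie in `K`
  have hle : ∀ (l : ℕ), (l = p ∨ l = q) → ∀ S : Subgroup G, IsPGroup l S → S ≤ K := by
    intro l hl S hS x hx
    have hlp : l.Prime := by rcases hl with rfl | rfl <;> assumption
    obtain ⟨k, hk⟩ := hS ⟨x, hx⟩
    have h1 : (x : G ⧸ K) ^ l ^ k = 1 := by
      rw [← QuotientGroup.mk_pow, show x ^ l ^ k = 1 by simpa using congrArg Subtype.val hk]; rfl
    have h2 := orderOf_dvd_natCard (x : G ⧸ K)
    rw [← Subgroup.index_eq_card, hKidx] at h2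
    have hcop : (l ^ k).Coprime (Nat.card A) := ((hlp.coprime_iff_not_dvd).mpr fun hd => by
      rcases hl with h | h
      · exact (hcard l hlp hd).1 h
      · exact (hcard l hlp hd).2 h).pow_left k
    have h3 := Nat.dvd_gcd (orderOf_dvd_of_pow_eq_one h1) h2
    rw [hcop.gcd_eq_one] at h3
    exact (QuotientGroup.eq_one_iff x).mp (orderOf_eq_one_iff.mp (Nat.dvd_one.mp h3))
  have hPQ : (P : Subgroup G) ⊔ (Q : Subgroup G) ≤ K :=
    sup_le (hle p (Or.inl rfl) _ P.2) (hle q (Or.inr rfl) _ Q.2)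
  have hcop : (Nat.card P).Coprime (Nat.card Q) := by
    obtain ⟨i, hi⟩ := IsPGroup.iff_card.mp P.2
    obtain ⟨j, hj⟩ := IsPGroup.iff_card.mp Q.2
    rw [hi, hj]
    exact ((Nat.coprime_primes hp hq).mpr hqp.symm).pow i j
  have hd1 : Nat.card P * Nat.card Q ∣ Nat.card ↥((P : Subgroup G) ⊔ (Q : Subgroup G)) :=
    hcop.mul_dvd_of_dvd_of_dvd (Subgroup.card_dvd_of_le le_sup_left)
      (Subgroup.card_dvd_of_le le_sup_right)
  have hd2 : Nat.card K ∣ Nat.card P * Nat.card Q := by
    rw [Nat.dvd_iff_prime_pow_dvd_dvd]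
    intro l k hl hd
    rcases k with _ | k
    · simp
    have hlK : l ∣ Nat.card K := (dvd_pow_self l k.succ_ne_zero).trans hd
    rw [hKcard] at hlK
    rcases hidx l hl hlK with rfl | rfl
    · exact (P.pow_dvd_card_of_pow_dvd_card (hd.trans (Subgroup.card_subgroup_dvd_card K))).trans
        (dvd_mul_right _ _)
    · exact (Q.pow_dvd_card_of_pow_dvd_card (hd.trans (Subgroup.card_subgroup_dvd_card K))).trans
        (dvd_mul_left _ _)
  have hd3 := Subgroup.card_dvd_of_le hPQ
  have heq : (P : Subgroup G) ⊔ (Q : Subgroup G) = K :=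
    Subgroup.eq_of_le_of_card_ge hPQ (Nat.le_of_dvd Nat.card_pos (hd2.trans hd1))
  refine ⟨A, hAc, Nat.dvd_antisymm (hd3.trans hd2) hd1, heq ▸ hKn, ?_, ?_⟩
  · rw [heq]; exact disjoint_iff.mp hK.symm.disjoint
  · rw [heq]; exact hK.symm.sup_eq_top

/-- Let G be a finite group and p a prime, and suppose the conjugacy classes of p-regular elements of G (elements of order prime to p) have exactly two distinct sizes. Then either G has an abelian p-complement (an abelian subgroup of order prime to p and p-power index), or there are a prime q ≠ p, a Sylow p-subgroup P, a Sylow q-subgroup Q and a central subgroup A such that PQ is a normal subgroup of order #P·#Q and G is the internal direct product PQ × A. -/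
theorem result {G : Type*} [Group G] [Finite G] {p : ℕ} (hp : p.Prime)
    (h2 : Set.ncard (Set.range fun x : {x : G // (orderOf x).Coprime p} => (ConjClasses.mk (x : G)).carrier.ncard) = 2) :
    (∃ H : Subgroup G, IsMulCommutative H ∧ ¬ p ∣ Nat.card H ∧ ∃ k : ℕ, H.index = p ^ k) ∨
    (∃ (q : ℕ) (_ : Fact q.Prime) (P : Sylow p G) (Q : Sylow q G) (A : Subgroup G), q ≠ p ∧
        A ≤ Subgroup.center G ∧ Nat.card ↥((P : Subgroup G) ⊔ (Q : Subgroup G)) = Nat.card P * Nat.card Q ∧
        ((P : Subgroup G) ⊔ (Q : Subgroup G)).Normal ∧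
        ((P : Subgroup G) ⊔ (Q : Subgroup G)) ⊓ A = ⊥ ∧ ((P : Subgroup G) ⊔ (Q : Subgroup G)) ⊔ A = ⊤) := by
  classical
  set R := Set.range fun x : {x : G // (orderOf x).Coprime p} =>
    (ConjClasses.mk (x : G)).carrier.ncard with hR
  have hidx : ∀ x : G, Reg p x → (Cz x).index ∈ R := fun x hx =>
    ⟨⟨x, hx⟩, carrier_ncard x⟩
  have h1 : (1 : ℕ) ∈ R := by
    have := hidx 1 (by simp [Reg])
    rwa [Cz_eq_top.mpr (one_mem _), Subgroup.index_top] at this
  obtain ⟨a, b, hab, hRab⟩ := Set.ncard_eq_two.mp h2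
  obtain ⟨m, hm⟩ : ∃ m, R ⊆ {1, m} := by
    rw [hRab] at h1 ⊢
    rcases h1 with rfl | h1
    · exact ⟨b, subset_rfl⟩
    · obtain rfl : (1 : ℕ) = b := h1
      exact ⟨a, (Set.pair_comm a 1).subset⟩
  have hne : ∀ x : G, x ∉ Subgroup.center G → (Cz x).index ≠ 1 := fun x hx h =>
    hx (Cz_eq_top.mp (Subgroup.index_eq_one.mp h))
  have H : OneSize p m G := ⟨hp, fun g hg hgc =>
    ((hm (hidx g hg)).resolve_left (hne g hgc) : _)⟩
  obtain ⟨g, hg, hgc⟩ : ∃ g : G, Reg p g ∧ g ∉ Subgroup.center G := by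
    by_contra h
    push Not at h
    have hsub : R ⊆ {1} := by
      rintro _ ⟨⟨x, hx⟩, rfl⟩
      show (ConjClasses.mk x).carrier.ncard = 1
      rw [carrier_ncard, Cz_eq_top.mpr (h x hx), Subgroup.index_top]
    have := Set.ncard_le_ncard hsub
    simp [h2] at this
  obtain ⟨q, x, hq, hqp, hx, -⟩ := H.exists_primary hg hgc
  by_cases htwo : ∃ t, t ≠ q ∧ t.Prime ∧ t ≠ p ∧ ∃ y : G, NC t y
  · refine Or.inl (abelian_complement H (fun s => ?_) hg hgc)
    by_cases hs : s = q
    · exact hs ▸ htwo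
    · exact ⟨q, Ne.symm hs, hq, hqp, x, hx⟩
  · push Not at htwo
    haveI := Fact.mk hq
    haveI := Fact.mk hp
    obtain ⟨P⟩ : Nonempty (Sylow p G) := inferInstance
    obtain ⟨Q⟩ : Nonempty (Sylow q G) := inferInstance
    obtain ⟨A, hA⟩ := product_case hp hqp (fun s hs hsp hsq y hy => htwo s hsq hs hsp y hy) P Q
    exact Or.inr ⟨q, ⟨hq⟩, P, Q, A, hqp, hA⟩

end Cfsg.Agent.S4033
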