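import Cfsg.Statements.S4034
import Cfsg.Agent.Lib.Hall.Solvability
import Cfsg.Agent.Lib.CharTheory.Burnside
import Cfsg.Agent.Lib.CharTheory.Orthogonality
import Cfsg.Agent.Lib.NormalPComplement.Basic
import Cfsg.Agent.Lib.FixedPointFree.Basic
import Cfsg.Agent.Lib.BGAppendix.PiCore

set_option autoImplicit false
open Cfsg

namespace Cfsg.Agent.S4034

open scoped Pointwise

universe u

theorem ncard_carrier {G : Type*} [Group G] [Finite G] (x : G) :
    (ConjClasses.mk x).carrier.ncard = (Subgroup.centralizer ({x} : Set G)).index := by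
  haveI := Fintype.ofFinite G
  rw [← CfsgLib.CharTheory.card_isConj x, ← Nat.card_coe_set_eq]
  exact Nat.card_congr (Equiv.subtypeEquivRight fun y => by
    rw [ConjClasses.mem_carrier_iff_mk_eq, ConjClasses.mk_eq_mk_iff_isConj]
    exact isConj_comm)

/-- Every `p`-regular class has `p`-power size. -/
def PowClasses (p : ℕ) (G : Type*) [Group G] : Prop :=
  ∀ x : G, (orderOf x).Coprime p → ∃ k : ℕ, (Subgroup.centralizer ({x} : Set G)).index = p ^ k

theorem relIndex_dvd_index {G : Type*} [Group G] [Finite G] (H A : Subgroup G) [A.Normal] :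
    H.relIndex A ∣ H.index := by
  rw [← Subgroup.inf_relIndex_right]
  have h1 : Nat.card ↥(H ⊔ A) = Nat.card A * A.relIndex H := by
    rw [← Subgroup.relIndex_sup_right H A, ← Subgroup.relIndex_bot_left,
      ← Subgroup.relIndex_bot_left]
    exact (Subgroup.relIndex_mul_relIndex ⊥ A (H ⊔ A) bot_le le_sup_right).symm
  have hA : Nat.card ↥(H ⊓ A) * (H ⊓ A).relIndex A = Nat.card A := by
    rw [← Subgroup.relIndex_bot_left, ← Subgroup.relIndex_bot_left]
    exact Subgroup.relIndex_mul_relIndex ⊥ (H ⊓ A) A bot_le inf_le_right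
  have hHc : Nat.card ↥(H ⊓ A) * A.relIndex H = Nat.card H := by
    rw [← Subgroup.inf_relIndex_right A H, inf_comm A H, ← Subgroup.relIndex_bot_left,
      ← Subgroup.relIndex_bot_left]
    exact Subgroup.relIndex_mul_relIndex ⊥ (H ⊓ A) H bot_le inf_le_left
  refine ⟨(H ⊔ A).index, ?_⟩
  apply Nat.eq_of_mul_eq_mul_left (Nat.card_pos (α := H))
  rw [H.card_mul_index, ← (H ⊔ A).card_mul_index, h1, ← hA, ← hHc]
  ac_rfl

theorem powClasses_subgroup {p : ℕ} (hp : p.Prime) {G : Type*} [Group G] [Finite G]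
    (h : PowClasses p G) (N : Subgroup G) [N.Normal] : PowClasses p N := by
  intro x hx
  obtain ⟨k, hk⟩ := h x (by rwa [← orderOf_injective N.subtype N.subtype_injective x] at hx)
  have he : (Subgroup.centralizer ({(x : G)} : Set G)).subgroupOf N =
      Subgroup.centralizer ({x} : Set N) := by
    ext y
    simp [Subgroup.mem_subgroupOf, Subgroup.mem_centralizer_singleton_iff, Subtype.ext_iff]
  obtain ⟨j, -, hj⟩ := (Nat.dvd_prime_pow hp).mp (hk ▸ relIndex_dvd_index _ N)
  exact ⟨j, by rw [← he]; exact hj⟩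

theorem powClasses_map {p : ℕ} (hp : p.Prime) {G K : Type*} [Group G] [Finite G] [Group K]
    {f : G →* K} (hf : Function.Surjective f) (h : PowClasses p G) : PowClasses p K := by
  haveI := Fact.mk hp
  intro y hy
  obtain ⟨g, rfl⟩ := hf y
  obtain ⟨a, b, hab, ⟨i, hi⟩, hb⟩ :=
    CfsgLib.NormalPComplement.exists_pParts (p := p) (isOfFinOrder_of_finite g)
  have hfa : f (g ^ a) = 1 := by
    refine orderOf_eq_one_iff.mp (Nat.eq_one_of_dvd_coprimes (hy.pow_right i) ?_
      ((orderOf_map_dvd f _).trans hi))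
    rw [map_pow]
    exact orderOf_pow_dvd a
  have hfg : f g = f (g ^ b) := by
    conv_lhs => rw [← hab]
    rw [map_mul, hfa, one_mul]
  obtain ⟨k, hk⟩ := h _ hb
  have hle : (Subgroup.centralizer ({g ^ b} : Set G)).map f ≤
      Subgroup.centralizer ({f g} : Set K) := by
    rintro _ ⟨c, hc, rfl⟩
    rw [hfg, Subgroup.mem_centralizer_singleton_iff, ← map_mul, ← map_mul,
      Subgroup.mem_centralizer_singleton_iff.mp hc]
  obtain ⟨j, -, hj⟩ := (Nat.dvd_prime_pow hp).mp
    (hk ▸ (Subgroup.index_dvd_of_le hle).trans (Subgroup.index_map_dvd _ hf))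
  exact ⟨j, hj⟩

theorem isSolvable_of_powClasses {p : ℕ} (hp : p.Prime) {G : Type u} [Group G] [Finite G]
    (h : PowClasses p G) : Group.IsSolvable G := by
  haveI := Fact.mk hp
  induction hn : Nat.card G using Nat.strong_induction_on generalizing G with
  | _ n ih =>
    subst hn
    by_cases hex : ∃ N : Subgroup G, N.Normal ∧ N ≠ ⊥ ∧ N ≠ ⊤
    · obtain ⟨N, hN, h0, h1⟩ := hex
      haveI := ih _ (CfsgLib.FixedPointFree.card_lt_of_ne_top h1) (powClasses_subgroup hp h N) rfl
      haveI := ih _ (CfsgLib.FixedPointFree.card_quot_lt h0)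
        (powClasses_map hp (QuotientGroup.mk'_surjective N) h) rfl
      exact (Group.isSolvable_iff_subgroup_quotient N).mpr ⟨inferInstance, inferInstance⟩
    push Not at hex
    rcases subsingleton_or_nontrivial G with _ | _
    · infer_instance
    haveI : IsSimpleGroup G :=
      { eq_bot_or_eq_top_of_normal := fun N hN => or_iff_not_imp_left.mpr fun h0 => hex N hN h0 }
    by_cases hone : ∀ x : G, (orderOf x).Coprime p → x = 1
    · haveI : Group.IsNilpotent G := (show IsPGroup p G from fun g => by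
        obtain ⟨e, he⟩ := CfsgLib.NormalPComplement.exists_pow_coprime_orderOf (p := p)
          (isOfFinOrder_of_finite g)
        exact ⟨e, hone _ he⟩).isNilpotent
      infer_instance
    push Not at hone
    obtain ⟨x, hx, hx1⟩ := hone
    obtain ⟨k, hk⟩ := h x hx
    have hprime := CfsgLib.CharTheory.prime_card_of_index_centralizer_pow p k hp x hx1 hk
    haveI := Fact.mk hprime
    haveI := isCyclic_of_prime_card (α := G) rfl
    letI := IsCyclic.commGroup (α := G)
    exact Group.isSolvable_of_comm mul_comm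

theorem coprime_orderOf_of_mem {p : ℕ} (hp : p.Prime) {G : Type*} [Group G] {H : Subgroup G}
    (hH : ¬ p ∣ Nat.card H) {x : G} (hx : x ∈ H) : (orderOf x).Coprime p :=
  Nat.Coprime.coprime_dvd_left
    ((Nat.card_zpowers x).symm.dvd.trans (Subgroup.card_dvd_of_le (Subgroup.zpowers_le.mpr hx)))
    ((hp.coprime_iff_not_dvd.mpr hH).symm)

theorem not_dvd_card_of_hall {p : ℕ} (hp : p.Prime) {G : Type*} [Group G] {H : Subgroup G}
    (hH : IsPiHall {p}ᶜ H) : ¬ p ∣ Nat.card H := fun hd => hH.1 p hp hd rfl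

/-- Each element of a Hall `p'`-subgroup is centralised by a conjugate containing it. -/
theorem exists_conj_centralizer {p : ℕ} (hp : p.Prime) {G : Type*} [Group G] [Finite G]
    [Group.IsSolvable G] (h : PowClasses p G) {H : Subgroup G} (hH : IsPiHall {p}ᶜ H) {x : G}
    (hx : x ∈ H) : ∃ g : G, x ∈ MulAut.conj g • H ∧
      MulAut.conj g • H ≤ Subgroup.centralizer ({x} : Set G) := by
  obtain ⟨k, hk⟩ := h x (coprime_orderOf_of_mem hp (not_dvd_card_of_hall hp hH) hx)
  let C : Subgroup G := Subgroup.centralizer ({x} : Set G)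
  obtain ⟨L, hL⟩ := CfsgLib.Hall.exists_isPiHall (G := C) {p}ᶜ
  have hLG : IsPiHall {p}ᶜ (L.map C.subtype) := by
    rw [CfsgLib.Hall.isPiHall_iff, Subgroup.card_map_of_injective C.subtype_injective,
      Subgroup.index_map_subtype]
    refine ⟨(CfsgLib.Hall.isPiHall_iff.mp hL).1,
      (CfsgLib.Hall.isPiHall_iff.mp hL).2.mul fun q hq hd => ?_⟩
    rw [compl_compl]
    exact (Nat.prime_dvd_prime_iff_eq hq hp).mp (hq.dvd_of_dvd_pow (hk ▸ hd))
  obtain ⟨g, hg⟩ := CfsgLib.Hall.isPiHall_isConj hH hLG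
  have hle : MulAut.conj g • H ≤ C := hg ▸ Subgroup.map_subtype_le L
  refine ⟨g, ?_, hle⟩
  have hn : Subgroup.zpowers x ≤ Subgroup.normalizer ((MulAut.conj g • H : Subgroup G) : Set G) := by
    rw [Subgroup.zpowers_le]
    refine CfsgLib.CoprimeAction.mem_normalizer_of_conj_mem fun y hy => ?_
    have hyx : y * x = x * y := Subgroup.mem_centralizer_singleton_iff.mp (hle hy)
    rwa [← hyx, mul_inv_cancel_right]
  have hsup : IsPiSubgroup {p}ᶜ (Subgroup.zpowers x ⊔ MulAut.conj g • H) :=
    CfsgLib.BGAppendix.piSubgroup_sup_of_le_normalizer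
      (CfsgLib.BGAppendix.piSubgroup_mono hH.1 (Subgroup.zpowers_le.mpr hx))
      (CfsgLib.Hall.isPiHall_conj hH g).1 hn
  rw [CfsgLib.Hall.eq_of_isPiHall_le (CfsgLib.Hall.isPiHall_conj hH g) hsup le_sup_right]
  exact Subgroup.mem_sup_left (Subgroup.mem_zpowers x)

theorem exists_abelian_hall {p : ℕ} (hp : p.Prime) {G : Type u} [Group G] [Finite G]
    (h : PowClasses p G) :
    ∀ H : Subgroup G, IsPiHall {p}ᶜ H → IsMulCommutative H := by
  haveI := Fact.mk hp
  induction hn : Nat.card G using Nat.strong_induction_on generalizing G with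
  | _ n ih =>
    subst hn
    haveI := isSolvable_of_powClasses hp h
    intro H hH
    by_cases hO : pCore p G = ⊥
    · have hFH : ∀ g : G, fittingSubgroup G ≤ MulAut.conj g • H := by
        intro g
        rw [CfsgLib.Cores.fittingSubgroup_eq_iSup_pCore]
        refine iSup_le fun q => ?_
        have hq := Nat.prime_of_mem_primeFactors q.2
        by_cases hqp : (q : ℕ) = p
        · rw [hqp, hO]
          exact bot_le
        · have hn : MulAut.conj g • H ≤ Subgroup.normalizer (pCore (q : ℕ) G : Set G) := by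
            rw [Subgroup.normalizer_eq_top]
            exact le_top
          have hqπ : IsPiSubgroup {p}ᶜ (pCore (q : ℕ) G) := fun r hr hd => by
            haveI := Fact.mk hq
            obtain ⟨i, hi⟩ := IsPGroup.iff_card.mp (CfsgLib.Cores.isPGroup_pCore (q : ℕ) G)
            rw [(Nat.prime_dvd_prime_iff_eq hr hq).mp (hr.dvd_of_dvd_pow (hi ▸ hd))]
            exact hqp
          exact le_sup_right.trans (CfsgLib.Hall.eq_of_isPiHall_le (CfsgLib.Hall.isPiHall_conj hH g)
            (CfsgLib.BGAppendix.piSubgroup_sup_of_le_normalizer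
              (CfsgLib.Hall.isPiHall_conj hH g).1 hqπ hn) le_sup_left).ge
      have hHF : H ≤ fittingSubgroup G := by
        intro x hx
        obtain ⟨g, -, hg⟩ := exists_conj_centralizer hp h hH hx
        refine CfsgLib.Cores.centralizer_fittingSubgroup_le ?_
        exact Subgroup.mem_centralizer_iff.mpr fun y hy =>
          Subgroup.mem_centralizer_singleton_iff.mp (hg (hFH g hy))
      refine ⟨⟨fun a b => Subtype.ext ?_⟩⟩
      obtain ⟨g, -, hg⟩ := exists_conj_centralizer hp h hH a.2
      exact (Subgroup.mem_centralizer_singleton_iff.mp (hg (hFH g (hHF b.2)))).symm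
    · let q := QuotientGroup.mk' (pCore p G)
      have hq : Function.Surjective q := QuotientGroup.mk'_surjective _
      have := ih _ (CfsgLib.FixedPointFree.card_quot_lt hO) (powClasses_map hp hq h) rfl
        (H.map q) (CfsgLib.Hall.isPiHall_map hq hH)
      refine ⟨⟨fun a b => Subtype.ext ?_⟩⟩
      have hab : q ((a : G) * b * ((b : G) * a)⁻¹) = 1 := by
        rw [map_mul, map_inv, map_mul, map_mul, mul_inv_eq_one]
        exact congrArg Subtype.val (this.is_comm.comm ⟨_, Subgroup.mem_map_of_mem q a.2⟩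
          ⟨_, Subgroup.mem_map_of_mem q b.2⟩)
      have hmem : (a : G) * b * ((b : G) * a)⁻¹ ∈ H :=
        H.mul_mem (H.mul_mem a.2 b.2) (H.inv_mem (H.mul_mem b.2 a.2))
      have hd : Disjoint (pCore p G) H := by
        rw [disjoint_iff]
        refine Subgroup.inf_eq_bot_of_coprime ?_
        obtain ⟨i, hi⟩ := IsPGroup.iff_card.mp (CfsgLib.Cores.isPGroup_pCore p G)
        rw [hi]
        exact ((hp.coprime_iff_not_dvd.mpr (not_dvd_card_of_hall hp hH))).pow_left i
      exact mul_inv_eq_one.mp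
        (Subgroup.disjoint_def.mp hd ((QuotientGroup.eq_one_iff _).mp hab) hmem)

theorem isSolvable_of_abelian_complement {p : ℕ} (hp : p.Prime) {G : Type u} [Group G] [Finite G]
    (H : Subgroup G) (hab : IsMulCommutative H) (hH : IsPiHall {p}ᶜ H) : Group.IsSolvable G := by
  haveI := Fact.mk hp
  induction hn : Nat.card G using Nat.strong_induction_on generalizing G with
  | _ n ih =>
    subst hn
    haveI := hab
    by_cases hex : ∃ N : Subgroup G, N.Normal ∧ N ≠ ⊥ ∧ N ≠ ⊤
    · obtain ⟨N, hN, h0, h1⟩ := hex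
      have habN : IsMulCommutative ((H ⊓ N).subgroupOf N) :=
        ⟨⟨fun a b => Subtype.ext (Subtype.ext (congrArg Subtype.val
          (mul_comm' (⟨_, (Subgroup.mem_subgroupOf.mp a.2).1⟩ : H)
            ⟨_, (Subgroup.mem_subgroupOf.mp b.2).1⟩) : _))⟩⟩
      haveI := ih _ (CfsgLib.FixedPointFree.card_lt_of_ne_top h1) _ habN
        (CfsgLib.Hall.isPiHall_inf_subgroupOf hH) rfl
      haveI := ih _ (CfsgLib.FixedPointFree.card_quot_lt h0) (H.map (QuotientGroup.mk' N))
        (Subgroup.map_isMulCommutative H _)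
        (CfsgLib.Hall.isPiHall_map (QuotientGroup.mk'_surjective N) hH) rfl
      exact (Group.isSolvable_iff_subgroup_quotient N).mpr ⟨inferInstance, inferInstance⟩
    push Not at hex
    rcases subsingleton_or_nontrivial G with _ | _
    · infer_instance
    haveI : IsSimpleGroup G :=
      { eq_bot_or_eq_top_of_normal := fun N hN => or_iff_not_imp_left.mpr fun h0 => hex N hN h0 }
    obtain ⟨k, hk⟩ : ∃ k : ℕ, H.index = p ^ k :=
      ⟨_, CfsgLib.Hall.index_eq_ordProj_of_isPiHall hp hH⟩
    by_cases hone : H = ⊥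
    · rw [hone, Subgroup.index_bot] at hk
      haveI : Group.IsNilpotent G := (IsPGroup.of_card hk).isNilpotent
      infer_instance
    obtain ⟨⟨x, hx⟩, hx1⟩ := Subgroup.ne_bot_iff_exists_ne_one.mp hone
    have hle : H ≤ Subgroup.centralizer ({x} : Set G) := fun y hy =>
      Subgroup.mem_centralizer_singleton_iff.mpr
        (congrArg Subtype.val (mul_comm' (⟨y, hy⟩ : H) ⟨x, hx⟩))
    obtain ⟨j, -, hj⟩ := (Nat.dvd_prime_pow hp).mp (hk ▸ Subgroup.index_dvd_of_le hle)
    have hprime := CfsgLib.CharTheory.prime_card_of_index_centralizer_pow p j hp x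
      (fun e => hx1 (Subtype.ext e)) hj
    haveI := Fact.mk hprime
    haveI := isCyclic_of_prime_card (α := G) rfl
    letI := IsCyclic.commGroup (α := G)
    exact Group.isSolvable_of_comm mul_comm


/-- Let G be a finite group and p a prime. Every conjugacy class of p-regular elements of G (elements of order prime to p) has p-power size if and only if G has an abelian p-complement, i.e. an abelian subgroup of order prime to p and p-power index. -/
theorem result {G : Type*} [Group G] [Finite G] {p : ℕ} (hp : p.Prime) :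
    (∀ x : G, (orderOf x).Coprime p → ∃ k : ℕ, (ConjClasses.mk x).carrier.ncard = p ^ k) ↔
    (∃ H : Subgroup G, IsMulCommutative H ∧ ¬ p ∣ Nat.card H ∧ ∃ k : ℕ, H.index = p ^ k) := by
  haveI := Fact.mk hp
  constructor
  · intro h
    have h' : PowClasses p G := fun x hx => by
      obtain ⟨k, hk⟩ := h x hx
      exact ⟨k, by rw [← ncard_carrier, hk]⟩
    haveI := isSolvable_of_powClasses hp h'
    obtain ⟨H, hH⟩ := CfsgLib.Hall.exists_isPiHall (G := G) {p}ᶜ
    exact ⟨H, exists_abelian_hall hp h' H hH, not_dvd_card_of_hall hp hH,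
      _, CfsgLib.Hall.index_eq_ordProj_of_isPiHall hp hH⟩
  · rintro ⟨H, hab, hpH, k, hk⟩ x hx
    have hH : IsPiHall {p}ᶜ H := CfsgLib.Hall.isPiHall_iff.mpr
      ⟨fun q _ hd hqp => hpH (hqp ▸ hd), fun q hq hd => by
        rw [compl_compl]
        exact (Nat.prime_dvd_prime_iff_eq hq hp).mp (hq.dvd_of_dvd_pow (hk ▸ hd))⟩
    haveI := isSolvable_of_abelian_complement hp H hab hH
    have hU : IsPiSubgroup {p}ᶜ (Subgroup.zpowers x) := fun q hq hd hqp => by
      rw [Nat.card_zpowers] at hd
      exact hp.coprime_iff_not_dvd.mp hx.symm (hqp ▸ hd)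
    obtain ⟨g, hg⟩ := CfsgLib.Hall.exists_le_conj_isPiHall hH hU
    haveI := hab
    have hle : MulAut.conj g • H ≤ Subgroup.centralizer ({x} : Set G) := fun y hy => by
      rw [Subgroup.mem_centralizer_singleton_iff]
      obtain ⟨a, ha, rfl⟩ := hy
      obtain ⟨b, hb, hbx⟩ := hg (Subgroup.mem_zpowers x)
      rw [← hbx]
      change MulAut.conj g a * MulAut.conj g b = MulAut.conj g b * MulAut.conj g a
      rw [← map_mul, ← map_mul]
      exact congrArg _ (congrArg Subtype.val (mul_comm' (⟨a, ha⟩ : H) ⟨b, hb⟩))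
    obtain ⟨j, -, hj⟩ := (Nat.dvd_prime_pow hp).mp
      (((CfsgLib.Hall.index_conj_smul g H).trans hk) ▸ Subgroup.index_dvd_of_le hle)
    exact ⟨j, by rw [ncard_carrier, hj]⟩

end Cfsg.Agent.S4034
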