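import Cfsg.Statements.S0346
import Cfsg.Agent.Lib.SharplyEven.Feit
import Cfsg.Agent.Lib.SharplyEven.Main
import Cfsg.Agent.Lib.AltGroups.ZassenhausEven
import Cfsg.Agent.S0738
import Mathlib.FieldTheory.Finite.Basic

set_option autoImplicit false
open Cfsg

namespace Cfsg.Agent.S0346

/-- The number of points of a finite simple Zassenhaus group is `p^k + 1` for some prime power `p^k` (the regular normal
subgroup of a point stabiliser is a `p`-group). -/
theorem result {G Ω : Type*} [Group G] [Finite G] [MulAction G Ω] [Fintype Ω]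
    (hZ : Cfsg.IsZassenhausGroup G Ω) [IsSimpleGroup G] :
    IsPrimePow (Fintype.card Ω - 1) := by
  classical
  have h3 := CfsgLib.RealChar.Zassenhaus.three_le_card hZ
  obtain ⟨a, b, hab⟩ := Fintype.exists_pair_of_one_lt_card (show 1 < Fintype.card Ω by omega)
  rcases Nat.even_or_odd (Nat.card (MulAction.stabilizer G a ⊓ MulAction.stabilizer G b : Subgroup G)) with he | ho
  · obtain ⟨F, hFle, hFn, hFab, hreg⟩ :=
      CfsgLib.AltGroups.exists_kernel_of_even hZ (Ne.symm hab) he
    rcases CfsgLib.AltGroups.zassenhaus_abelian_kernel_even hZ (Ne.symm hab) F hFle hFn hFab hreg he with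
      h | ⟨-, K, instK, instKF, -, hK, -⟩
    · exact absurd ‹IsSimpleGroup G› ((CfsgLib.SharplyEven.Sharp.of_card hab hZ h
        (h ▸ he.add even_two)).not_simple hZ)
    · rw [← hK, Nat.add_sub_cancel]
      exact FiniteField.isPrimePow_card K
  obtain ⟨H, hHa, hHc, hHf⟩ := CfsgLib.RealChar.Zassenhaus.exists_kernel_subgroup hZ a
  obtain ⟨h, hh⟩ : ∃ h, Fintype.card Ω = h + 1 := ⟨Fintype.card Ω - 1, by omega⟩
  rw [hh, Nat.add_sub_cancel]
  by_cases hle : h - 1 ≤ 2 * Nat.card (MulAction.stabilizer G a ⊓ MulAction.stabilizer G b : Subgroup G)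
  · have hn := CfsgLib.CyclicTI.TIInd.subgroupOf_normal (H := H) (L := MulAction.stabilizer G a)
      fun x hx u hu => CfsgLib.RealChar.Zassenhaus.kernel_conj_mem hZ a H hHa hHc hHf hx hu
    have hreg : ∀ y z : Ω, y ≠ a → z ≠ a → ∃! u : H, (u : G) • y = z := by
      intro y z hy hz
      obtain ⟨u, hu, huz⟩ := CfsgLib.SharplyEven.kernel_regular hZ a H hHa hHc hHf hy hz
      refine ⟨⟨u, hu⟩, huz, fun v hv => Subtype.ext ?_⟩
      by_contra hne
      refine hy (hHf _ (mul_mem (inv_mem hu) v.2) (fun e => hne (inv_mul_eq_one.1 e).symm) y ?_)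
      rw [mul_smul, hv, inv_smul_eq_iff, huz]
    obtain ⟨-, p, f, hp, -, hcard⟩ := Cfsg.Agent.S0738.result hZ hab (by omega) H hHa hn hreg
    have hf : h = p ^ f := by omega
    rw [isPrimePow_nat_iff]
    refine ⟨p, f, hp, ?_, hf.symm⟩
    rcases Nat.eq_zero_or_pos f with rfl | hf0
    · simp at hf; omega
    · exact hf0
  · obtain ⟨h2, -, -⟩ := (CfsgLib.SharplyEven.Feit.main hZ hab h _ hh rfl ho H hHa hHc hHf).resolve_left hle
    haveI : Fact (Nat.Prime 2) := ⟨Nat.prime_two⟩
    obtain ⟨m, hm⟩ := IsPGroup.iff_card.1 h2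
    have hh' : h = 2 ^ m := by omega
    rw [isPrimePow_nat_iff]
    refine ⟨2, m, Nat.prime_two, ?_, hh'.symm⟩
    rcases Nat.eq_zero_or_pos m with rfl | hm0
    · simp at hh'; omega
    · exact hm0

end Cfsg.Agent.S0346
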