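import Cfsg.Statements.S0015


set_option autoImplicit false
open Cfsg

namespace Cfsg.Agent.S0015

theorem exists_center_inf_ne_bot {Q : Type*} [Group Q] [Group.IsNilpotent Q] (C : Subgroup Q)
    [hC : C.Normal] (hne : C ≠ ⊥) : C ⊓ Subgroup.center Q ≠ ⊥ := by
  obtain ⟨n, hn⟩ := Group.IsNilpotent.nilpotent (G := Q)
  intro hbot
  suffices h : ∀ k, C ⊓ Subgroup.upperCentralSeries Q k = ⊥ by
    exact hne (by simpa [hn] using h n)
  intro k
  induction k with
  | zero => simp
  | succ k ih =>
    refine eq_bot_iff.mpr fun x hx => ?_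
    have hz : x ∈ Subgroup.center Q := Subgroup.mem_center_iff.mpr fun g => by
      have h1 : x * g * x⁻¹ * g⁻¹ ∈ C ⊓ Subgroup.upperCentralSeries Q k := by
        refine ⟨?_, Subgroup.mem_upperCentralSeries_succ_iff.mp hx.2 g⟩
        rw [mul_assoc, mul_assoc, ← mul_assoc g]
        exact C.mul_mem hx.1 (hC.conj_mem _ (C.inv_mem hx.1) g)
      rw [ih, Subgroup.mem_bot] at h1
      calc g * x = (x * g * x⁻¹ * g⁻¹) * (g * x) := by rw [h1, one_mul]
        _ = x * g := by group
    exact hbot ▸ ⟨hx.1, hz⟩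

/-- In a finite nilpotent group, an abelian normal subgroup that is maximal among abelian normal subgroups equals its own centralizer. -/
theorem result {G : Type*} [Group G] [Finite G] [Group.IsNilpotent G]
    (N : Subgroup G) [N.Normal] [IsMulCommutative N]
    (hmax : ∀ M : Subgroup G, M.Normal → IsMulCommutative M → N ≤ M → M = N) :
    Subgroup.centralizer (N : Set G) = N := by
  refine le_antisymm ?_ (Subgroup.le_centralizer N)
  intro x hx
  by_contra hxN
  -- the centralizer is normal; its image in the quotient meets the centre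
  have hC : (Subgroup.centralizer (N : Set G)).Normal := inferInstance
  haveI : Group.IsNilpotent (G ⧸ N) := Group.nilpotent_quotient_of_nilpotent N
  let q : G →* G ⧸ N := QuotientGroup.mk' N
  let Cb : Subgroup (G ⧸ N) := (Subgroup.centralizer (N : Set G)).map q
  have hne : Cb ≠ ⊥ := by
    rw [Ne, Subgroup.map_eq_bot_iff, QuotientGroup.ker_mk']
    exact fun h => hxN (h hx)
  haveI : Cb.Normal := hC.map q (QuotientGroup.mk'_surjective N)
  obtain ⟨z, hzC, hzZ, hz1⟩ : ∃ z, z ∈ Cb ∧ z ∈ Subgroup.center (G ⧸ N) ∧ z ≠ 1 := by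
    obtain ⟨⟨z, hz⟩, hz1⟩ := Subgroup.ne_bot_iff_exists_ne_one.mp
      (exists_center_inf_ne_bot Cb hne)
    replace hz1 : z ≠ 1 := fun h => hz1 (Subtype.ext h)
    exact ⟨z, hz.1, hz.2, hz1⟩
  obtain ⟨y, hy, rfl⟩ := hzC
  have hyN : y ∉ N := fun h => hz1 ((QuotientGroup.eq_one_iff y).mpr h)
  let M : Subgroup G := (Subgroup.zpowers (q y)).comap q
  have hNM : N ≤ M := fun n hn => by
    have : q n = 1 := (QuotientGroup.eq_one_iff n).mpr hn
    rw [Subgroup.mem_comap, this]
    exact one_mem _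
  have hMn : M.Normal := by
    haveI : (Subgroup.zpowers (q y)).Normal :=
      ⟨fun a ha b => by
        have : a ∈ Subgroup.center (G ⧸ N) := (Subgroup.zpowers_le.mpr hzZ) ha
        rw [Subgroup.mem_center_iff.mp this b, mul_inv_cancel_right]
        exact ha⟩
    infer_instance
  have hdec : ∀ m ∈ M, ∃ i : ℤ, ∃ n ∈ N, m = y ^ i * n := by
    intro m hm
    obtain ⟨i, hi⟩ := Subgroup.mem_zpowers_iff.mp hm
    refine ⟨i, (y ^ i)⁻¹ * m, ?_, by simp⟩
    rw [← map_zpow] at hi
    exact QuotientGroup.eq.mp hi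
  have hcomm : IsMulCommutative M := by
    refine ⟨⟨fun a b => Subtype.ext ?_⟩⟩
    obtain ⟨i, m, hm, ha⟩ := hdec a a.2
    obtain ⟨j, n, hn, hb⟩ := hdec b b.2
    change (a : G) * b = b * a
    rw [ha, hb]
    have h1 : Commute m (y ^ j) :=
      (show Commute m y from Subgroup.mem_centralizer_iff.mp hy m hm).zpow_right j
    have h2 : Commute (y ^ i) n :=
      ((show Commute n y from Subgroup.mem_centralizer_iff.mp hy n hn).zpow_right i).symm
    have h3 : Commute m n :=
      congrArg Subtype.val (mul_comm' (⟨m, hm⟩ : N) (⟨n, hn⟩ : N))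
    have h4 : Commute (y ^ i * m) (y ^ j * n) :=
      ((Commute.zpow_zpow_self y i j).mul_right h2).mul_left (h1.mul_right h3)
    exact h4.eq
  have hyM : y ∈ M := Subgroup.mem_zpowers (q y)
  exact hyN ((hmax M hMn hcomm hNM) ▸ hyM)

end Cfsg.Agent.S0015
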