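import Cfsg.Statements.S4249
import Cfsg.Agent.Lib.FixedPointFree.Splitting
import Cfsg.Agent.Lib.Cores.PCore
import Cfsg.Agent.Lib.Cores.Basic
import Cfsg.Agent.S0015

set_option autoImplicit false
open Cfsg

namespace Cfsg.Agent.S4249

open scoped IsMulCommutative

/-- Two commuting automorphisms `A`, `Z` of exponent `p`: if `Z` fixes only `1` and every
`A * Z ^ j` satisfies the product identity, the group has exponent `p`. -/
theorem pow_eq_one_of_lines {F : Type*} [CommGroup F] {p : ℕ} (hp : p.Prime) (A Z : MulAut F)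
    (hAZ : Commute A Z) (hZp : Z ^ p = 1) (hfix : ∀ w, Z w = w → w = 1)
    (hlines : ∀ (j : ℕ) (v : F), ∏ i ∈ Finset.range p, ((A * Z ^ j) ^ i : MulAut F) v = 1)
    (v : F) : v ^ p = 1 := by
  have hterm : ∀ i j : ℕ, ((A * Z ^ j) ^ i : MulAut F) v = (Z ^ (i * j) : MulAut F) ((A ^ i : MulAut F) v) := by
    intro i j
    rw [(hAZ.pow_right j).mul_pow, ← pow_mul, mul_comm j i, (hAZ.pow_pow i (i * j)).eq,
      MulAut.mul_apply]
  have hN : ∀ i : ℕ, ¬ p ∣ i → ∀ w : F, ∏ j ∈ Finset.range p, (Z ^ (i * j) : MulAut F) w = 1 := by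
    intro i hi w
    let f : ℕ → F := fun j => (Z ^ (i * j) : MulAut F) w
    have hf : f p = f 0 := by simp [f, pow_mul', hZp]
    have hshift : (Z ^ i : MulAut F) (∏ j ∈ Finset.range p, f j) = ∏ j ∈ Finset.range p, f j := by
      rw [map_prod]
      have h1 : ∀ j, (Z ^ i : MulAut F) (f j) = f (j + 1) := fun j => by
        simp only [f]
        rw [← MulAut.mul_apply, ← pow_add]
        congr 2
        ring
      simp only [h1]
      have h2 := (Finset.prod_range_succ' f p).symm.trans (Finset.prod_range_succ f p)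
      rw [hf] at h2
      exact mul_right_cancel h2
    refine hfix _ ?_
    have h1 : Z ∈ Subgroup.zpowers (Z ^ i) := by
      rw [mem_zpowers_pow_iff]
      exact ((hp.coprime_iff_not_dvd.mpr hi).symm).coprime_dvd_right (orderOf_dvd_of_pow_eq_one hZp)
    have hle : Subgroup.zpowers (Z ^ i) ≤ MulAction.stabilizer (MulAut F) (∏ j ∈ Finset.range p, f j) :=
      Subgroup.zpowers_le.mpr hshift
    exact hle h1
  have hall : ∏ i ∈ Finset.range p, ∏ j ∈ Finset.range p, ((A * Z ^ j) ^ i : MulAut F) v = 1 := by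
    rw [Finset.prod_comm]
    exact Finset.prod_eq_one fun j _ => hlines j v
  simp only [hterm] at hall
  rw [← Finset.mul_prod_erase _ _ (Finset.mem_range.mpr hp.pos),
    Finset.prod_eq_one (s := (Finset.range p).erase 0) (fun i hi => by
      rw [Finset.mem_erase, Finset.mem_range] at hi
      exact hN i (fun hd => hi.1 (Nat.eq_zero_of_dvd_of_lt hd hi.2)) _), mul_one] at hall
  simpa using hall

/-- Conjugation by a subgroup normalizing `F`. -/
def conjHom {G : Type*} [Group G] (F V : Subgroup G)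
    (h : V ≤ Subgroup.normalizer (F : Set G)) : V →* MulAut F where
  toFun v :=
    { toFun := fun w => ⟨v * w * (v : G)⁻¹, CfsgLib.CoprimeAction.conj_mem (h v.2) w.2⟩
      invFun := fun w => ⟨(v : G)⁻¹ * w * v, CfsgLib.CoprimeAction.conj_mem' (h v.2) w.2⟩
      left_inv := fun w => Subtype.ext (by simp [mul_assoc])
      right_inv := fun w => Subtype.ext (by simp [mul_assoc])
      map_mul' := fun w u => Subtype.ext (by simp [mul_assoc]) }
  map_one' := MulEquiv.ext fun w => Subtype.ext (by simp)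
  map_mul' v u := MulEquiv.ext fun w => Subtype.ext (by simp [MulAut.mul_apply, mul_assoc])

theorem conjHom_apply {G : Type*} [Group G] {F V : Subgroup G}
    (h : V ≤ Subgroup.normalizer (F : Set G)) (v : V) (w : F) :
    ((conjHom F V h v w : F) : G) = v * w * (v : G)⁻¹ := rfl

/-- The heart of the index statement. -/
theorem card_quotient_le {G : Type*} [Group G] [Finite G] {p : ℕ} [hp : Fact p.Prime]
    (V : Subgroup G) (hV : IsPGroup p V) (W : Subgroup V) [W.Normal]
    (hWp : ∀ v : V, v ∉ W → v ^ p = 1) (C : Subgroup G) [IsMulCommutative C] (hC : C ≠ ⊥)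
    (hcop : (Nat.card C).Coprime p) (hVC : V ≤ Subgroup.normalizer (C : Set G))
    (hline : ∀ v : V, v ∉ W → ∀ w ∈ C,
      ((List.range p).map fun i : ℕ => (v : G) ^ i * w * ((v : G) ^ i)⁻¹).prod = 1) :
    Nat.card (V ⧸ W) ≤ p := by
  classical
  by_contra hcon
  push Not at hcon
  obtain ⟨F, hF⟩ : ∃ F, Minimal
      (fun F : Subgroup G => F ≤ C ∧ F ≠ ⊥ ∧ V ≤ Subgroup.normalizer (F : Set G)) F :=
    Set.Finite.exists_minimal (Set.toFinite _) ⟨C, le_rfl, hC, hVC⟩
  obtain ⟨hFC, hF1, hVF⟩ := hF.prop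
  haveI : IsMulCommutative F :=
    ⟨⟨fun a b => Subtype.ext (congrArg Subtype.val
      (mul_comm' (⟨a, hFC a.2⟩ : C) ⟨b, hFC b.2⟩) : _)⟩⟩
  let ρ : V →* MulAut F := conjHom F V hVF
  have hFp : ∀ w : F, w ^ p = 1 → w = 1 := by
    intro w hw
    have h2 : w ^ Nat.card F = 1 := pow_card_eq_one'
    have h4 : w ^ Nat.gcd (Nat.card F) p = 1 := pow_gcd_eq_one.mpr ⟨h2, hw⟩
    rwa [(hcop.coprime_dvd_left (Subgroup.card_dvd_of_le hFC)).gcd_eq_one, pow_one] at h4
  have hfpf : ∀ v : V, v ∉ W → ∀ w : F, ρ v w = w → w = 1 := by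
    intro v hv w hw
    refine hFp w (Subtype.ext ?_)
    have hcomm : Commute (v : G) (w : G) := mul_inv_eq_iff_eq_mul.mp (congrArg Subtype.val hw)
    have h := hline v hv w (hFC w.2)
    have h2 : ∀ i : ℕ, (v : G) ^ i * w * ((v : G) ^ i)⁻¹ = w := fun i => by
      rw [(hcomm.pow_left i).eq, mul_inv_cancel_right]
    simp only [h2] at h
    simpa using h
  obtain ⟨w₀, hw₀⟩ := Subgroup.ne_bot_iff_exists_ne_one.mp hF1
  have hker : ρ.ker ≤ W := by
    intro v hv
    by_contra hvW
    exact hw₀ (hfpf v hvW w₀ (by rw [MonoidHom.mem_ker.mp hv, MulAut.one_apply]))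
  -- a central element modulo the kernel, of order dividing `p`, without fixed points
  obtain ⟨z, hzp, hzfix, hzcomm, hzW⟩ : ∃ z : V, (ρ z) ^ p = 1 ∧ (∀ w, ρ z w = w → w = 1) ∧
      (∀ v, Commute (ρ v) (ρ z)) ∧ (W ⊔ Subgroup.zpowers z ≠ ⊤) := by
    have hsmall : ∀ z : V, z ^ p ∈ W → W ⊔ Subgroup.zpowers z ≠ ⊤ := by
      intro z hz htop
      have h1 : Subgroup.zpowers (QuotientGroup.mk' W z) = ⊤ := by
        rw [← MonoidHom.map_zpowers, ← Subgroup.map_top_of_surjective _ (QuotientGroup.mk'_surjective W),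
          ← htop, Subgroup.map_sup, QuotientGroup.map_mk'_self, bot_sup_eq]
      have h2 : orderOf (QuotientGroup.mk' W z) ∣ p :=
        orderOf_dvd_of_pow_eq_one (by rw [← map_pow]; exact (QuotientGroup.eq_one_iff _).mpr hz)
      rw [← Nat.card_zpowers, h1, Subgroup.card_top] at h2
      exact absurd (Nat.le_of_dvd hp.out.pos h2) (not_le.mpr hcon)
    by_cases hWK : W ≤ ρ.ker
    · haveI : Nontrivial (V ⧸ W) := Finite.one_lt_card_iff_nontrivial.mp (hp.out.one_lt.trans hcon)
      obtain ⟨⟨zq, hzq⟩, hzq1⟩ := Subgroup.ne_bot_iff_exists_ne_one.mp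
        (bot_lt_iff_ne_bot.mp (hV.to_quotient W).bot_lt_center)
      obtain ⟨z, rfl⟩ := QuotientGroup.mk_surjective zq
      have hzW : z ∉ W := fun hz => hzq1 (Subtype.ext ((QuotientGroup.eq_one_iff z).mpr hz))
      refine ⟨z, by rw [← map_pow, hWp z hzW, map_one], hfpf z hzW, fun v => ?_,
        hsmall z (by rw [hWp z hzW]; exact one_mem _)⟩
      have h1 : (v * z) * (z * v)⁻¹ ∈ ρ.ker := hWK <| (QuotientGroup.eq_one_iff _).mp <| by
        rw [QuotientGroup.mk_mul, QuotientGroup.mk_inv, mul_inv_eq_one, QuotientGroup.mk_mul,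
          QuotientGroup.mk_mul]
        exact Subgroup.mem_center_iff.mp hzq v
      rw [MonoidHom.mem_ker, map_mul, map_inv, mul_inv_eq_one, map_mul, map_mul] at h1
      exact h1
    · have hrange : IsPGroup p ρ.range := hV.of_surjective ρ.rangeRestrict ρ.rangeRestrict_surjective
      haveI := hrange.isNilpotent
      let Wb : Subgroup ρ.range := W.map ρ.rangeRestrict
      haveI : Wb.Normal := Subgroup.Normal.map inferInstance _ ρ.rangeRestrict_surjective
      have hWb : Wb ≠ ⊥ := by
        rw [Ne, Subgroup.map_eq_bot_iff, MonoidHom.ker_rangeRestrict]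
        exact hWK
      obtain ⟨⟨c, hcW, hcZ⟩, hc1⟩ :=
        Subgroup.ne_bot_iff_exists_ne_one.mp (Cfsg.Agent.S0015.exists_center_inf_ne_bot Wb hWb)
      replace hc1 : c ≠ 1 := fun e => hc1 (Subtype.ext e)
      obtain ⟨k, hk⟩ := hrange c
      -- replace `c` by a power of order `p`
      obtain ⟨m, hm⟩ := Nat.exists_eq_succ_of_ne_zero
        (show Nat.find ⟨k, hk⟩ ≠ 0 from fun e => hc1 (by
          have := Nat.find_spec (⟨k, hk⟩ : ∃ k, c ^ p ^ k = 1)
          rwa [e, pow_zero, pow_one] at this))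
      have hd1 : c ^ p ^ m ≠ 1 :=
        Nat.find_min (⟨k, hk⟩ : ∃ k, c ^ p ^ k = 1) (by rw [hm]; exact Nat.lt_succ_self m)
      have hdp : (c ^ p ^ m) ^ p = 1 := by
        rw [← pow_mul, ← pow_succ, ← Nat.succ_eq_add_one, ← hm]
        exact Nat.find_spec (⟨k, hk⟩ : ∃ k, c ^ p ^ k = 1)
      obtain ⟨z, hzW, hz⟩ := Wb.pow_mem hcW (p ^ m)
      have hzv : ρ z = ((c ^ p ^ m : ρ.range) : MulAut F) := congrArg Subtype.val hz
      have hcomm : ∀ v, Commute (ρ v) (ρ z) := fun v => by
        rw [hzv]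
        exact congrArg Subtype.val
          (Subgroup.mem_center_iff.mp (pow_mem hcZ (p ^ m)) ⟨ρ v, v, rfl⟩)
      refine ⟨z, ?_, ?_, hcomm, hsmall z (W.pow_mem hzW p)⟩
      · rw [hzv, ← Subgroup.coe_pow, hdp, Subgroup.coe_one]
      · intro w hw
        by_contra hw1
        let F' : Subgroup G :=
          (MonoidHom.eqLocus (ρ z).toMonoidHom (MonoidHom.id F)).map F.subtype
        have hF'1 : F' ≠ ⊥ := by
          rw [Ne, Subgroup.map_eq_bot_iff_of_injective _ F.subtype_injective]
          exact fun e => hw1 ((Subgroup.eq_bot_iff_forall _).mp e w hw)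
        have hF'V : V ≤ Subgroup.normalizer (F' : Set G) := by
          intro v hv
          refine CfsgLib.CoprimeAction.mem_normalizer_of_conj_mem ?_
          rintro _ ⟨u, hu, rfl⟩
          refine ⟨ρ ⟨v, hv⟩ u, ?_, rfl⟩
          change ρ z (ρ ⟨v, hv⟩ u) = ρ ⟨v, hv⟩ u
          rw [← MulAut.mul_apply, ← (hcomm ⟨v, hv⟩).eq, MulAut.mul_apply]
          exact congrArg _ hu
        have hF'F : F' ≤ F := Subgroup.map_subtype_le _
        have hall : ∀ u : F, ρ z u = u := fun u => by
          obtain ⟨u', hu', he⟩ := hF.2 ⟨hF'F.trans hFC, hF'1, hF'V⟩ hF'F u.2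
          exact (Subtype.ext he : u' = u) ▸ hu'
        exact hd1 (Subtype.ext (hzv.symm.trans (MulEquiv.ext hall)))
  obtain ⟨a, -, ha⟩ := SetLike.exists_of_lt (lt_top_iff_ne_top.mpr hzW)
  have haz : ∀ j : ℕ, a * z ^ j ∉ W := fun j hj => ha (by
    simpa using Subgroup.mul_mem _ (Subgroup.mem_sup_left hj)
      (Subgroup.inv_mem _ (Subgroup.mem_sup_right (Subgroup.npow_mem_zpowers z j))))
  refine hw₀ (hFp _ (pow_eq_one_of_lines hp.out (ρ a) (ρ z) (hzcomm a) hzp hzfix ?_ w₀))
  intro j v
  rw [← map_pow, ← map_mul]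
  apply Subtype.ext
  have key : ∀ n : ℕ, ((∏ i ∈ Finset.range n, ((ρ (a * z ^ j)) ^ i : MulAut F) v : F) : G) =
      ((List.range n).map fun i : ℕ =>
        ((a * z ^ j : V) : G) ^ i * v * (((a * z ^ j : V) : G) ^ i)⁻¹).prod := by
    intro n
    induction n with
    | zero => simp
    | succ n ih =>
      rw [Finset.prod_range_succ, Subgroup.coe_mul, ih, List.range_succ, List.map_append,
        List.prod_append, List.map_singleton, List.prod_singleton, ← map_pow,
        conjHom_apply, Subgroup.coe_pow]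
  rw [key, hline _ (haz j) v (hFC v.2), Subgroup.coe_one]

/-- Conjugation by an element of order `p` outside the subgroup of elements of other orders. -/
theorem part_conj {G : Type*} [Group G] {H : Subgroup G} [H.Normal] (x : G) (h : H) :
    ∀ i : ℕ, ((CfsgLib.FixedPointFree.part (MulAut.conjNormal x : MulAut H) i h : H) : G) =
      ((h : G) * x) ^ i * (x ^ i)⁻¹
  | 0 => by simp [CfsgLib.FixedPointFree.part_zero]
  | i + 1 => by
    have hit : ∀ (n : ℕ) (u : H), (((MulAut.conjNormal x : MulAut H))^[n] u : G) =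
        x ^ n * u * (x ^ n)⁻¹ := by
      intro n u
      induction n with
      | zero => simp
      | succ n ih =>
        rw [Function.iterate_succ_apply', MulAut.conjNormal_apply, ih, pow_succ']
        group
    rw [CfsgLib.FixedPointFree.part_succ, Subgroup.coe_mul, part_conj x h i, hit, pow_succ,
      pow_succ]
    group


/-- Let G be a finite group and p a prime such that G is not a p-group, and suppose the Hughes subgroup H_p(G), generated by all elements g with g^p ≠ 1, is a proper subgroup. Then H_p(G) is nilpotent and has index p in G. -/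
theorem result {G : Type*} [Group G] [Finite G] (p : ℕ) (hp : p.Prime) (hG : ¬ IsPGroup p G)
    (hH : Subgroup.closure {g : G | g ^ p ≠ 1} ≠ ⊤) :
    Group.IsNilpotent (Subgroup.closure {g : G | g ^ p ≠ 1}) ∧ (Subgroup.closure {g : G | g ^ p ≠ 1}).index = p := by
  haveI := Fact.mk hp
  let H : Subgroup G := Subgroup.closure {g : G | g ^ p ≠ 1}
  have hout : ∀ g : G, g ∉ H → g ^ p = 1 := fun g hg => by
    by_contra h
    exact hg (Subgroup.subset_closure h)
  haveI hHn : H.Normal := by
    refine Subgroup.normalizer_eq_top_iff.mp (top_le_iff.mp fun g _ => ?_)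
    refine CfsgLib.CoprimeAction.mem_normalizer_of_conj_mem fun y hy => ?_
    induction hy using Subgroup.closure_induction with
    | mem y hy =>
      refine Subgroup.subset_closure fun h => hy ?_
      rwa [conj_pow, mul_inv_eq_one, mul_eq_left] at h
    | one => simp
    | mul a b _ _ ha hb => simpa [mul_assoc] using mul_mem ha hb
    | inv a _ ha => simpa [mul_assoc] using inv_mem ha
  obtain ⟨x, -, hx⟩ := SetLike.exists_of_lt (lt_top_iff_ne_top.mpr (show H ≠ ⊤ from hH))
  have hprod : ∀ g : G, g ∉ H → ∀ h ∈ H, (h * g) ^ p = 1 := fun g hg h hh =>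
    hout _ fun hmem => hg ((H.mul_mem_cancel_left hh).mp hmem)
  have hsplit : CfsgLib.FixedPointFree.IsSplitting (MulAut.conjNormal x : MulAut H) p := by
    refine ⟨fun h => Subtype.ext ?_, fun h => Subtype.ext ?_⟩
    · have key : ∀ n : ℕ, ((((MulAut.conjNormal x : MulAut H))^[n] h : H) : G) =
          x ^ n * h * (x ^ n)⁻¹ := by
        intro n
        induction n with
        | zero => simp
        | succ n ih =>
          rw [Function.iterate_succ_apply', MulAut.conjNormal_apply, ih, pow_succ']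
          group
      rw [key, hout x hx]
      simp
    · rw [part_conj, hprod x hx h h.2, hout x hx]
      simp
  have hnil : Group.IsNilpotent H := CfsgLib.FixedPointFree.isNilpotent_of_isSplitting hp _ hsplit
  refine ⟨hnil, show H.index = p from ?_⟩
  have hq : IsPGroup p (G ⧸ H) := fun g => by
    induction g using QuotientGroup.induction_on with | _ g => ?_
    by_cases hg : g ∈ H
    · exact ⟨0, by simp [(QuotientGroup.eq_one_iff g).mpr hg]⟩
    · exact ⟨1, by rw [pow_one, ← QuotientGroup.mk_pow, hout g hg]; rfl⟩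
  obtain ⟨k, hk⟩ := IsPGroup.iff_card.mp hq
  rw [← Subgroup.index_eq_card] at hk
  rcases k with _ | k
  · rw [pow_zero, Subgroup.index_eq_one] at hk
    exact absurd hk hH
  rcases k with _ | k
  · simpa using hk
  exfalso
  obtain ⟨q, hqp, hq1, hqd⟩ : ∃ q : ℕ, q.Prime ∧ q ≠ p ∧ q ∣ Nat.card H := by
    by_contra hcon
    push Not at hcon
    refine hG (IsPGroup.of_card (n := (Nat.card G).primeFactorsList.length)
      (Nat.eq_prime_pow_of_unique_prime_dvd Nat.card_pos.ne' fun {d} hd hdd => ?_))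
    rw [← H.card_mul_index, hk] at hdd
    rcases hd.dvd_mul.mp hdd with h | h
    · by_contra hne
      exact hcon d hd hne h
    · exact (Nat.prime_dvd_prime_iff_eq hd hp).mp (hd.dvd_of_dvd_pow h)
  haveI := Fact.mk hqp
  obtain ⟨P⟩ := (inferInstance : Nonempty (Sylow q H))
  haveI : (Cfsg.pCore q H).Characteristic := inferInstance
  let Q : Subgroup G := (Cfsg.pCore q H).map H.subtype
  have hQn : Q.Normal := CfsgLib.Cores.normal_map_subtype H _
  have hQp : IsPGroup q Q := (CfsgLib.Cores.isPGroup_pCore q H).map _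
  have hQ1 : Q ≠ ⊥ := by
    rw [Ne, Subgroup.map_eq_bot_iff_of_injective _ H.subtype_injective]
    rw [CfsgLib.Cores.pCore_eq_sylow_of_normal P]
    exact P.ne_bot_of_dvd_card hqd
  let C : Subgroup G := Q ⊓ Subgroup.centralizer (Q : Set G)
  haveI : IsMulCommutative C :=
    ⟨⟨fun a b => Subtype.ext (Subgroup.mem_centralizer_iff.mp b.2.2 a a.2.1)⟩⟩
  have hC1 : C ≠ ⊥ := by
    haveI : Nontrivial Q := (Subgroup.nontrivial_iff_ne_bot Q).mpr hQ1
    obtain ⟨⟨z, hz⟩, hz1⟩ :=
      Subgroup.ne_bot_iff_exists_ne_one.mp (bot_lt_iff_ne_bot.mp hQp.bot_lt_center)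
    refine fun hbot => hz1 (Subtype.ext (Subtype.ext ?_))
    have hzZ : (z : G) ∈ C := ⟨z.2, Subgroup.mem_centralizer_iff.mpr fun y hy =>
      congrArg Subtype.val (Subgroup.mem_center_iff.mp hz ⟨y, hy⟩)⟩
    rw [hbot, Subgroup.mem_bot] at hzZ
    exact hzZ
  haveI : C.Normal := inferInstance
  obtain ⟨V⟩ := (inferInstance : Nonempty (Sylow p G))
  have hCH : C ≤ H := inf_le_left.trans (Subgroup.map_subtype_le _)
  have hcop : (Nat.card C).Coprime p := by
    obtain ⟨i, hi⟩ := IsPGroup.iff_card.mp (hQp.to_le inf_le_left)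
    rw [hi]
    exact ((Nat.coprime_primes hqp hp).mpr hq1).pow_left i
  have hle := card_quotient_le (V : Subgroup G) V.2 (H.subgroupOf V)
    (fun v hv => Subtype.ext (hout v hv)) C hC1 hcop
    (by rw [Subgroup.normalizer_eq_top]; exact le_top) (fun v hv w hw => ?_)
  swap
  · have key : ∀ n : ℕ, ((List.range n).map fun i : ℕ => (v : G) ^ i * w * ((v : G) ^ i)⁻¹).prod =
        (w * (v : G)) ^ n * ((v : G) ^ n)⁻¹ := by
      intro n
      induction n with
      | zero => simp
      | succ n ih =>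
        rw [List.range_succ, List.map_append, List.prod_append, ih, List.map_singleton,
          List.prod_singleton, pow_succ, pow_succ]
        group
    rw [key, hprod (v : G) hv w (hCH hw), hout (v : G) hv]
    simp
  have htop : (V : Subgroup G) ⊔ H = ⊤ := by
    rw [← Subgroup.index_eq_one]
    refine Nat.eq_one_of_dvd_coprimes ?_ (Subgroup.index_dvd_of_le le_sup_left)
      (Subgroup.index_dvd_of_le le_sup_right)
    rw [hk]
    exact ((hp.coprime_iff_not_dvd.mpr V.not_dvd_index).symm).pow_right _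
  have hrel : H.relIndex (V : Subgroup G) = p ^ (k + 1 + 1) := by
    rw [← Subgroup.relIndex_sup_right, htop, Subgroup.relIndex_top_right, hk]
  rw [← Subgroup.index_eq_card, show (H.subgroupOf (V : Subgroup G)).index = p ^ (k + 1 + 1) from hrel] at hle
  exact absurd hle (not_le.mpr (lt_self_pow₀ hp.one_lt (by omega)))

end Cfsg.Agent.S4249
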