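import Cfsg.Statements.S4146
import Cfsg.Agent.Lib.ClassSizesNM.Crossed

set_option autoImplicit false
open Cfsg

namespace Cfsg.Agent.S4146

/-- Let G be a finite group whose conjugacy class sizes are exactly 1, n, m and nm for coprime integers n, m > 1. Then G is nilpotent and n and m are prime powers. -/
theorem result {G : Type*} [Group G] [Finite G] (n m : ℕ) (hn : 1 < n) (hm : 1 < m) (hcop : n.Coprime m)
    (h : Set.range (fun x : G => (Subgroup.centralizer ({x} : Set G)).index) = ({1, n, m, n * m} : Set ℕ)) :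
    Group.IsNilpotent G ∧ IsPrimePow n ∧ IsPrimePow m := by
  have hs : CfsgLib.ClassSizesNM.Type4 G n m := by
    have key : ∀ k ∈ ({1, n, m, n * m} : Set ℕ), ∃ x : G, CfsgLib.ClassSizes3.cl x = k := by
      intro k hk
      rw [← h] at hk
      exact hk
    refine ⟨hn, hm, hcop, fun x => ?_, key n (by simp), key m (by simp), key (n * m) (by simp)⟩
    have hx : CfsgLib.ClassSizes3.cl x ∈ ({1, n, m, n * m} : Set ℕ) := h ▸ ⟨x, rfl⟩
    simpa using hx
  obtain ⟨hn', hm'⟩ := CfsgLib.ClassSizesNM.isPrimePow_sizes hs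
  obtain ⟨p, a, hp, ha, rfl⟩ := (isPrimePow_nat_iff n).mp hn'
  obtain ⟨q, b, hq, hb, rfl⟩ := (isPrimePow_nat_iff m).mp hm'
  have hne : p ≠ q := by
    rintro rfl
    exact hp.ne_one (Nat.dvd_one.mp (hcop ▸ Nat.dvd_gcd (dvd_pow_self p ha.ne') (dvd_pow_self p hb.ne')))
  have hS : CfsgLib.ClassSizesNM.PQSizes G p q (p ^ a) (q ^ b) := ⟨hs, hp, hq, hne, ⟨a, rfl⟩, ⟨b, rfl⟩⟩
  refine ⟨?_, hn', hm'⟩
  rcases hS.nilpotent_or_crossed with h' | h'
  · exact h'
  · exact h'.isNilpotent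

end Cfsg.Agent.S4146
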