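import Cfsg.Statements.S0581
import Cfsg.Agent.Lib.PSolvable.PrimeIndex
import Cfsg.Agent.Lib.SolvableStructure.MinimalNonNilpotent
import Cfsg.Agent.Lib.SolvableStructure.MinimalNormal

set_option autoImplicit false
open Pointwise
open Cfsg

namespace Cfsg.Agent.S0581

set_option linter.style.haveILetI false

open Pointwise in
theorem aux.{u} : ∀ (n : ℕ) (G : Type u) [Group G] [Finite G], Nat.card G = n →
    ∀ H K : Subgroup G, Group.IsNilpotent H → (Nat.card H).Coprime H.index →
      (∀ p : ℕ, p.Prime → p ∣ Nat.card K → p ∣ Nat.card H) → ∃ x : G, K ≤ MulAut.conj x • H := by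
  intro n
  induction n using Nat.strong_induction_on with
  | _ n ih =>
    intro G _ _ hn H
    suffices ∀ (m : ℕ) (K : Subgroup G), Nat.card K = m → Group.IsNilpotent H →
        (Nat.card H).Coprime H.index → (∀ p : ℕ, p.Prime → p ∣ Nat.card K → p ∣ Nat.card H) →
        ∃ x : G, K ≤ MulAut.conj x • H from fun K => this _ K rfl
    intro m
    induction m using Nat.strong_induction_on with
    | _ m ihK =>
      intro K hm hH hHall hK
      by_cases hKb : K = ⊥
      · exact ⟨1, hKb ▸ bot_le⟩
      have hconjN : ∀ x : G, Group.IsNilpotent (MulAut.conj x • H : Subgroup G) := fun x => by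
        haveI := hH
        exact Group.nilpotent_of_mulEquiv (Subgroup.equivSMul (MulAut.conj x) H)
      haveI : Group.IsSolvable K := by
        refine CfsgLib.SolvableStructure.isSolvable_of_forall_isNilpotent fun X hX => ?_
        have hlt : Nat.card (X.map K.subtype) < m := by
          rw [← hm, Subgroup.card_map_of_injective K.subtype_injective]
          exact lt_of_le_of_ne (Subgroup.card_le_card_group X)
            fun he => hX (Subgroup.eq_top_of_card_eq X he)
        obtain ⟨x, hx⟩ := ihK _ hlt (X.map K.subtype) rfl hH hHall fun p hp hpd =>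
          hK p hp (hpd.trans (Subgroup.card_dvd_of_le (Subgroup.map_subtype_le X)))
        haveI := hconjN x
        haveI : Group.IsNilpotent (X.map K.subtype) :=
          Group.nilpotent_of_mulEquiv (Subgroup.subgroupOfEquivOfLe hx)
        exact Group.nilpotent_of_mulEquiv (Subgroup.equivMapOfInjective X _ K.subtype_injective).symm
      haveI : Nontrivial K := (Subgroup.nontrivial_iff_ne_bot K).2 hKb
      obtain ⟨P₀, -, hP₀n, hP₀b, hP₀min⟩ := CfsgLib.SolvableStructure.exists_minimal_normal
        (G := K) (N := ⊤) inferInstance top_ne_bot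
      haveI := hP₀n
      obtain ⟨p, d, hp, hd, hP₀c, -, -⟩ :=
        CfsgLib.SolvableStructure.minimal_normal_prime hP₀b hP₀min
      haveI := Fact.mk hp
      let P : Subgroup G := P₀.map K.subtype
      have hPK : P ≤ K := Subgroup.map_subtype_le _
      have hPc : Nat.card P = p ^ d := by
        rw [Subgroup.card_map_of_injective K.subtype_injective, hP₀c]
      have hPp : IsPGroup p P := IsPGroup.of_card hPc
      have hKN : K ≤ Subgroup.normalizer (P : Set G) :=
        (Subgroup.normal_subgroupOf_iff_le_normalizer hPK).1
          (by rwa [Subgroup.subgroupOf, Subgroup.comap_map_eq_self_of_injective K.subtype_injective])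
      have hpH : p ∣ Nat.card H :=
        hK p hp ((dvd_pow_self p hd.ne').trans (hPc ▸ Subgroup.card_dvd_of_le hPK))
      have hPb : P ≠ ⊥ := fun hb => hP₀b
        ((Subgroup.map_eq_bot_iff_of_injective _ K.subtype_injective).1 hb)
      -- a conjugate of `H` has index prime to each prime divisor of `|H|`
      have hci : ∀ x : G, Nat.card (MulAut.conj x • H : Subgroup G) = Nat.card H ∧
          (MulAut.conj x • H : Subgroup G).index = H.index := by
        intro x
        have hc : Nat.card (MulAut.conj x • H : Subgroup G) = Nat.card H :=
          Nat.card_congr (Subgroup.equivSMul (MulAut.conj x) H).symm.toEquiv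
        refine ⟨hc, ?_⟩
        have a := (MulAut.conj x • H : Subgroup G).card_mul_index
        rw [hc, ← H.card_mul_index] at a
        exact Nat.mul_left_cancel Nat.card_pos a
      have hnd : ∀ q : ℕ, q.Prime → q ∣ Nat.card H → ¬ q ∣ H.index := fun q hq h1 h2 =>
        hq.not_dvd_one (hHall.gcd_eq_one ▸ Nat.dvd_gcd h1 h2)
      obtain ⟨S⟩ := (inferInstance : Nonempty (Sylow p H))
      have hSnd : ¬ p ∣ ((S : Subgroup H).map H.subtype).index := by
        rw [Subgroup.index_map_subtype]
        intro h
        rcases hp.dvd_mul.1 h with h | h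
        · exact S.not_dvd_index h
        · exact hnd p hp hpH h
      let S₀ : Sylow p G := (S.isPGroup'.map H.subtype).toSylow hSnd
      have hS₀ : (S₀ : Subgroup G) ≤ H := Subgroup.map_subtype_le _
      by_cases hPn : P.Normal
      · -- pass to the quotient by `P`
        haveI := hPn
        have hPH : P ≤ H := (hPp.le_sylow_of_normal S₀).trans hS₀
        let π := QuotientGroup.mk' P
        have hπ : Function.Surjective π := QuotientGroup.mk'_surjective P
        have hker : π.ker ≤ H := (QuotientGroup.ker_mk' P).le.trans hPH
        haveI := hH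
        have h1 : Group.IsNilpotent (H.map π) :=
          Group.nilpotent_of_surjective (π.subgroupMap H) (π.subgroupMap_surjective H)
        have hdH : Nat.card (H.map π) ∣ Nat.card H :=
          Subgroup.card_dvd_of_surjective _ (π.subgroupMap_surjective H)
        have h2 : (Nat.card (H.map π)).Coprime (H.map π).index := by
          rw [Subgroup.index_map_eq _ hπ hker]
          exact hHall.coprime_dvd_left hdH
        have h3 : ∀ q : ℕ, q.Prime → q ∣ Nat.card (K.map π) → q ∣ Nat.card (H.map π) := by
          intro q hq hqd
          have hqH := hK q hq (hqd.trans (Subgroup.card_dvd_of_surjective _ (π.subgroupMap_surjective K)))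
          have hqi : q ∣ Nat.card (G ⧸ P) := hqd.trans (Subgroup.card_subgroup_dvd_card _)
          rw [← (H.map π).card_mul_index, Subgroup.index_map_eq _ hπ hker] at hqi
          exact (hq.dvd_mul.1 hqi).resolve_right (hnd q hq hqH)
        obtain ⟨x, hx⟩ := ih _ (hn ▸ CfsgLib.Supersolvable.card_quotient_lt P hPb) _ rfl
          (H.map π) (K.map π) h1 h2 h3
        obtain ⟨x, rfl⟩ := hπ x
        refine ⟨x, fun k hk => ?_⟩
        have hk' := hx ⟨k, hk, rfl⟩
        rw [Subgroup.mem_pointwise_smul_iff_inv_smul_mem] at hk' ⊢
        obtain ⟨h, hh, he⟩ := hk'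
        have hk'' : π h = π ((MulAut.conj x)⁻¹ • k) := by
          rw [he]
          simp [MulAut.smul_def]
        have h4 : h⁻¹ * (MulAut.conj x)⁻¹ • k ∈ H := hPH (QuotientGroup.eq.1 hk'')
        simpa using H.mul_mem hh h4
      · -- work in the normalizer of `P`
        let N := Subgroup.normalizer (P : Set G)
        obtain ⟨R, hPR⟩ := (hPp.comap_subtype (K := N)).exists_le_sylow
        obtain ⟨R', hR'⟩ := (R.isPGroup'.map N.subtype).exists_le_sylow
        obtain ⟨x, hx⟩ := MulAction.exists_smul_eq G S₀ R'
        let L : Subgroup G := MulAut.conj x • H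
        have hRL : (R : Subgroup N).map N.subtype ≤ L := by
          refine hR'.trans ?_
          rw [← hx, Sylow.coe_subgroup_smul]
          exact Subgroup.pointwise_smul_le_pointwise_smul_iff.2 hS₀
        have hPL : P ≤ L := by
          refine le_trans ?_ hRL
          rw [← Subgroup.map_subgroupOf_eq_of_le (Subgroup.le_normalizer : P ≤ N)]
          exact Subgroup.map_mono hPR
        have hLn : Group.IsNilpotent L := hconjN x
        -- the Sylow subgroups of `L` for other primes lie in `N`
        have hQ : ∀ q : ℕ, q.Prime → q ≠ p → q ∣ Nat.card H →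
            ∃ Q : Sylow q G, (Q : Subgroup G) ≤ L ⊓ N := by
          intro q hq hqp hqH
          haveI := Fact.mk hq
          obtain ⟨Q⟩ := (inferInstance : Nonempty (Sylow q L))
          have hQnd : ¬ q ∣ ((Q : Subgroup L).map L.subtype).index := by
            rw [Subgroup.index_map_subtype, (hci x).2]
            intro h
            rcases hq.dvd_mul.1 h with h | h
            · exact Q.not_dvd_index h
            · exact hnd q hq hqH h
          refine ⟨(Q.isPGroup'.map L.subtype).toSylow hQnd,
            le_inf (Subgroup.map_subtype_le _) ?_⟩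
          refine le_trans ?_ (Subgroup.centralizer_le_normalizer _)
          rintro _ ⟨u, hu, rfl⟩
          refine Subgroup.mem_centralizer_iff.2 fun y hy => ?_
          obtain ⟨i, hi⟩ := IsPGroup.iff_orderOf.1 hPp ⟨y, hy⟩
          obtain ⟨j, hj⟩ := IsPGroup.iff_orderOf.1 Q.isPGroup' ⟨u, hu⟩
          rw [Subgroup.orderOf_mk] at hi hj
          exact CfsgLib.SolvableStructure.commute_of_isNilpotent hLn hqp.symm (hPL hy) u.2 hi
            (by rw [Subgroup.coe_subtype, Subgroup.orderOf_coe, hj])
        let A : Subgroup N := L.subgroupOf N
        have hA : Group.IsNilpotent A := by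
          haveI := hLn
          refine Group.nilpotent_of_mulEquiv (G := (N ⊓ L).subgroupOf L) ?_
          exact (Subgroup.subgroupOfEquivOfLe inf_le_right).trans
            ((MulEquiv.subgroupCongr (inf_comm N L)).trans
              ((Subgroup.subgroupOfEquivOfLe (inf_le_right : L ⊓ N ≤ N)).symm.trans
                (MulEquiv.subgroupCongr (Subgroup.inf_subgroupOf_right L N))))
        have hAc : Nat.card A ∣ Nat.card H := by
          have h : A.map N.subtype ≤ L := by
            rw [Subgroup.subgroupOf_map_subtype]; exact inf_le_left
          have := Subgroup.card_dvd_of_le h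
          rwa [Subgroup.card_map_of_injective N.subtype_injective, (hci x).1] at this
        have hAi : ∀ q : ℕ, q.Prime → q ∣ Nat.card H → ¬ q ∣ A.index := by
          intro q hq hqH hd
          rcases eq_or_ne q p with rfl | hqp
          · refine R.not_dvd_index (hd.trans (Subgroup.index_dvd_of_le ?_))
            exact fun r hr => hRL ⟨r, hr, rfl⟩
          · obtain ⟨Q, hQ⟩ := hQ q hq hqp hqH
            haveI := Fact.mk hq
            have h1 : (L ⊓ N).index = A.index * N.index := by
              rw [← Subgroup.subgroupOf_map_subtype, Subgroup.index_map_subtype]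
            exact Q.not_dvd_index
              ((hd.trans (h1 ▸ dvd_mul_right _ _)).trans (Subgroup.index_dvd_of_le hQ))
        have hAK : ∀ q : ℕ, q.Prime → q ∣ Nat.card (K.subgroupOf N) → q ∣ Nat.card A := by
          intro q hq hqd
          have h1 := hK q hq (by
            rwa [Nat.card_congr (Subgroup.subgroupOfEquivOfLe hKN).toEquiv] at hqd)
          have h2 : q ∣ Nat.card N := hqd.trans (Subgroup.card_subgroup_dvd_card _)
          rw [← A.card_mul_index] at h2
          exact (hq.dvd_mul.1 h2).resolve_right (hAi q hq h1)
        have hAcop : (Nat.card A).Coprime A.index := Nat.coprime_of_dvd fun q hq h1 h2 =>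
          hAi q hq (h1.trans hAc) h2
        have hlt : Nat.card N < n := by
          rw [← hn]
          exact lt_of_le_of_ne (Subgroup.card_le_card_group N) fun he =>
            hPn (Subgroup.normalizer_eq_top_iff.1 (Subgroup.eq_top_of_card_eq N he))
        obtain ⟨y, hy⟩ := ih _ hlt N rfl A (K.subgroupOf N) hA hAcop hAK
        refine ⟨(y : G) * x, fun k hk => ?_⟩
        have hk' : (⟨k, hKN hk⟩ : N) ∈ MulAut.conj y • A := hy hk
        rw [Subgroup.mem_pointwise_smul_iff_inv_smul_mem, MulAut.smul_def, ← map_inv,
          MulAut.conj_apply] at hk'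
        rw [map_mul, mul_smul, Subgroup.mem_pointwise_smul_iff_inv_smul_mem, MulAut.smul_def,
          ← map_inv, MulAut.conj_apply]
        exact hk'

/-- Let H be a nilpotent subgroup of a finite group G whose order is coprime to its index, and K a subgroup every prime divisor of whose order divides the order of H. Then K lies in some conjugate of H. -/
theorem result {G : Type*} [Group G] [Finite G] (H K : Subgroup G) (hH : Group.IsNilpotent H) (hHall : (Nat.card H).Coprime H.index) (hK : ∀ p : ℕ, p.Prime → p ∣ Nat.card K → p ∣ Nat.card H) : ∃ x : G, K ≤ MulAut.conj x • H := by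
  exact aux _ G rfl H K hH hHall hK

end Cfsg.Agent.S0581
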