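import Cfsg.Statements.S0566
import Cfsg.Agent.Lib.PSolvable.Products

set_option autoImplicit false
open Pointwise
open Cfsg

namespace Cfsg.Agent.S0566

set_option linter.style.haveILetI false

open Pointwise CfsgLib.PSolvable

theorem mul_mem_of_permute {G : Type*} [Group G] {X Y S : Subgroup G}
    (hS : (S : Set G) = (X : Set G) * (Y : Set G)) {y u : G} (hy : y ∈ Y) (hu : u ∈ X) :
    ∃ u' ∈ X, ∃ y' ∈ Y, y * u = u' * y' := by
  have h1 : y ∈ (S : Set G) := hS ▸ ⟨1, X.one_mem, y, hy, one_mul y⟩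
  have h2 : u ∈ (S : Set G) := hS ▸ ⟨u, hu, 1, Y.one_mem, mul_one u⟩
  have h3 : y * u ∈ (S : Set G) := S.mul_mem h1 h2
  rw [hS] at h3
  obtain ⟨u', hu', y', hy', he⟩ := h3
  exact ⟨u', hu', y', hy', he.symm⟩

/-- If `X` and `X'` both permute with `Y`, so does their join. -/
theorem exists_sup_permute {G : Type*} [Group G] {X X' Y S S' : Subgroup G}
    (hS : (S : Set G) = (X : Set G) * (Y : Set G))
    (hS' : (S' : Set G) = (X' : Set G) * (Y : Set G)) :
    ∃ T : Subgroup G, (T : Set G) = ((X ⊔ X' : Subgroup G) : Set G) * (Y : Set G) := by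
  let Z := X ⊔ X'
  have key : ∀ u ∈ Subgroup.closure ((X : Set G) ∪ X'), ∀ y ∈ Y,
      ∃ u' ∈ Z, ∃ y' ∈ Y, y * u = u' * y' := by
    intro u hu
    induction hu using Subgroup.closure_induction_left with
    | one => exact fun y hy => ⟨1, Z.one_mem, y, hy, by simp⟩
    | mul_left v hv w hw ih =>
      intro y hy
      obtain ⟨v', hv', y₁, hy₁, h1⟩ : ∃ v' ∈ Z, ∃ y' ∈ Y, y * v = v' * y' := by
        rcases hv with hv | hv
        · obtain ⟨a, ha, b, hb, he⟩ := mul_mem_of_permute hS hy hv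
          exact ⟨a, Subgroup.mem_sup_left ha, b, hb, he⟩
        · obtain ⟨a, ha, b, hb, he⟩ := mul_mem_of_permute hS' hy hv
          exact ⟨a, Subgroup.mem_sup_right ha, b, hb, he⟩
      obtain ⟨w', hw', y₂, hy₂, h2⟩ := ih y₁ hy₁
      exact ⟨v' * w', Z.mul_mem hv' hw', y₂, hy₂, by
        rw [← mul_assoc, h1, mul_assoc, h2, mul_assoc]⟩
    | inv_mul_cancel v hv w hw ih =>
      intro y hy
      obtain ⟨v', hv', y₁, hy₁, h1⟩ : ∃ v' ∈ Z, ∃ y' ∈ Y, y * v⁻¹ = v' * y' := by
        rcases hv with hv | hv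
        · obtain ⟨a, ha, b, hb, he⟩ := mul_mem_of_permute hS hy (X.inv_mem hv)
          exact ⟨a, Subgroup.mem_sup_left ha, b, hb, he⟩
        · obtain ⟨a, ha, b, hb, he⟩ := mul_mem_of_permute hS' hy (X'.inv_mem hv)
          exact ⟨a, Subgroup.mem_sup_right ha, b, hb, he⟩
      obtain ⟨w', hw', y₂, hy₂, h2⟩ := ih y₁ hy₁
      exact ⟨v' * w', Z.mul_mem hv' hw', y₂, hy₂, by
        rw [← mul_assoc, h1, mul_assoc, h2, mul_assoc]⟩
  have key' : ∀ u ∈ Z, ∀ y ∈ Y, ∃ u' ∈ Z, ∃ y' ∈ Y, y * u = u' * y' := by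
    intro u hu
    exact key u (by rwa [Subgroup.closure_union, Subgroup.closure_eq, Subgroup.closure_eq])
  refine ⟨{ carrier := (Z : Set G) * (Y : Set G)
            one_mem' := ⟨1, Z.one_mem, 1, Y.one_mem, one_mul 1⟩
            mul_mem' := ?_
            inv_mem' := ?_ }, rfl⟩
  · rintro _ _ ⟨a, ha, b, hb, rfl⟩ ⟨c, hc, d, hd, rfl⟩
    obtain ⟨c', hc', b', hb', he⟩ := key' c hc b hb
    refine ⟨a * c', Z.mul_mem ha hc', b' * d, Y.mul_mem hb' hd, ?_⟩
    calc a * c' * (b' * d) = a * (c' * b') * d := by group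
      _ = a * (b * c) * d := by rw [he]
      _ = a * b * (c * d) := by group
  · rintro _ ⟨a, ha, b, hb, rfl⟩
    obtain ⟨a', ha', b', hb', he⟩ := key' a⁻¹ (Z.inv_mem ha) b⁻¹ (Y.inv_mem hb)
    exact ⟨a', ha', b', hb', by change a' * b' = (a * b)⁻¹; rw [mul_inv_rev, he]⟩

theorem aux {G : Type*} [Group G] [Finite G] (B : Subgroup G) : ∀ (n : ℕ) (A : Subgroup G),
    A.index = n → (∀ x : G, ∃ S : Subgroup G, S ≠ ⊤ ∧
      (S : Set G) = (A : Set G) * ((MulAut.conj x • B : Subgroup G) : Set G)) →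
    ∃ N : Subgroup G, N.Normal ∧ N ≠ ⊤ ∧ (A ≤ N ∨ B ≤ N) := by
  intro n
  induction n using Nat.strong_induction_on with
  | _ n ih =>
    intro A hn h
    by_cases hA : Subgroup.normalClosure (A : Set G) = ⊤
    swap
    · exact ⟨_, inferInstance, hA, Or.inl Subgroup.le_normalClosure⟩
    by_cases hB : Subgroup.normalClosure (B : Set G) = ⊤
    swap
    · exact ⟨_, inferInstance, hB, Or.inr Subgroup.le_normalClosure⟩
    have hAtop : A ≠ ⊤ := by
      intro he
      obtain ⟨S, hS, hSe⟩ := h 1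
      refine hS (top_le_iff.1 fun g _ => ?_)
      rw [← SetLike.mem_coe, hSe]
      exact ⟨g, he ▸ Subgroup.mem_top g, 1, Subgroup.one_mem _, mul_one g⟩
    have hAn : ¬ A.Normal := fun hn => hAtop (by
      haveI := hn
      rw [← hA, Subgroup.normalClosure_eq_self])
    -- some conjugate of `B` moves `A`
    obtain ⟨x, b, hb, hbA⟩ : ∃ x, ∃ b ∈ (MulAut.conj x • B : Subgroup G),
        MulAut.conj b • A ≠ A := by
      by_contra hcon
      push Not at hcon
      refine hAn (Subgroup.normalizer_eq_top_iff.1 (top_le_iff.1 ?_))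
      rw [← hB, Subgroup.normalClosure, Subgroup.closure_le]
      intro g hg
      obtain ⟨b₀, hb₀, hc⟩ := Group.mem_conjugatesOfSet_iff.1 hg
      obtain ⟨x, rfl⟩ := isConj_iff.1 hc
      have h1 := hcon x (x * b₀ * x⁻¹) (by rw [mem_conj_smul_iff]; simpa [mul_assoc] using hb₀)
      refine Subgroup.mem_normalizer_iff''.2 fun y => ?_
      rw [← mem_conj_smul_iff, h1]
    let A' : Subgroup G := A ⊔ MulAut.conj b • A
    have hlt : A < A' := by
      refine left_lt_sup.2 fun hle => hbA ?_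
      exact Subgroup.eq_of_le_of_card_ge hle
        (Nat.card_congr (Subgroup.equivSMul (MulAut.conj b) A).toEquiv).le
    obtain ⟨S₀, hS₀t, hS₀⟩ := h x
    have hA'S : A' ≤ S₀ := by
      have hAS : A ≤ S₀ := fun a ha => by
        rw [← SetLike.mem_coe, hS₀]; exact ⟨a, ha, 1, Subgroup.one_mem _, mul_one a⟩
      have hbS : b ∈ S₀ := by
        rw [← SetLike.mem_coe, hS₀]; exact ⟨1, A.one_mem, b, hb, one_mul b⟩
      refine sup_le hAS fun y hy => ?_
      have h1 := S₀.mul_mem (S₀.mul_mem hbS (hAS (mem_conj_smul_iff.1 hy))) (S₀.inv_mem hbS)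
      simpa [mul_assoc] using h1
    have hperm : ∀ z : G, ∃ T : Subgroup G,
        (T : Set G) = (A' : Set G) * ((MulAut.conj z • B : Subgroup G) : Set G) := by
      intro z
      obtain ⟨S, -, hS⟩ := h z
      obtain ⟨S', -, hS'⟩ := h (b⁻¹ * z)
      refine exists_sup_permute hS (S' := MulAut.conj b • S') ?_
      have h2 : (MulAut.conj b • (MulAut.conj (b⁻¹ * z) • B : Subgroup G)) = MulAut.conj z • B := by
        rw [← mul_smul, ← map_mul, mul_inv_cancel_left]
      rw [Subgroup.coe_pointwise_smul, hS', ← h2, Subgroup.coe_pointwise_smul _ A,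
        Subgroup.coe_pointwise_smul _ (MulAut.conj (b⁻¹ * z) • B)]
      exact Set.image_mul (MulAut.conj b)
    have hproper : ∀ z : G, ∃ T : Subgroup G, T ≠ ⊤ ∧
        (T : Set G) = (A' : Set G) * ((MulAut.conj z • B : Subgroup G) : Set G) := by
      intro z
      obtain ⟨T, hT⟩ := hperm z
      refine ⟨T, fun he => hS₀t ?_, hT⟩
      have hf : IsFactor A' (MulAut.conj z • B) := by
        rw [isFactor_iff_coe_mul, ← hT, he, Subgroup.coe_top]
      have hf' := hf.conj_smul 1 (x * z⁻¹)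
      rw [map_one, one_smul, ← mul_smul, ← map_mul, inv_mul_cancel_right] at hf'
      refine top_le_iff.1 fun g _ => ?_
      obtain ⟨u, hu, v, hv, rfl⟩ := hf' g
      refine S₀.mul_mem (hA'S hu) ?_
      rw [← SetLike.mem_coe, hS₀]
      exact ⟨1, A.one_mem, v, hv, one_mul v⟩
    obtain ⟨N, hN, hNt, h3⟩ := ih _ (hn ▸ Subgroup.index_strictAnti hlt) A' rfl hproper
    exact ⟨N, hN, hNt, h3.imp (fun h4 => hlt.le.trans h4) id⟩

/-- Let A and B be nontrivial subgroups of a finite group G such that for every x the product set of A and xBx⁻¹ is a proper subgroup of G. Then there is a proper normal subgroup of G containing A or containing B. -/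
theorem result {G : Type*} [Group G] [Finite G] (A B : Subgroup G) (hA : A ≠ ⊥) (hB : B ≠ ⊥) (h : ∀ x : G, ∃ S : Subgroup G, S ≠ ⊤ ∧ (S : Set G) = (A : Set G) * ((MulAut.conj x • B : Subgroup G) : Set G)) : ∃ N : Subgroup G, N.Normal ∧ N ≠ ⊤ ∧ (A ≤ N ∨ B ≤ N) := by
  exact aux B _ A rfl h

end Cfsg.Agent.S0566
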