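import Cfsg.Statements.S4888
import Cfsg.Agent.Lib.Correspondences.PrincipalPower
import Cfsg.Agent.Lib.Correspondences.Codegree
open CfsgLib.CharTheory CfsgLib.Blocks CfsgLib.Correspondences

set_option linter.style.haveILetI false

set_option autoImplicit false
open Cfsg

namespace Cfsg.Agent.S4888

/-- Let G be a finite group, p a prime and M a maximal ideal of the algebraic integers containing p. Then all height-zero irreducible characters of the principal p-block of G (equivalently, all its characters of degree prime to p) have the same degree if and only if G has a normal p-complement. -/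
theorem result {G : Type*} [Group G] [Finite G] (p : ℕ) [Fact p.Prime] (M : Ideal Cfsg.AlgInt) (hM : Cfsg.IsPModular p M) : (∃ d : ℕ, ∀ χ : Cfsg.IrrCharacter G, χ ∈ (Cfsg.principalBlock M G) → Cfsg.blockHeight p (Cfsg.principalBlock M G) (χ : G → ℂ) = 0 → Cfsg.charDegree (χ : G → ℂ) = d) ↔ Cfsg.HasNormalPComplement p G := by
  classical
  haveI := isPrime_of_isPModular hM
  have hp : p.Prime := Fact.out
  haveI := Fintype.ofFinite G
  have hone : trivIrr G ∈ Cfsg.principalBlock M G := fun g => by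
    have : (trivIrr G : G → ℂ) = fun _ => 1 := funext fun _ => trivIrr_apply _
    rw [this, sub_self]; exact memLocalIdeal_zero
  have hdeg1 : Cfsg.charDegree (trivIrr G : G → ℂ) = 1 := by
    simp [Cfsg.charDegree, trivIrr_apply]
  have hinf : sInf ((fun χ : IrrCharacter G => (Cfsg.charDegree (χ : G → ℂ)).factorization p) ''
      Cfsg.principalBlock M G) = 0 :=
    Nat.eq_zero_of_le_zero (Nat.sInf_le ⟨trivIrr G, hone, by simp [hdeg1]⟩)
  have hht : ∀ χ : IrrCharacter G,
      Cfsg.blockHeight p (Cfsg.principalBlock M G) (χ : G → ℂ) = 0 ↔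
        ¬ p ∣ Cfsg.charDegree (χ : G → ℂ) := fun χ => by
    rw [Cfsg.blockHeight, hinf, Nat.sub_zero, Nat.factorization_eq_zero_iff]
    have := charDegree_pos χ.2
    simp [hp, this.ne']
  constructor
  swap
  · rintro ⟨P, N, hN, hc⟩
    refine ⟨1, fun χ hχ hh => ?_⟩
    haveI := hN
    obtain ⟨n, hn⟩ := IsPGroup.iff_card.1 P.2
    have hcard := hc.card_mul_card
    have hNp : ¬ p ∣ Nat.card N := by
      have : (P : Subgroup G).index = Nat.card N := by
        refine Nat.eq_of_mul_eq_mul_left (Nat.card_pos (α := (P : Subgroup G))) ?_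
        rw [Subgroup.card_mul_index, mul_comm, hcard]
      exact this ▸ P.not_dvd_index
    let Kχ : Subgroup G := charKer (IsIrrCharacter.isCharacter χ.2)
    have hdvd := card_ker_mul_charDegree_dvd χ.2
    have hle : N ≤ Kχ := fun x hx => apply_eq_of_mem_principalBlock hM hχ N hNp hx
    have hcK : Nat.card N * Cfsg.charDegree (χ : G → ℂ) ∣ Nat.card N * Nat.card (P : Subgroup G) := by
      rw [hcard]
      refine (mul_dvd_mul_right ?_ _).trans hdvd
      exact (Subgroup.card_dvd_of_le hle).trans (dvd_of_eq (card_charKer (IsIrrCharacter.isCharacter χ.2)).symm)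
    obtain ⟨j, -, hj⟩ := (Nat.dvd_prime_pow hp).1
      (hn ▸ Nat.dvd_of_mul_dvd_mul_left Nat.card_pos hcK)
    rcases j with _ | j
    · rw [hj, pow_zero]
    · exact absurd (hj ▸ dvd_pow_self p (Nat.succ_ne_zero j)) ((hht χ).1 hh)
  rintro ⟨d, hd⟩
  have hlin : ∀ χ : IrrCharacter G, χ ∈ Cfsg.principalBlock M G →
      ¬ p ∣ Cfsg.charDegree (χ : G → ℂ) → Cfsg.charDegree (χ : G → ℂ) = 1 := fun χ hχ hχd => by
    rw [hd χ hχ ((hht χ).2 hχd), ← hd _ hone ((hht _).2 (by rw [hdeg1]; exact hp.not_dvd_one)), hdeg1]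
  -- the subgroup generated by the p-regular elements
  set S : Set G := {g | ¬ p ∣ orderOf g} with hS
  set K := Subgroup.closure S with hKd
  have hSK : ∀ g, ¬ p ∣ orderOf g → g ∈ K := fun g h => Subgroup.subset_closure h
  haveI hKn : K.Normal := by
    refine ⟨fun x hx g => ?_⟩
    induction hx using Subgroup.closure_induction with
    | mem y hy =>
      exact hSK _ (by rw [show g * y * g⁻¹ = MulAut.conj g y from rfl, MulEquiv.orderOf_eq]; exact hy)
    | one => simp
    | mul a b _ _ ha hb =>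
      rw [show g * (a * b) * g⁻¹ = (g * a * g⁻¹) * (g * b * g⁻¹) by group]
      exact mul_mem ha hb
    | inv a _ ha =>
      rw [show g * a⁻¹ * g⁻¹ = (g * a * g⁻¹)⁻¹ by group]
      exact inv_mem ha
  haveI := Fintype.ofFinite K
  have hquot : IsPGroup p (G ⧸ K) := by
    intro q
    obtain ⟨g, rfl⟩ := QuotientGroup.mk_surjective q
    refine ⟨(orderOf g).factorization p, ?_⟩
    rw [← QuotientGroup.mk_pow, QuotientGroup.eq_one_iff]
    refine hSK _ ?_
    rw [orderOf_pow_of_dvd (pow_ne_zero _ hp.ne_zero) (Nat.ordProj_dvd _ _)]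
    exact Nat.not_dvd_ordCompl hp (orderOf_pos g).ne'
  obtain ⟨a, ha⟩ := IsPGroup.iff_card.1 hquot
  rw [← Subgroup.index_eq_card] at ha
  by_cases hdvd : p ∣ Nat.card K
  swap
  · -- `K` is the complement
    obtain ⟨P⟩ : Nonempty (Sylow p G) := inferInstance
    obtain ⟨n, hn⟩ := IsPGroup.iff_card.1 P.2
    refine ⟨P, K, hKn, Subgroup.isComplement'_of_coprime ?_ ?_⟩
    · have hna : n = a := by
        have h1 := P.card_eq_multiplicity
        rw [hn, ← Subgroup.card_mul_index K, ha, Nat.factorization_mul Nat.card_pos.ne'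
          (pow_ne_zero _ hp.ne_zero), Finsupp.coe_add, Pi.add_apply,
          Nat.factorization_eq_zero_of_not_dvd hdvd, hp.factorization_pow, Finsupp.single_eq_same,
          zero_add] at h1
        exact Nat.pow_right_injective hp.two_le h1
      rw [hn, hna, ← ha, Subgroup.card_mul_index]
    · rw [hn]
      exact ((hp.coprime_iff_not_dvd.2 hdvd).symm).pow_right n
  exfalso
  haveI : Finite (K →* ℂˣ) := Finite.of_equiv _ linearEquivHom
  haveI := Fintype.ofFinite (IrrCharacter K)
  -- linear characters of `K` have `p'`-order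
  have hhom : ¬ p ∣ Nat.card (K →* ℂˣ) := by
    intro h
    obtain ⟨f, hf⟩ := exists_prime_orderOf_dvd_card' p h
    refine hp.ne_one (hf ▸ orderOf_eq_one_iff.2 ?_)
    have hfp : ∀ k, f k ^ p = 1 := fun k => by
      have := pow_orderOf_eq_one f
      rw [hf] at this
      exact DFunLike.congr_fun this k
    have hle : Subgroup.closure (((↑) : K → G) ⁻¹' S) ≤ f.ker := by
      rw [Subgroup.closure_le]
      intro k hk
      rw [SetLike.mem_coe, MonoidHom.mem_ker, ← orderOf_eq_one_iff]
      have h1 : orderOf (f k) ∣ p := orderOf_dvd_of_pow_eq_one (hfp k)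
      have h2 : orderOf (f k) ∣ orderOf (k : G) :=
        (Subgroup.orderOf_coe k).symm ▸ orderOf_map_dvd f k
      exact Nat.eq_one_of_dvd_coprimes (hp.coprime_iff_not_dvd.2 hk) h1 h2
    have htop : Subgroup.closure (((↑) : K → G) ⁻¹' S) = ⊤ := Subgroup.closure_closure_coe_preimage
    rw [htop] at hle
    refine MonoidHom.ext fun k => ?_
    exact MonoidHom.mem_ker.1 (hle (Subgroup.mem_top k))
  -- invariant p'-degree characters in the principal block are linear
  let cj : G → IrrCharacter K → IrrCharacter K := fun g θ =>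
    ⟨fun k => (θ : K → ℂ) (MulAut.conjNormal g⁻¹ k),
      isIrrCharacter_comp_of_surjective θ.2 (MulAut.conjNormal (H := K) g⁻¹).toMonoidHom
        (MulAut.conjNormal (H := K) g⁻¹).surjective⟩
  have hinvlin : ∀ θ : IrrCharacter K, θ ∈ Cfsg.principalBlock M K → (∀ g, cj g θ = θ) →
      ¬ p ∣ Cfsg.charDegree (θ : K → ℂ) → Cfsg.charDegree (θ : K → ℂ) = 1 := by
    intro θ hθ hfix hdeg
    obtain ⟨χ, hχ, hext⟩ := exists_extension_of_coprime_linear K θ.2
      (fun g k => by simpa [cj] using congrFun (congrArg Subtype.val (hfix g⁻¹)) k)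
      (by
        rw [ha]
        exact (hp.coprime_iff_not_dvd.2 (hp.not_dvd_mul hdeg hhom)).symm.pow_right a)
    have hd1 : Cfsg.charDegree χ = Cfsg.charDegree (θ : K → ℂ) := by
      unfold Cfsg.charDegree
      rw [← OneMemClass.coe_one K, hext]
    rw [← hd1]
    exact hlin ⟨χ, hχ⟩ (mem_principalBlock_of_extension hM K hSK hθ hdeg (χ := ⟨χ, hχ⟩) hext)
      (hd1 ▸ hdeg)
  -- counting modulo `p`
  obtain ⟨P⟩ : Nonempty (Sylow p G) := inferInstance
  let X := {θ : IrrCharacter K // θ ∈ Cfsg.principalBlock M K}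
  haveI hXf := Fintype.ofFinite X
  letI : MulAction (P : Subgroup G) X :=
    { smul := fun g θ => ⟨cj g θ.1, principalBlock_conjNormal K ((g : G))⁻¹ θ.2 (fun k => rfl)⟩
      one_smul := fun θ => Subtype.ext (Subtype.ext (funext fun k => by
        show (θ.1 : K → ℂ) (MulAut.conjNormal ((1 : (P : Subgroup G)) : G)⁻¹ k) = _
        simp))
      mul_smul := fun g h θ => Subtype.ext (Subtype.ext (funext fun k => by
        show (θ.1 : K → ℂ) (MulAut.conjNormal ((g * h : (P : Subgroup G)) : G)⁻¹ k) =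
          (θ.1 : K → ℂ) (MulAut.conjNormal (h : G)⁻¹ (MulAut.conjNormal (g : G)⁻¹ k))
        rw [Subgroup.coe_mul, mul_inv_rev, map_mul, MulAut.mul_apply])) }
  have hsmul : ∀ (g : (P : Subgroup G)) (θ : X), (g • θ).1 = cj g θ.1 := fun g θ => rfl
  have hdegsmul : ∀ (g : (P : Subgroup G)) (θ : X),
      Cfsg.charDegree ((g • θ).1 : K → ℂ) = Cfsg.charDegree (θ.1 : K → ℂ) := fun g θ => by
    rw [hsmul]; unfold Cfsg.charDegree; simp [cj]
  set f : X → ZMod p := fun θ => (Cfsg.charDegree (θ.1 : K → ℂ) : ZMod p) ^ 2 with hf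
  -- the sum vanishes
  have hsum0 : ∑ θ : X, f θ = 0 := by
    obtain ⟨u, hu⟩ := exists_prime_orderOf_dvd_card' p hdvd
    have h := sum_block_degree_mul_eq_zero hM
      (B := Cfsg.principalBlock M K) ⟨trivIrr K, by
        have : (trivIrr K : K → ℂ) = fun _ => 1 := funext fun _ => trivIrr_apply _
        rw [this]; rfl⟩ (w := u) (dvd_of_eq hu.symm)
    rw [finsum_mem_eq_finite_toFinset_sum _ (Set.toFinite _),
      Finset.sum_subtype (F := hXf) (p := fun θ => θ ∈ Cfsg.principalBlock M K) _
        (fun x => Set.Finite.mem_toFinset _)] at h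
    have h2 : p ∣ ∑ θ : X, Cfsg.charDegree (θ.1 : K → ℂ) ^ 2 := by
      rw [← memLocalIdeal_natCast_iff hM]
      have e : ((∑ θ : X, Cfsg.charDegree (θ.1 : K → ℂ) ^ 2 : ℕ) : ℂ) =
          ∑ θ : X, (θ.1 : K → ℂ) 1 * ((θ.1 : K → ℂ) 1 - (θ.1 : K → ℂ) u) := by
        simp only [mul_sub]
        rw [Finset.sum_sub_distrib]
        have h' : ∑ θ : X, (θ.1 : K → ℂ) 1 * (θ.1 : K → ℂ) u = 0 := by convert h using 2
        rw [h', sub_zero, Nat.cast_sum]
        exact Finset.sum_congr rfl fun θ _ => by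
          rw [Nat.cast_pow, charDegree_cast (IsIrrCharacter.isCharacter θ.1.2), sq]
      rw [e]
      refine memLocalIdeal_sum fun θ _ => memLocalIdeal_mul_left
        (memLocalRing_of_isIntegral (IsCharacter.isIntegral (IsIrrCharacter.isCharacter θ.1.2) 1)) ?_
      rw [memLocalIdeal_sub_comm]
      exact memLocalIdeal_apply_sub_one hM (IsIrrCharacter.isCharacter θ.1.2) (k := 1)
        (by rw [pow_one, ← hu, pow_orderOf_eq_one])
    rw [← ZMod.natCast_eq_zero_iff, Nat.cast_sum] at h2
    simpa [hf, Nat.cast_pow] using h2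
  set F := Finset.univ.filter (fun θ : X => ∀ g : (P : Subgroup G), g • θ = θ) with hF
  have hsplit : ∑ θ : X, f θ = ∑ θ ∈ F, f θ := by
    rw [← Finset.sum_filter_add_sum_filter_not Finset.univ
      (fun θ : X => ∀ g : (P : Subgroup G), g • θ = θ), add_eq_left]
    rw [← Finset.sum_fiberwise (Finset.univ.filter fun θ : X => ¬ ∀ g : (P : Subgroup G), g • θ = θ)
      (fun θ => (Quotient.mk'' θ : MulAction.orbitRel.Quotient (P : Subgroup G) X))]
    refine Finset.sum_eq_zero fun ω _ => ?_
    rcases Finset.eq_empty_or_nonempty ((Finset.univ.filter fun θ : X =>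
        ¬ ∀ g : (P : Subgroup G), g • θ = θ).filter fun θ =>
        (Quotient.mk'' θ : MulAction.orbitRel.Quotient (P : Subgroup G) X) = ω) with he | ⟨θ₀, hθ₀⟩
    · rw [he, Finset.sum_empty]
    simp only [Finset.mem_filter, Finset.mem_univ, true_and] at hθ₀
    obtain ⟨hnf, rfl⟩ := hθ₀
    have hset : ((Finset.univ.filter fun θ : X => ¬ ∀ g : (P : Subgroup G), g • θ = θ).filter fun θ =>
        (Quotient.mk'' θ : MulAction.orbitRel.Quotient (P : Subgroup G) X) = Quotient.mk'' θ₀) =
        (MulAction.orbit (P : Subgroup G) θ₀).toFinset := by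
      ext θ
      simp only [Finset.mem_filter, Finset.mem_univ, true_and, Set.mem_toFinset, Quotient.eq'',
        MulAction.orbitRel_apply]
      refine ⟨fun h => h.2, fun h => ⟨fun hfix => hnf ?_, h⟩⟩
      obtain ⟨g, rfl⟩ := h
      intro g'
      have h1 := hfix g⁻¹
      simp only [inv_smul_smul] at h1
      rw [h1]
      exact hfix g'
    rw [hset]
    have hconst : ∀ θ ∈ (MulAction.orbit (P : Subgroup G) θ₀).toFinset, f θ = f θ₀ := by
      intro θ hθ
      obtain ⟨g, rfl⟩ := Set.mem_toFinset.1 hθ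
      show (Cfsg.charDegree ((g • θ₀).1 : K → ℂ) : ZMod p) ^ 2 = _
      rw [hdegsmul]
    rw [Finset.sum_congr rfl hconst, Finset.sum_const, Set.toFinset_card, nsmul_eq_mul,
      ← Nat.card_eq_fintype_card]
    obtain ⟨j, hj⟩ := P.2.card_orbit θ₀
    rcases j with _ | j
    · exfalso
      refine hnf fun g => ?_
      rw [pow_zero, Nat.card_eq_one_iff_unique] at hj
      exact congrArg Subtype.val (@Subsingleton.elim _ hj.1
        ⟨g • θ₀, MulAction.mem_orbit _ g⟩ ⟨θ₀, MulAction.mem_orbit_self θ₀⟩)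
    · rw [hj, Nat.cast_pow, ZMod.natCast_self, zero_pow (Nat.succ_ne_zero j), zero_mul]
  have hallfix : ∀ θ : X, θ ∈ F → ∀ g : G, cj g θ.1 = θ.1 := by
    intro θ hθ g
    let Stab : Subgroup G :=
      { carrier := {g | cj g θ.1 = θ.1}
        one_mem' := Subtype.ext (funext fun k => by simp [cj])
        mul_mem' := fun {x y} hx hy => Subtype.ext (funext fun k => by
          have h1 := congrFun (congrArg Subtype.val hy) (MulAut.conjNormal x⁻¹ k)
          have h2 := congrFun (congrArg Subtype.val hx) k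
          simp only [cj] at h1 h2 ⊢
          rw [mul_inv_rev, map_mul, MulAut.mul_apply, h1, h2])
        inv_mem' := fun {x} hx => Subtype.ext (funext fun k => by
          have h2 := congrFun (congrArg Subtype.val hx) (MulAut.conjNormal x k)
          simp only [cj] at h2 ⊢
          rw [inv_inv, ← h2, ← MulAut.mul_apply, ← map_mul, inv_mul_cancel, map_one, MulAut.one_apply]) }
    have hPS : (P : Subgroup G) ≤ Stab := fun x hx =>
      congrArg Subtype.val ((Finset.mem_filter.1 hθ).2 ⟨x, hx⟩)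
    have hKS : K ≤ Stab := fun x hx => Subtype.ext (funext fun k => by
      show (θ.1 : K → ℂ) (MulAut.conjNormal x⁻¹ k) = _
      rw [← (IsIrrCharacter.isClassFunction θ.1.2) k (⟨x, hx⟩⁻¹ : K)]
      exact congrArg θ.1.1 (Subtype.ext (by simp)))
    have hidx : Stab.index = 1 := Nat.eq_one_of_dvd_coprimes
      (((hp.coprime_iff_not_dvd).2 P.not_dvd_index).pow_left a)
      (ha ▸ Subgroup.index_dvd_of_le hKS) (Subgroup.index_dvd_of_le hPS)
    exact (Subgroup.index_eq_one.1 hidx ▸ Subgroup.mem_top g : g ∈ Stab)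
  -- the fixed linear ones form a group
  let cond : (K →* ℂˣ) → Prop := fun h => (∀ k : K, MemLocalIdeal M
      (((Subgroup.centralizer ({k} : Set K)).index : ℂ) * (1 - (h k : ℂ)))) ∧
      ∀ (g : G) (k : K), h (MulAut.conjNormal g k) = h k
  have hint : ∀ (h : K →* ℂˣ) (k : K), MemLocalRing M (h k : ℂ) := fun h k =>
    memLocalRing_of_isIntegral (IsCharacter.isIntegral (isIrrCharacter_linear h |> IsIrrCharacter.isCharacter) k)
  let L : Subgroup (K →* ℂˣ) :=
    { carrier := {h | cond h}
      one_mem' := ⟨fun k => by simp [memLocalIdeal_zero], fun g k => rfl⟩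
      mul_mem' := fun {x y} hx hy => ⟨fun k => by
        have e : ((Subgroup.centralizer ({k} : Set K)).index : ℂ) * (1 - ((x * y) k : ℂ)) =
            ((Subgroup.centralizer ({k} : Set K)).index : ℂ) * (1 - (x k : ℂ)) * (y k : ℂ) +
            ((Subgroup.centralizer ({k} : Set K)).index : ℂ) * (1 - (y k : ℂ)) := by
          rw [MonoidHom.mul_apply, Units.val_mul]; ring
        rw [e]
        exact memLocalIdeal_add (memLocalIdeal_mul_right (hx.1 k) (hint y k)) (hy.1 k),
        fun g k => by rw [MonoidHom.mul_apply, MonoidHom.mul_apply, hx.2, hy.2]⟩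
      inv_mem' := fun {x} hx => ⟨fun k => by
        have h0 : (x k : ℂ) * (x⁻¹ k : ℂ) = 1 := by
          rw [← Units.val_mul, MonoidHom.inv_apply, mul_inv_cancel, Units.val_one]
        have e : ((Subgroup.centralizer ({k} : Set K)).index : ℂ) * (1 - (x⁻¹ k : ℂ)) =
            -(((Subgroup.centralizer ({k} : Set K)).index : ℂ) * (1 - (x k : ℂ)) * (x⁻¹ k : ℂ)) := by
          linear_combination (((Subgroup.centralizer ({k} : Set K)).index : ℂ)) * (-h0)
        rw [e]
        exact memLocalIdeal_neg (memLocalIdeal_mul_right (hx.1 k) (hint x⁻¹ k)),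
        fun g k => by rw [MonoidHom.inv_apply, MonoidHom.inv_apply, hx.2]⟩ }
  have hLdvd : Nat.card L ∣ Nat.card (K →* ℂˣ) := Subgroup.card_subgroup_dvd_card L
  set F1 := F.filter (fun θ => ¬ p ∣ Cfsg.charDegree (θ.1 : K → ℂ)) with hF1
  have hF1sum : ∑ θ ∈ F, f θ = (F1.card : ZMod p) := by
    rw [hF1, Finset.card_filter, Nat.cast_sum]
    refine Finset.sum_congr rfl fun θ hθ => ?_
    split_ifs with h
    · simp [hf, (ZMod.natCast_eq_zero_iff _ _).2 h]
    · simp [hf, hinvlin θ.1 θ.2 (hallfix θ hθ) h]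
  have hF1card : F1.card = Nat.card L := by
    rw [← Fintype.card_coe, ← Nat.card_eq_fintype_card]
    refine (Nat.card_eq_of_bijective (fun h : L => (⟨⟨⟨fun k => (h.1 k : ℂ), isIrrCharacter_linear h.1⟩,
      (mem_principalBlock_iff_sub hM _).2 fun k => by simpa using h.2.1 k⟩, ?_⟩ : F1)) ⟨?_, ?_⟩).symm
    · refine Finset.mem_filter.2 ⟨Finset.mem_filter.2 ⟨Finset.mem_univ _, fun g => ?_⟩, ?_⟩
      · exact Subtype.ext (Subtype.ext (funext fun k => congrArg Units.val (h.2.2 (g : G)⁻¹ k)))
      · simp [Cfsg.charDegree, hp.ne_one]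
    · intro x y h
      exact Subtype.ext (linear_inj (congrArg (fun z : F1 => (z.1.1 : K → ℂ)) h))
    · rintro ⟨θ, hθ⟩
      obtain ⟨hθF, hθd⟩ := Finset.mem_filter.1 hθ
      have h1 := hinvlin θ.1 θ.2 (hallfix θ hθF) hθd
      obtain ⟨h, hh⟩ := exists_hom_of_degree_one θ.1.2
        (by rw [← charDegree_cast (IsIrrCharacter.isCharacter θ.1.2), h1, Nat.cast_one])
      refine ⟨⟨h, ⟨fun k => ?_, fun g k => ?_⟩⟩, Subtype.ext (Subtype.ext (Subtype.ext hh.symm))⟩
      · have := (mem_principalBlock_iff_sub hM θ.1).1 θ.2 k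
        rw [hh] at this
        simpa using this
      · have := congrFun (congrArg Subtype.val (hallfix θ hθF g⁻¹)) k
        simp only [cj, inv_inv, congrFun hh] at this
        exact Units.ext this
  rw [hsplit, hF1sum, ZMod.natCast_eq_zero_iff, hF1card] at hsum0
  exact hhom (hsum0.trans hLdvd)

end Cfsg.Agent.S4888
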