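import Cfsg.Statements.S0976
import Cfsg.Agent.Lib.SmallGroups.CentralInvolution
import Cfsg.Agent.Lib.SmallGroups.InvolutionCentralizer
import Cfsg.Agent.Lib.SmallGroups.StrongReal
import Cfsg.Agent.Lib.SmallGroups.TransferFixed
import Cfsg.Agent.Lib.Involutions.Counting
-- import your own Cfsg.Agent.* helpers here

set_option autoImplicit false
open Cfsg

namespace Cfsg.Agent.S0976

open Subgroup MulAction CfsgLib.SmallGroups
open scoped Pointwise IsMulCommutative

universe u

variable {G : Type u} [Group G] [Finite G] [IsSimpleGroup G]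

theorem centralizer_le (h : Nat.card G = 4032) [Fact (Nat.Prime 7)] (P : Sylow 7 G)
    (h36 : Nat.card (Sylow 7 G) = 36) (hN : Nat.card ↥(normalizer ((P : Subgroup G) : Set G)) = 2 ^ 4 * 7)
    {t : G} (ht : orderOf t = 2) (hPt : (P : Subgroup G) ≤ centralizer ({t} : Set G))
    (hW : 2 ^ 4 ∣ Nat.card ↥(normalizer ((P : Subgroup G) : Set G) ⊓ centralizer ({t} : Set G) : Subgroup G)) :
    centralizer ({t} : Set G) ≤ normalizer ((P : Subgroup G) : Set G) := by
  have hG := not_isMulCommutative_of_card_eq h (by norm_num)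
  obtain ⟨hmod, hdvd, hle, hmul⟩ := relIndex_normalizer_centralizer P hPt
  have htop := centralizer_ne_top hG (t := t) (fun h1 => by rw [h1, orderOf_one] at ht; exact absurd ht (by norm_num))
  set N := normalizer ((P : Subgroup G) : Set G) with hNdef
  set C := centralizer ({t} : Set G) with hCdef
  have h7 : 7 ∣ Nat.card ↥(N ⊓ C : Subgroup G) := by
    have := card_dvd_of_le (le_inf le_normalizer hPt : (P : Subgroup G) ≤ N ⊓ C)
    rwa [card_sylow_eq (p := 7) (a := 1) (m := 576) (by rw [h]; norm_num) (by norm_num) P, pow_one] at this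
  have h112 : Nat.card ↥(N ⊓ C : Subgroup G) = 112 :=
    Nat.dvd_antisymm ((card_dvd_of_le inf_le_left).trans (dvd_of_eq (hN.trans (by norm_num))))
      (Nat.Coprime.mul_dvd_of_dvd_of_dvd (show Nat.Coprime 16 7 by norm_num) (by simpa using hW) h7)
  rw [h112] at hmul
  rw [h36] at hle
  have hCd : N.relIndex C * 112 ∣ 4032 := by rw [hmul, ← h]; exact card_subgroup_dvd_card C
  have hmem : N.relIndex C = 1 ∨ N.relIndex C = 36 := by
    have hd : N.relIndex C ∣ 36 := (Nat.mul_dvd_mul_iff_right (show 0 < 112 by norm_num)).mp (by simpa using hCd)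
    have hall : ∀ i ∈ Finset.range 37, i ∣ 36 → i % 7 = 1 → i = 1 ∨ i = 36 := by decide
    exact hall _ (Finset.mem_range.mpr (by omega)) hd (by omega)
  rcases hmem with h1 | h1
  · exact relIndex_eq_one.mp h1
  · exact absurd (eq_top_of_card_eq C (by rw [← hmul, h1, h])) htop

theorem false_of_self_centralizing (h : Nat.card G = 4032) [Fact (Nat.Prime 7)] (P : Sylow 7 G)
    (hC : Nat.card ↥(centralizer ((P : Subgroup G) : Set G)) = 7)
    (hN : Nat.card ↥(normalizer ((P : Subgroup G) : Set G)) = 7 * 2) : False := by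
  have hG := not_isMulCommutative_of_card_eq h (by norm_num)
  have := Fintype.ofFinite G
  have : Fact (Nat.Prime 2) := ⟨Nat.prime_two⟩
  have hP : Nat.card ↥(P : Subgroup G) = 7 := by
    simpa using card_sylow_eq (p := 7) (a := 1) (m := 576) (by rw [h]; norm_num) (by norm_num) P
  obtain ⟨A, hA, -, -, -, hu⟩ := SelfCentral.exists_degree_pair hG (by norm_num) P hP hC hN
  obtain ⟨T⟩ := (inferInstance : Nonempty (Sylow 2 G))
  have hT := card_sylow_eq (p := 2) (a := 6) (m := 63) (by rw [h]; norm_num) (by norm_num) T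
  have : Nontrivial ↥(T : Subgroup G) := by
    rw [← Finite.one_lt_card_iff_nontrivial, hT]; norm_num
  have := T.isPGroup'.center_nontrivial
  obtain ⟨z, hz⟩ := exists_prime_orderOf_dvd_card' (G := center ↥(T : Subgroup G)) 2 (by
    obtain ⟨k, hk⟩ := (T.isPGroup'.to_subgroup (center ↥(T : Subgroup G))).exists_card_eq
    rcases k with _ | k
    · have := Finite.one_lt_card_iff_nontrivial.mpr this
      omega
    · exact hk ▸ dvd_pow_self 2 (Nat.succ_ne_zero k))
  obtain ⟨a, ha, -, -, heq⟩ := hu ((z : ↥(T : Subgroup G)) : G) (by rw [Subgroup.orderOf_coe, Subgroup.orderOf_coe, hz])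
  have h64 : 64 ∣ Nat.card ↥(centralizer ({((z : ↥(T : Subgroup G)) : G)} : Set G)) := by
    have hle : (T : Subgroup G) ≤ centralizer ({((z : ↥(T : Subgroup G)) : G)} : Set G) := fun g hg =>
      mem_centralizer_singleton.mpr (congrArg Subtype.val (mem_center_iff.mp z.2 ⟨g, hg⟩))
    have := card_dvd_of_le hle
    rwa [hT] at this
  obtain ⟨r, hr⟩ := h64
  rw [h, hr] at heq
  push_cast at heq
  -- a product of consecutive numbers would be a square
  set n := (3 * (a - A)).natAbs with hn
  have hsq : (n : ℤ) ^ 2 = ((8 * r : ℕ) : ℤ) ^ 2 * ((A * (A + 1) : ℕ) : ℤ) := by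
    rw [hn, Int.natAbs_sq]; push_cast; linarith
  have hsq' : n ^ 2 = (8 * r) ^ 2 * (A * (A + 1)) := by exact_mod_cast hsq
  have hr0 : 0 < r := by
    refine Nat.pos_of_ne_zero fun h0 => ?_
    rw [h0, mul_zero] at hr
    exact Nat.card_pos.ne' hr
  obtain ⟨m, hm⟩ := (Nat.pow_dvd_pow_iff two_ne_zero).mp (Dvd.intro _ hsq'.symm : (8 * r) ^ 2 ∣ n ^ 2)
  have hm2 : m ^ 2 = A * (A + 1) := by
    rw [hm, mul_pow] at hsq'
    exact Nat.eq_of_mul_eq_mul_left (by positivity) hsq'
  have h1 : A < m := by nlinarith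
  nlinarith

theorem no_invariant_transversal (s : Finset (ZMod 3 × ZMod 3)) (h4 : s.card = 4) (h0 : (0, 0) ∉ s)
    (hneg : ∀ x ∈ s, -x ∉ s) : ∑ x ∈ s, x ≠ 0 := by
  revert s
  decide +kernel

theorem false_of_sixty_four (h : Nat.card G = 4032) [Fact (Nat.Prime 7)] (P : Sylow 7 G)
    (hn : Nat.card (Sylow 7 G) = 64) (hC : Nat.card ↥(centralizer ((P : Subgroup G) : Set G)) = 21)
    (hN : Nat.card ↥(normalizer ((P : Subgroup G) : Set G)) = 63) : False := by
  classical
  have hG := not_isMulCommutative_of_card_eq h (by norm_num)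
  have : Fact (Nat.Prime 3) := ⟨by norm_num⟩
  have := Fintype.ofFinite G
  set CP := centralizer ((P : Subgroup G) : Set G) with hCP
  set N := normalizer ((P : Subgroup G) : Set G) with hNdef
  have hCN : CP ≤ N := centralizer_le_normalizer _
  have hPcard : Nat.card ↥(P : Subgroup G) = 7 := by
    simpa using card_sylow_eq (p := 7) (a := 1) (m := 576) (by rw [h]; norm_num) (by norm_num) P
  obtain ⟨⟨v, hvC⟩, hv⟩ := exists_prime_orderOf_dvd_card' (G := CP) 3 (by rw [hC]; norm_num)
  have hv3 : orderOf v = 3 := (Subgroup.orderOf_coe _).trans hv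
  have hv1 : v ≠ 1 := fun h1 => by rw [h1, orderOf_one] at hv3; omega
  have hvv : v⁻¹ ≠ v := fun h1 => by
    have h2 : v ^ 2 = 1 := by rw [pow_two]; calc v * v = v⁻¹ * v := by rw [h1]
                                             _ = 1 := inv_mul_cancel v
    have := orderOf_dvd_of_pow_eq_one h2
    rw [hv3] at this; norm_num at this
  have hPc : (P : Subgroup G) ≤ CP := by
    have : IsCyclic ↥(P : Subgroup G) := isCyclic_of_prime_card hPcard
    have : IsMulCommutative ↥(P : Subgroup G) := ⟨⟨fun a b => IsCyclic.commGroup.mul_comm a b⟩⟩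
    exact (P : Subgroup G).le_centralizer
  -- `CP` is commutative and `v` spans its elements of order three
  have hcomm : ∀ a ∈ CP, ∀ b ∈ CP, a * b = b * a := by
    have hle : (P : Subgroup G).subgroupOf CP ≤ center CP := fun y hy =>
      mem_center_iff.mpr fun a => Subtype.ext (mem_centralizer_iff.mp a.2 _ hy).symm
    have h7 : 7 ∣ Nat.card (center CP) := by
      have := card_dvd_of_le hle
      rwa [Nat.card_congr (subgroupOfEquivOfLe hPc).toEquiv, hPcard] at this
    have h21 := card_eq_card_quotient_mul_card_subgroup (center CP)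
    rw [hC] at h21
    obtain ⟨k, hk⟩ := h7
    have hd : Nat.card (↥CP ⧸ center CP) ∣ 3 := ⟨k, by rw [hk] at h21; nlinarith⟩
    have : IsCyclic (↥CP ⧸ center CP) := by
      rcases (Nat.dvd_prime Nat.prime_three).mp hd with hq | hq
      · have := (Nat.card_eq_one_iff_unique.mp hq).1
        exact isCyclic_of_subsingleton
      · exact isCyclic_of_prime_card (p := 3) hq
    intro a ha b hb
    exact congrArg Subtype.val (commutative_of_cyclic_center_quotient (QuotientGroup.mk' (center CP))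
      (QuotientGroup.ker_mk' _).le ⟨a, ha⟩ ⟨b, hb⟩)
  have huniq : ∀ x ∈ CP, orderOf x = 3 → x = v ∨ x = v⁻¹ := by
    intro x hx hx3
    have hp : IsPGroup 3 ↥(zpowers v ⊔ zpowers x) :=
      (IsPGroup.of_card (n := 1) (by rw [Nat.card_zpowers, hv3, pow_one])).to_sup_of_normal_right'
        (IsPGroup.of_card (n := 1) (by rw [Nat.card_zpowers, hx3, pow_one])) (zpowers_le.mpr
          (mem_normalizer_iff.mpr fun z => ⟨fun hz => by
            obtain ⟨i, rfl⟩ := mem_zpowers_iff.mp hz
            rw [hcomm v hvC _ (CP.zpow_mem hx i), mul_inv_cancel_right]; exact hz, fun hz => by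
            obtain ⟨i, hi⟩ := mem_zpowers_iff.mp hz
            have hzC : z = v⁻¹ * x ^ i * v := by rw [hi]; group
            rw [hzC, mul_assoc, ← hcomm v hvC _ (CP.zpow_mem hx i), inv_mul_cancel_left]
            exact zpow_mem_zpowers x i⟩))
    obtain ⟨k, hk⟩ := hp.exists_card_eq
    have hd := card_dvd_of_le (sup_le (zpowers_le.mpr hvC) (zpowers_le.mpr hx) : zpowers v ⊔ zpowers x ≤ CP)
    rw [hk, hC] at hd
    have hk1 : k ≤ 1 := by
      by_contra hk2
      have h4 : 3 ^ 2 ∣ 21 := (pow_dvd_pow 3 (by omega : 2 ≤ k)).trans hd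
      norm_num at h4
    have he : zpowers v = zpowers v ⊔ zpowers x := eq_of_le_of_card_ge le_sup_left (by
      rw [hk, Nat.card_zpowers, hv3]
      exact (Nat.pow_le_pow_right (by norm_num) hk1).trans (le_of_eq (pow_one 3)))
    obtain ⟨i, hi⟩ := mem_zpowers_iff.mp (he.symm ▸ mem_sup_right (mem_zpowers x) : x ∈ zpowers v)
    have hu1 : v ^ i = v ^ (i % 3) := by rw [← zpow_mod_orderOf v i, hv3]; rfl
    have : i % 3 = 0 ∨ i % 3 = 1 ∨ i % 3 = 2 := by omega
    rcases this with h2 | h2 | h2 <;> rw [h2] at hu1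
    · rw [hi, zpow_zero] at hu1
      rw [hu1, orderOf_one] at hx3
      omega
    · left; rw [← hi, hu1, zpow_one]
    · right
      rw [← hi, hu1]
      refine eq_inv_of_mul_eq_one_left ?_
      rw [← zpow_add_one, show (2 : ℤ) + 1 = ((3 : ℕ) : ℤ) by norm_num, zpow_natCast, ← hv3, pow_orderOf_eq_one]
  -- `v` is central in `N(P)`
  have hNv : ∀ g ∈ N, g * v * g⁻¹ = v := by
    intro g hg
    have hmem : g * v * g⁻¹ ∈ CP := mem_centralizer_iff.mpr fun y hy => by
      have hy' : g⁻¹ * y * g ∈ (P : Subgroup G) := (mem_normalizer_iff''.mp hg y).mp hy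
      calc y * (g * v * g⁻¹) = g * (g⁻¹ * y * g * v) * g⁻¹ := by group
        _ = g * (v * (g⁻¹ * y * g)) * g⁻¹ := by rw [mem_centralizer_iff.mp hvC _ hy']
        _ = g * v * g⁻¹ * y := by group
    rcases huniq _ hmem ((orderOf_injective (MulAut.conj g).toMonoidHom (MulAut.conj g).injective v).trans hv3) with h' | h'
    · exact h'
    · exfalso
      have hodd := CfsgLib.Involutions.pow_inverts_of_odd h' (m := 63) ⟨31, by norm_num⟩
      rw [orderOf_dvd_iff_pow_eq_one.mp (hN ▸ Subgroup.orderOf_dvd_natCard _ hg), one_mul, inv_one, mul_one] at hodd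
      exact hvv hodd.symm
  have hNle : N ≤ centralizer ({v} : Set G) := fun g hg =>
    mem_centralizer_singleton.mpr (mul_inv_eq_iff_eq_mul.mp (hNv g hg))
  have hPv : (P : Subgroup G) ≤ centralizer ({v} : Set G) := le_normalizer.trans hNle
  have htop := centralizer_ne_top hG (t := v) hv1
  -- the centraliser of `v` is `N(P)`
  have hCv : centralizer ({v} : Set G) = N := by
    refine le_antisymm ?_ hNle
    obtain ⟨hmod, -, hle, hmul⟩ := relIndex_normalizer_centralizer P hPv
    rw [← hNdef] at hmod hle hmul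
    rw [inf_of_le_left hNle, hN] at hmul
    rw [hn] at hle
    have hCd : N.relIndex (centralizer ({v} : Set G)) * 63 ∣ 4032 := by
      rw [hmul, ← h]; exact card_subgroup_dvd_card _
    have hmem : N.relIndex (centralizer ({v} : Set G)) = 1 ∨ N.relIndex (centralizer ({v} : Set G)) = 8 ∨
        N.relIndex (centralizer ({v} : Set G)) = 64 := by
      have hd : N.relIndex (centralizer ({v} : Set G)) ∣ 64 :=
        (Nat.mul_dvd_mul_iff_right (show 0 < 63 by norm_num)).mp (by simpa using hCd)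
      have hall : ∀ i ∈ Finset.range 65, i ∣ 64 → i % 7 = 1 → i = 1 ∨ i = 8 ∨ i = 64 := by decide
      exact hall _ (Finset.mem_range.mpr (by omega)) hd (by omega)
    rcases hmem with h1 | h1 | h1
    · exact relIndex_eq_one.mp h1
    · exfalso
      set C := centralizer ({v} : Set G) with hCdef
      have hidx : Nat.card (G ⧸ C) = 8 := by
        have h' := card_mul_index C
        rw [← hmul, h1, h] at h'
        rw [← index_eq_card]; omega
      obtain ⟨⟨y, hyP⟩, hy⟩ := exists_prime_orderOf_dvd_card' (G := ↥(P : Subgroup G)) 7 (dvd_of_eq hPcard.symm)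
      have hy7 : orderOf y = 7 := (Subgroup.orderOf_coe _).trans hy
      have hy1 : y ≠ 1 := fun h' => by rw [h', orderOf_one] at hy7; omega
      obtain ⟨g₀, hg₀⟩ : ∃ g₀ : G, g₀ • ((1 : G) : G ⧸ C) ≠ ((1 : G) : G ⧸ C) := by
        by_contra hcon
        push Not at hcon
        refine htop (eq_top_iff.mpr fun g _ => ?_)
        have hg : ((g * 1 : G) : G ⧸ C) = ((1 : G) : G ⧸ C) := hcon g
        rw [mul_one] at hg
        simpa using QuotientGroup.eq.mp hg.symm
      have hzy : IsPGroup 7 (zpowers y) := IsPGroup.of_card (n := 1) (by rw [Nat.card_zpowers, hy7, pow_one])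
      have hzv : IsPGroup 3 (zpowers v) := IsPGroup.of_card (n := 1) (by rw [Nat.card_zpowers, hv3, pow_one])
      have hfy : Nat.card (fixedBy (G ⧸ C) y) = 1 := by
        have h2 : Nat.card (fixedBy (G ⧸ C) y) < 8 := hidx ▸ card_fixedBy_lt hg₀ hy1
        have h3 : 8 % 7 = Nat.card (fixedBy (G ⧸ C) y) % 7 := hidx ▸ card_modEq_card_fixedBy hzy
        omega
      have hv8 : Nat.card (fixedBy (G ⧸ C) v) < 8 := hidx ▸ card_fixedBy_lt hg₀ hv1
      have hv3' : 8 % 3 = Nat.card (fixedBy (G ⧸ C) v) % 3 := hidx ▸ card_modEq_card_fixedBy hzv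
      have := Fintype.ofFinite (G ⧸ C)
      have hvy : v * y = y * v := (mem_centralizer_iff.mp hvC y hyP).symm
      set Z := (Finset.univ : Finset (G ⧸ C)).filter fun a => v • a = a with hZ
      have hZc : Z.card = Nat.card (fixedBy (G ⧸ C) v) := by
        rw [Nat.card_eq_fintype_card]; exact (Fintype.card_subtype _).symm
      have hm : Z.card ≡ 1 [MOD 7] := by
        refine (card_modEq_card_filter hzy Z fun g hg a ha => ?_).trans ?_
        · rw [hZ, Finset.mem_filter] at ha ⊢
          refine ⟨Finset.mem_univ _, ?_⟩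
          obtain ⟨i, rfl⟩ := mem_zpowers_iff.mp hg
          rw [smul_smul, ((show Commute v y from hvy).zpow_right i).eq, mul_smul, ha.2]
        · refine congrArg (· % 7) (Finset.card_eq_one.mpr ⟨((1 : G) : G ⧸ C), ?_⟩)
          have hyfix : ∀ a : G ⧸ C, y • a = a → a = ((1 : G) : G ⧸ C) := by
            intro a ha
            have hsub := (Finite.card_le_one_iff_subsingleton.mp hfy.le).elim ⟨a, ha⟩ ⟨((1 : G) : G ⧸ C), by
              show ((y * 1 : G) : G ⧸ C) = _
              rw [mul_one]; exact QuotientGroup.eq.mpr (by simpa using hPv hyP)⟩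
            exact congrArg Subtype.val hsub
          ext a
          simp only [hZ, Finset.mem_filter, Finset.mem_univ, true_and, Finset.mem_singleton]
          refine ⟨fun ha => hyfix a (ha.2 y (mem_zpowers y)), fun ha => ?_⟩
          subst ha
          have hC1 : ∀ g ∈ C, g • ((1 : G) : G ⧸ C) = ((1 : G) : G ⧸ C) := fun g hg => by
            show ((g * 1 : G) : G ⧸ C) = _
            rw [mul_one]; exact QuotientGroup.eq.mpr (by simpa using hg)
          exact ⟨hC1 v (mem_centralizer_singleton.mpr rfl), fun g hg => hC1 g (zpowers_le.mpr (hPv hyP) hg)⟩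
      rw [hZc] at hm
      have : Nat.card (fixedBy (G ⧸ C) v) % 7 = 1 := hm
      omega
    · exact absurd (eq_top_of_card_eq _ (by rw [← hmul, h1, h])) htop
  -- a Sylow `3`-subgroup through `v`
  obtain ⟨R₀⟩ := (inferInstance : Nonempty (Sylow 3 N))
  have hR₀ : Nat.card ↥(R₀ : Subgroup N) = 3 ^ 2 :=
    card_sylow_eq (m := 7) (by rw [hN]; norm_num) (by norm_num) R₀
  have hRG : Nat.card G = 3 ^ 2 * 448 := by rw [h]; norm_num
  obtain ⟨R, hR⟩ : ∃ R : Sylow 3 G, (R : Subgroup G) = (R₀ : Subgroup N).map N.subtype := by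
    obtain ⟨R, hR⟩ := (R₀.isPGroup'.map N.subtype).exists_le_sylow
    exact ⟨R, (eq_of_le_of_card_ge hR (by
      rw [card_map_of_injective (subtype_injective _), hR₀, card_sylow_eq hRG (by norm_num) R])).symm⟩
  have hRN : (R : Subgroup G) ≤ N := hR ▸ map_subtype_le _
  have hRcard : Nat.card ↥(R : Subgroup G) = 9 := card_sylow_eq hRG (by norm_num) R
  have hvR : v ∈ (R : Subgroup G) := by
    have hnz : zpowers v ≤ normalizer ((R : Subgroup G) : Set G) := zpowers_le.mpr (centralizer_le_normalizer _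
      (mem_centralizer_iff.mpr fun y hy => mul_inv_eq_iff_eq_mul.mp (hNv y (hRN hy))))
    exact ((IsPGroup.inf_normalizer_sylow (IsPGroup.of_card (n := 1) (by rw [Nat.card_zpowers, hv3, pow_one])) R).le
      ⟨mem_zpowers v, hnz (mem_zpowers v)⟩).2
  have hRcomm : IsMulCommutative ↥(R : Subgroup G) :=
    ⟨⟨IsPGroup.commutative_of_card_eq_prime_sq (p := 3) (hRcard.trans (by norm_num))⟩⟩
  -- `v` is not conjugate to its inverse
  have hreal : ∀ g : G, g * v * g⁻¹ ≠ v⁻¹ := by
    intro g hg
    have hgN : g ∈ N := by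
      refine Sylow.smul_eq_iff_mem_normalizer.mp (sylow_eq_of_le fun y hy => ?_)
      refine ((IsPGroup.inf_normalizer_sylow (g • P).isPGroup' P).le ⟨hy, ?_⟩).2
      rw [Sylow.coe_subgroup_smul, mem_pointwise_smul_iff_inv_smul_mem] at hy
      show y ∈ N
      rw [← hCv, mem_centralizer_singleton]
      have hyv := mem_centralizer_singleton.mp (hPv hy)
      simp only [MulAut.smul_def, ← map_inv, MulAut.conj_apply, inv_inv] at hyv
      have hinv : v = g * v⁻¹ * g⁻¹ := by rw [← conj_inv, hg, inv_inv]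
      have hyv' : g⁻¹ * y * g * v⁻¹ = v⁻¹ * (g⁻¹ * y * g) :=
        ((show Commute (g⁻¹ * y * g) v from hyv).inv_right).eq
      rw [hinv]
      calc y * (g * v⁻¹ * g⁻¹) = g * (g⁻¹ * y * g * v⁻¹) * g⁻¹ := by group
        _ = g * (v⁻¹ * (g⁻¹ * y * g)) * g⁻¹ := by rw [hyv']
        _ = g * v⁻¹ * g⁻¹ * y := by group
    exact hvv ((hNv g hgN).symm.trans hg).symm
  -- the orbit of `v` under the normaliser of `R`
  set M := normalizer ((R : Subgroup G) : Set G) with hMdef
  have hMN : Nat.card ↥(M ⊓ N : Subgroup G) = 9 := by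
    have h1 : Nat.card (Sylow 3 N) = M.relIndex N := SylowNumber.card_sylow_subgroup R hRN
    have hm := card_sylow_mem (G := N) (p := 3) (a := 2) (m := 7) (by rw [hN]; norm_num) (by norm_num)
    rw [show (Nat.divisors 7).filter (fun d => d % 3 = 1) = {1, 7} by decide] at hm
    simp only [Finset.mem_insert, Finset.mem_singleton] at hm
    rw [h1] at hm
    have hmul : Nat.card ↥(M ⊓ N : Subgroup G) * M.relIndex N = 63 := by
      have h' := relIndex_mul_relIndex ⊥ (M ⊓ N) N bot_le inf_le_right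
      rw [relIndex_bot_left, relIndex_bot_left, inf_relIndex_right, hN] at h'
      exact h'
    rcases hm with hm | hm
    · exfalso
      have hle : N ≤ M := relIndex_eq_one.mp hm
      have hPR : ∀ y ∈ (P : Subgroup G), ∀ r ∈ (R : Subgroup G), y * r = r * y := by
        intro y hy r hr
        have h1 : y * r * y⁻¹ * r⁻¹ ∈ (P : Subgroup G) ⊓ (R : Subgroup G) := by
          refine mem_inf.mpr ⟨?_, mul_mem ((mem_normalizer_iff.mp (hle (le_normalizer hy)) r).mp hr) (inv_mem hr)⟩
          rw [show y * r * y⁻¹ * r⁻¹ = y * (r * y⁻¹ * r⁻¹) by group]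
          exact mul_mem hy ((mem_normalizer_iff.mp (hRN hr) y⁻¹).mp (inv_mem hy))
        have h2 : y * r * y⁻¹ * r⁻¹ = 1 := by
          have h3 := Nat.dvd_gcd (hPcard ▸ Subgroup.orderOf_dvd_natCard _ (mem_inf.mp h1).1)
            (hRcard ▸ Subgroup.orderOf_dvd_natCard _ (mem_inf.mp h1).2)
          exact orderOf_eq_one_iff.mp (Nat.dvd_one.mp (by simpa using h3))
        calc y * r = y * r * y⁻¹ * r⁻¹ * (r * y) := by group
          _ = r * y := by rw [h2, one_mul]
      have hle' : (R : Subgroup G) ≤ CP := fun r hr => mem_centralizer_iff.mpr fun y hy => hPR y hy r hr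
      have := card_dvd_of_le hle'
      rw [hRcard, hC] at this
      norm_num at this
    · rw [hm] at hmul; omega
  have hact : ∀ n ∈ M, ∀ x ∈ (R : Subgroup G), n * x * n⁻¹ ∈ (R : Subgroup G) := fun n hn x hx =>
    (mem_normalizer_iff.mp hn x).mp hx
  let O : Finset G := (Finset.univ : Finset ↥M).image fun n : ↥M => (n : G) * v * (n : G)⁻¹
  have hOR : ∀ x ∈ O, x ∈ (R : Subgroup G) := fun x hx => by
    obtain ⟨n, -, rfl⟩ := Finset.mem_image.mp hx; exact hact n n.2 v hvR
  have hOo : O.card * 9 = Nat.card M := by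
    rw [← hMN, Nat.card_eq_fintype_card, Nat.card_eq_fintype_card, ← Finset.card_univ (α := ↥M)]
    rw [Finset.card_eq_sum_card_image (fun n : ↥M => (n : G) * v * (n : G)⁻¹) Finset.univ,
      Finset.sum_const_nat (m := Fintype.card ↥(M ⊓ N : Subgroup G))]
    intro b hb
    obtain ⟨n₀, -, rfl⟩ := Finset.mem_image.mp hb
    rw [← Finset.card_univ]
    refine (Finset.card_bij (fun (k : ↥(M ⊓ N : Subgroup G)) _ => n₀ * ⟨k, (mem_inf.mp k.2).1⟩)
      (fun k _ => ?_) (fun a _ b _ h => ?_) (fun n hn => ?_)).symm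
    · refine Finset.mem_filter.mpr ⟨Finset.mem_univ _, ?_⟩
      show (n₀ : G) * k * v * ((n₀ : G) * k)⁻¹ = n₀ * v * (n₀ : G)⁻¹
      calc (n₀ : G) * k * v * ((n₀ : G) * k)⁻¹ = n₀ * ((k : G) * v * (k : G)⁻¹) * (n₀ : G)⁻¹ := by group
        _ = _ := by rw [hNv k (mem_inf.mp k.2).2]
    · exact Subtype.ext (congrArg Subtype.val (mul_left_cancel h) :)
    · have hn' : (n : G) * v * (n : G)⁻¹ = n₀ * v * (n₀ : G)⁻¹ := (Finset.mem_filter.mp hn).2
      have hk : (n₀ : G)⁻¹ * n ∈ N := by
        rw [← hCv, mem_centralizer_singleton]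
        calc (n₀ : G)⁻¹ * n * v = (n₀ : G)⁻¹ * (n * v * (n : G)⁻¹) * n := by group
          _ = (n₀ : G)⁻¹ * (n₀ * v * (n₀ : G)⁻¹) * n := by rw [hn']
          _ = v * ((n₀ : G)⁻¹ * n) := by group
      exact ⟨⟨_, mem_inf.mpr ⟨M.mul_mem (M.inv_mem n₀.2) n.2, hk⟩⟩, Finset.mem_univ _,
        Subtype.ext (mul_inv_cancel_left (n₀ : G) n)⟩
  have hO1 : ∀ x ∈ O, x ≠ 1 ∧ x⁻¹ ∉ O := by
    intro x hx
    obtain ⟨n, -, rfl⟩ := Finset.mem_image.mp hx
    refine ⟨fun h1 => hv1 ?_, fun h1 => ?_⟩
    · calc v = (n : G)⁻¹ * ((n : G) * v * (n : G)⁻¹) * n := by group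
        _ = 1 := by rw [h1]; group
    · obtain ⟨m, -, hm⟩ := Finset.mem_image.mp h1
      apply hreal ((n : G)⁻¹ * m)
      calc (n : G)⁻¹ * m * v * ((n : G)⁻¹ * m)⁻¹ = (n : G)⁻¹ * ((m : G) * v * (m : G)⁻¹) * n := by group
        _ = v⁻¹ := by rw [hm]; group
  have hvO : v ∈ O := Finset.mem_image.mpr ⟨1, Finset.mem_univ _, by simp⟩
  have hO4 : O.card ≤ 4 := by
    have h1 : (O ∪ O.image fun x => x⁻¹).card ≤ ((Finset.univ : Finset ↥(R : Subgroup G)).image Subtype.val |>.erase 1).card := by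
      refine Finset.card_le_card fun x hx => ?_
      rw [Finset.mem_erase, Finset.mem_image]
      rcases Finset.mem_union.mp hx with hx | hx
      · exact ⟨(hO1 x hx).1, ⟨x, hOR x hx⟩, Finset.mem_univ _, rfl⟩
      · obtain ⟨y, hy, rfl⟩ := Finset.mem_image.mp hx
        exact ⟨fun h1 => (hO1 y hy).1 (inv_eq_one.mp h1), ⟨y⁻¹, inv_mem (hOR y hy)⟩, Finset.mem_univ _, rfl⟩
    rw [Finset.card_union_of_disjoint (Finset.disjoint_left.mpr fun x hx hx' => by
      obtain ⟨y, hy, rfl⟩ := Finset.mem_image.mp hx'; exact (hO1 y hy).2 hx),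
      Finset.card_image_of_injective _ inv_injective,
      Finset.card_erase_of_mem (show (1 : G) ∈ (Finset.univ : Finset ↥(R : Subgroup G)).image Subtype.val from
        Finset.mem_image.mpr ⟨(1 : ↥(R : Subgroup G)), Finset.mem_univ _, rfl⟩),
      Finset.card_image_of_injective _ Subtype.val_injective, Finset.card_univ, ← Nat.card_eq_fintype_card, hRcard] at h1
    omega
  have hcases : O.card = 1 ∨ O.card = 4 := by
    have h1 := card_sylow_mul_card_normalizer R
    rw [← hMdef, ← hOo, h] at h1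
    have h2 : Nat.card (Sylow 3 G) % 3 = 1 % 3 := card_sylow_modEq_one 3 G
    have h0 : 0 < O.card := Finset.card_pos.mpr ⟨v, hvO⟩
    rcases (show O.card = 1 ∨ O.card = 2 ∨ O.card = 3 ∨ O.card = 4 by omega) with h' | h' | h' | h' <;>
      rw [h'] at h1 <;> omega
  rcases hcases with h' | h'
  · obtain ⟨x, hx⟩ := Finset.card_eq_one.mp h'
    refine hv1 (eq_one_of_centralized_by_normalizer hG R hvR fun n hn => ?_)
    have h1 : n * v * n⁻¹ ∈ O := Finset.mem_image.mpr ⟨⟨n, hn⟩, Finset.mem_univ _, rfl⟩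
    have h2 := hvO
    rw [hx, Finset.mem_singleton] at h1 h2
    exact mul_inv_eq_iff_eq_mul.mp (h1.trans h2.symm)
  -- four conjugates, one on each line
  obtain ⟨w, hw, hwv⟩ : ∃ w ∈ O, w ≠ v := Finset.exists_mem_ne (by omega) v
  have hw3 : orderOf w = 3 := by
    obtain ⟨n, -, rfl⟩ := Finset.mem_image.mp hw
    exact (orderOf_injective (MulAut.conj (n : G)).toMonoidHom (MulAut.conj (n : G)).injective v).trans hv3
  let v' : ↥(R : Subgroup G) := ⟨v, hvR⟩
  let w' : ↥(R : Subgroup G) := ⟨w, hOR w hw⟩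
  have hv'3 : orderOf v' = 3 := (Subgroup.orderOf_coe v').symm.trans hv3
  have hw'3 : orderOf w' = 3 := (Subgroup.orderOf_coe w').symm.trans hw3
  let φ : ZMod 3 × ZMod 3 → ↥(R : Subgroup G) := fun x => v' ^ x.1.val * w' ^ x.2.val
  have hφadd : ∀ x y, φ (x + y) = φ x * φ y := by
    intro x y
    simp only [φ, Prod.fst_add, Prod.snd_add, ZMod.val_add]
    conv_lhs => rw [show x.1.val + y.1.val = x.1.val + y.1.val from rfl]
    have e1 : ∀ k : ℕ, v' ^ (k % 3) = v' ^ k := fun k => by rw [← pow_mod_orderOf v' k, hv'3]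
    have e2 : ∀ k : ℕ, w' ^ (k % 3) = w' ^ k := fun k => by rw [← pow_mod_orderOf w' k, hw'3]
    rw [e1, e2, pow_add, pow_add]
    exact mul_mul_mul_comm _ _ _ _
  have hker : ∀ x, φ x = 1 → x = 0 := by
    rintro ⟨i, j⟩ hij
    have hwz : w' ∉ zpowers v' := by
      intro hm
      obtain ⟨k, hk⟩ := mem_zpowers_iff.mp hm
      have hk' : v ^ k = w := congrArg Subtype.val hk
      have hu1 : v ^ k = v ^ (k % 3) := by rw [← zpow_mod_orderOf v k, hv3]; rfl
      have : k % 3 = 0 ∨ k % 3 = 1 ∨ k % 3 = 2 := by omega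
      rcases this with h2 | h2 | h2 <;> rw [h2, hk'] at hu1
      · rw [hu1, zpow_zero] at hw; exact (hO1 1 hw).1 rfl
      · exact hwv (hu1.trans (zpow_one v))
      · refine (hO1 v hvO).2 ((show v⁻¹ = w from ?_) ▸ hw)
        rw [hu1]
        refine (eq_inv_of_mul_eq_one_left ?_).symm
        rw [← zpow_add_one, show (2 : ℤ) + 1 = ((3 : ℕ) : ℤ) by norm_num, zpow_natCast, ← hv3, pow_orderOf_eq_one]
    simp only [φ] at hij
    have hj : w' ^ j.val ∈ zpowers v' := by
      rw [eq_inv_of_mul_eq_one_right hij]; exact inv_mem (pow_mem (mem_zpowers v') _)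
    have hj0 : j.val = 0 := by
      by_contra hne
      have hlt := j.val_lt
      apply hwz
      have h3 : w' ^ 3 = 1 := by
        have := pow_orderOf_eq_one w'
        rwa [hw'3] at this
      rcases (show j.val = 1 ∨ j.val = 2 by omega) with h2 | h2 <;> rw [h2] at hj
      · simpa using hj
      · have := inv_mem hj
        rwa [show (w' ^ 2)⁻¹ = w' from inv_eq_of_mul_eq_one_right (by rw [← pow_succ]; exact h3)] at this
    rw [hj0, pow_zero, mul_one] at hij
    have hi0 : i.val = 0 := by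
      have hd : 3 ∣ i.val := (dvd_of_eq hv'3.symm).trans (orderOf_dvd_of_pow_eq_one hij)
      have := i.val_lt
      omega
    exact Prod.ext ((ZMod.val_eq_zero i).mp hi0) ((ZMod.val_eq_zero j).mp hj0)
  have hφinj : Function.Injective φ := fun x y hxy => by
    refine sub_eq_zero.mp (hker _ ?_)
    have h1 : φ (x - y) * φ y = φ x := by rw [← hφadd, sub_add_cancel]
    rw [hxy] at h1
    exact mul_eq_right.mp h1
  have hφbij : Function.Bijective φ := (Fintype.bijective_iff_injective_and_card φ).mpr ⟨hφinj, by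
    rw [← Nat.card_eq_fintype_card (α := ↥(R : Subgroup G)), hRcard]; rfl⟩
  have hφzero : φ 0 = 1 := by
    have h1 := hφadd 0 0
    rw [add_zero] at h1
    exact left_eq_mul.mp h1
  set s := (Finset.univ : Finset (ZMod 3 × ZMod 3)).filter fun x => (φ x : G) ∈ O with hs
  have hscard : s.card = 4 := by
    rw [← h']
    refine Finset.card_bij (fun x _ => (φ x : G)) (fun x hx => (Finset.mem_filter.mp hx).2)
      (fun a _ b _ hab => hφinj (Subtype.ext hab)) fun x hx => ?_
    obtain ⟨z, hz⟩ := hφbij.2 ⟨x, hOR x hx⟩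
    exact ⟨z, Finset.mem_filter.mpr ⟨Finset.mem_univ _, by rw [hz]; exact hx⟩, congrArg Subtype.val hz⟩
  have hne := no_invariant_transversal s hscard (fun hmem => (hO1 _ (Finset.mem_filter.mp hmem).2).1
      (show (φ (0, 0) : G) = 1 by rw [show ((0 : ZMod 3), (0 : ZMod 3)) = 0 from rfl, hφzero]; rfl))
    (fun x hx hx' => (hO1 _ (Finset.mem_filter.mp hx).2).2 (by
      have h1 := hφadd x (-x)
      rw [add_neg_cancel, hφzero] at h1
      have h2 : (φ (-x) : G) = (φ x : G)⁻¹ := congrArg Subtype.val (eq_inv_of_mul_eq_one_right h1.symm)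
      exact h2 ▸ (Finset.mem_filter.mp hx').2))
  apply hne
  apply hker
  set Os := s.image φ with hOs
  have hprod : φ (∑ x ∈ s, x) = ∏ x ∈ Os, x := by
    rw [hOs, Finset.prod_image fun a _ b _ hab => hφinj hab]
    clear_value s
    clear hs hscard hne hOs Os
    induction s using Finset.induction_on with
    | empty => simpa using hφzero
    | insert a t hat ih => rw [Finset.sum_insert hat, Finset.prod_insert hat, hφadd, ih]
  rw [hprod]
  refine Subtype.ext (eq_one_of_centralized_by_normalizer hG R (∏ x ∈ Os, x).2 fun n hn => ?_)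
  let θ : ↥(R : Subgroup G) →* ↥(R : Subgroup G) :=
    { toFun := fun x => ⟨n * x * n⁻¹, hact n hn x x.2⟩
      map_one' := Subtype.ext (by simp)
      map_mul' := fun a b => Subtype.ext (by simp [mul_assoc]) }
  have hθinj : Function.Injective θ := fun a b hab =>
    Subtype.ext (mul_left_cancel (mul_right_cancel (congrArg Subtype.val hab)))
  have hmemOs : ∀ x : ↥(R : Subgroup G), x ∈ Os ↔ (x : G) ∈ O := by
    intro x
    simp only [hOs, hs, Finset.mem_image, Finset.mem_filter, Finset.mem_univ, true_and]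
    exact ⟨fun ⟨z, hz, hzx⟩ => hzx ▸ hz, fun hx => ⟨(hφbij.2 x).choose, by rw [(hφbij.2 x).choose_spec]; exact hx, (hφbij.2 x).choose_spec⟩⟩
  have hinv : θ (∏ x ∈ Os, x) = ∏ x ∈ Os, x := by
    rw [map_prod]
    have himg : Os.image θ = Os := Finset.eq_of_subset_of_card_le (fun y hy => by
      obtain ⟨x, hx, rfl⟩ := Finset.mem_image.mp hy
      rw [hmemOs] at hx ⊢
      obtain ⟨m, -, hm⟩ := Finset.mem_image.mp hx
      refine Finset.mem_image.mpr ⟨⟨n, hn⟩ * m, Finset.mem_univ _, ?_⟩
      show n * (m : G) * v * (n * (m : G))⁻¹ = n * (x : G) * n⁻¹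
      rw [← hm]; group) (Finset.card_image_of_injective _ hθinj).ge
    conv_rhs => rw [← himg]
    rw [Finset.prod_image fun a _ b _ hab => hθinj hab]
  exact mul_inv_eq_iff_eq_mul.mp (congrArg Subtype.val hinv)

theorem key (h : Nat.card G = 4032) : False := by
  classical
  have hG := not_isMulCommutative_of_card_eq h (by norm_num)
  have : Fact (Nat.Prime 7) := ⟨by norm_num⟩
  have hn := card_sylow_mem (p := 7) (a := 1) (m := 576) (by rw [h]; norm_num) (by norm_num)
  rw [show (Nat.divisors 576).filter (fun d => d % 7 = 1) = {1, 8, 36, 64, 288} by decide +kernel] at hn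
  simp only [Finset.mem_insert, Finset.mem_singleton] at hn
  have h1 := one_lt_card_sylow hG (p := 7) (h ▸ by norm_num)
  obtain ⟨P⟩ := (inferInstance : Nonempty (Sylow 7 G))
  obtain ⟨c, e, hC, hN, he, hed, hprod⟩ := sylow_prime_data hG (m := 576) (by rw [h]) (by norm_num) P
  have he6 : e = 2 ∨ e = 3 ∨ e = 6 := by
    have := Nat.le_of_dvd (by norm_num) hed
    interval_cases e <;> omega
  rcases hn with hn | hn | hn | hn | hn
  · omega
  · rw [hn] at hprod
    obtain ⟨g₀, hg₀⟩ := exists_smul_sylow_ne hG (p := 7) (h ▸ by norm_num) P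
    obtain ⟨q, hq, hqc⟩ : ∃ q, (q = 2 ∨ q = 3) ∧ q ∣ c := by
      rcases he6 with rfl | rfl | rfl
      · exact ⟨2, Or.inl rfl, by omega⟩
      · exact ⟨2, Or.inl rfl, by omega⟩
      · exact ⟨2, Or.inl rfl, by omega⟩
    have : Fact q.Prime := ⟨by rcases hq with rfl | rfl <;> norm_num⟩
    obtain ⟨⟨x, hxC⟩, hx⟩ := exists_prime_orderOf_dvd_card' (G := ↥(centralizer ((P : Subgroup G) : Set G))) q
      (hC ▸ hqc.mul_left 7)
    have hxq : orderOf x = q := (Subgroup.orderOf_coe _).trans hx
    have hx1 : x ≠ 1 := fun h' => by rw [h', orderOf_one] at hxq; rcases hq with rfl | rfl <;> omega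
    have hlt : Nat.card (fixedBy (Sylow 7 G) x) < 8 := hn ▸ card_fixedBy_lt hg₀ hx1
    have h7 : Nat.card (fixedBy (Sylow 7 G) x) % 7 = 1 := card_fixedBy_sylow_modEq_one P hxC
    have hq' : 8 % q = Nat.card (fixedBy (Sylow 7 G) x) % q :=
      hn ▸ card_modEq_card_fixedBy (IsPGroup.of_card (n := 1) (by rw [Nat.card_zpowers, hxq, pow_one]))
    rcases hq with rfl | rfl <;> omega
  · rw [hn] at hprod
    obtain ⟨rfl, rfl⟩ : c = 8 ∧ e = 2 := by rcases he6 with rfl | rfl | rfl <;> omega
    exact false_of_central_involutions P (s := 3) (w := 4) (v := 6) (m := 63) (r := 7) (by rw [h]; norm_num)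
      (by norm_num) (hN.trans (by norm_num)) (by norm_num) (by rw [hC]; norm_num) (by norm_num) (by norm_num)
      fun t ht hPt hW => centralizer_le h P hn (hN.trans (by norm_num)) ht hPt hW
  · rw [hn] at hprod
    obtain ⟨rfl, rfl⟩ : c = 3 ∧ e = 3 := by rcases he6 with rfl | rfl | rfl <;> omega
    exact false_of_sixty_four h P hn (hC.trans (by norm_num)) (hN.trans (by norm_num))
  · rw [hn] at hprod
    obtain ⟨rfl, rfl⟩ : c = 1 ∧ e = 2 := by rcases he6 with rfl | rfl | rfl <;> omega
    exact false_of_self_centralizing h P (hC.trans (by norm_num)) (hN.trans (by norm_num))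

/-- No finite simple group has order 4032 = 2^6 * 3^2 * 7. -/
theorem result {G : Type*} [Group G] [Finite G] [IsSimpleGroup G] : Nat.card G ≠ 4032 := by
  exact fun h => key h

end Cfsg.Agent.S0976
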