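import Cfsg.Statements.S4774
import Cfsg.Agent.Lib.BrauerCharacters.PSL2Degrees
import Cfsg.Agent.Lib.Correspondences.SL2EvenDegrees

set_option autoImplicit false
open Cfsg CfsgLib CfsgLib.BrauerCharacters

namespace Cfsg.Agent.S4774

/-- Let F be a finite field of odd characteristic t with q > 5 elements and let S be isomorphic to PSL(2,F) or to SL(2,F). Then the vertices of the character degree graph of S are the primes dividing q(q²−1); the prime t is adjacent to no vertex; two distinct primes dividing q² − 1 are adjacent exactly when one of them is 2, or both divide q + 1, or both divide q − 1. -/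
theorem result (F : Type*) [Field F] [Fintype F] (t : ℕ) [Fact t.Prime] [CharP F t] (ht : t ≠ 2) (q : ℕ) (hq : Fintype.card F = q) (h5 : 5 < q) {S : Type*} [Group S] [Finite S] (hS : Nonempty (S ≃* Matrix.ProjectiveSpecialLinearGroup (Fin 2) F) ∨ Nonempty (S ≃* Matrix.SpecialLinearGroup (Fin 2) F)) : Cfsg.degreePrimes S = {r : ℕ | r.Prime ∧ r ∣ q * (q ^ 2 - 1)} ∧ ∀ r s : ℕ, (Cfsg.degreeGraph S).Adj r s ↔ (r ≠ s ∧ r.Prime ∧ s.Prime ∧ r ∣ q ^ 2 - 1 ∧ s ∣ q ^ 2 - 1 ∧ (r = 2 ∨ s = 2 ∨ (r ∣ q + 1 ∧ s ∣ q + 1) ∨ (r ∣ q - 1 ∧ s ∣ q - 1))) := by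
  classical
  have htp : t.Prime := Fact.out
  obtain ⟨a, -, ha⟩ := FiniteField.card F t
  rw [hq] at ha
  have hodd : Odd q := ha ▸ (htp.odd_of_ne_two ht).pow
  have hodd' : Odd (Fintype.card F) := hq ▸ hodd
  have h5' : 5 < Fintype.card F := hq ▸ h5
  obtain ⟨m, hm⟩ := hodd
  have hmem : ∀ {d : ℕ} (_ : ∃ ψ : IrrCharacter (Matrix.ProjectiveSpecialLinearGroup (Fin 2) F),
      charDegree (ψ : Matrix.ProjectiveSpecialLinearGroup (Fin 2) F → ℂ) = d), d ∈ charDegrees S := by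
    rintro d ⟨ψ, rfl⟩
    rcases hS with ⟨⟨e⟩⟩ | ⟨⟨e⟩⟩
    · rw [Correspondences.charDegrees_mulEquiv e]; exact ⟨ψ, rfl⟩
    · rw [Correspondences.charDegrees_mulEquiv e]; exact ⟨PSL2.inflate ψ, PSL2.charDegree_inflate ψ⟩
  have hB1 : q ∈ charDegrees S := hmem (by rw [← hq]; exact PSL2.exists_degree_card)
  have hB2 : q + 1 ∈ charDegrees S :=
    hmem (by rw [← hq]; exact PSL2.exists_degree_card_add_one hodd' h5')
  have hB3 : q - 1 ∈ charDegrees S :=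
    hmem (by rw [← hq]; exact PSL2.exists_degree_card_sub_one hodd' h5')
  have hA : ∀ d ∈ charDegrees S, d ∣ q ∨ d ∣ q + 1 ∨ d ∣ q - 1 := by
    intro d hd
    have hsl : ∀ χ : IrrCharacter (Matrix.SpecialLinearGroup (Fin 2) F),
        charDegree (χ : Matrix.SpecialLinearGroup (Fin 2) F → ℂ) = d →
        d ∣ q ∨ d ∣ q + 1 ∨ d ∣ q - 1 := by
      rintro χ rfl
      rcases PSL2.degree_cases_odd hodd' χ with e | e | e | e | e | e <;> simp only [e, hq]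
      · exact Or.inl (one_dvd _)
      · exact Or.inl dvd_rfl
      · exact Or.inr (Or.inl dvd_rfl)
      · exact Or.inr (Or.inr dvd_rfl)
      · exact Or.inr (Or.inl ⟨2, by omega⟩)
      · exact Or.inr (Or.inr ⟨2, by omega⟩)
    rcases hS with ⟨⟨e⟩⟩ | ⟨⟨e⟩⟩ <;> rw [Correspondences.charDegrees_mulEquiv e] at hd <;>
      obtain ⟨χ, hχ⟩ := hd
    · exact hsl (PSL2.inflate χ) (by rw [PSL2.charDegree_inflate, hχ])
    · exact hsl χ hχ
  have hsq : q ^ 2 - 1 = (q + 1) * (q - 1) := by rw [← Nat.sq_sub_sq, one_pow]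
  have hdvd : ∀ {r : ℕ}, r.Prime → (r ∣ q ^ 2 - 1 ↔ r ∣ q + 1 ∨ r ∣ q - 1) := fun hr => by
    rw [hsq]; exact hr.dvd_mul
  refine ⟨?_, fun r s => ⟨?_, ?_⟩⟩
  · ext r
    refine ⟨fun ⟨hr, d, hd, hrd⟩ => ⟨hr, ?_⟩, fun ⟨hr, hrd⟩ => ⟨hr, ?_⟩⟩
    · rcases hA d hd with h | h | h
      · exact Dvd.dvd.mul_right (hrd.trans h) _
      · exact Dvd.dvd.mul_left ((hdvd hr).2 (Or.inl (hrd.trans h))) _
      · exact Dvd.dvd.mul_left ((hdvd hr).2 (Or.inr (hrd.trans h))) _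
    · rcases hr.dvd_mul.1 hrd with h | h
      · exact ⟨q, hB1, h⟩
      · rcases (hdvd hr).1 h with h | h
        · exact ⟨_, hB2, h⟩
        · exact ⟨_, hB3, h⟩
  · rintro ⟨hrs, hr, hs, d, hd, hdiv⟩
    have hr' := (dvd_mul_right r s).trans hdiv
    have hs' := (dvd_mul_left s r).trans hdiv
    rcases hA d hd with h | h | h
    · refine absurd ?_ hrs
      have h1 := hr.dvd_of_dvd_pow (ha ▸ hr'.trans h)
      have h2 := hs.dvd_of_dvd_pow (ha ▸ hs'.trans h)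
      exact ((Nat.prime_dvd_prime_iff_eq hr htp).1 h1).trans
        ((Nat.prime_dvd_prime_iff_eq hs htp).1 h2).symm
    · exact ⟨hrs, hr, hs, (hdvd hr).2 (Or.inl (hr'.trans h)), (hdvd hs).2 (Or.inl (hs'.trans h)),
        Or.inr (Or.inr (Or.inl ⟨hr'.trans h, hs'.trans h⟩))⟩
    · exact ⟨hrs, hr, hs, (hdvd hr).2 (Or.inr (hr'.trans h)), (hdvd hs).2 (Or.inr (hs'.trans h)),
        Or.inr (Or.inr (Or.inr ⟨hr'.trans h, hs'.trans h⟩))⟩
  · rintro ⟨hrs, hr, hs, hr2, hs2, hcase⟩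
    refine ⟨hrs, hr, hs, ?_⟩
    have hmul : ∀ {d : ℕ}, r ∣ d → s ∣ d → r * s ∣ d := fun h1 h2 =>
      Nat.Coprime.mul_dvd_of_dvd_of_dvd ((Nat.coprime_primes hr hs).2 hrs) h1 h2
    have h2a : 2 ∣ q + 1 := ⟨m + 1, by omega⟩
    have h2b : 2 ∣ q - 1 := ⟨m, by omega⟩
    rcases hcase with h | h | h | h
    · subst h
      rcases (hdvd hs).1 hs2 with h | h
      · exact ⟨_, hB2, hmul h2a h⟩
      · exact ⟨_, hB3, hmul h2b h⟩
    · subst h
      rcases (hdvd hr).1 hr2 with h | h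
      · exact ⟨_, hB2, hmul h h2a⟩
      · exact ⟨_, hB3, hmul h h2b⟩
    · exact ⟨_, hB2, hmul h.1 h.2⟩
    · exact ⟨_, hB3, hmul h.1 h.2⟩

end Cfsg.Agent.S4774
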