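import Cfsg.Statements.S4811
import Cfsg.Agent.Lib.ZerosCodegree.PalfyThreePrimes

set_option autoImplicit false
open Cfsg

namespace Cfsg.Agent.S4811

/-- For every finite solvable group G the character degree graph of G (vertices: the primes dividing some irreducible complex character degree; edges: distinct primes whose product divides some degree) has at most two connected components. -/
theorem result {G : Type*} [Group G] [Finite G] [Group.IsSolvable G] : Nat.card ((Cfsg.degreeGraph G).induce (Cfsg.degreePrimes G)).ConnectedComponent ≤ 2 := by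
  classical
  set Γ := (Cfsg.degreeGraph G).induce (Cfsg.degreePrimes G)
  by_contra hcon
  rw [not_le] at hcon
  haveI : Finite Γ.ConnectedComponent := Nat.finite_of_card_ne_zero (by omega)
  haveI := Fintype.ofFinite Γ.ConnectedComponent
  rw [Nat.card_eq_fintype_card] at hcon
  obtain ⟨c₁, c₂, c₃, h12, h13, h23⟩ := Fintype.two_lt_card_iff.1 hcon
  obtain ⟨⟨p, hp, d, ⟨χp, rfl⟩, hpd⟩, rfl⟩ := c₁.exists_rep
  obtain ⟨⟨q, hq, d, ⟨χq, rfl⟩, hqd⟩, rfl⟩ := c₂.exists_rep
  obtain ⟨⟨r, hr, d, ⟨χr, rfl⟩, hrd⟩, rfl⟩ := c₃.exists_rep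
  have key : ∀ {a b : Cfsg.degreePrimes G},
      Quot.mk Γ.Reachable a ≠ Quot.mk Γ.Reachable b →
      a.1 ≠ b.1 ∧ ¬ CfsgLib.ZerosCodegree.Palfy.Pair G a.1 b.1 := by
    intro a b hne
    refine ⟨fun h => hne (by rw [Subtype.ext h]), fun ⟨χ, h1, h2⟩ => ?_⟩
    have hab : a.1 ≠ b.1 := fun h => hne (by rw [Subtype.ext h])
    refine hne (Quot.sound (SimpleGraph.Adj.reachable ?_))
    exact ⟨hab, a.2.1, b.2.1, _, ⟨χ, rfl⟩,
      ((Nat.coprime_primes a.2.1 b.2.1).2 hab).mul_dvd_of_dvd_of_dvd h1 h2⟩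
  obtain ⟨hpq, npq⟩ := key h12
  obtain ⟨hqr, nqr⟩ := key h23
  obtain ⟨hpr, npr⟩ := key h13
  rcases CfsgLib.ZerosCodegree.Palfy.three_primes _ G rfl inferInstance hp hq hr hpq hqr hpr
      ⟨χp, hpd⟩ ⟨χq, hqd⟩ ⟨χr, hrd⟩ with h | h | h
  exacts [npq h, nqr h, npr h]

end Cfsg.Agent.S4811
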