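import Cfsg.Statements.S4812
import Cfsg.Agent.Lib.Correspondences.SL2EvenDegrees
open CfsgLib.Correspondences

set_option linter.style.haveILetI false

set_option autoImplicit false
open Cfsg

namespace Cfsg.Agent.S4812

/-- Let F be a finite field of characteristic 2 with q ≥ 4 elements and let S be isomorphic to PSL(2,F) or to SL(2,F). Then the vertices of the character degree graph of S are the primes dividing q(q²−1), and two distinct primes are adjacent exactly when both divide q + 1 or both divide q − 1; so the graph has the three connected components {2}, the primes dividing q + 1 and the primes dividing q − 1, each complete. -/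
theorem result (F : Type*) [Field F] [Fintype F] [CharP F 2] (q : ℕ) (hq : Fintype.card F = q) (h4 : 4 ≤ q) {S : Type*} [Group S] [Finite S] (hS : Nonempty (S ≃* Matrix.ProjectiveSpecialLinearGroup (Fin 2) F) ∨ Nonempty (S ≃* Matrix.SpecialLinearGroup (Fin 2) F)) : Cfsg.degreePrimes S = {r : ℕ | r.Prime ∧ r ∣ q * (q ^ 2 - 1)} ∧ ∀ r s : ℕ, (Cfsg.degreeGraph S).Adj r s ↔ (r ≠ s ∧ r.Prime ∧ s.Prime ∧ ((r ∣ q + 1 ∧ s ∣ q + 1) ∨ (r ∣ q - 1 ∧ s ∣ q - 1))) := by
  classical
  have hbot : Subgroup.center (Matrix.SpecialLinearGroup (Fin 2) F) = ⊥ := by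
    rw [Subgroup.eq_bot_iff_forall]
    intro g hg
    have h := Set.ext_iff.1 (CfsgLib.SL2.center_eq (F := F)) g
    have h2 := (h.1 hg)
    simp only [Set.mem_insert_iff, Set.mem_singleton_iff] at h2
    rcases h2 with h2 | h2
    · exact h2
    · rw [h2]
      apply Subtype.ext
      simp [CharTwo.neg_eq]
  have hdeg : Cfsg.charDegrees S = {1, q - 1, q, q + 1} := by
    have h := charDegrees_SL2_even (F := F) (by omega)
    rw [hq] at h
    rcases hS with ⟨⟨e⟩⟩ | ⟨⟨e⟩⟩
    · rw [charDegrees_mulEquiv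
        (e.trans ((QuotientGroup.quotientMulEquivOfEq hbot).trans QuotientGroup.quotientBot)), h]
    · rw [charDegrees_mulEquiv e, h]
  have hpow : ∀ r : ℕ, r.Prime → r ∣ q → r = 2 := by
    intro r hr hd
    obtain ⟨n, -, hn⟩ := FiniteField.card F 2
    rw [hq] at hn
    rw [hn] at hd
    exact (Nat.prime_dvd_prime_iff_eq hr Nat.prime_two).1 (hr.dvd_of_dvd_pow hd)
  have hsq : q ^ 2 - 1 = (q + 1) * (q - 1) := by
    have := Nat.sq_sub_sq q 1
    simpa using this
  refine ⟨?_, ?_⟩
  · ext r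
    simp only [Cfsg.degreePrimes, hdeg, Set.mem_ofPred_eq, Set.mem_insert_iff, Set.mem_singleton_iff]
    constructor
    · rintro ⟨hr, d, hd, hrd⟩
      refine ⟨hr, ?_⟩
      rw [hsq]
      rcases hd with rfl | rfl | rfl | rfl
      · exact absurd (Nat.dvd_one.1 hrd) hr.ne_one
      · exact (hrd.mul_left _).mul_left _
      · exact hrd.mul_right _
      · exact (hrd.mul_right _).mul_left _
    · rintro ⟨hr, hrd⟩
      refine ⟨hr, ?_⟩
      rw [hsq] at hrd
      rcases hr.dvd_mul.1 hrd with h | h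
      · exact ⟨q, Or.inr (Or.inr (Or.inl rfl)), h⟩
      rcases hr.dvd_mul.1 h with h | h
      · exact ⟨q + 1, Or.inr (Or.inr (Or.inr rfl)), h⟩
      · exact ⟨q - 1, Or.inr (Or.inl rfl), h⟩
  · intro r s
    change (r ≠ s ∧ r.Prime ∧ s.Prime ∧ ∃ d ∈ Cfsg.charDegrees S, r * s ∣ d) ↔ _
    simp only [hdeg, Set.mem_insert_iff, Set.mem_singleton_iff]
    constructor
    · rintro ⟨hne, hr, hs, d, hd, hrs⟩
      refine ⟨hne, hr, hs, ?_⟩
      have hrd := dvd_of_mul_right_dvd hrs
      have hsd := dvd_of_mul_left_dvd hrs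
      rcases hd with rfl | rfl | rfl | rfl
      · exact absurd (Nat.dvd_one.1 hrd) hr.ne_one
      · exact Or.inr ⟨hrd, hsd⟩
      · exact absurd ((hpow r hr hrd).trans (hpow s hs hsd).symm) hne
      · exact Or.inl ⟨hrd, hsd⟩
    · rintro ⟨hne, hr, hs, h⟩
      refine ⟨hne, hr, hs, ?_⟩
      have hc := (Nat.coprime_primes hr hs).2 hne
      rcases h with ⟨h1, h2⟩ | ⟨h1, h2⟩
      · exact ⟨q + 1, Or.inr (Or.inr (Or.inr rfl)), hc.mul_dvd_of_dvd_of_dvd h1 h2⟩
      · exact ⟨q - 1, Or.inr (Or.inl rfl), hc.mul_dvd_of_dvd_of_dvd h1 h2⟩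

end Cfsg.Agent.S4812
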