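import Cfsg.Statements.S3559
import Cfsg.Agent.Lib.Fixity.RegularAbelian
import Cfsg.Agent.Lib.PermGroups.Basic

set_option autoImplicit false
set_option linter.style.haveILetI false
open Cfsg

namespace Cfsg.Agent.S3559

/-- Let G act faithfully and transitively on a finite set whose number of points n ≥ 2 is not a prime power, and suppose G has a cyclic subgroup acting regularly (transitively with trivial point stabilizers). Then G is imprimitive or doubly transitive. -/
theorem result {G Ω : Type*} [Group G] [Finite G] [MulAction G Ω] [FaithfulSMul G Ω] [Finite Ω]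
    (htrans : MulAction.IsPretransitive G Ω) (hn : 2 ≤ Nat.card Ω) (hnp : ¬ IsPrimePow (Nat.card Ω))
    (C : Subgroup G) (hcyc : IsCyclic ↥C) (hC : MulAction.IsPretransitive ↥C Ω ∧ ∀ a : Ω, MulAction.stabilizer ↥C a = ⊥) :
    ¬ MulAction.IsPreprimitive G Ω ∨ MulAction.IsMultiplyPretransitive G Ω 2 := by
  rw [← imp_iff_not_or]
  intro hprim
  haveI := hcyc
  obtain ⟨hCt, hCreg⟩ := hC
  haveI := hCt
  haveI : Nonempty Ω := (Nat.card_pos_iff.1 (by omega)).1
  obtain ⟨α⟩ := ‹Nonempty Ω›
  have hcard : Nat.card C = Nat.card Ω := CfsgLib.PermGroups.card_eq_of_regular C (hCreg α)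
  obtain ⟨p, hp, hpd⟩ := Nat.exists_prime_and_dvd (n := Nat.card Ω) (by omega)
  obtain ⟨q, hq, hqd, hqp⟩ : ∃ q, q.Prime ∧ q ∣ Nat.card Ω ∧ q ≠ p := by
    by_contra h
    push Not at h
    exact hnp (isPrimePow_iff_unique_prime_dvd.2 ⟨p, ⟨hp, hpd⟩, fun y hy => h y hy.1 hy.2⟩)
  have hcount : ∀ r, r.Prime → r ∣ Nat.card Ω → Nat.card {x : C // x ^ r = 1} = r := by
    intro r hr hrd
    haveI : Fact r.Prime := ⟨hr⟩
    letI : CommGroup C := IsCyclic.commGroup
    have h := IsCyclic.card_powMonoidHom_ker (G := C) r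
    rw [Nat.gcd_eq_right (hcard ▸ hrd)] at h
    exact (Nat.card_congr (Equiv.subtypeEquivRight fun x => by simp)).trans h
  exact CfsgLib.Fixity.two_transitive_of_regular_abelian hprim C
    IsCyclic.isMulCommutative.is_comm.comm hCt hCreg hp hq (Ne.symm hqp) (hcount p hp hpd) (hcount q hq hqd)

end Cfsg.Agent.S3559
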