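import Cfsg.Statements.S5892
import Cfsg.Agent.Lib.Derangements.PSL2Types

set_option autoImplicit false
open Cfsg

namespace Cfsg.Agent.S5892

open CfsgLib.Derangements.PSL2

variable {F : Type*} [Field F] [Finite F]

theorem not_mem_zpowers_of {G : Type*} [Group G] {a b : G} (h : ¬ Commute b a) : b ∉ Subgroup.zpowers a := by
  rintro ⟨n, rfl⟩
  exact h (Commute.zpow_self a n)

/-- An element of `X` with an inverting partner, transported into `H`. -/
theorem transport {X : Type*} [Group X] {H : Subgroup (Matrix.ProjectiveSpecialLinearGroup (Fin 2) F)}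
    (f : H ≃* X) {a b : X} {k : ℕ} (hk : orderOf a = k) (hab : b * a * b⁻¹ = a⁻¹) (hb : b ∉ Subgroup.zpowers a) :
    ∃ x y : Matrix.ProjectiveSpecialLinearGroup (Fin 2) F, x ∈ H ∧ y ∈ H ∧ orderOf x = k ∧
      y * x * y⁻¹ = x⁻¹ ∧ y ∉ Subgroup.zpowers x := by
  refine ⟨f.symm a, f.symm b, (f.symm a).2, (f.symm b).2, ?_, ?_, ?_⟩
  · rw [Subgroup.orderOf_coe, MulEquiv.orderOf_eq, hk]
  · rw [← Subgroup.coe_inv, ← Subgroup.coe_inv, ← Subgroup.coe_mul, ← Subgroup.coe_mul, ← map_inv, ← map_inv,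
      ← map_mul, ← map_mul, hab]
  · intro h
    obtain ⟨n, hn⟩ := h
    refine hb ⟨n, f.symm.injective (Subtype.ext ?_)⟩
    simpa [map_zpow] using hn

theorem not_small_torus (h2 : (2 : F) ≠ 0) {M : Subgroup (Matrix.ProjectiveSpecialLinearGroup (Fin 2) F)}
    (hM : IsCoatom M) {g : Matrix.SpecialLinearGroup (Fin 2) F} {e k : ℕ}
    (ht : CfsgLib.SL2.tr g ^ 2 ≠ 4) (hMg : M = torusN g)
    (hc : Nat.card (Subgroup.centralizer ({g} : Set (Matrix.SpecialLinearGroup (Fin 2) F))) = e)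
    (hek : e = 2 * k) :
    ¬ (e = Nat.card F - 1 ∧ (Nat.card F = 5 ∨ Nat.card F = 7 ∨ Nat.card F = 9 ∨ Nat.card F = 11)) ∧
      ¬ (e = Nat.card F + 1 ∧ (Nat.card F = 7 ∨ Nat.card F = 9)) := by
  rw [hMg] at hM
  obtain ⟨D⟩ := exists_datum (F := F)
  have hbig : ∀ {n : ℕ}, n ≤ Nat.card F → n * (n ^ 2 - 1) ≤
      2 * Nat.card (Matrix.ProjectiveSpecialLinearGroup (Fin 2) F) := fun h => card_PSL_big h2 h
  -- `A₄` at five
  have k2 : Nat.card F = 5 → k = 2 → False := by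
    intro hq hk
    subst hk
    have hcard := card_fourPSL D h2
    refine torusN_not_isCoatom h2 ht (hc.trans hek) (qi_mem_four D h2) (qj_mem_four D h2)
      (orderOf_eq_prime (by rw [pow_two, proj_qi_sq]) (proj_qi_ne D h2)) le_rfl (by rw [hq]; norm_num)
      ?_ ?_ (by rintro e' he' hdv; rw [hq] at he'; omega) (by rw [hcard]; omega) (fun h => ?_) hM
    · rw [mul_inv_eq_iff_eq_mul, inv_eq_of_mul_eq_one_right proj_qi_sq, proj_qi_qj]
    · intro h
      obtain ⟨n, hn⟩ := h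
      simp only at hn
      rcases Int.even_or_odd' n with ⟨m, rfl | rfl⟩
      · exact proj_qj_ne D h2 (by rw [← hn]; simp [zpow_mul, zpow_ofNat, pow_two, proj_qi_sq])
      · exact proj_qi_ne_qj D h2 (by rw [← hn]; simp [zpow_add, zpow_mul, zpow_ofNat, pow_two, proj_qi_sq])
    · rw [h, Subgroup.card_top] at hcard
      have := hbig (le_of_eq hq.symm)
      omega
  -- `S₄` at seven and nine
  have k34 : ((Nat.card F = 7 ∧ (k = 3 ∨ k = 4)) ∨ (Nat.card F = 9 ∧ k = 4)) → False := by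
    intro hqk
    obtain ⟨θ, hθ⟩ := exists_sqrt_two (F := F) (by omega)
    obtain ⟨f⟩ := octPSL_equiv D h2 hθ
    have hcard := (card_octPSL D h2 hθ).1
    have htop : octPSL D h2 hθ ≠ ⊤ := fun h => by
      rw [h, Subgroup.card_top] at hcard
      have := hbig (n := 7) (by omega)
      omega
    have hX : ∃ a b : Equiv.Perm (Fin 4), orderOf a = k ∧ b * a * b⁻¹ = a⁻¹ ∧ b ∉ Subgroup.zpowers a := by
      rcases (show k = 3 ∨ k = 4 by omega) with rfl | rfl
      · have : Fact (Nat.Prime 3) := ⟨Nat.prime_three⟩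
        exact ⟨Equiv.swap 0 1 * Equiv.swap 1 2, Equiv.swap 0 1,
          orderOf_eq_prime (by decide) (by decide), by decide, not_mem_zpowers_of fun hc => absurd hc.eq (by decide)⟩
      · have : Fact (Nat.Prime 2) := ⟨Nat.prime_two⟩
        exact ⟨finRotate 4, Equiv.swap 1 3, orderOf_eq_prime_pow (p := 2) (n := 1) (by decide) (by decide),
          by decide, not_mem_zpowers_of fun hc => absurd hc.eq (by decide)⟩
    obtain ⟨a, b, ha, hab, hb⟩ := hX
    obtain ⟨x, y, hx, hy, ho, hi, hn⟩ := transport f ha hab hb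
    refine torusN_not_isCoatom h2 ht (hc.trans hek) hx hy ho (by omega) ?_ hi hn
      (by intro e' he' hdv; rcases hqk with ⟨hq, rfl | rfl⟩ | ⟨hq, rfl⟩ <;> rw [hq] at he' <;> omega)
      (by omega) htop hM
    rcases hqk with ⟨hq, rfl | rfl⟩ | ⟨hq, rfl⟩ <;> rw [hq] <;> norm_num
  -- `A₅` at nine and eleven
  have k5 : (Nat.card F = 9 ∨ Nat.card F = 11) → k = 5 → False := by
    intro hq hk
    subst hk
    obtain ⟨φ, hφ⟩ := exists_golden_of (F := F) (by omega)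
    obtain ⟨f⟩ := icoPSL_equiv D h2 hφ
    have hcard := card_icoPSL D h2 hφ
    have htop : icoPSL D h2 hφ ≠ ⊤ := fun h => by
      rw [h, Subgroup.card_top] at hcard
      have := hbig (n := 9) (by omega)
      omega
    have : Fact (Nat.Prime 5) := ⟨Nat.prime_five⟩
    let a : alternatingGroup (Fin 5) := ⟨finRotate 5, Equiv.Perm.mem_alternatingGroup.2 (by decide)⟩
    let b : alternatingGroup (Fin 5) :=
      ⟨Equiv.swap 1 4 * Equiv.swap 2 3, Equiv.Perm.mem_alternatingGroup.2 (by decide)⟩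
    have hb : b ∉ Subgroup.zpowers a := not_mem_zpowers_of fun hc => absurd hc.eq (by decide)
    obtain ⟨x, y, hx, hy, ho, hi, hn⟩ := transport f (a := a) (b := b)
      (orderOf_eq_prime (p := 5) (by decide) (by decide)) (by decide) hb
    refine torusN_not_isCoatom h2 ht (hc.trans hek) hx hy ho (by norm_num) ?_ hi hn
      (by intro e' he' hdv; omega) (by omega) htop hM
    rcases hq with hq | hq <;> rw [hq] <;> norm_num
  constructor
  · rintro ⟨he, hq | hq | hq | hq⟩ <;> rw [hq] at he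
    exacts [k2 hq (by omega), k34 (Or.inl ⟨hq, Or.inl (by omega)⟩), k34 (Or.inr ⟨hq, by omega⟩),
      k5 (Or.inr hq) (by omega)]
  · rintro ⟨he, hq | hq⟩ <;> rw [hq] at he
    exacts [k34 (Or.inl ⟨hq, Or.inr (by omega)⟩), k5 (Or.inl hq) (by omega)]

/-- Let F be a finite field of odd order q ≥ 5 and characteristic p, and let M be a maximal subgroup of PSL₂(F). Then one of the following holds: |M| = q(q − 1)/2 (the stabiliser of a point of the projective line); q ≥ 13 and M is dihedral of order q − 1; q ∉ {7, 9} and M is dihedral of order q + 1; q = q₀² and M ≅ PGL₂(F₀) with |F₀| = q₀; q = q₀^r for an odd prime r and M ≅ PSL₂(F₀) with |F₀| = q₀; q ≡ ±1 (mod 10) with q = p or q = p², p ≡ ±3 (mod 10), and M ≅ A₅; q = p ≡ ±3 (mod 8), q ≢ ±1 (mod 10), and M ≅ A₄; or q = p ≡ ±1 (mod 8) and M ≅ S₄. -/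
theorem result {F : Type*} [Field F] [Fintype F] (p : ℕ)
    [Fact p.Prime] [CharP F p] (hodd : Odd (Fintype.card F)) (h5 : 5 ≤ Fintype.card F)
    (M : Subgroup (Matrix.ProjectiveSpecialLinearGroup (Fin 2) F)) (hM : IsCoatom M) :
    2 * Nat.card M = Fintype.card F * (Fintype.card F - 1) ∨
    (13 ≤ Fintype.card F ∧ (∃ k : ℕ, 2 * k = Fintype.card F - 1 ∧ Nonempty (M ≃* DihedralGroup k))) ∨
    (Fintype.card F ≠ 7 ∧ Fintype.card F ≠ 9 ∧ (∃ k : ℕ, 2 * k = Fintype.card F + 1 ∧ Nonempty (M ≃* DihedralGroup k))) ∨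
    (∃ (F₀ : Type) (_ : Field F₀) (_ : Fintype F₀), Fintype.card F = Fintype.card F₀ ^ 2 ∧
        Nonempty (M ≃* Matrix.ProjGenLinGroup (Fin 2) F₀)) ∨
    (∃ (F₀ : Type) (_ : Field F₀) (_ : Fintype F₀) (r : ℕ), r.Prime ∧ Odd r ∧ Fintype.card F = Fintype.card F₀ ^ r ∧
        Nonempty (M ≃* Matrix.ProjectiveSpecialLinearGroup (Fin 2) F₀)) ∨
    ((Fintype.card F % 10 = 1 ∨ Fintype.card F % 10 = 9) ∧
        (Fintype.card F = p ∨ (Fintype.card F = p ^ 2 ∧ (p % 10 = 3 ∨ p % 10 = 7))) ∧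
        Nonempty (M ≃* alternatingGroup (Fin 5))) ∨
    (Fintype.card F = p ∧ (p % 8 = 3 ∨ p % 8 = 5) ∧ ¬ (p % 10 = 1 ∨ p % 10 = 9) ∧
        Nonempty (M ≃* alternatingGroup (Fin 4))) ∨
    (Fintype.card F = p ∧ (p % 8 = 1 ∨ p % 8 = 7) ∧ Nonempty (M ≃* Equiv.Perm (Fin 4))) := by
  classical
  have hp : p.Prime := Fact.out
  have hq : Nat.card F = Fintype.card F := Nat.card_eq_fintype_card
  have h2 : (2 : F) ≠ 0 := CfsgLib.SL2.two_ne_zero_of_odd hodd
  obtain ⟨⟨f, hf0⟩, -, hf⟩ := FiniteField.card F p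
  simp only [PNat.mk_coe] at hf
  have hqf : Nat.card F = p ^ f := hq.trans hf
  have hsub : IsSubfieldType M →
      (∃ (F₀ : Type) (_ : Field F₀) (_ : Fintype F₀), Fintype.card F = Fintype.card F₀ ^ 2 ∧
        Nonempty (M ≃* Matrix.ProjGenLinGroup (Fin 2) F₀)) ∨
      (∃ (F₀ : Type) (_ : Field F₀) (_ : Fintype F₀) (r : ℕ), r.Prime ∧ Odd r ∧ Fintype.card F = Fintype.card F₀ ^ r ∧
        Nonempty (M ≃* Matrix.ProjectiveSpecialLinearGroup (Fin 2) F₀)) := by
    rintro ⟨E, r, hr, hE, ⟨iso⟩⟩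
    obtain ⟨K, iK, iF, hK, hpgl, hpsl⟩ := sfPSL_types E hr hE
    rcases hr.eq_two_or_odd' with rfl | hro
    · obtain ⟨i'⟩ := hpgl rfl
      exact Or.inl ⟨K, iK, iF, by rw [← Nat.card_eq_fintype_card (α := K), hK, hE, hq], ⟨iso.trans i'⟩⟩
    · obtain ⟨i'⟩ := hpsl (Or.inl hro)
      exact Or.inr ⟨K, iK, iF, r, hr, hro, by rw [← Nat.card_eq_fintype_card (α := K), hK, hE, hq],
        ⟨iso.trans i'⟩⟩
  have hd := d_of_odd (F := F) h2
  rcases psl_cases M with h | h | ⟨-, h⟩ | ⟨R, -, hR⟩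
  · left
    have := max_borel (by omega) hM h
    rwa [hd, hq] at this
  · obtain ⟨g, e, k, ht, hMg, hor, hc, hk, hiso⟩ := max_torus (by omega) hM h
    rw [hd] at hk
    obtain ⟨hn1, hn2⟩ := not_small_torus h2 hM ht hMg hc hk.symm
    rw [Nat.odd_iff] at hodd
    rcases hor with he | he
    · refine Or.inr (Or.inl ⟨?_, k, by omega, hiso⟩)
      by_contra hlt
      exact hn1 ⟨he, by omega⟩
    · refine Or.inr (Or.inr (Or.inl ⟨fun h7 => hn2 ⟨he, by omega⟩, fun h9 => hn2 ⟨he, by omega⟩,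
        k, by omega, hiso⟩))
  · rcases h with ⟨⟨e⟩⟩ | ⟨⟨e⟩⟩ | ⟨⟨e⟩⟩
    · rcases max_four h2 (by omega) hp hqf hM e with h | ⟨h1, h8, h10⟩
      · rcases hsub h with h | h
        · exact Or.inr (Or.inr (Or.inr (Or.inl h)))
        · exact Or.inr (Or.inr (Or.inr (Or.inr (Or.inl h))))
      · exact Or.inr (Or.inr (Or.inr (Or.inr (Or.inr (Or.inr (Or.inl ⟨hq ▸ h1, h8, h10, ⟨e⟩⟩))))))
    · rcases max_oct h2 hp hqf hM e with h | ⟨h1, h8⟩
      · rcases hsub h with h | h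
        · exact Or.inr (Or.inr (Or.inr (Or.inl h)))
        · exact Or.inr (Or.inr (Or.inr (Or.inr (Or.inl h))))
      · exact Or.inr (Or.inr (Or.inr (Or.inr (Or.inr (Or.inr (Or.inr ⟨hq ▸ h1, h8, ⟨e⟩⟩))))))
    · rcases max_ico h2 hp hqf hM e with h | ⟨h10, h1⟩
      · rcases hsub h with h | h
        · exact Or.inr (Or.inr (Or.inr (Or.inl h)))
        · exact Or.inr (Or.inr (Or.inr (Or.inr (Or.inl h))))
      · exact Or.inr (Or.inr (Or.inr (Or.inr (Or.inr (Or.inl ⟨hq ▸ h10, hq ▸ h1, ⟨e⟩⟩)))))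
  · rcases hsub (max_subfield hM hR) with h | h
    · exact Or.inr (Or.inr (Or.inr (Or.inl h)))
    · exact Or.inr (Or.inr (Or.inr (Or.inr (Or.inl h))))

end Cfsg.Agent.S5892
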