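import Cfsg.Statements.S0253
import Cfsg.Agent.Lib.ClassicalLinear.ProjLine
import Cfsg.Agent.Lib.ClassicalLinear.BlockHom

set_option autoImplicit false
open Cfsg

namespace Cfsg.Agent.S0253

/-- PSL_2(5) is isomorphic to A_5. -/
theorem result {F : Type*} [Field F] [Fintype F] (hF : Fintype.card F = 5) : Nonempty (Matrix.ProjectiveSpecialLinearGroup (Fin 2) F ≃* alternatingGroup (Fin 5)) := by
  obtain ⟨φ, hφ⟩ := CfsgLib.ClassicalLinear.exists_pslTwo_hom (F := F) (m := 6) (by rw [hF])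
  have : IsSimpleGroup (Matrix.ProjectiveSpecialLinearGroup (Fin 2) F) :=
    CfsgLib.ClassicalLinear.isSimpleGroup_psl_fin le_rfl (fun _ => by rw [Nat.card_eq_fintype_card, hF]; norm_num)
  refine CfsgLib.ClassicalLinear.simple_sixty_equiv_alternatingGroup (CfsgLib.ClassicalLinear.card_PSL_two_card_five hF)
    (Fintype.card_fin 6) φ ?_
  intro h
  obtain ⟨g, hg⟩ := exists_ne (1 : Matrix.ProjectiveSpecialLinearGroup (Fin 2) F)
  exact hg (hφ (by rw [h]; rfl))

end Cfsg.Agent.S0253
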