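import Cfsg.Statements.S5148
import Cfsg.Agent.Lib.Alperin.Induced
import Cfsg.Agent.Lib.FusionExamples.Abelian
import Cfsg.Agent.Lib.FusionExamples.Basic
import Cfsg.Agent.Lib.FusionExamples.Hyperfocal

set_option autoImplicit false
open Cfsg Cfsg.FusionSystem

namespace Cfsg.Agent.S5148

/-- A quasisimple fusion system over a finite p-group S (saturated, equal to its p-residual subsystem, with simple — in particular nontrivial — factor system modulo its centre) has S nonabelian. -/
theorem result {Ω : Type*} [Group Ω] {S : Subgroup Ω} [Finite S] (p : ℕ) [Fact p.Prime] (hS : IsPGroup p S) (F : Cfsg.FusionSystem S) (hq : F.Quasisimple p) : ¬ IsMulCommutative S := by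
  intro habel
  obtain ⟨hF, hhyp, hsimple⟩ := hq
  have hab : ∀ x ∈ S, ∀ y ∈ S, x * y = y * x := fun x hx y hy =>
    congrArg Subtype.val (habel.1.comm (⟨x, hx⟩ : S) ⟨y, hy⟩)
  set Z := (F.center).subgroupOf S with hZ
  set θ := QuotientGroup.mk' Z with hθ
  -- the centre is fixed by all maps
  have hcent := CfsgLib.FusionExamples.isCentral_center F
  have hfix : ∀ (P : Subgroup Ω) (φ : P →* Ω), φ ∈ F.Hom P → ∀ x : P,
      (x : Ω) ∈ F.center → φ x = x := by
    intro P φ hφ x hx
    obtain ⟨ψ, -, hψx, hψQ⟩ := hcent.2 P φ hφ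
    rw [← hψx x]
    exact (congrArg ψ (Subtype.ext rfl)).trans (hψQ ⟨x, hx⟩)
  have hZsc : F.StronglyClosed F.center :=
    ⟨hcent.1, fun R hR φ hφ x => by rw [hfix R φ hφ x (hR x.2)]; exact hR x.2⟩
  have hker : ∀ s : S, θ s = 1 ↔ (s : Ω) ∈ F.center := fun s => QuotientGroup.eq_one_iff s
  obtain ⟨E, hE⟩ := CfsgLib.Alperin.exists_isFactorSystem F hZsc θ hker
    (MonoidHom.range_eq_top.mpr (QuotientGroup.mk'_surjective Z))
  obtain ⟨hEs, hne, hnorm⟩ := hsimple E hE
  let T : Subgroup (S ⧸ Z) := ⊤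
  haveI : Finite T := inferInstance
  have habT : ∀ x ∈ T, ∀ y ∈ T, x * y = y * x := by
    intro x _ y _
    obtain ⟨a, rfl⟩ := QuotientGroup.mk'_surjective Z x
    obtain ⟨b, rfl⟩ := QuotientGroup.mk'_surjective Z y
    rw [← map_mul, ← map_mul, habel.1.comm a b]
  have hTp : IsPGroup p T := (hS.to_quotient Z).to_subgroup T
  have hIn : (innerFusionSystem T).IsNormalIn E p := by
    refine ⟨⟨CfsgLib.FusionExamples.inner_isSaturated_of_abelian p habT, hEs,
      fun P => CfsgLib.FusionExamples.inner_le E P,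
      ⟨le_rfl, fun _ _ φ hφ x => CfsgLib.Alperin.apply_mem hφ x⟩, ?_, ?_⟩, ?_⟩
    · intro P hPT φ hφ α hα
      have hid := ((CfsgLib.FusionExamples.inner_mem_iff_abelian habT).mp hφ).2
      refine ⟨_, CfsgLib.Alperin.incl_mem (innerFusionSystem T)
        (P := (P.subgroupOf T).map (T.subtype.comp α.toMonoidHom)) le_top, fun x hφx hαx => ?_⟩
      show ((α ⟨x, hPT x.2⟩ : T) : S ⧸ Z) = _
      rw [show (⟨φ x, hφx⟩ : T) = ⟨x, hPT x.2⟩ from Subtype.ext (hid x)]
    · intro P hPT φ hφ
      obtain ⟨α, hα, hαx⟩ := CfsgLib.FusionExamples.exists_aut_extending hTp hEs habT hφ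
      exact ⟨α, hα, _, CfsgLib.Alperin.incl_mem _ hPT, fun x _ => (hαx x).symm⟩
    · intro α hα
      rw [CfsgLib.FusionExamples.inner_autGroup_eq_bot habT le_rfl, Subgroup.mem_bot] at hα
      subst hα
      exact ⟨1, Subgroup.one_mem _, fun _ => rfl, fun c _ => by simp⟩
  rcases hnorm T _ hIn with h | ⟨-, hEq⟩
  · exact hne h
  -- every automorphism of `S` is trivial
  have htriv : ∀ α ∈ F.autGroup S, α = 1 := by
    intro α hα
    haveI := CfsgLib.Alperin.finite_autGroup F (le_refl S)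
    have hord : (orderOf α).Coprime p := by
      refine ((Nat.Prime.coprime_iff_not_dvd Fact.out).mpr fun hd => ?_).symm
      refine CfsgLib.FusionExamples.not_dvd_card_autGroup hS hF hab (hd.trans ?_)
      rw [← Subgroup.orderOf_mk α hα]
      exact orderOf_dvd_natCard _
    have hmod : ∀ x : S, θ (α x) = θ x := by
      intro x
      have hpre : ∀ y : preimageAlong θ T, (y : Ω) ∈ S := fun y =>
        CfsgLib.Alperin.preimageAlong_le θ T y.2
      have hαF := (CfsgLib.Alperin.mem_autGroup_iff F le_rfl).mp hα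
      let φ : preimageAlong θ T →* Ω :=
        (S.subtype.comp α.toMonoidHom).comp (Subgroup.inclusion (CfsgLib.Alperin.preimageAlong_le θ T))
      have hφ : φ ∈ F.Hom _ := CfsgLib.Alperin.restrict_mem hαF _
      obtain ⟨φ', hind⟩ := CfsgLib.Alperin.exists_inducedAlong θ
        (CfsgLib.Alperin.preimageAlong_le θ T) φ (fun y => (α _).2) fun y hy => by
          refine (hker _).mpr ?_
          have hy' := (hker _).mp hy
          show φ y ∈ F.center
          rw [hfix _ φ hφ y hy']
          exact hy'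
      obtain ⟨hP, hφS, hPP, hx⟩ := hind
      have hle : ∀ y ∈ T, y ∈ imageAlong θ (preimageAlong θ T) := fun y _ => by
        obtain ⟨a, rfl⟩ := QuotientGroup.mk'_surjective Z y
        exact ⟨a, CfsgLib.Alperin.mem_preimageAlong.mpr ⟨a.2, Subgroup.mem_top _⟩, rfl⟩
      have hmemE : φ'.comp (Subgroup.inclusion hle) ∈ E.Hom T :=
        (hE.2.2.2 T _).mpr ⟨le_rfl, φ, hφ, hP, hφS, fun y => Subgroup.mem_top _, fun y => hx y⟩
      rw [← hEq T] at hmemE
      have hid := ((CfsgLib.FusionExamples.inner_mem_iff_abelian habT).mp hmemE).2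
        ⟨θ x, Subgroup.mem_top _⟩
      have hxm : (x : Ω) ∈ preimageAlong θ T :=
        CfsgLib.Alperin.mem_preimageAlong.mpr ⟨x.2, Subgroup.mem_top _⟩
      exact (hx ⟨x, hxm⟩).symm.trans hid
    refine MulEquiv.ext fun x => ?_
    refine CfsgLib.FusionExamples.eq_of_stable hS α (pow_orderOf_eq_one α) hord ?_
    have hz : ((x⁻¹ * α x : S) : Ω) ∈ F.center :=
      (hker _).mp (by rw [map_mul, map_inv, hmod, inv_mul_cancel])
    exact Subtype.ext (hfix S _ ((CfsgLib.Alperin.mem_autGroup_iff F le_rfl).mp hα) _ hz)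
  have hbot : F.hyperfocalSubgroup p = ⊥ := by
    refine (Subgroup.closure_eq_bot_iff).mpr ?_
    rintro y ⟨P, α, x, hP, -, rfl⟩
    obtain ⟨β, hβ, hβx⟩ := CfsgLib.FusionExamples.exists_aut_extending hS hF hab
      ((CfsgLib.Alperin.mem_autGroup_iff F hP).mp α.2)
    have := hβx x
    rw [htriv β hβ] at this
    have e : (((α : MulAut P) x : P) : Ω) = (x : Ω) := this.symm
    simp [e]
  apply hne
  have hS1 : S = ⊥ := hhyp.symm.trans hbot
  refine (Subgroup.eq_bot_iff_forall _).mpr fun y _ => ?_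
  obtain ⟨a, rfl⟩ := QuotientGroup.mk'_surjective Z y
  have : a = 1 := Subtype.ext (Subgroup.mem_bot.mp (hS1.le a.2))
  rw [this, map_one]

end Cfsg.Agent.S5148
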