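import Cfsg.Statements.S5136
import Cfsg.Agent.Lib.Alperin.Base

set_option autoImplicit false
open Cfsg Cfsg.FusionSystem

namespace Cfsg.Agent.S5136

/-- Let F₁ and F₂ be fusion systems over finite p-groups S₁ and S₂ (inside ambient groups Ω₁ and Ω₂). Then their direct product exists: there is a fusion system over S₁ × S₂ inside Ω₁ × Ω₂ whose maps with source P ≤ S₁ × S₂ are exactly the restrictions to P of the homomorphisms (x₁, x₂) ↦ (φ₁ x₁, φ₂ x₂) with φ₁ a map of F₁ on the first projection of P and φ₂ a map of F₂ on the second projection. -/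
theorem result {Ω₁ Ω₂ : Type*} [Group Ω₁] [Group Ω₂] {S₁ : Subgroup Ω₁} {S₂ : Subgroup Ω₂} [Finite S₁] [Finite S₂] (p : ℕ) [Fact p.Prime] (h₁ : IsPGroup p S₁) (h₂ : IsPGroup p S₂) (F₁ : Cfsg.FusionSystem S₁) (F₂ : Cfsg.FusionSystem S₂) : ∃ E : Cfsg.FusionSystem (S₁.prod S₂), Cfsg.FusionSystem.IsProductSystem F₁ F₂ E := by
  classical
  let fst := MonoidHom.fst Ω₁ Ω₂
  let snd := MonoidHom.snd Ω₁ Ω₂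
  refine ⟨{
    Hom := fun P => {φ | P ≤ S₁.prod S₂ ∧ ∃ φ₁ ∈ F₁.Hom (P.map fst), ∃ φ₂ ∈ F₂.Hom (P.map snd),
        ∀ (x : P) (h₁ : (x : Ω₁ × Ω₂).1 ∈ P.map fst) (h₂ : (x : Ω₁ × Ω₂).2 ∈ P.map snd),
          φ x = (φ₁ ⟨(x : Ω₁ × Ω₂).1, h₁⟩, φ₂ ⟨(x : Ω₁ × Ω₂).2, h₂⟩)}
    le_of_mem := ?_
    injective_of_mem := ?_
    conj_mem := ?_
    comp_mem := ?_
    inv_mem := ?_ }, fun P φ => Iff.rfl⟩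
  · rintro P φ ⟨hP, φ₁, hφ₁, φ₂, hφ₂, hx⟩
    refine ⟨hP, fun x => ?_⟩
    rw [hx x ⟨x, x.2, rfl⟩ ⟨x, x.2, rfl⟩]
    exact ⟨CfsgLib.Alperin.apply_mem hφ₁ _, CfsgLib.Alperin.apply_mem hφ₂ _⟩
  · rintro P φ ⟨hP, φ₁, hφ₁, φ₂, hφ₂, hx⟩ a b hab
    rw [hx a ⟨a, a.2, rfl⟩ ⟨a, a.2, rfl⟩, hx b ⟨b, b.2, rfl⟩ ⟨b, b.2, rfl⟩] at hab
    exact Subtype.ext (Prod.ext
      (congrArg Subtype.val (F₁.injective_of_mem hφ₁ (Prod.ext_iff.mp hab).1))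
      (congrArg Subtype.val (F₂.injective_of_mem hφ₂ (Prod.ext_iff.mp hab).2)))
  · intro P g hP hg
    refine ⟨hP, conjHom _ g.1, F₁.conj_mem ?_ hg.1, conjHom _ g.2, F₂.conj_mem ?_ hg.2,
      fun x h₁ h₂ => rfl⟩
    · rintro _ ⟨x, hx, rfl⟩
      exact (hP hx).1
    · rintro _ ⟨x, hx, rfl⟩
      exact (hP hx).2
  · rintro P Q φ ψ ⟨hP, φ₁, hφ₁, φ₂, hφ₂, hx⟩ ⟨hQ, ψ₁, hψ₁, ψ₂, hψ₂, hy⟩ h
    have m₁ : ∀ y, φ₁ y ∈ Q.map fst := by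
      rintro ⟨_, x, hxP, rfl⟩
      exact ⟨φ ⟨x, hxP⟩, h _, congrArg Prod.fst (hx ⟨x, hxP⟩ ⟨x, hxP, rfl⟩ ⟨x, hxP, rfl⟩)⟩
    have m₂ : ∀ y, φ₂ y ∈ Q.map snd := by
      rintro ⟨_, x, hxP, rfl⟩
      exact ⟨φ ⟨x, hxP⟩, h _, congrArg Prod.snd (hx ⟨x, hxP⟩ ⟨x, hxP, rfl⟩ ⟨x, hxP, rfl⟩)⟩
    refine ⟨hP, _, F₁.comp_mem hφ₁ hψ₁ m₁, _, F₂.comp_mem hφ₂ hψ₂ m₂, fun x h₁ h₂ => ?_⟩
    show ψ ⟨φ x, h x⟩ = _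
    rw [hy ⟨φ x, h x⟩ ⟨φ x, h x, rfl⟩ ⟨φ x, h x, rfl⟩]
    refine Prod.ext ?_ ?_
    · exact congrArg ψ₁ (Subtype.ext (congrArg Prod.fst (hx x h₁ h₂)))
    · exact congrArg ψ₂ (Subtype.ext (congrArg Prod.snd (hx x h₁ h₂)))
  · rintro P φ ⟨hP, φ₁, hφ₁, φ₂, hφ₂, hx⟩
    obtain ⟨θ₁, hθ₁, -, hθ₁x, -⟩ := CfsgLib.Alperin.exists_inverse hφ₁ rfl
    obtain ⟨θ₂, hθ₂, -, hθ₂x, -⟩ := CfsgLib.Alperin.exists_inverse hφ₂ rfl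
    have r₁ : φ.range.map fst ≤ φ₁.range := by
      rintro _ ⟨_, ⟨x, rfl⟩, rfl⟩
      exact ⟨⟨(x : Ω₁ × Ω₂).1, x, x.2, rfl⟩,
        (congrArg Prod.fst (hx x ⟨x, x.2, rfl⟩ ⟨x, x.2, rfl⟩)).symm⟩
    have r₂ : φ.range.map snd ≤ φ₂.range := by
      rintro _ ⟨_, ⟨x, rfl⟩, rfl⟩
      exact ⟨⟨(x : Ω₁ × Ω₂).2, x, x.2, rfl⟩,
        (congrArg Prod.snd (hx x ⟨x, x.2, rfl⟩ ⟨x, x.2, rfl⟩)).symm⟩
    have hr : φ.range ≤ S₁.prod S₂ := by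
      rintro _ ⟨x, rfl⟩
      rw [hx x ⟨x, x.2, rfl⟩ ⟨x, x.2, rfl⟩]
      exact ⟨CfsgLib.Alperin.apply_mem hφ₁ _, CfsgLib.Alperin.apply_mem hφ₂ _⟩
    let a := (θ₁.comp (Subgroup.inclusion r₁)).comp
      ((fst.comp φ.range.subtype).codRestrict _ fun y => ⟨y, y.2, rfl⟩)
    let b := (θ₂.comp (Subgroup.inclusion r₂)).comp
      ((snd.comp φ.range.subtype).codRestrict _ fun y => ⟨y, y.2, rfl⟩)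
    refine ⟨a.prod b, ⟨hr, _, CfsgLib.Alperin.restrict_mem hθ₁ r₁, _,
      CfsgLib.Alperin.restrict_mem hθ₂ r₂, fun y h₁ h₂ => rfl⟩, fun x => ?_⟩
    have e := hx x ⟨x, x.2, rfl⟩ ⟨x, x.2, rfl⟩
    refine Prod.ext ?_ ?_
    · refine Eq.trans ?_ (hθ₁x ⟨(x : Ω₁ × Ω₂).1, ⟨x, x.2, rfl⟩⟩ ⟨_, rfl⟩)
      exact congrArg θ₁ (Subtype.ext (congrArg Prod.fst e))
    · refine Eq.trans ?_ (hθ₂x ⟨(x : Ω₁ × Ω₂).2, ⟨x, x.2, rfl⟩⟩ ⟨_, rfl⟩)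
      exact congrArg θ₂ (Subtype.ext (congrArg Prod.snd e))

end Cfsg.Agent.S5136
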