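import Cfsg.Statements.S5137
import Cfsg.Agent.Lib.Alperin.Receptive

set_option autoImplicit false
open Cfsg Cfsg.FusionSystem

namespace Cfsg.Agent.S5137

open scoped Pointwise

/-- The component-wise action of a pair of automorphisms. -/
def pairAut {X Y : Type*} [Group X] [Group Y] (A : Subgroup (MulAut X)) (B : Subgroup (MulAut Y)) :
    A × B →* MulAut (X × Y) where
  toFun a := MulEquiv.prodCongr (a.1 : MulAut X) (a.2 : MulAut Y)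
  map_one' := MulEquiv.ext fun _ => rfl
  map_mul' a b := MulEquiv.ext fun _ => rfl

theorem prod_map_range {Ω₁ Ω₂ : Type*} [Group Ω₁] [Group Ω₂] {P : Subgroup (Ω₁ × Ω₂)}
    {φ : P →* Ω₁ × Ω₂} {φ₁ : P.map (MonoidHom.fst Ω₁ Ω₂) →* Ω₁}
    {φ₂ : P.map (MonoidHom.snd Ω₁ Ω₂) →* Ω₂}
    (hx : ∀ (x : P) (h₁ : (x : Ω₁ × Ω₂).1 ∈ P.map (MonoidHom.fst Ω₁ Ω₂))
      (h₂ : (x : Ω₁ × Ω₂).2 ∈ P.map (MonoidHom.snd Ω₁ Ω₂)),
      φ x = (φ₁ ⟨(x : Ω₁ × Ω₂).1, h₁⟩, φ₂ ⟨(x : Ω₁ × Ω₂).2, h₂⟩)) :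
    φ.range.map (MonoidHom.fst Ω₁ Ω₂) = φ₁.range ∧
      φ.range.map (MonoidHom.snd Ω₁ Ω₂) = φ₂.range := by
  constructor
  · ext y
    constructor
    · rintro ⟨_, ⟨x, rfl⟩, rfl⟩
      exact ⟨⟨_, x, x.2, rfl⟩, (congrArg Prod.fst (hx x ⟨x, x.2, rfl⟩ ⟨x, x.2, rfl⟩)).symm⟩
    · rintro ⟨⟨_, x, hxP, rfl⟩, rfl⟩
      exact ⟨φ ⟨x, hxP⟩, ⟨_, rfl⟩, congrArg Prod.fst (hx ⟨x, hxP⟩ ⟨x, hxP, rfl⟩ ⟨x, hxP, rfl⟩)⟩
  · ext y
    constructor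
    · rintro ⟨_, ⟨x, rfl⟩, rfl⟩
      exact ⟨⟨_, x, x.2, rfl⟩, (congrArg Prod.snd (hx x ⟨x, x.2, rfl⟩ ⟨x, x.2, rfl⟩)).symm⟩
    · rintro ⟨⟨_, x, hxP, rfl⟩, rfl⟩
      exact ⟨φ ⟨x, hxP⟩, ⟨_, rfl⟩, congrArg Prod.snd (hx ⟨x, hxP⟩ ⟨x, hxP, rfl⟩ ⟨x, hxP, rfl⟩)⟩

/-- Restrict a map to an equal source. -/
theorem exists_restrict {Ω : Type*} [Group Ω] {S : Subgroup Ω} {F : FusionSystem S}
    {Q R : Subgroup Ω} (h : R = Q) {α : MulAut Q} (hα : α ∈ F.autGroup Q) (hQ : Q ≤ S) :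
    ∃ φ ∈ F.Hom R, ∀ (x : R) (hx : (x : Ω) ∈ Q), φ x = ((α ⟨x, hx⟩ : Q) : Ω) := by
  subst h
  exact ⟨_, (CfsgLib.Alperin.mem_autGroup_iff F hQ).mp hα, fun x hx => rfl⟩

/-- Let F₁ and F₂ be saturated fusion systems over finite p-groups S₁ and S₂. Then their direct product (the fusion system over S₁ × S₂ whose maps are the restrictions of the product maps (φ₁, φ₂)) is saturated. -/
theorem result {Ω₁ Ω₂ : Type*} [Group Ω₁] [Group Ω₂] {S₁ : Subgroup Ω₁} {S₂ : Subgroup Ω₂} [Finite S₁] [Finite S₂] (p : ℕ) [Fact p.Prime] (h₁ : IsPGroup p S₁) (h₂ : IsPGroup p S₂) (F₁ : Cfsg.FusionSystem S₁) (F₂ : Cfsg.FusionSystem S₂) (hF₁ : F₁.IsSaturated p) (hF₂ : F₂.IsSaturated p) (E : Cfsg.FusionSystem (S₁.prod S₂)) (hE : Cfsg.FusionSystem.IsProductSystem F₁ F₂ E) : E.IsSaturated p := by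
  intro P hP
  haveI : Finite (S₁.prod S₂) := Finite.of_equiv _ (Subgroup.prodEquiv S₁ S₂).symm.toEquiv
  have hP₁ : P.map (MonoidHom.fst Ω₁ Ω₂) ≤ S₁ := by
    rintro _ ⟨x, hx, rfl⟩; exact (hP hx).1
  have hP₂ : P.map (MonoidHom.snd Ω₁ Ω₂) ≤ S₂ := by
    rintro _ ⟨x, hx, rfl⟩; exact (hP hx).2
  obtain ⟨Q₁, hc₁, hn₁⟩ := CfsgLib.Alperin.exists_isFullyNormalized F₁ hP₁
  obtain ⟨Q₂, hc₂, hn₂⟩ := CfsgLib.Alperin.exists_isFullyNormalized F₂ hP₂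
  obtain ⟨ψ₁, hψ₁, hr₁⟩ := hc₁
  obtain ⟨ψ₂, hψ₂, hr₂⟩ := hc₂
  have hQ₁ := hn₁.1
  have hQ₂ := hn₂.1
  haveI := CfsgLib.Alperin.finite_of_le hQ₁
  haveI := CfsgLib.Alperin.finite_of_le hQ₂
  haveI := CfsgLib.Alperin.finite_autGroup F₁ hQ₁
  haveI := CfsgLib.Alperin.finite_autGroup F₂ hQ₂
  obtain ⟨-, -, R₁, hR₁⟩ := CfsgLib.Alperin.centralized_automized_of_fullyNormalized h₁ hF₁ hn₁
  obtain ⟨-, -, R₂, hR₂⟩ := CfsgLib.Alperin.centralized_automized_of_fullyNormalized h₂ hF₂ hn₂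
  have hBp : IsPGroup p ((R₁ : Subgroup (F₁.autGroup Q₁)).prod (R₂ : Subgroup (F₂.autGroup Q₂))) := by
    obtain ⟨a, ha⟩ := IsPGroup.iff_card.mp R₁.2
    obtain ⟨b, hb⟩ := IsPGroup.iff_card.mp R₂.2
    exact IsPGroup.of_card (n := a + b) (by
      rw [Nat.card_congr (Subgroup.prodEquiv _ _).toEquiv, Nat.card_prod, ha, hb, pow_add])
  let B : Sylow p (F₁.autGroup Q₁ × F₂.autGroup Q₂) := hBp.toSylow (by
    rw [Subgroup.index_prod]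
    exact Nat.Prime.not_dvd_mul Fact.out R₁.not_dvd_index R₂.not_dvd_index)
  let ρ := pairAut (F₁.autGroup Q₁) (F₂.autGroup Q₂)
  -- the image of `P`
  let φ₀ : P →* Ω₁ × Ω₂ :=
    (ψ₁.comp (((MonoidHom.fst Ω₁ Ω₂).comp P.subtype).codRestrict _ fun x => ⟨x, x.2, rfl⟩)).prod
      (ψ₂.comp (((MonoidHom.snd Ω₁ Ω₂).comp P.subtype).codRestrict _ fun x => ⟨x, x.2, rfl⟩))
  let ι : Q₁ × Q₂ →* Ω₁ × Ω₂ := Q₁.subtype.prodMap Q₂.subtype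
  have hι : Function.Injective ι := fun x y h =>
    Prod.ext (Subtype.ext (congrArg Prod.fst h)) (Subtype.ext (congrArg Prod.snd h))
  let U' : Subgroup (Q₁ × Q₂) := φ₀.range.comap ι
  obtain ⟨T⟩ : Nonempty (Sylow p ((MulAction.stabilizer (MulAut (Q₁ × Q₂)) U').comap ρ)) :=
    inferInstance
  obtain ⟨T', hT'⟩ := (T.2.map ((MulAction.stabilizer (MulAut (Q₁ × Q₂)) U').comap ρ).subtype).exists_le_sylow
  obtain ⟨a, ha⟩ := MulAction.exists_smul_eq (F₁.autGroup Q₁ × F₂.autGroup Q₂) T' B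
  set V : Subgroup (Q₁ × Q₂) := ρ a • U' with hV
  set P'' : Subgroup (Ω₁ × Ω₂) := V.map ι with hP''
  let St := (MulAction.stabilizer (MulAut (Q₁ × Q₂)) V).comap ρ
  -- `P` is conjugate to `P''`
  let χ : P →* Ω₁ × Ω₂ := ι.comp ((ρ a).toMonoidHom.comp
    (((ψ₁.codRestrict Q₁ fun y => hr₁.le ⟨y, rfl⟩).comp
      (((MonoidHom.fst Ω₁ Ω₂).comp P.subtype).codRestrict _ fun x => ⟨x, x.2, rfl⟩)).prod
    ((ψ₂.codRestrict Q₂ fun y => hr₂.le ⟨y, rfl⟩).comp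
      (((MonoidHom.snd Ω₁ Ω₂).comp P.subtype).codRestrict _ fun x => ⟨x, x.2, rfl⟩))))
  let χ₁ : P.map (MonoidHom.fst Ω₁ Ω₂) →* Ω₁ :=
    Q₁.subtype.comp ((a.1 : MulAut Q₁).toMonoidHom.comp (ψ₁.codRestrict Q₁ fun y => hr₁.le ⟨y, rfl⟩))
  let χ₂ : P.map (MonoidHom.snd Ω₁ Ω₂) →* Ω₂ :=
    Q₂.subtype.comp ((a.2 : MulAut Q₂).toMonoidHom.comp (ψ₂.codRestrict Q₂ fun y => hr₂.le ⟨y, rfl⟩))
  have hχ₁ : χ₁ ∈ F₁.Hom _ := CfsgLib.Alperin.comp_mem_apply hψ₁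
    ((CfsgLib.Alperin.mem_autGroup_iff F₁ hQ₁).mp a.1.2) (fun y => hr₁.le ⟨y, rfl⟩) fun y => rfl
  have hχ₂ : χ₂ ∈ F₂.Hom _ := CfsgLib.Alperin.comp_mem_apply hψ₂
    ((CfsgLib.Alperin.mem_autGroup_iff F₂ hQ₂).mp a.2.2) (fun y => hr₂.le ⟨y, rfl⟩) fun y => rfl
  have hχx : ∀ (x : P) (h₁ : (x : Ω₁ × Ω₂).1 ∈ P.map (MonoidHom.fst Ω₁ Ω₂))
      (h₂ : (x : Ω₁ × Ω₂).2 ∈ P.map (MonoidHom.snd Ω₁ Ω₂)),
      χ x = (χ₁ ⟨(x : Ω₁ × Ω₂).1, h₁⟩, χ₂ ⟨(x : Ω₁ × Ω₂).2, h₂⟩) := fun x _ _ => rfl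
  have hχ : χ ∈ E.Hom P := (hE P χ).mpr ⟨hP, χ₁, hχ₁, χ₂, hχ₂, hχx⟩
  have hχr : χ.range = P'' := by
    ext y
    constructor
    · rintro ⟨x, rfl⟩
      exact ⟨_, ⟨_, ⟨x, rfl⟩, rfl⟩, rfl⟩
    · rintro ⟨_, ⟨u, ⟨x, hx⟩, rfl⟩, rfl⟩
      refine ⟨x, ?_⟩
      have : u = (⟨ψ₁ ⟨_, x, x.2, rfl⟩, hr₁.le ⟨_, rfl⟩⟩, ⟨ψ₂ ⟨_, x, x.2, rfl⟩, hr₂.le ⟨_, rfl⟩⟩) :=
        hι hx.symm
      subst this
      rfl
  have hproj₁ : P''.map (MonoidHom.fst Ω₁ Ω₂) = Q₁ := by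
    rw [← hχr, (prod_map_range hχx).1]
    refine le_antisymm ?_ fun y hy => ?_
    · rintro _ ⟨w, rfl⟩
      exact ((a.1 : MulAut Q₁) _).2
    · obtain ⟨w, hw⟩ := hr₁.ge ((a.1 : MulAut Q₁).symm ⟨y, hy⟩).2
      refine ⟨w, ?_⟩
      show (((a.1 : MulAut Q₁) ⟨ψ₁ w, _⟩ : Q₁) : Ω₁) = y
      rw [show (⟨ψ₁ w, hr₁.le ⟨w, rfl⟩⟩ : Q₁) = (a.1 : MulAut Q₁).symm ⟨y, hy⟩ from Subtype.ext hw,
        MulEquiv.apply_symm_apply]
  have hproj₂ : P''.map (MonoidHom.snd Ω₁ Ω₂) = Q₂ := by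
    rw [← hχr, (prod_map_range hχx).2]
    refine le_antisymm ?_ fun y hy => ?_
    · rintro _ ⟨w, rfl⟩
      exact ((a.2 : MulAut Q₂) _).2
    · obtain ⟨w, hw⟩ := hr₂.ge ((a.2 : MulAut Q₂).symm ⟨y, hy⟩).2
      refine ⟨w, ?_⟩
      show (((a.2 : MulAut Q₂) ⟨ψ₂ w, _⟩ : Q₂) : Ω₂) = y
      rw [show (⟨ψ₂ w, hr₂.le ⟨w, rfl⟩⟩ : Q₂) = (a.2 : MulAut Q₂).symm ⟨y, hy⟩ from Subtype.ext hw,
        MulEquiv.apply_symm_apply]
  have hP''S : P'' ≤ S₁.prod S₂ := by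
    rintro _ ⟨u, -, rfl⟩
    exact ⟨hQ₁ u.1.2, hQ₂ u.2.2⟩
  refine ⟨P'', ⟨χ, hχ, hχr⟩, ⟨hP''S, ?_⟩, hP''S, ?_⟩
  · -- fully automized
    haveI := CfsgLib.Alperin.finite_of_le hQ₁
    have hmemV : ∀ x : P'', ∃ u ∈ V, ι u = x := fun x => x.2
    choose sec hsecV hsec using hmemV
    have hex : ∀ c : St, ∃ b : E.autGroup P'', ∀ u ∈ V, ∀ x : P'', ι u = x →
        (((b : MulAut P'') x : P'') : Ω₁ × Ω₂) = ι (ρ c u) := by
      intro c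
      have hc : ρ c • V = V := c.2
      have hcV : ∀ u ∈ V, ρ c u ∈ V := fun u hu => hc.le ⟨u, hu, rfl⟩
      let φ : P'' →* Ω₁ × Ω₂ := ι.comp ((ρ c).toMonoidHom.comp
        ((((MonoidHom.fst Ω₁ Ω₂).comp P''.subtype).codRestrict Q₁
          fun x => hproj₁.le ⟨x, x.2, rfl⟩).prod
        (((MonoidHom.snd Ω₁ Ω₂).comp P''.subtype).codRestrict Q₂
          fun x => hproj₂.le ⟨x, x.2, rfl⟩)))
      obtain ⟨φ₁, hφ₁, hφ₁x⟩ := exists_restrict hproj₁ c.1.1.2 hQ₁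
      obtain ⟨φ₂, hφ₂, hφ₂x⟩ := exists_restrict hproj₂ c.1.2.2 hQ₂
      have hφ : φ ∈ E.Hom P'' := (hE P'' φ).mpr ⟨hP''S, φ₁, hφ₁, φ₂, hφ₂, fun x k₁ k₂ =>
        Prod.ext (hφ₁x ⟨_, k₁⟩ (hproj₁.le k₁)).symm (hφ₂x ⟨_, k₂⟩ (hproj₂.le k₂)).symm⟩
      have hφu : ∀ u ∈ V, ∀ x : P'', ι u = x → φ x = ι (ρ c u) := by
        intro u _ x hux
        show ι (ρ c _) = _
        refine congrArg (fun v => ι (ρ c v)) (hι ?_)
        rw [hux]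
        rfl
      haveI := CfsgLib.Alperin.finite_of_le hP''S
      obtain ⟨b, hb, hbx⟩ := CfsgLib.Alperin.exists_aut_of_hom' E hφ (fun x => by
        obtain ⟨u, hu, hux⟩ := x.2
        rw [hφu u hu x hux]
        exact ⟨_, hcV u hu, rfl⟩)
      exact ⟨⟨b, hb⟩, fun u hu x hux => (hbx x).trans (hφu u hu x hux)⟩
    choose f₀ hf₀ using hex
    let f : St →* E.autGroup P'' := MonoidHom.mk' f₀ fun c d => by
      refine Subtype.ext (MulEquiv.ext fun x => Subtype.ext ?_)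
      obtain ⟨u, hu, hux⟩ := x.2
      rw [hf₀ (c * d) u hu x hux]
      show ι (ρ c (ρ d u)) = (((f₀ c : MulAut P'') ((f₀ d : MulAut P'') x) : P'') : Ω₁ × Ω₂)
      have hd : ρ d • V = V := d.2
      exact (hf₀ c _ (hd.le ⟨u, hu, rfl⟩) _ (hf₀ d u hu x hux).symm).symm
    have hfsurj : Function.Surjective f := by
      intro b
      obtain ⟨-, φ₁, hφ₁, φ₂, hφ₂, hx⟩ :=
        (hE P'' _).mp ((CfsgLib.Alperin.mem_autGroup_iff E hP''S).mp b.2)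
      have hbr : ((P'').subtype.comp (b : MulAut P'').toMonoidHom).range = P'' := by
        rw [MonoidHom.range_comp, MonoidHom.range_eq_top.mpr (b : MulAut P'').surjective,
          ← MonoidHom.range_eq_map, Subgroup.range_subtype]
      have k₁ := hproj₁.symm.trans
        ((congrArg (Subgroup.map (MonoidHom.fst Ω₁ Ω₂)) hbr.symm).trans (prod_map_range hx).1)
      have k₂ := hproj₂.symm.trans
        ((congrArg (Subgroup.map (MonoidHom.snd Ω₁ Ω₂)) hbr.symm).trans (prod_map_range hx).2)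
      obtain ⟨c₁, hc₁, hc₁x⟩ := CfsgLib.Alperin.exists_aut_of_hom' F₁
        (CfsgLib.Alperin.restrict_mem hφ₁ hproj₁.ge) fun y => k₁.ge ⟨_, rfl⟩
      obtain ⟨c₂, hc₂, hc₂x⟩ := CfsgLib.Alperin.exists_aut_of_hom' F₂
        (CfsgLib.Alperin.restrict_mem hφ₂ hproj₂.ge) fun y => k₂.ge ⟨_, rfl⟩
      have hcu : ∀ u ∈ V, ∀ x : P'', ι u = x →
          ι (ρ (⟨c₁, hc₁⟩, ⟨c₂, hc₂⟩) u) = (((b : MulAut P'') x : P'') : Ω₁ × Ω₂) := by
        intro u hu x hux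
        have h := hx x ⟨x, x.2, rfl⟩ ⟨x, x.2, rfl⟩
        refine Eq.trans ?_ h.symm
        refine Prod.ext ((hc₁x u.1).trans ?_) ((hc₂x u.2).trans ?_)
        · exact congrArg φ₁ (Subtype.ext (congrArg Prod.fst hux))
        · exact congrArg φ₂ (Subtype.ext (congrArg Prod.snd hux))
      have hcV : ρ (⟨c₁, hc₁⟩, ⟨c₂, hc₂⟩) • V = V := by
        refine Subgroup.eq_of_le_of_card_ge ?_ (le_of_eq
          (Nat.card_congr (Subgroup.equivSMul (ρ (⟨c₁, hc₁⟩, ⟨c₂, hc₂⟩)) V).toEquiv))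
        rintro _ ⟨u, hu, rfl⟩
        have h1 := hcu u hu ⟨ι u, u, hu, rfl⟩ rfl
        obtain ⟨w, hw, hwx⟩ := ((b : MulAut P'') ⟨ι u, u, hu, rfl⟩).2
        rw [← h1] at hwx
        exact hι hwx ▸ hw
      refine ⟨⟨_, hcV⟩, Subtype.ext (MulEquiv.ext fun x => Subtype.ext ?_)⟩
      obtain ⟨u, hu, hux⟩ := x.2
      exact (hf₀ _ u hu x hux).trans (hcu u hu x hux)
    -- a Sylow subgroup of the stabilizer
    have hle : ∀ t : (MulAction.stabilizer (MulAut (Q₁ × Q₂)) U').comap ρ,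
        t ∈ (T : Subgroup _) → a * t * a⁻¹ ∈ (B : Subgroup _) ∧ a * t * a⁻¹ ∈ St := by
      intro t ht
      refine ⟨?_, ?_⟩
      · rw [← ha, Sylow.coe_subgroup_smul]
        exact ⟨_, hT' ⟨t, ht, rfl⟩, rfl⟩
      · show ρ (a * t * a⁻¹) • V = V
        have h : ρ t • U' = U' := t.2
        rw [hV, map_mul, map_mul, map_inv, mul_smul, mul_smul, inv_smul_smul, h]
    let TV : Sylow p St := by
      refine IsPGroup.toSylow
        (show IsPGroup p ((B : Subgroup _).subgroupOf St) from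
          B.2.comap_of_injective St.subtype St.subtype_injective) ?_
      let e : (MulAction.stabilizer (MulAut (Q₁ × Q₂)) U').comap ρ ≃* St :=
        { toFun := fun t => ⟨a * t * a⁻¹, by
            show ρ (a * t * a⁻¹) • V = V
            have h : ρ t • U' = U' := t.2
            rw [hV, map_mul, map_mul, map_inv, mul_smul, mul_smul, inv_smul_smul, h]⟩
          invFun := fun t => ⟨a⁻¹ * t * a, by
            show ρ (a⁻¹ * t * a) • U' = U'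
            have h : ρ t • V = V := t.2
            rw [hV] at h
            rw [map_mul, map_mul, map_inv, mul_smul, mul_smul, h, inv_smul_smul]⟩
          left_inv := fun t => Subtype.ext (by simp [mul_assoc])
          right_inv := fun t => Subtype.ext (by simp [mul_assoc])
          map_mul' := fun t t' => Subtype.ext (by simp [mul_assoc]) }
      intro hd
      refine T.not_dvd_index (hd.trans ?_)
      have h2 : (T : Subgroup _).map e.toMonoidHom ≤ (B : Subgroup _).subgroupOf St := by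
        rintro _ ⟨t, ht, rfl⟩
        exact (hle t ht).1
      have h3 := Subgroup.index_dvd_of_le h2
      exact h3.trans (Subgroup.index_map_equiv _ e).dvd
    refine ⟨TV.mapSurjective hfsurj, ?_⟩
    show ((B : Subgroup _).subgroupOf St).map f = _
    ext b
    constructor
    · rintro ⟨c, hc, rfl⟩
      obtain ⟨hc₁, hc₂⟩ := Subgroup.mem_prod.mp hc
      rw [hR₁, Subgroup.mem_subgroupOf] at hc₁
      rw [hR₂, Subgroup.mem_subgroupOf] at hc₂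
      obtain ⟨s₁, hs₁, hs₁x⟩ := CfsgLib.Alperin.mem_autInducedBy_iff.mp hc₁
      obtain ⟨s₂, hs₂, hs₂x⟩ := CfsgLib.Alperin.mem_autInducedBy_iff.mp hc₂
      refine Subgroup.mem_subgroupOf.mpr
        (CfsgLib.Alperin.mem_autInducedBy_iff.mpr ⟨(s₁, s₂), ⟨hs₁, hs₂⟩, fun x => ?_⟩)
      obtain ⟨u, hu, hux⟩ := x.2
      show (((f₀ c : MulAut P'') x : P'') : Ω₁ × Ω₂) = _
      rw [hf₀ c u hu x hux, ← hux]
      exact Prod.ext (hs₁x u.1) (hs₂x u.2)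
    · intro hb
      obtain ⟨s, hs, hsx⟩ := CfsgLib.Alperin.mem_autInducedBy_iff.mp (Subgroup.mem_subgroupOf.mp hb)
      have hsN := CfsgLib.Alperin.normalizer_of_induced hsx
      have hsN₁ : s.1 ∈ Subgroup.normalizer (Q₁ : Set Ω₁) := by
        refine Subgroup.mem_normalizer_iff_map_conj_eq.mpr (Subgroup.eq_of_le_of_card_ge ?_
          (le_of_eq (Subgroup.card_map_of_injective (MulEquiv.injective _)).symm))
        rintro _ ⟨y, hy, rfl⟩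
        obtain ⟨x, hx, rfl⟩ := hproj₁.ge hy
        exact hproj₁.le ⟨_, CfsgLib.Alperin.mem_normalizer_conj hsN hx, rfl⟩
      have hsN₂ : s.2 ∈ Subgroup.normalizer (Q₂ : Set Ω₂) := by
        refine Subgroup.mem_normalizer_iff_map_conj_eq.mpr (Subgroup.eq_of_le_of_card_ge ?_
          (le_of_eq (Subgroup.card_map_of_injective (MulEquiv.injective _)).symm))
        rintro _ ⟨y, hy, rfl⟩
        obtain ⟨x, hx, rfl⟩ := hproj₂.ge hy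
        exact hproj₂.le ⟨_, CfsgLib.Alperin.mem_normalizer_conj hsN hx, rfl⟩
      let c₁ : F₁.autGroup Q₁ := ⟨CfsgLib.Alperin.conjAut Q₁ s.1 hsN₁,
        CfsgLib.Alperin.autInducedBy_le_autGroup F₁ hQ₁ (CfsgLib.Alperin.conjAut_mem hs.1 _)⟩
      let c₂ : F₂.autGroup Q₂ := ⟨CfsgLib.Alperin.conjAut Q₂ s.2 hsN₂,
        CfsgLib.Alperin.autInducedBy_le_autGroup F₂ hQ₂ (CfsgLib.Alperin.conjAut_mem hs.2 _)⟩
      have hcu : ∀ u, ι (ρ (c₁, c₂) u) = s * ι u * s⁻¹ := fun u => rfl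
      have hcV : ρ (c₁, c₂) • V = V := by
        refine Subgroup.eq_of_le_of_card_ge ?_ (le_of_eq
          (Nat.card_congr (Subgroup.equivSMul (ρ (c₁, c₂)) V).toEquiv))
        rintro _ ⟨u, hu, rfl⟩
        obtain ⟨w, hw, hwx⟩ := CfsgLib.Alperin.mem_normalizer_conj hsN ⟨u, hu, rfl⟩
        rw [← hcu] at hwx
        exact hι hwx ▸ hw
      refine ⟨⟨(c₁, c₂), hcV⟩, ?_, Subtype.ext (MulEquiv.ext fun x => Subtype.ext ?_)⟩
      · refine Subgroup.mem_prod.mpr ⟨?_, ?_⟩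
        · rw [hR₁]; exact CfsgLib.Alperin.conjAut_mem hs.1 _
        · rw [hR₂]; exact CfsgLib.Alperin.conjAut_mem hs.2 _
      · obtain ⟨u, hu, hux⟩ := x.2
        refine (hf₀ _ u hu x hux).trans ?_
        rw [hsx, ← hux]
        rfl
  · -- receptive
    intro R φ hφ hrφ
    obtain ⟨hRS, φ₁, hφ₁, φ₂, hφ₂, hx⟩ := (hE R φ).mp hφ
    have k₁ := hproj₁.symm.trans
      ((congrArg (Subgroup.map (MonoidHom.fst Ω₁ Ω₂)) hrφ.symm).trans (prod_map_range hx).1)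
    have k₂ := hproj₂.symm.trans
      ((congrArg (Subgroup.map (MonoidHom.snd Ω₁ Ω₂)) hrφ.symm).trans (prod_map_range hx).2)
    obtain ⟨η₁, hη₁, hη₁x⟩ :=
      (CfsgLib.Alperin.receptive_of_fullyNormalized h₁ hF₁ hn₁).2 _ φ₁ hφ₁ k₁.symm
    obtain ⟨η₂, hη₂, hη₂x⟩ :=
      (CfsgLib.Alperin.receptive_of_fullyNormalized h₂ hF₂ hn₂).2 _ φ₂ hφ₂ k₂.symm
    set N := extender (S₁.prod S₂) R φ
    have hN₁ : N.map (MonoidHom.fst Ω₁ Ω₂) ≤ extender S₁ (R.map (MonoidHom.fst Ω₁ Ω₂)) φ₁ := by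
      rintro _ ⟨g, hg, rfl⟩
      obtain ⟨hgS, hgN, h, hh, hgh⟩ := CfsgLib.Alperin.mem_extender_iff.mp hg
      refine CfsgLib.Alperin.mem_extender_iff.mpr ⟨hgS.1, ?_, h.1, hh.1, ?_⟩
      · have e1 := Subgroup.mem_normalizer_iff_map_conj_eq.mp hgN
        refine Subgroup.mem_normalizer_iff_map_conj_eq.mpr ?_
        conv_rhs => rw [← e1]
        rw [Subgroup.map_map, Subgroup.map_map]
        rfl
      · rintro ⟨_, w, hw, rfl⟩ hy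
        have hgw := CfsgLib.Alperin.mem_normalizer_conj hgN hw
        have e2 := congrArg Prod.fst (hgh ⟨w, hw⟩ hgw)
        have e3 := congrArg Prod.fst (hx ⟨_, hgw⟩ ⟨_, hgw, rfl⟩ ⟨_, hgw, rfl⟩)
        have e4 := congrArg Prod.fst (hx ⟨w, hw⟩ ⟨w, hw, rfl⟩ ⟨w, hw, rfl⟩)
        refine e3.symm.trans (e2.trans ?_)
        show h.1 * (φ ⟨w, hw⟩).1 * h.1⁻¹ = _
        rw [e4]
        rfl
    have hN₂ : N.map (MonoidHom.snd Ω₁ Ω₂) ≤ extender S₂ (R.map (MonoidHom.snd Ω₁ Ω₂)) φ₂ := by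
      rintro _ ⟨g, hg, rfl⟩
      obtain ⟨hgS, hgN, h, hh, hgh⟩ := CfsgLib.Alperin.mem_extender_iff.mp hg
      refine CfsgLib.Alperin.mem_extender_iff.mpr ⟨hgS.2, ?_, h.2, hh.2, ?_⟩
      · have e1 := Subgroup.mem_normalizer_iff_map_conj_eq.mp hgN
        refine Subgroup.mem_normalizer_iff_map_conj_eq.mpr ?_
        conv_rhs => rw [← e1]
        rw [Subgroup.map_map, Subgroup.map_map]
        rfl
      · rintro ⟨_, w, hw, rfl⟩ hy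
        have hgw := CfsgLib.Alperin.mem_normalizer_conj hgN hw
        have e2 := congrArg Prod.snd (hgh ⟨w, hw⟩ hgw)
        have e3 := congrArg Prod.snd (hx ⟨_, hgw⟩ ⟨_, hgw, rfl⟩ ⟨_, hgw, rfl⟩)
        have e4 := congrArg Prod.snd (hx ⟨w, hw⟩ ⟨w, hw, rfl⟩ ⟨w, hw, rfl⟩)
        refine e3.symm.trans (e2.trans ?_)
        show h.2 * (φ ⟨w, hw⟩).2 * h.2⁻¹ = _
        rw [e4]
        rfl
    refine ⟨((η₁.comp (Subgroup.inclusion hN₁)).comp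
        (((MonoidHom.fst Ω₁ Ω₂).comp N.subtype).codRestrict _ fun x => ⟨x, x.2, rfl⟩)).prod
      ((η₂.comp (Subgroup.inclusion hN₂)).comp
        (((MonoidHom.snd Ω₁ Ω₂).comp N.subtype).codRestrict _ fun x => ⟨x, x.2, rfl⟩)),
      (hE _ _).mpr ⟨CfsgLib.Alperin.extender_le R φ, _, CfsgLib.Alperin.restrict_mem hη₁ hN₁, _,
        CfsgLib.Alperin.restrict_mem hη₂ hN₂, fun _ _ _ => rfl⟩, fun x hxR hxN => ?_⟩
    rw [hx ⟨x, hxR⟩ ⟨x, hxR, rfl⟩ ⟨x, hxR, rfl⟩]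
    exact Prod.ext (hη₁x _ _ _) (hη₂x _ _ _)

end Cfsg.Agent.S5137
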