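import Cfsg.Statements.S5162
import Cfsg.Agent.Lib.FusionBasics.Central.Quasisimple

set_option autoImplicit false
open Cfsg

namespace Cfsg.Agent.S5162

open CfsgLib.FusionBasics.Central CfsgLib.Alperin Cfsg.FusionSystem

section Setup

variable {Ω : Type*} [Group Ω] {S A B : Subgroup Ω} [Finite S]

/-- The maps of a central product in terms of its factors. -/
theorem central_hom {F : FusionSystem S} {F₁ : FusionSystem A} {F₂ : FusionSystem B}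
    [Finite A] [Finite B] (hc : FusionSystem.IsCentralProductOf F₁ F₂ F) :
    A ⊔ B = S ∧ (∀ a ∈ A, ∀ b ∈ B, a * b = b * a) ∧
    (∀ (P : Subgroup Ω) (φ : P →* Ω), φ ∈ F.Hom P →
      ∃ φ₁ ∈ F₁.Hom ((P ⊔ B) ⊓ A), ∃ φ₂ ∈ F₂.Hom ((P ⊔ A) ⊓ B),
        ∀ (x : P) (a : ↥((P ⊔ B) ⊓ A)) (b : ↥((P ⊔ A) ⊓ B)), (x : Ω) = a * b →
          φ x = φ₁ a * φ₂ b) ∧
    ∀ (P₁ P₂ Q : Subgroup Ω) (φ₁ : P₁ →* Ω) (φ₂ : P₂ →* Ω), φ₁ ∈ F₁.Hom P₁ → φ₂ ∈ F₂.Hom P₂ →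
      Q ≤ S → (Q ⊔ B) ⊓ A ≤ P₁ → (Q ⊔ A) ⊓ B ≤ P₂ →
      ∃ ψ ∈ F.Hom Q, ∀ (x : Q) (a : P₁) (b : P₂), (a : Ω) ∈ A → (b : Ω) ∈ B →
        (x : Ω) = a * b → ψ x = φ₁ a * φ₂ b := by
  obtain ⟨D₀, hprod, Z, θ, hZc, -, -, hθ1, hθ2, hZle, hker, hrange, hmem⟩ := hc
  haveI : Finite (A.prod B) := Finite.of_equiv _ (A.prodEquiv B).symm.toEquiv
  have hθ : ∀ w : A.prod B, θ w = (w : Ω × Ω).1 * (w : Ω × Ω).2 := by
    intro w
    have h1 : ((((w : Ω × Ω).1, 1) : Ω × Ω)) ∈ A.prod B := ⟨w.2.1, B.one_mem⟩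
    have h2 : ((1, (w : Ω × Ω).2) : Ω × Ω) ∈ A.prod B := ⟨A.one_mem, w.2.2⟩
    rw [show w = ⟨_, h1⟩ * ⟨_, h2⟩ from Subtype.ext (by simp), map_mul, hθ1, hθ2]
    simp
  have hcomm : ∀ a ∈ A, ∀ b ∈ B, a * b = b * a := by
    intro a ha b hb
    have h1 : ((a, 1) : Ω × Ω) ∈ A.prod B := ⟨ha, B.one_mem⟩
    have h2 : ((1, b) : Ω × Ω) ∈ A.prod B := ⟨A.one_mem, hb⟩
    have h : θ (⟨_, h1⟩ * ⟨_, h2⟩) = θ (⟨_, h2⟩ * ⟨_, h1⟩) :=
      congrArg θ (Subtype.ext (by simp))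
    rwa [map_mul, map_mul, hθ1, hθ2] at h
  have hsup : A ⊔ B = S := by
    refine le_antisymm ?_ ?_
    · refine sup_le (fun a ha => ?_) fun b hb => ?_
      · exact hrange.le ⟨⟨(a, 1), ⟨ha, B.one_mem⟩⟩, hθ1 a _⟩
      · exact hrange.le ⟨⟨(1, b), ⟨A.one_mem, hb⟩⟩, hθ2 b _⟩
    · intro s hs
      obtain ⟨w, rfl⟩ := hrange.ge hs
      rw [hθ]
      exact Subgroup.mul_mem _ (Subgroup.mem_sup_left w.2.1) (Subgroup.mem_sup_right w.2.2)
  have hfst : ∀ (P : Subgroup Ω), P ≤ S →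
      (preimageAlong θ P).map (MonoidHom.fst Ω Ω) = (P ⊔ B) ⊓ A := by
    intro P hP
    ext a
    constructor
    · rintro ⟨w, hw, rfl⟩
      obtain ⟨hwT, hwP⟩ := mem_preimageAlong.mp hw
      rw [hθ] at hwP
      refine ⟨?_, hwT.1⟩
      have := Subgroup.mul_mem _ (Subgroup.mem_sup_left (T := B) hwP)
        (Subgroup.mem_sup_right (S := P) (B.inv_mem hwT.2))
      rwa [mul_inv_cancel_right] at this
    · rintro ⟨ha, haA⟩
      have hnB : P ≤ Subgroup.normalizer (B : Set Ω) := by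
        intro x hx
        obtain ⟨u, hu, v, hv, rfl⟩ := exists_mul_of_le_sup hcomm (hsup.ge (hP hx))
        refine Subgroup.mul_mem _ ?_ (Subgroup.le_normalizer hv)
        refine Subgroup.mem_normalizer_iff.mpr fun y => ⟨fun hy => ?_, fun hy => ?_⟩
        · rw [hcomm u hu y hy, mul_inv_cancel_right]; exact hy
        · have e := hcomm _ hu _ hy
          have e' : y = u * y * u⁻¹ := by
            calc y = u⁻¹ * ((u * y * u⁻¹) * u) := by group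
              _ = u * y * u⁻¹ := by rw [← e]; group
          rw [e']; exact hy
      have ha' : a ∈ ((P ⊔ B : Subgroup Ω) : Set Ω) := ha
      rw [Subgroup.coe_mul_of_left_le_normalizer_right P B hnB] at ha'
      obtain ⟨x, hx, b, hb, he⟩ := Set.mem_mul.mp ha'
      refine ⟨(a, b⁻¹), mem_preimageAlong.mpr ⟨⟨haA, B.inv_mem hb⟩, ?_⟩, rfl⟩
      rw [hθ]
      show a * b⁻¹ ∈ P
      rw [← he, mul_inv_cancel_right]
      exact hx
  have hsnd : ∀ (P : Subgroup Ω), P ≤ S →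
      (preimageAlong θ P).map (MonoidHom.snd Ω Ω) = (P ⊔ A) ⊓ B := by
    intro P hP
    ext b
    constructor
    · rintro ⟨w, hw, rfl⟩
      obtain ⟨hwT, hwP⟩ := mem_preimageAlong.mp hw
      rw [hθ] at hwP
      refine ⟨?_, hwT.2⟩
      have := Subgroup.mul_mem _ (Subgroup.mem_sup_right (S := P) (A.inv_mem hwT.1))
        (Subgroup.mem_sup_left (T := A) hwP)
      rwa [inv_mul_cancel_left] at this
    · rintro ⟨hb, hbB⟩
      have hnA : P ≤ Subgroup.normalizer (A : Set Ω) := by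
        intro x hx
        obtain ⟨u, hu, v, hv, rfl⟩ := exists_mul_of_le_sup hcomm (hsup.ge (hP hx))
        refine Subgroup.mul_mem _ (Subgroup.le_normalizer hu) ?_
        refine Subgroup.mem_normalizer_iff.mpr fun y => ⟨fun hy => ?_, fun hy => ?_⟩
        · rw [← hcomm y hy v hv, mul_inv_cancel_right]; exact hy
        · have e := hcomm _ hy _ hv
          have e' : y = v * y * v⁻¹ := by
            calc y = v⁻¹ * ((v * y * v⁻¹) * v) := by group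
              _ = v * y * v⁻¹ := by rw [e]; group
          rw [e']; exact hy
      have hb' : b ∈ ((P ⊔ A : Subgroup Ω) : Set Ω) := hb
      rw [Subgroup.coe_mul_of_left_le_normalizer_right P A hnA] at hb'
      obtain ⟨x, hx, a, ha, he⟩ := Set.mem_mul.mp hb'
      refine ⟨(a⁻¹, b), mem_preimageAlong.mpr ⟨⟨A.inv_mem ha, hbB⟩, ?_⟩, rfl⟩
      rw [hθ]
      show a⁻¹ * b ∈ P
      rw [hcomm _ (A.inv_mem ha) b hbB, ← he, mul_inv_cancel_right]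
      exact hx
  refine ⟨hsup, hcomm, fun P φ' hφ' => ?_, ?_⟩
  · obtain ⟨hPS, φ, hφ, hP, hφT, hPP, hind⟩ := (hmem P φ').mp hφ'
    obtain ⟨-, φ₁, hφ₁, φ₂, hφ₂, hpair⟩ := (hprod _ φ).mp hφ
    refine ⟨_, restrict_mem hφ₁ (hfst P hPS).ge, _, restrict_mem hφ₂ (hsnd P hPS).ge,
      fun x a b he => ?_⟩
    have hwT : (((a : Ω), (b : Ω)) : Ω × Ω) ∈ A.prod B := ⟨a.2.2, b.2.2⟩
    have hθw : θ ⟨_, hwT⟩ = (x : Ω) := (hθ ⟨_, hwT⟩).trans he.symm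
    have hw : (((a : Ω), (b : Ω)) : Ω × Ω) ∈ preimageAlong θ P :=
      mem_preimageAlong.mpr ⟨hwT, hθw.symm ▸ x.2⟩
    have h1 := hind ⟨_, hw⟩
    rw [show x = ⟨θ ⟨_, hP hw⟩, hPP ⟨_, hw⟩⟩ from Subtype.ext hθw.symm, h1, hθ]
    have h2 := hpair ⟨_, hw⟩ ⟨_, hw, rfl⟩ ⟨_, hw, rfl⟩
    show (φ ⟨_, hw⟩).1 * (φ ⟨_, hw⟩).2 = _
    rw [h2]
    rfl
  · intro P₁ P₂ Q φ₁ φ₂ hφ₁ hφ₂ hQS hQ1 hQ2
    set Qt := preimageAlong θ Q with hQt
    have hQT : Qt ≤ A.prod B := preimageAlong_le θ Q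
    have h1 : Qt.map (MonoidHom.fst Ω Ω) ≤ P₁ := (hfst Q hQS).le.trans hQ1
    have h2 : Qt.map (MonoidHom.snd Ω Ω) ≤ P₂ := (hsnd Q hQS).le.trans hQ2
    let f₁ : Qt →* P₁ := ((MonoidHom.fst Ω Ω).comp Qt.subtype).codRestrict P₁
      fun w => h1 ⟨w, w.2, rfl⟩
    let f₂ : Qt →* P₂ := ((MonoidHom.snd Ω Ω).comp Qt.subtype).codRestrict P₂
      fun w => h2 ⟨w, w.2, rfl⟩
    let χ : Qt →* Ω × Ω := (φ₁.comp f₁).prod (φ₂.comp f₂)
    have hχ : χ ∈ D₀.Hom Qt := (hprod _ χ).mpr ⟨hQT, _, restrict_mem hφ₁ h1, _,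
      restrict_mem hφ₂ h2, fun w _ _ => rfl⟩
    have hχT : ∀ w, χ w ∈ A.prod B := fun w => apply_mem hχ w
    have hkerχ : ∀ w : Qt, θ ⟨w, hQT w.2⟩ = 1 → θ ⟨χ w, hχT w⟩ = 1 := by
      intro w hw
      have hwZ := hZc ((hker _).mp hw)
      have e : χ w = (w : Ω × Ω) := center_fix hχ w hwZ
      rw [show (⟨χ w, hχT w⟩ : A.prod B) = ⟨w, hQT w.2⟩ from Subtype.ext e]
      exact hw
    obtain ⟨ψ, hP', hψT, hPP', hind⟩ := exists_inducedAlong θ hQT χ hχT hkerχ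
    have hpre : ∀ x : Q, ∃ w : Qt, θ ⟨w, hQT w.2⟩ = (x : Ω) := fun x => by
      obtain ⟨w, hw⟩ := hrange.ge (hQS x.2)
      exact ⟨⟨w, mem_preimageAlong.mpr ⟨w.2, hw.symm ▸ x.2⟩⟩, hw⟩
    have hle : Q ≤ imageAlong θ Qt := fun x hx => by
      obtain ⟨w, hw⟩ := hpre ⟨x, hx⟩
      exact ⟨⟨w, hQT w.2⟩, w.2, hw⟩
    refine ⟨ψ.comp (Subgroup.inclusion hle), (hmem Q _).mpr ⟨hQS, χ, hχ, hP', hψT,
      fun w => (mem_preimageAlong.mp w.2).2, fun w => ?_⟩, fun x a b haA hbB he => ?_⟩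
    · exact hind w
    · have hwT : (((a : Ω), (b : Ω)) : Ω × Ω) ∈ A.prod B := ⟨haA, hbB⟩
      have hθw : θ ⟨_, hwT⟩ = (x : Ω) := (hθ ⟨_, hwT⟩).trans he.symm
      have hw : (((a : Ω), (b : Ω)) : Ω × Ω) ∈ Qt :=
        mem_preimageAlong.mpr ⟨hwT, hθw.symm ▸ x.2⟩
      refine Eq.trans (congrArg ψ (Subtype.ext hθw.symm :
        Subgroup.inclusion hle x = ⟨θ ⟨_, hP' hw⟩, hPP' ⟨_, hw⟩⟩)) ((hind ⟨_, hw⟩).trans ?_)
      rw [hθ]
      rfl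

/-- A central product of saturated subsystems is split, with the given factors. -/
theorem split_of_central {F : FusionSystem S} {F₁ : FusionSystem A} {F₂ : FusionSystem B}
    [Finite A] [Finite B] (h₁ : F₁.IsSubsystemOf F) (h₂ : F₂.IsSubsystemOf F)
    (hc : FusionSystem.IsCentralProductOf F₁ F₂ F) :
    ∃ hs : CSplit F A B, leftSystem hs = F₁ ∧ leftSystem hs.symm = F₂ := by
  obtain ⟨hsup, hcomm, hdown, hup⟩ := central_hom hc
  have hAS : A ≤ S := hsup ▸ le_sup_left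
  have hBS : B ≤ S := hsup ▸ le_sup_right
  have hval₁ : ∀ {P : Subgroup Ω} (hP : P ≤ A) {φ : P →* Ω}, φ ∈ F.Hom P →
      ∃ φ₁ ∈ F₁.Hom ((P ⊔ B) ⊓ A),
        ∀ x : P, φ x = φ₁ ⟨x, Subgroup.mem_sup_left x.2, hP x.2⟩ := by
    intro P hP φ hφ
    obtain ⟨φ₁, hφ₁, φ₂, -, hx⟩ := hdown P φ hφ
    refine ⟨φ₁, hφ₁, fun x => ?_⟩
    rw [hx x ⟨x, Subgroup.mem_sup_left x.2, hP x.2⟩ 1 (by simp), map_one, mul_one]
  have hval₂ : ∀ {P : Subgroup Ω} (hP : P ≤ B) {φ : P →* Ω}, φ ∈ F.Hom P →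
      ∃ φ₂ ∈ F₂.Hom ((P ⊔ A) ⊓ B),
        ∀ x : P, φ x = φ₂ ⟨x, Subgroup.mem_sup_left x.2, hP x.2⟩ := by
    intro P hP φ hφ
    obtain ⟨φ₁, -, φ₂, hφ₂, hx⟩ := hdown P φ hφ
    refine ⟨φ₂, hφ₂, fun x => ?_⟩
    rw [hx x 1 ⟨x, Subgroup.mem_sup_left x.2, hP x.2⟩ (by simp), map_one, one_mul]
  have hs : CSplit F A B :=
    { sup_eq := hsup
      comm := hcomm
      closedL := ⟨hAS, fun R hR φ hφ x => by
        obtain ⟨φ₁, hφ₁, hx⟩ := hval₁ hR hφ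
        rw [hx]; exact apply_mem hφ₁ _⟩
      closedR := ⟨hBS, fun R hR φ hφ x => by
        obtain ⟨φ₂, hφ₂, hx⟩ := hval₂ hR hφ
        rw [hx]; exact apply_mem hφ₂ _⟩
      liftL := fun P hP φ hφ => by
        obtain ⟨φ₁, hφ₁, hx⟩ := hval₁ hP hφ
        obtain ⟨ψ, hψ, hψx⟩ := hup _ B (P ⊔ B) φ₁ B.subtype hφ₁ (incl_mem F₂ le_rfl)
          (sup_le (hP.trans hAS) hBS) (inf_le_inf_right A (sup_le le_rfl le_sup_right))
          inf_le_right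
        refine ⟨ψ, hψ, fun x => ?_, fun y => ?_⟩
        · rw [hψx _ ⟨x, Subgroup.mem_sup_left x.2, hP x.2⟩ 1 (hP x.2) B.one_mem (by simp),
            map_one, mul_one, hx]
        · rw [hψx _ 1 y A.one_mem y.2 (by simp), map_one, one_mul]
          rfl
      liftR := fun P hP φ hφ => by
        obtain ⟨φ₂, hφ₂, hx⟩ := hval₂ hP hφ
        obtain ⟨ψ, hψ, hψx⟩ := hup A _ (P ⊔ A) A.subtype φ₂ (incl_mem F₁ le_rfl) hφ₂
          (sup_le (hP.trans hBS) hAS) inf_le_right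
          (inf_le_inf_right B (sup_le le_rfl le_sup_right))
        refine ⟨ψ, hψ, fun x => ?_, fun y => ?_⟩
        · rw [hψx _ 1 ⟨x, Subgroup.mem_sup_left x.2, hP x.2⟩ A.one_mem (hP x.2) (by simp),
            map_one, one_mul, hx]
        · rw [hψx _ y 1 y.2 B.one_mem (by simp), map_one, mul_one]
          rfl
      dec := fun P φ hφ => by
        obtain ⟨φ₁, hφ₁, φ₂, hφ₂, hx⟩ := hdown P φ hφ
        have hP : P ≤ A ⊔ B := hsup.symm ▸ dom_le hφ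
        obtain ⟨ψ, hψ, hψx⟩ := hup _ _ (hat A B P) φ₁ φ₂ hφ₁ hφ₂
          ((hat_le A B P).trans hsup.le)
          (inf_le_inf_right A (sup_le (sup_le inf_le_left (inf_le_right.trans le_sup_right))
            le_sup_right))
          (inf_le_inf_right B (sup_le (sup_le (inf_le_right.trans le_sup_right) inf_le_left)
            le_sup_right))
        refine ⟨ψ, hψ, fun x h => ?_⟩
        obtain ⟨a, ha, b, hb, he⟩ := exists_mul_of_le_sup hcomm (hP x.2)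
        obtain ⟨ham, hbm⟩ := proj_mem x.2 ha hb he
        rw [hψx _ ⟨a, ham⟩ ⟨b, hbm⟩ ha hb he, hx x ⟨a, ham⟩ ⟨b, hbm⟩ he] }
  refine ⟨hs, CfsgLib.FusionSub.system_ext fun P => Set.ext fun φ => ⟨fun ⟨h, hP⟩ => ?_,
    fun h => ⟨h₁ P h, dom_le h⟩⟩, CfsgLib.FusionSub.system_ext fun P => Set.ext fun φ =>
    ⟨fun ⟨h, hP⟩ => ?_, fun h => ⟨h₂ P h, dom_le h⟩⟩⟩
  · obtain ⟨φ₁, hφ₁, hx⟩ := hval₁ hP h
    exact restrict_mem_apply hφ₁ (fun y hy => ⟨Subgroup.mem_sup_left hy, hP hy⟩) hx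
  · obtain ⟨φ₂, hφ₂, hx⟩ := hval₂ hP h
    exact restrict_mem_apply hφ₂ (fun y hy => ⟨Subgroup.mem_sup_left hy, hP hy⟩) hx

end Setup

/-- Let F be a saturated fusion system over a finite p-group S that is a central product of two saturated subsystems F₁ (over S₁) and F₂ (over S₂) inside S. Then every component of F is a component of F₁ or a component of F₂. -/
theorem result {Ω : Type*} [Group Ω] {S : Subgroup Ω} [Finite S] (p : ℕ) [Fact p.Prime] (hS : IsPGroup p S) (F : Cfsg.FusionSystem S) (hF : F.IsSaturated p) {S₁ S₂ : Subgroup Ω} (F₁ : Cfsg.FusionSystem S₁) (F₂ : Cfsg.FusionSystem S₂) (h₁ : F₁.IsSaturated p) (h₂ : F₂.IsSaturated p) (h₁F : F₁.IsSubsystemOf F) (h₂F : F₂.IsSubsystemOf F) (hc : Cfsg.FusionSystem.IsCentralProductOf F₁ F₂ F) {T : Subgroup Ω} (C : Cfsg.FusionSystem T) (hC : C.IsComponentIn F p) : C.IsComponentIn F₁ p ∨ C.IsComponentIn F₂ p := by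
  haveI := finite_of_le (CfsgLib.FusionSub.subsystem_le h₁F)
  haveI := finite_of_le (CfsgLib.FusionSub.subsystem_le h₂F)
  obtain ⟨hs, e₁, e₂⟩ := split_of_central h₁F h₂F hc
  obtain ⟨n, hn⟩ := exists_subN hC.1
  rcases subnormal_factor hC.2 n hS hF hn hs with h | h
  · exact Or.inl ⟨e₁ ▸ h, hC.2⟩
  · exact Or.inr ⟨e₂ ▸ h, hC.2⟩

end Cfsg.Agent.S5162
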