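import Cfsg.Statements.S5124
import Cfsg.Agent.Lib.FusionExamples.Hyperfocal
import Cfsg.Agent.Lib.FusionSub.Induction

set_option autoImplicit false
open Cfsg Cfsg.FusionSystem

namespace Cfsg.Agent.S5124

/-- In a saturated fusion system over a finite p-group S the hyperfocal subgroup is strongly closed in the system. -/
theorem result {Ω : Type*} [Group Ω] {S : Subgroup Ω} [Finite S] (p : ℕ) [Fact p.Prime] (hS : IsPGroup p S) (F : Cfsg.FusionSystem S) (hF : F.IsSaturated p) : F.StronglyClosed (F.hyperfocalSubgroup p) := by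
  refine ⟨(Subgroup.closure_le _).mpr ?_, fun R hR φ hφ x => ?_⟩
  · rintro y ⟨P, α, x, hP, -, rfl⟩
    exact S.mul_mem (S.inv_mem (hP x.2)) (hP ((α : MulAut P) x).2)
  have key : ∀ x : R, ((x : Ω) ∈ F.hyperfocalSubgroup p ↔ φ x ∈ F.hyperfocalSubgroup p) := by
    refine CfsgLib.FusionSub.closed_induction
      (Good := fun P φ => ∀ x : P, (x : Ω) ∈ F.hyperfocalSubgroup p ↔ φ x ∈ F.hyperfocalSubgroup p)
      hS hF ⟨fun hQ _ h x => h (Subgroup.inclusion hQ x),
        fun _ _ h h₁ h₂ x => (h₁ x).trans (h₂ ⟨_, h x⟩), ?_⟩ (fun P hP _ α hα x => ?_) hφ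
    · intro P Q φ ψ _ _ hr hψ h y
      obtain ⟨w, hw⟩ := hr.ge y.2
      obtain rfl : y = ⟨φ w, hr.le ⟨w, rfl⟩⟩ := Subtype.ext hw.symm
      rw [hψ]
      exact (h w).symm
    · refine ⟨CfsgLib.FusionExamples.hyperfocal_aut_mem hS hF hP hα, fun h => ?_⟩
      have := CfsgLib.FusionExamples.hyperfocal_aut_mem hS hF hP
        (Subgroup.inv_mem _ hα) (x := α x) h
      simpa using this
  exact (key x).mp (hR x.2)

end Cfsg.Agent.S5124
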