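import Cfsg.Statements.S5150
import Cfsg.Agent.Lib.FusionSub.CoreComponent
import Cfsg.Agent.Lib.FusionSub.CoreCentralizerSystem
-- import your own Cfsg.Agent.* helpers here

set_option autoImplicit false
open Cfsg Cfsg.FusionSystem CfsgLib.FusionSub

namespace Cfsg.Agent.S5150

/-- Let F be a saturated fusion system over a finite p-group S and E its layer (over T). Then O_p(F), the largest subgroup normal in F, centralizes E: every map of E extends to a map of F on the subgroup generated by its source and O_p(F) that fixes O_p(F) elementwise (so E is a subsystem of the centralizer system of O_p(F), and T commutes with O_p(F)). -/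
theorem result {Ω : Type*} [Group Ω] {S : Subgroup Ω} [Finite S] (p : ℕ) [Fact p.Prime] (hS : IsPGroup p S) (F : Cfsg.FusionSystem S) (hF : F.IsSaturated p) {T : Subgroup Ω} (E : Cfsg.FusionSystem T) (hE : E.IsLayerOf F p) (P : Subgroup Ω) : E.Hom P ⊆ F.centralizerHom F.core P := by
  have hQ : F.IsNormal F.core := CfsgLib.FusionExamples.isNormal_core F
  obtain ⟨D, hD⟩ := CfsgLib.FusionBasics.exists_centralizerSystem F hQ.1
  have hDn := CoreCentralizer.centralizer_isNormalIn hS hF hQ hD
  have hcomp : ∀ (U : Subgroup Ω) (C : Cfsg.FusionSystem U), C.IsComponentIn F p → C.IsSubsystemOf D := by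
    intro U C hC R φ hφ
    obtain ⟨hUQ, hfix⟩ := CoreComponent.component_fix hC.1 hC.2 hS F.core hQ
    have hCF := CoreComponent.subnormal_isSubsystemOf hC.1
    have hUS : U ≤ S := subsystem_le hCF
    rw [hD R]
    exact ⟨hCF R hφ, fun x hx => ⟨hUS ((C.le_of_mem hφ).1 hx), hUQ ((C.le_of_mem hφ).1 hx)⟩,
      fun x => ⟨hUS ((C.le_of_mem hφ).2 x), hUQ ((C.le_of_mem hφ).2 x)⟩, hfix R φ hφ⟩
  intro φ hφ
  have h := hE.2.2 _ D hDn hcomp P hφ
  rwa [hD P] at h

end Cfsg.Agent.S5150
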