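import Cfsg.Statements.S5086
import Cfsg.Agent.Lib.FusionBasics.Normal

set_option autoImplicit false
open Cfsg

namespace Cfsg.Agent.S5086

/-- In a saturated fusion system over a finite p-group, a subgroup Q is normal in the system if and only if Q is strongly closed in the system and is contained in every centric-radical subgroup. -/
theorem result {Ω : Type*} [Group Ω] {S : Subgroup Ω} [Finite S] (p : ℕ) [Fact p.Prime] (hS : IsPGroup p S) (F : Cfsg.FusionSystem S) (hF : F.IsSaturated p) (Q : Subgroup Ω) : F.IsNormal Q ↔ (F.StronglyClosed Q ∧ ∀ P : Subgroup Ω, F.IsCentric P → F.IsRadical p P → Q ≤ P) := by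
  constructor
  · intro hQ
    exact ⟨CfsgLib.FusionSub.isNormal_stronglyClosed hQ,
      fun P hc hr => CfsgLib.FusionBasics.normal_le_centric_radical hS hQ hc hr⟩
  · rintro ⟨hsc, hle⟩
    refine CfsgLib.FusionBasics.isNormal_of_generators hS hF fun P hP => ?_
    rcases hP with rfl | hP
    · exact ⟨hsc.1, fun α hα x hx =>
        CfsgLib.FusionBasics.aut_apply_mem_of_stronglyClosed hsc le_rfl hα x hx⟩
    · exact ⟨hle P hP.1 (CfsgLib.Alperin.isRadical_of_essential hS hP), fun α hα x hx =>
        CfsgLib.FusionBasics.aut_apply_mem_of_stronglyClosed hsc hP.1.1 hα x hx⟩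

end Cfsg.Agent.S5086
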