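import Cfsg.Statements.S0255
import Cfsg.Agent.Lib.ClassicalLinear.ProjLine
import Cfsg.Agent.Lib.ClassicalLinear.BlockHom

set_option autoImplicit false
open Cfsg Matrix

namespace Cfsg.Agent.S0255

/-- The points of the projective line over the field of seven elements. -/
private def pt : Fin 8 → Fin 2 → ZMod 7 :=
  ![![0, 1], ![1, 1], ![2, 1], ![3, 1], ![4, 1], ![5, 1], ![6, 1], ![1, 0]]

/-- The index of the line through a vector. -/
private def idx (w : Fin 2 → ZMod 7) : Fin 8 :=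
  if w 1 = 0 then 7 else Fin.castSucc (ZMod.finEquiv 7 |>.symm (w 0 * w 1 ^ 5))

/-- The inverse of a transvection on the eight points. -/
private def pre (i j : Fin 2) (c : ZMod 7) (a : Fin 8) : Fin 8 :=
  idx (Matrix.transvection i j (-c) *ᵥ pt a)

/-- Basis of the extended Hamming code modulo the all-one word. -/
private def codeE : Matrix (Fin 8) (Fin 3) (ZMod 2) :=
  !![0, 0, 1; 0, 1, 0; 1, 0, 0; 0, 1, 1; 1, 1, 0; 1, 1, 1; 1, 0, 1; 0, 0, 0]

/-- A left inverse of `codeE` annihilating the all-one word. -/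
private def codeP : Matrix (Fin 3) (Fin 8) (ZMod 2) :=
  !![0, 0, 0, 0, 1, 1, 1, 1; 0, 0, 0, 0, 0, 1, 1, 0; 0, 0, 0, 0, 1, 1, 0, 0]

private def codeM (i j : Fin 2) (c : ZMod 7) : Matrix (Fin 3) (Fin 3) (ZMod 2) :=
  codeP * codeE.submatrix (pre i j c) id

private theorem codeP_codeE : codeP * codeE = 1 := by decide

private theorem codeP_one : codeP *ᵥ (fun _ => 1) = 0 := by decide

private theorem pt_inj : ∀ a b : Fin 8, (∃ r : ZMod 7, r • pt b = pt a) → a = b := by decide

private theorem pt_ne_zero : ∀ a : Fin 8, pt a ≠ 0 := by decide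

private theorem pt_image : ∀ (i j : Fin 2), i ≠ j → ∀ (c : ZMod 7) (a : Fin 8),
    ∃ b : Fin 8, ∃ r : ZMod 7, r • pt b = Matrix.transvection i j c *ᵥ pt a := by decide

private theorem pt_pre : ∀ (i j : Fin 2), i ≠ j → ∀ (c : ZMod 7) (a : Fin 8),
    ∃ r : ZMod 7, r • pt a = Matrix.transvection i j c *ᵥ pt (pre i j c a) := by decide

private theorem code_invariant : ∀ (i j : Fin 2), i ≠ j → ∀ (c : ZMod 7) (a : Fin 8) (k : Fin 3),
    codeE (pre i j c a) k = (codeE * codeM i j c) a k +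
      (codeE (pre i j c 0) k - (codeE * codeM i j c) 0 k) := by decide

private theorem no_translation :
    ¬ ∃ c : Fin 3 → ZMod 2, ∀ a k, codeE (pre 0 1 1 a) k = codeE a k + c k := by decide

private theorem exists_hom :
    ∃ θ : Matrix.SpecialLinearGroup (Fin 2) (ZMod 7) →*
      Matrix.ProjectiveSpecialLinearGroup (Fin 3) (ZMod 2), θ ≠ 1 := by
  have : Fact (Nat.Prime 7) := ⟨by norm_num⟩
  let f : Fin 8 → Projectivization (ZMod 7) (Fin 2 → ZMod 7) :=
    fun a => Projectivization.mk _ (pt a) (pt_ne_zero a)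
  have hf : Function.Injective f := fun a b h =>
    pt_inj a b ((Projectivization.mk_eq_mk_iff' _ _ _ _ _).1 h)
  let S : Set (Matrix.SpecialLinearGroup (Fin 2) (ZMod 7)) :=
    {g | ∃ (i j : Fin 2) (h : i ≠ j) (c : ZMod 7),
      g = Matrix.SpecialLinearGroup.transvection h c}
  obtain ⟨σ, hσ⟩ := CfsgLib.ClassicalLinear.exists_perm_hom f hf
    CfsgLib.ClassicalLinear.closure_transvections_eq_top (by
      rintro _ ⟨i, j, h, c, rfl⟩ a
      obtain ⟨b, r, hr⟩ := pt_image i j h c a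
      exact ⟨b, (Projectivization.mk_eq_mk_iff' _ _ _ _ _).2 ⟨r, hr⟩⟩)
  have hsymm : ∀ (i j : Fin 2) (h : i ≠ j) (c : ZMod 7) (a : Fin 8),
      (σ (Matrix.SpecialLinearGroup.transvection h c)).symm a = pre i j c a := by
    intro i j h c a
    rw [Equiv.symm_apply_eq]
    apply hf
    rw [hσ]
    obtain ⟨r, hr⟩ := pt_pre i j h c a
    exact ((Projectivization.mk_eq_mk_iff' _ _ _ _ _).2 ⟨r, hr⟩).symm
  have hmono : Submonoid.closure S = ⊤ := by
    refine eq_top_iff.2 fun g _ => ?_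
    refine CfsgLib.ClassicalLinear.transvection_induction (P := fun g => g ∈ Submonoid.closure S)
      (Submonoid.one_mem _) (fun i j h c => Submonoid.subset_closure ⟨i, j, h, c, rfl⟩)
      (fun _ _ ha hb => Submonoid.mul_mem _ ha hb) g
  obtain ⟨ρ, hρ⟩ := CfsgLib.ClassicalLinear.exists_linear_hom σ codeE codeP codeP_codeE codeP_one
    hmono (by
      rintro _ ⟨i, j, h, c, rfl⟩
      exact ⟨codeM i j c, fun k => codeE (pre i j c 0) k - (codeE * codeM i j c) 0 k,
        fun a k => by rw [hsymm]; exact code_invariant i j h c a k⟩)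
  have hdet : ∀ g, ((ρ g : GL (Fin 3) (ZMod 2)) : Matrix (Fin 3) (Fin 3) (ZMod 2)).det = 1 := by
    intro g
    have h0 := ((Matrix.isUnit_iff_isUnit_det _).1 (ρ g).isUnit).ne_zero
    revert h0
    generalize ((ρ g : GL (Fin 3) (ZMod 2)) : Matrix (Fin 3) (Fin 3) (ZMod 2)).det = d
    revert d
    decide
  let τ : Matrix.SpecialLinearGroup (Fin 2) (ZMod 7) →*
      Matrix.SpecialLinearGroup (Fin 3) (ZMod 2) :=
    MonoidHom.mk' (fun g => ⟨_, hdet g⟩) (fun a b => Subtype.ext (by simp; rfl))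
  refine ⟨(QuotientGroup.mk' _).comp τ, fun hc => ?_⟩
  let t : Matrix.SpecialLinearGroup (Fin 2) (ZMod 7) :=
    Matrix.SpecialLinearGroup.transvection (show (0 : Fin 2) ≠ 1 by decide) 1
  have h1 : τ t ∈ Subgroup.center (Matrix.SpecialLinearGroup (Fin 3) (ZMod 2)) :=
    (QuotientGroup.eq_one_iff _).1 (DFunLike.congr_fun hc t)
  have hz : Nat.card (Subgroup.center (Matrix.SpecialLinearGroup (Fin 3) (ZMod 2))) = 1 := by
    rw [CfsgLib.ClassicalLinear.card_center_SL]; simp
  rw [Subgroup.card_eq_one.1 hz, Subgroup.mem_bot] at h1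
  obtain ⟨c, hc'⟩ := hρ t
  have key : ∀ a k, codeE (pre 0 1 1 a) k = codeE a k + c k := by
    intro a k
    have := hc' a k
    rw [hsymm] at this
    have hone : ((ρ t : GL (Fin 3) (ZMod 2)) : Matrix (Fin 3) (Fin 3) (ZMod 2)) = 1 :=
      congrArg Subtype.val h1
    rwa [hone, Matrix.mul_one] at this
  exact no_translation ⟨c, key⟩

/-- PSL_2(7) is isomorphic to PSL_3(2). -/
theorem result {F K : Type*} [Field F] [Fintype F] [Field K] [Fintype K] (hF : Fintype.card F = 7) (hK : Fintype.card K = 2) : Nonempty (Matrix.ProjectiveSpecialLinearGroup (Fin 2) F ≃* Matrix.ProjectiveSpecialLinearGroup (Fin 3) K) := by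
  have : Fact (Nat.Prime 7) := ⟨by norm_num⟩
  let e : F ≃+* ZMod 7 := (ZMod.ringEquivOfPrime F (by norm_num) hF).symm
  let eK : K ≃+* ZMod 2 := (ZMod.ringEquivOfPrime K Nat.prime_two hK).symm
  obtain ⟨θ, hθ⟩ := exists_hom
  have : IsSimpleGroup (Matrix.SpecialLinearGroup (Fin 2) (ZMod 7) ⧸
      Subgroup.center (Matrix.SpecialLinearGroup (Fin 2) (ZMod 7))) :=
    CfsgLib.ClassicalLinear.isSimpleGroup_psl_fin le_rfl (fun _ => by simp)
  have h7 := CfsgLib.ClassicalLinear.card_PSL_two_of_odd (F := ZMod 7) (q := 7) (ZMod.card 7) (by decide)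
  have h2 := CfsgLib.ClassicalLinear.card_PSL (ι := Fin 3) (F := ZMod 2)
  rw [Fin.prod_univ_eq_prod_range (fun i => _ - _ ^ i), Fintype.card_fin, ZMod.card] at h2
  norm_num [Finset.prod_range_succ] at h2 h7
  obtain ⟨iso⟩ := CfsgLib.ClassicalLinear.quotient_center_equiv_of_hom
    (CfsgLib.ClassicalLinear.commutator_sl_eq_top (Or.inr (CfsgLib.ClassicalLinear.exists_sq_ne_one_of_four_le_card (by simp)))) θ hθ
    (show Nat.card (Matrix.ProjectiveSpecialLinearGroup (Fin 3) (ZMod 2)) =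
      Nat.card (Matrix.ProjectiveSpecialLinearGroup (Fin 2) (ZMod 7)) by
      simp only [Nat.card_eq_fintype_card]; omega)
  exact ⟨((CfsgLib.ClassicalLinear.pslCongr e).trans iso).trans (CfsgLib.ClassicalLinear.pslCongr eK).symm⟩

end Cfsg.Agent.S0255
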