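import Cfsg.Statements.S3277
import Cfsg.Agent.Lib.SectRank.KleinCentralizer
import Cfsg.Agent.Lib.SectRank.BSW.Main
import Cfsg.Agent.Lib.Involutions.KleinSylow
import Cfsg.Agent.Lib.SL2.Dickson.Sixty

set_option autoImplicit false
open Cfsg CfsgLib.Involutions

namespace Cfsg.Agent.S3277

/-- Let G be a finite group containing an involution whose centralizer is elementary abelian of order 4. If G has no normal 2-complement and no normal elementary abelian 2-subgroup of order 2 or 4, then G is isomorphic to the alternating group of degree 5 (that is, to PSL(2, 5)). -/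
theorem result {G : Type*} [Group G] [Finite G] (x : G) (hx : orderOf x = 2)
    (hC4 : Nat.card ↥(Subgroup.centralizer ({x} : Set G)) = 4) (hCe : ∀ c ∈ Subgroup.centralizer ({x} : Set G), c ^ 2 = 1)
    (hnc : ¬ Cfsg.HasNormalPComplement 2 G)
    (hne : ∀ E : Subgroup G, E.Normal → Cfsg.IsElementaryAbelian 2 E → Nat.card ↥E ≠ 2 ∧ Nat.card ↥E ≠ 4) :
    Nonempty (G ≃* ↥(alternatingGroup (Fin 5))) := by
  classical
  haveI := Fact.mk Nat.prime_two
  haveI := Fintype.ofFinite G
  by_cases h8 : 8 ∣ Nat.card G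
  · obtain ⟨E, hE, hEa, hEc⟩ :=
      CfsgLib.SectRank.KleinCentralizer.exists_normal_of_eight_dvd hx hC4 h8
    obtain ⟨h2, h4⟩ := hne E hE hEa
    rcases hEc with h | h
    · exact absurd h h2
    · exact absurd h h4
  set V := Subgroup.centralizer ({x} : Set G) with hV
  have hVp : IsPGroup 2 V := IsPGroup.of_card (n := 2) (by rw [hC4]; rfl)
  obtain ⟨P, hVP⟩ := hVp.exists_le_sylow
  have hPV : (P : Subgroup G) = V := by
    refine (Subgroup.eq_of_le_of_card_ge hVP ?_).symm
    obtain ⟨n, hn⟩ := P.isPGroup'.exists_card_eq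
    rcases Nat.lt_or_ge n 3 with h | h
    · rw [hn, hC4]
      calc 2 ^ n ≤ 2 ^ 2 := Nat.pow_le_pow_right (by norm_num) (by omega)
        _ = 4 := rfl
    · refine absurd ?_ h8
      have := Subgroup.card_subgroup_dvd_card (P : Subgroup G)
      rw [hn] at this
      exact (show (8 : ℕ) = 2 ^ 3 from rfl) ▸ (pow_dvd_pow 2 h).trans this
  haveI : Nontrivial V := Finite.one_lt_card_iff_nontrivial.1 (by rw [hC4]; norm_num)
  have hVK : IsKleinFour V := by
    refine ⟨hC4, (Monoid.exponent_eq_prime_iff Nat.prime_two).2 fun g hg => ?_⟩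
    exact orderOf_eq_prime (Subtype.ext (hCe _ g.2)) hg
  have hone : Nat.card {C : ConjClasses G // ∃ t : G, orderOf t = 2 ∧ ConjClasses.mk t = C} = 1 := by
    rcases klein_sylow_dichotomy P (hPV ▸ hVK) with ⟨-, N, hN, hNc⟩ | ⟨h, -⟩
    · exact absurd ⟨P, N, hN, hNc⟩ hnc
    · exact h
  have hconj : ∀ a b : G, orderOf a = 2 → orderOf b = 2 → IsConj a b := fun a b ha hb => by
    have hs := (Nat.card_eq_one_iff_unique.1 hone).1
    exact ConjClasses.mk_eq_mk_iff_isConj.1
      (congrArg Subtype.val (hs.elim ⟨_, a, ha, rfl⟩ ⟨_, b, hb, rfl⟩))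
  -- a second involution of `V`
  have hxV : x ∈ V := mem_centralizer_singleton.2 rfl
  obtain ⟨s, hsV, hsK⟩ : ∃ s ∈ V, s ∉ Subgroup.zpowers x := by
    by_contra h
    push Not at h
    have := Subgroup.card_le_of_le (show V ≤ Subgroup.zpowers x from h)
    rw [hC4, Nat.card_zpowers, hx] at this
    omega
  have hs1 : s ≠ 1 := fun e => hsK (e ▸ one_mem _)
  have hso : orderOf s = 2 := orderOf_eq_prime (hCe s hsV) hs1
  have hxx := mul_self_eq_one hx
  have hcomm : s * x = x * s := mem_centralizer_singleton.1 hsV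
  have hK : ∀ y ∈ Subgroup.zpowers x, y = 1 ∨ y = x := by
    intro y hy
    obtain ⟨n, rfl⟩ := Subgroup.mem_zpowers_iff.1 hy
    rw [← zpow_mod_orderOf, hx]
    rcases Int.emod_two_eq_zero_or_one n with e | e
    · left; rw [show n % ((2 : ℕ) : ℤ) = 0 from e, zpow_zero]
    · right; rw [show n % ((2 : ℕ) : ℤ) = 1 from e, zpow_one]
  have hxs : orderOf (x * s) = 2 := orderOf_eq_prime (hCe _ (V.mul_mem hxV hsV)) fun e => hsK (by
    rw [eq_inv_of_mul_eq_one_right e]; exact inv_mem (Subgroup.mem_zpowers x))
  let S : CfsgLib.SectRank.BSW.Setting G :=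
    { t := x
      ht := hx
      K := Subgroup.zpowers x
      hKab := inferInstance
      hKH := Subgroup.zpowers_le.2 hxV
      htK := Subgroup.mem_zpowers x
      s := s
      hs := hso
      hsH := hsV
      hsK := hsK
      hH := by
        refine Subgroup.eq_of_le_of_card_ge
          (sup_le (Subgroup.zpowers_le.2 hxV) (Subgroup.zpowers_le.2 hsV)) ?_
        have hlt : Subgroup.zpowers x < Subgroup.zpowers x ⊔ Subgroup.zpowers s :=
          lt_of_le_of_ne le_sup_left fun e => hsK (e ▸ Subgroup.mem_sup_right (Subgroup.mem_zpowers s))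
        obtain ⟨j, hj⟩ := Subgroup.card_dvd_of_le hlt.le
        have h1 : Nat.card (Subgroup.zpowers x) < Nat.card ↥(Subgroup.zpowers x ⊔ Subgroup.zpowers s) :=
          lt_of_le_of_ne (Subgroup.card_le_of_le hlt.le) fun e =>
            hlt.ne (Subgroup.eq_of_le_of_card_ge hlt.le e.ge)
        rw [Nat.card_zpowers, hx] at h1 hj
        rw [hC4]
        omega
      hCK := le_antisymm inf_le_left (le_inf le_rfl (Subgroup.zpowers_le.2
        (mem_centralizer_singleton.2 hcomm.symm)))
      hinv := by
        intro y hy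
        rcases hK y hy with e | e <;> subst e
        · simp
        · rw [hcomm, mul_inv_cancel_right, inv_eq_self hx]
      hTI := by
        intro g hg
        by_contra hb
        obtain ⟨y, ⟨hy, y', hy', he⟩, hy1⟩ := (Subgroup.bot_or_exists_ne_one _).resolve_left hb
        change g * y' * g⁻¹ = y at he
        rcases hK y hy with e | e
        · exact hy1 e
        rcases hK y' hy' with e' | e'
        · exact hy1 (by rw [← he, e']; group)
        · rw [e, e'] at he
          exact hg (mem_centralizer_singleton.2 (mul_inv_eq_iff_eq_mul.1 he))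
      hconj := hconj }
  have hk : S.k = 2 := by
    show Nat.card (Subgroup.zpowers x) = 2
    rw [Nat.card_zpowers, hx]
  rcases S.case_small hk with ⟨h3, -⟩ | ⟨h15, -⟩
  · -- the involutions form, with the identity, the normal four-group `V`
    exfalso
    have hinV : ∀ u : G, orderOf u = 2 → u ∈ V := by
      intro u hu
      by_contra huV
      have hinj : Function.Injective
          (![(⟨x, hx⟩ : {z : G // orderOf z = 2}), ⟨s, hso⟩, ⟨x * s, hxs⟩, ⟨u, hu⟩]) := by
        have n1 : x ≠ s := fun e => hsK (e ▸ Subgroup.mem_zpowers x)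
        have n2 : x ≠ x * s := fun e => hs1 (mul_eq_left.1 e.symm)
        have n3 : s ≠ x * s := fun e => ne_one hx (mul_eq_right.1 e.symm)
        have n4 : x ≠ u := fun e => huV (e ▸ hxV)
        have n5 : s ≠ u := fun e => huV (e ▸ hsV)
        have n6 : x * s ≠ u := fun e => huV (e ▸ V.mul_mem hxV hsV)
        intro i j h
        fin_cases i <;> fin_cases j <;>
          simp_all [Subtype.ext_iff, n1.symm, n2.symm, n3.symm, n4.symm, n5.symm, n6.symm]
      have := Nat.card_le_card_of_injective _ hinj
      rw [Nat.card_eq_fintype_card, Fintype.card_fin] at this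
      rw [show Nat.card {z : G // orderOf z = 2} = S.v from rfl, h3] at this
      omega
    have hVn : V.Normal := ⟨fun v hv c => by
      rcases eq_one_or_two_of_klein hVK hv with e | e
      · rw [e, mul_one, mul_inv_cancel]; exact V.one_mem
      · exact hinV _ ((orderOf_conj c v).trans e)⟩
    exact (hne V hVn ⟨IsKleinFour.isMulCommutative, hCe⟩).2 hC4
  · have h60 : Nat.card G = 60 := by rw [S.card_G, hk, h15]
    refine CfsgLib.SL2.Dickson.Sixty.nonempty_mulEquiv_alternating_five h60 fun R hR hRn => ?_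
    obtain ⟨r, hr, hr1⟩ := (Subgroup.bot_or_exists_ne_one R).resolve_left fun e => by
      rw [e, Subgroup.card_bot] at hR; omega
    have hinv : ∀ y : G, orderOf y = 2 → y * r * y⁻¹ = r⁻¹ := by
      intro y hy
      obtain ⟨c, hc⟩ := isConj_iff.1 (hconj x y hx hy)
      refine CfsgLib.SectRank.DihedralEight.inverts_of_fixedPointFree (mul_self_eq_one hy)
        (fun b hb => hRn.conj_mem b hb y) (fun b hb hby => ?_) hr
      have hm : c⁻¹ * b * c ∈ V := by
        rw [hV, mem_centralizer_singleton]
        calc c⁻¹ * b * c * x = c⁻¹ * (b * (c * x * c⁻¹)) * c := by group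
          _ = c⁻¹ * (c * x * c⁻¹ * b) * c := by rw [hc, hby]
          _ = x * (c⁻¹ * b * c) := by group
      have h1 := Subgroup.orderOf_dvd_natCard V hm
      have h2 := Subgroup.orderOf_dvd_natCard R
        (show c⁻¹ * b * c ∈ R by simpa using hRn.conj_mem b hb c⁻¹)
      rw [hC4] at h1
      rw [hR] at h2
      have hone := orderOf_eq_one_iff.1 (Nat.eq_one_of_dvd_coprimes (by norm_num) h1 h2)
      have := congrArg (fun z => c * z * c⁻¹) hone
      simpa [mul_assoc] using this
    have h1 := hinv x hx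
    have h2 := hinv s hso
    have h3 := hinv (x * s) hxs
    have h4 : r = r⁻¹ := by
      calc r = (r⁻¹)⁻¹ := (inv_inv r).symm
        _ = (x * r * x⁻¹)⁻¹ := by rw [h1]
        _ = x * r⁻¹ * x⁻¹ := by group
        _ = x * (s * r * s⁻¹) * x⁻¹ := by rw [h2]
        _ = x * s * r * (x * s)⁻¹ := by group
        _ = r⁻¹ := h3
    have h5 : orderOf r ∣ 2 := orderOf_dvd_of_pow_eq_one (by
      rw [pow_two]; nth_rewrite 1 [h4]; exact inv_mul_cancel r)
    have h6 := Subgroup.orderOf_dvd_natCard R hr
    rw [hR] at h6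
    exact hr1 (orderOf_eq_one_iff.1 (Nat.eq_one_of_dvd_coprimes (by norm_num) h5 h6))

end Cfsg.Agent.S3277
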