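import Cfsg.Statements.S0849
import Cfsg.Agent.Lib.Frobenius.Induce

set_option autoImplicit false
set_option linter.style.haveILetI false
open Cfsg

namespace Cfsg.Agent.S0849

theorem result {G : Type*} [Group G] [Fintype G] (H : Subgroup G) (S : Set G) (hSH : S ⊆ H) (hHS : ∀ h ∈ H, ∀ s ∈ S, h * s * h⁻¹ ∈ S) (hTI : ∀ g : G, g ∉ H → ∀ s ∈ S, g * s * g⁻¹ ∉ S) (hinv : ∀ s ∈ S, s⁻¹ ∈ S) (φ : H → ℂ) (hφ : Cfsg.IsClassFunction H φ) (hφS : ∀ x : H, (x : G) ∉ S → φ x = 0) (u v : G) (hu : orderOf u = 2) (hv : orderOf v = 2) : ∑ᶠ p ∈ {p : G × G | IsConj u p.1 ∧ IsConj v p.2}, Cfsg.indFun H φ (p.1 * p.2) = (H.index : ℂ) * ∑ᶠ p ∈ {p : H × H | IsConj u (p.1 : G) ∧ IsConj v (p.2 : G)}, φ (p.1 * p.2) := by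
  classical
  letI : Fintype H := Fintype.ofFinite _
  set E := Cfsg.extendByZero H φ with hE
  set A : Finset (G × G) := Finset.univ.filter fun p => IsConj u p.1 ∧ IsConj v p.2 with hA
  set B : Finset (H × H) := Finset.univ.filter fun p => IsConj u (p.1 : G) ∧ IsConj v (p.2 : G)
    with hB
  rw [finsum_mem_eq_sum_of_inter_support_eq _ (t := A) (by ext p; simp [hA]),
    finsum_mem_eq_sum_of_inter_support_eq _ (t := B) (by ext p; simp [hB])]
  have hsq : ∀ w a : G, orderOf w = 2 → IsConj w a → a * a = 1 := by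
    intro w a hw hc
    obtain ⟨c, rfl⟩ := isConj_iff.1 hc
    have : w * w = 1 := by rw [← sq, ← hw, pow_orderOf_eq_one]
    calc c * w * c⁻¹ * (c * w * c⁻¹) = c * (w * w) * c⁻¹ := by group
      _ = 1 := by rw [this]; group
  -- a conjugation-invariant pair sum
  have hshift : ∀ x : G, ∑ p ∈ A, E (x⁻¹ * (p.1 * p.2) * x) = ∑ p ∈ A, E (p.1 * p.2) := fun x => by
    refine Finset.sum_bij' (fun p _ => (x⁻¹ * p.1 * x, x⁻¹ * p.2 * x))
      (fun p _ => (x * p.1 * x⁻¹, x * p.2 * x⁻¹)) (fun p hp => ?_) (fun p hp => ?_)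
      (fun p _ => by simp [mul_assoc]) (fun p _ => by simp [mul_assoc])
      (fun p _ => congrArg E (by group))
    · simp only [hA, Finset.mem_filter, Finset.mem_univ, true_and] at hp ⊢
      exact ⟨hp.1.trans (isConj_iff.2 ⟨x⁻¹, by group⟩), hp.2.trans (isConj_iff.2 ⟨x⁻¹, by group⟩)⟩
    · simp only [hA, Finset.mem_filter, Finset.mem_univ, true_and] at hp ⊢
      exact ⟨hp.1.trans (isConj_iff.2 ⟨x, rfl⟩), hp.2.trans (isConj_iff.2 ⟨x, rfl⟩)⟩
  have hbody : ∑ p ∈ A, E (p.1 * p.2) = ∑ p ∈ B, φ (p.1 * p.2) := by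
    symm
    refine Finset.sum_bij_ne_zero (fun p _ _ => ((p.1 : G), (p.2 : G))) (fun p hp _ => ?_)
      (fun p _ _ q _ _ h => ?_) (fun p hp hne => ?_) (fun p hp _ => ?_)
    · simpa [hA, hB] using hp
    · exact Prod.ext (Subtype.ext (congrArg Prod.fst h)) (Subtype.ext (congrArg Prod.snd h))
    · simp only [hA, Finset.mem_filter, Finset.mem_univ, true_and] at hp
      have hmem : p.1 * p.2 ∈ H := by
        by_contra h
        exact hne (CfsgLib.Frobenius.extendByZero_of_not_mem H φ h)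
      have hS' : p.1 * p.2 ∈ S := by
        by_contra h
        rw [hE, CfsgLib.Frobenius.extendByZero_of_mem H φ hmem] at hne
        exact hne (hφS _ h)
      have h1 := hsq u p.1 hu hp.1
      have h2 := hsq v p.2 hv hp.2
      have ha : p.1 ∈ H := by
        by_contra h
        refine hTI p.1 h _ hS' ?_
        rw [inv_eq_of_mul_eq_one_right h1, ← mul_assoc, h1, one_mul]
        have h3 := hinv _ hS'
        rwa [mul_inv_rev, inv_eq_of_mul_eq_one_right h1, inv_eq_of_mul_eq_one_right h2] at h3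
      have hb : p.2 ∈ H := by
        have h := H.mul_mem (H.inv_mem ha) hmem
        rwa [inv_mul_cancel_left] at h
      refine ⟨(⟨p.1, ha⟩, ⟨p.2, hb⟩), by
        simp only [hB, Finset.mem_filter, Finset.mem_univ, true_and]; exact hp, ?_, rfl⟩
      rwa [hE, CfsgLib.Frobenius.extendByZero_of_mem H φ (H.mul_mem ha hb)] at hne
    · exact (CfsgLib.Frobenius.extendByZero_of_mem H φ (H.mul_mem p.1.2 p.2.2)).symm
  simp only [Cfsg.indFun, ← Finset.mul_sum]
  rw [Finset.sum_comm, Finset.sum_congr rfl fun x _ => hshift x, Finset.sum_const,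
    Finset.card_univ, hbody, nsmul_eq_mul, ← mul_assoc, Fintype.card_eq_nat_card,
    ← H.card_mul_index, Nat.cast_mul, ← mul_assoc,
    inv_mul_cancel₀ (Nat.cast_ne_zero.2 Nat.card_pos.ne'), one_mul]

end Cfsg.Agent.S0849
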