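import Cfsg.Statements.S0848
import Cfsg.Agent.S0849
import Cfsg.Agent.Lib.Frobenius.TI
import Cfsg.Agent.Lib.Coherence.Signed
import Cfsg.Agent.Lib.Coherence.RationalValue
import Cfsg.Agent.Lib.CharTheory.Orthogonality
import Cfsg.Agent.Lib.CharTheory.Linear
import Cfsg.Agent.Lib.CharTheory.Degree
import Cfsg.Agent.Lib.CyclicTI.Inner
import Cfsg.Agent.Lib.Involutions.ThompsonTransfer
import Mathlib.GroupTheory.SpecificGroups.Dihedral

set_option autoImplicit false
set_option linter.style.haveILetI false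
open Cfsg CfsgLib.CharTheory
open scoped ComplexConjugate

namespace Cfsg.Agent.S0848

/-! ### A virtual character of the dihedral group of order 8 -/

abbrev D4 := DihedralGroup 4

/-- The sum of the trivial and a sign character, as diagonal matrices. -/
def linPairFun : D4 → Matrix (Fin 2) (Fin 2) ℤ
  | .r _ => !![1, 0; 0, 1]
  | .sr _ => !![1, 0; 0, -1]

/-- The plane representation, as matrices. -/
def planeFun : D4 → Matrix (Fin 2) (Fin 2) ℤ
  | .r i => (!![0, -1; 1, 0] : Matrix (Fin 2) (Fin 2) ℤ) ^ i.val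
  | .sr i => !![1, 0; 0, -1] * (!![0, -1; 1, 0] : Matrix (Fin 2) (Fin 2) ℤ) ^ i.val

def linPairHom : D4 →* Matrix (Fin 2) (Fin 2) ℤ where
  toFun := linPairFun
  map_one' := by decide
  map_mul' := by decide

def planeHom : D4 →* Matrix (Fin 2) (Fin 2) ℤ where
  toFun := planeFun
  map_one' := by decide
  map_mul' := by decide

/-- The virtual character `1 + λ - ψ`. -/
def vfun (g : D4) : ℤ := (linPairFun g).trace - (planeFun g).trace

theorem isCharacter_trace (μ : D4 →* Matrix (Fin 2) (Fin 2) ℤ) :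
    IsCharacter D4 (fun g => (((μ g).trace : ℤ) : ℂ)) := by
  refine ⟨2, (Matrix.toLinAlgEquiv' (R := ℂ) (n := Fin 2)).toRingEquiv.toRingHom.toMonoidHom.comp
    ((Int.castRingHom ℂ).mapMatrix.toMonoidHom.comp μ), ?_⟩
  funext g
  show LinearMap.trace ℂ _ (Matrix.toLinAlgEquiv' ((μ g).map (Int.castRingHom ℂ)))
    = ((μ g).trace : ℂ)
  rw [show Matrix.toLinAlgEquiv' ((μ g).map (Int.castRingHom ℂ))
    = Matrix.toLin' ((μ g).map (Int.castRingHom ℂ)) from rfl, Matrix.trace_toLin'_eq]
  simp [Matrix.trace]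

theorem gen_vfun : IsGeneralizedCharacter D4 (fun g => (vfun g : ℂ)) := by
  refine ⟨_, _, isCharacter_trace linPairHom, isCharacter_trace planeHom, ?_⟩
  funext g
  rw [Pi.sub_apply, vfun, Int.cast_sub]
  rfl

theorem vfun_one : vfun 1 = 0 := by decide
theorem vfun_two : vfun (.r 2) = 4 := by decide
theorem vfun_sq_sum : ∑ g, vfun g * vfun g = 24 := by decide
theorem vfun_sum : ∑ g, vfun g = 8 := by decide
theorem vfun_support : ∀ g, vfun g ≠ 0 → g = .r 2 ∨ g * g = .r 2 := by decide
theorem vfun_supp_conj : ∀ g h : D4, g = .r 2 ∨ g * g = .r 2 →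
    h * g * h⁻¹ = .r 2 ∨ (h * g * h⁻¹) * (h * g * h⁻¹) = .r 2 := by decide
theorem supp_inv : ∀ g : D4, g = .r 2 ∨ g * g = .r 2 → g⁻¹ = .r 2 ∨ g⁻¹ * g⁻¹ = .r 2 := by decide
theorem central_involution : ∀ z : D4, (∀ w, z * w = w * z) → z ≠ 1 → z = .r 2 := by decide
theorem rotation_involution : ∀ i : ZMod 4,
    (DihedralGroup.r i : D4) * .r i = 1 → (DihedralGroup.r i : D4) ≠ 1 →
    (DihedralGroup.r i : D4) = .r 2 := by decide
theorem pair_sum : ∑ p : D4 × D4,
    (if (p.1 * p.1 = 1 ∧ p.1 ≠ 1) ∧ (p.2 * p.2 = 1 ∧ p.2 ≠ 1) then vfun (p.1 * p.2) else 0) = 32 := by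
  decide

/-! ### Arithmetic -/

theorem order_cases {h D : ℤ} (hodd : Odd h) (hD : D ≠ 1)
    (he : h * (D - 1) ^ 2 = 32 * D * (D + 1)) : h = 21 ∨ h = 45 := by
  obtain ⟨k, hk⟩ : ∃ k, D = 2 * k + 1 := by
    rcases Int.even_or_odd D with hev | hodd'
    · exfalso
      have h1 : Odd (h * (D - 1) ^ 2) := hodd.mul ((hev.sub_odd odd_one).pow)
      rw [he] at h1
      exact (Int.not_odd_iff_even.2 ⟨16 * D * (D + 1), by ring⟩) h1
    · exact hodd'
  subst hk
  have hk0 : k ≠ 0 := fun h0 => hD (by omega)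
  have he' : h * k ^ 2 = 16 * ((2 * k + 1) * (k + 1)) := by nlinarith
  have hcop : IsCoprime (k ^ 2) ((2 * k + 1) * (k + 1)) := by
    refine IsCoprime.pow_left ⟨-(2 * k + 3), 1, by ring⟩
  have hdvd : k ^ 2 ∣ 16 := hcop.dvd_of_dvd_mul_right ⟨h, by linarith⟩
  have hle : k ^ 2 ≤ 16 := Int.le_of_dvd (by norm_num) hdvd
  have hb1 : -4 ≤ k := by nlinarith
  have hb2 : k ≤ 4 := by nlinarith
  rw [Int.odd_iff] at hodd
  interval_cases k <;> omega

/-! ### The class sum squared -/

theorem pair_sum_irr {G : Type*} [Group G] [Fintype G] {χ : G → ℂ} (hχ : IsIrrCharacter G χ)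
    (t : G) (A : Finset (G × G)) (hA : ∀ p, p ∈ A ↔ IsConj t p.1 ∧ IsConj t p.2) :
    (∑ p ∈ A, χ (p.1 * p.2)) * χ 1
      = (((Subgroup.centralizer ({t} : Set G)).index : ℂ) * χ t) ^ 2 := by
  classical
  obtain ⟨n, ρ, hρ, rfl⟩ := hχ
  obtain ⟨c, -, hsum, hc⟩ := exists_classSum_eq_smul ρ t
  have hA' : A = (Finset.univ.filter (IsConj t)) ×ˢ (Finset.univ.filter (IsConj t)) := by
    ext p; simp [hA]
  have h : (∑ p ∈ A, ρ p.1 * ρ p.2) = (c * c) • LinearMap.id := by
    rw [hA', Finset.sum_product]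
    refine (Finset.sum_mul_sum _ _ _ _).symm.trans ?_
    rw [show (∑ i ∈ Finset.univ.filter (IsConj t), ρ i) = c • LinearMap.id by convert hsum, smul_mul_smul_comm]
    rfl
  have h2 : ∑ p ∈ A, ρ.character (p.1 * p.2) = c * c * (Module.finrank ℂ (Fin n → ℂ) : ℂ) := by
    have h3 := congrArg (LinearMap.trace ℂ (Fin n → ℂ)) h
    rw [map_sum, map_smul, LinearMap.trace_id, smul_eq_mul] at h3
    rw [← h3]
    exact Finset.sum_congr rfl fun p _ => by rw [Representation.character, map_mul]
  rw [h2, ρ.char_one, ← hc]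
  ring

theorem pair_sum_signed {G : Type*} [Group G] [Fintype G] {α : G → ℂ}
    (hα : IsIrrCharacter G α ∨ IsIrrCharacter G (-α))
    (t : G) (A : Finset (G × G)) (hA : ∀ p, p ∈ A ↔ IsConj t p.1 ∧ IsConj t p.2) :
    (∑ p ∈ A, α (p.1 * p.2)) * α 1
      = (((Subgroup.centralizer ({t} : Set G)).index : ℂ) * α t) ^ 2 := by
  rcases hα with h | h
  · exact pair_sum_irr h t A hA
  · have := pair_sum_irr h t A hA
    simp only [Pi.neg_apply, Finset.sum_neg_distrib] at this
    linear_combination this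

/-- A perfect group has no subgroup of index two. -/
theorem no_index_two {G : Type*} [Group G] (hperf : commutator G = ⊤) (K : Subgroup G) :
    K.index ≠ 2 := by
  intro h
  haveI := Subgroup.normal_of_index_eq_two h
  haveI : Fact (Nat.Prime 2) := ⟨Nat.prime_two⟩
  haveI : IsCyclic (G ⧸ K) := isCyclic_of_prime_card (p := 2) (by rw [← Subgroup.index_eq_card, h])
  have hle : commutator G ≤ K := by
    letI := IsCyclic.commGroup (α := G ⧸ K)
    have := Abelianization.commutator_subset_ker (QuotientGroup.mk' K)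
    rwa [QuotientGroup.ker_mk'] at this
  rw [hperf, top_le_iff] at hle
  rw [hle, Subgroup.index_top] at h
  exact absurd h (by norm_num)

/-- In a perfect group the only linear character is trivial. -/
theorem eq_one_of_degree_one {G : Type*} [Group G] (hperf : commutator G = ⊤) {χ : G → ℂ}
    (hχ : IsIrrCharacter G χ) (h1 : χ 1 = 1) : χ = fun _ => 1 := by
  obtain ⟨μ, rfl⟩ := exists_hom_of_degree_one hχ h1
  funext g
  have : g ∈ μ.ker := Abelianization.commutator_subset_ker μ (hperf ▸ Subgroup.mem_top g)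
  rw [MonoidHom.mem_ker.1 this, Units.val_one]

theorem result {G : Type*} [Group G] [Finite G] (hperf : commutator G = ⊤) (t : G) (ht : orderOf t = 2) (e : Subgroup.centralizer ({t} : Set G) ≃* DihedralGroup 4) : Nat.card G = 168 ∨ Nat.card G = 360 := by
  classical
  letI : Fintype G := Fintype.ofFinite G
  set C := Subgroup.centralizer ({t} : Set G) with hCdef
  letI : Fintype C := Fintype.ofFinite _
  have ht1 : t ≠ 1 := fun h => by rw [h, orderOf_one] at ht; exact absurd ht (by norm_num)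
  have htt : t * t = 1 := by rw [← sq, ← ht, pow_orderOf_eq_one]
  have htC : t ∈ C := Subgroup.mem_centralizer_singleton_iff.2 rfl
  have het : e ⟨t, htC⟩ = .r 2 := by
    refine central_involution _ (fun w => ?_) fun h => ?_
    · obtain ⟨y, rfl⟩ := e.surjective w
      rw [← map_mul, ← map_mul]
      exact congrArg e (Subtype.ext (Subgroup.mem_centralizer_singleton_iff.1 y.2).symm)
    · exact ht1 (congrArg Subtype.val (e.map_eq_one_iff.1 h))
  have hC8 : Nat.card C = 8 := by rw [Nat.card_congr e.toEquiv, DihedralGroup.nat_card]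
  -- `C` is a Sylow subgroup
  have hodd : Odd C.index := by
    have hp : IsPGroup 2 C := IsPGroup.of_card (n := 3) (by rw [hC8]; norm_num)
    obtain ⟨P, hP⟩ := hp.exists_le_sylow
    have hPC : (P : Subgroup G) ≤ C := by
      haveI : Nontrivial (P : Subgroup G) :=
        ⟨⟨⟨t, hP htC⟩, 1, fun h => ht1 (congrArg Subtype.val h)⟩⟩
      haveI := P.isPGroup'.center_nontrivial
      obtain ⟨⟨z, hz⟩, hz1⟩ := exists_ne (1 : Subgroup.center (P : Subgroup G))
      have hzt : (z : G) * t = t * z :=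
        congrArg Subtype.val ((Subgroup.mem_center_iff.1 hz ⟨t, hP htC⟩).symm)
      have hzC : (z : G) ∈ C := Subgroup.mem_centralizer_singleton_iff.2 hzt
      have hez : e ⟨z, hzC⟩ = .r 2 := by
        refine central_involution _ (fun w => ?_) fun h => ?_
        · obtain ⟨y, rfl⟩ := e.surjective w
          rw [← map_mul, ← map_mul]
          refine congrArg e (Subtype.ext ?_)
          show (z : G) * (y : G) = (y : G) * (z : G)
          exact (congrArg Subtype.val (Subgroup.mem_center_iff.1 hz ⟨y, hP y.2⟩)).symm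
        · refine hz1 (Subtype.ext (Subtype.ext ?_))
          show (z : G) = 1
          exact congrArg (fun c : C => (c : G)) (e.map_eq_one_iff.1 h)
      have hzeq : (z : G) = t := congrArg Subtype.val (e.injective (hez.trans het.symm))
      intro x hx
      rw [hCdef, Subgroup.mem_centralizer_singleton_iff, ← hzeq]
      exact congrArg Subtype.val (Subgroup.mem_center_iff.1 hz ⟨x, hx⟩)
    haveI : Fact (Nat.Prime 2) := ⟨Nat.prime_two⟩
    rw [← Nat.not_even_iff_odd, even_iff_two_dvd, show C = (P : Subgroup G) from le_antisymm hP hPC]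
    exact P.not_dvd_index
  -- all involutions are conjugate
  have hconj : ∀ x : G, orderOf x = 2 → IsConj t x := by
    intro x hx
    set a : G := ((e.symm (.r 1) : C) : G) with ha
    have hoa : orderOf a = 4 := by
      rw [ha, Subgroup.orderOf_coe, MulEquiv.orderOf_eq, DihedralGroup.orderOf_r_one]
    have hidx : (Subgroup.zpowers a).index % 4 = 2 := by
      have h1 := (Subgroup.zpowers a).card_mul_index
      rw [Nat.card_zpowers, hoa, ← C.card_mul_index, hC8] at h1
      rw [Nat.odd_iff] at hodd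
      omega
    by_contra hno
    obtain ⟨K, hK⟩ := CfsgLib.Involutions.exists_index_two_of_involution_not_conj hx hidx fun g hg => by
      obtain ⟨k, hk⟩ := Subgroup.mem_zpowers_iff.1 hg
      refine hno (isConj_iff.2 ⟨g, ?_⟩).symm
      have hne : g * x * g⁻¹ ≠ 1 := fun h => by
        have : x = 1 := by
          calc x = g⁻¹ * (g * x * g⁻¹) * g := by group
            _ = 1 := by rw [h]; group
        rw [this, orderOf_one] at hx
        exact absurd hx (by norm_num)
      have hsq : (g * x * g⁻¹) * (g * x * g⁻¹) = 1 := by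
        have hxx : x * x = 1 := by rw [← sq, ← hx, pow_orderOf_eq_one]
        calc g * x * g⁻¹ * (g * x * g⁻¹) = g * (x * x) * g⁻¹ := by group
          _ = 1 := by rw [hxx]; group
      obtain ⟨i, hi⟩ : ∃ i : ZMod 4, (DihedralGroup.r 1 : D4) ^ k = .r i := by
        refine ⟨(k : ZMod 4), ?_⟩
        rw [DihedralGroup.r_one_zpow]
      have hcoe : g * x * g⁻¹ = ((e.symm (.r i) : C) : G) := by
        rw [← hk, ha, ← Subgroup.coe_zpow, ← map_zpow, hi]
      have h2 : (DihedralGroup.r i : D4) = .r 2 := by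
        refine rotation_involution i ?_ ?_
        · apply e.symm.injective
          refine Subtype.ext ?_
          rw [map_mul, Subgroup.coe_mul, ← hcoe, hsq, map_one, Subgroup.coe_one]
        · intro h
          rw [hcoe, h, map_one] at hne
          exact hne rfl
      rw [hcoe, h2, ← het, e.symm_apply_apply]
    exact no_index_two hperf K hK
  -- the function on `C` and its induced virtual character
  set φ : C → ℂ := fun c => (vfun (e c) : ℂ) with hφdef
  have hφgen : IsGeneralizedCharacter C φ :=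
    CfsgLib.Coherence.isGeneralizedCharacter_comp gen_vfun e.toMonoidHom
  have hφcl : IsClassFunction C φ := IsGeneralizedCharacter.isClassFunction hφgen
  set S : Set G := {x | ∃ h : x ∈ C, e ⟨x, h⟩ = .r 2 ∨ e ⟨x, h⟩ * e ⟨x, h⟩ = .r 2} with hS
  have hSC : S ⊆ C := fun x hx => hx.1
  have hS_cases : ∀ s ∈ S, s = t ∨ s * s = t := by
    rintro s ⟨h, h' | h'⟩
    · exact Or.inl (congrArg Subtype.val (e.injective (h'.trans het.symm)))
    · rw [← map_mul] at h'
      exact Or.inr (congrArg Subtype.val (e.injective (h'.trans het.symm)))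
  have hTI : ∀ g : G, g ∉ C → ∀ s ∈ S, g * s * g⁻¹ ∉ S := by
    intro g hg s hs hgs
    refine hg (Subgroup.mem_centralizer_singleton_iff.2 ?_)
    have key : g * t * g⁻¹ = t := by
      rcases hS_cases s hs with h1 | h1 <;> rcases hS_cases _ hgs with h2 | h2
      · rw [h1] at h2; exact h2
      · exfalso
        rw [h1] at h2
        refine ht1 ?_
        rw [← h2, show g * t * g⁻¹ * (g * t * g⁻¹) = g * (t * t) * g⁻¹ by group, htt]
        group
      · exfalso
        refine ht1 ?_
        rw [← h1, show s * s = g⁻¹ * ((g * s * g⁻¹) * (g * s * g⁻¹)) * g by group, h2, htt]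
        group
      · calc g * t * g⁻¹ = (g * s * g⁻¹) * (g * s * g⁻¹) := by rw [← h1]; group
          _ = t := h2
    calc g * t = g * t * g⁻¹ * g := by group
      _ = t * g := by rw [key]
  have hφS : ∀ c : C, (c : G) ∉ S → φ c = 0 := by
    intro c hc
    simp only [hφdef, Int.cast_eq_zero]
    by_contra h
    exact hc ⟨c.2, vfun_support _ h⟩
  have hφ1 : φ 1 = 0 := by simp only [hφdef, map_one, vfun_one, Int.cast_zero]
  have hTI' : ∀ x : G, x ∉ C → ∀ s ∈ S, x⁻¹ * s * x ∈ S → s = 1 := fun x hx s hs hsx =>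
    absurd (by simpa using hsx) (hTI x⁻¹ (fun h => hx (by simpa using C.inv_mem h)) s hs)
  set θ := indFun C φ with hθdef
  have hθgen : IsGeneralizedCharacter G θ := CfsgLib.Frobenius.isGeneralizedCharacter_indFun C φ hφgen
  have hθt : θ t = 4 := by
    refine (CfsgLib.Frobenius.indFun_coe_of_ti C S hTI' φ hφcl hφS hφ1 ⟨t, htC⟩
      ⟨htC, Or.inl het⟩).trans ?_
    simp [hφdef, het, vfun_two]
  have hinner : ∀ f : D4 → ℂ, classInner φ (fun c => f (e c))
      = (8 : ℂ)⁻¹ * ∑ g, (vfun g : ℂ) * conj (f g) := by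
    intro f
    rw [classInner, hC8]
    congr 1
    exact Fintype.sum_equiv e.toEquiv _ _ fun c => rfl
  have hθ3 : classInner θ θ = ((3 : ℕ) : ℂ) := by
    rw [hθdef, CfsgLib.Frobenius.classInner_indFun_indFun_of_ti C S hTI' φ φ hφcl hφS hφS hφ1,
      show classInner φ φ = _ from hinner fun g => (vfun g : ℂ)]
    simp only [map_intCast, ← Int.cast_mul, ← Int.cast_sum, vfun_sq_sum]
    norm_num
  have hθ1c : classInner θ (fun _ => 1) = 1 := by
    rw [hθdef, CfsgLib.Frobenius.classInner_indFun C φ (fun _ => 1)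
      (IsIrrCharacter.isClassFunction isIrrCharacter_one)]
    rw [show classInner φ (fun _ : C => (1 : ℂ)) = _ from hinner fun _ => (1 : ℂ)]
    simp only [map_one, mul_one, ← Int.cast_sum, vfun_sum]
    norm_num
  obtain ⟨s, hscard, hsum, hsirr, hsorth⟩ :=
    CfsgLib.Coherence.exists_signed_decomp hθgen (k := 3) le_rfl hθ3
  -- one constituent is trivial
  obtain ⟨α₀, hα₀, hα₀1⟩ : ∃ α ∈ s, α = fun _ => (1 : ℂ) := by
    by_contra hno
    push Not at hno
    rw [hsum, classInner_sum_left] at hθ1c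
    by_cases hneg : (fun _ : G => (-1 : ℂ)) ∈ s
    · rw [Finset.sum_eq_single (fun _ : G => (-1 : ℂ))] at hθ1c
      · rw [show (fun _ : G => (-1 : ℂ)) = -(fun _ : G => (1 : ℂ)) from rfl, classInner_neg_left,
          classInner_self_of_isIrr isIrrCharacter_one] at hθ1c
        norm_num at hθ1c
      · intro α hα hne
        rcases hsirr α hα with h | h
        · exact classInner_eq_zero_of_ne h isIrrCharacter_one (hno α hα)
        · have h' := classInner_eq_zero_of_ne h isIrrCharacter_one fun h' => hne (funext fun g => by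
            have := congrFun h' g
            rw [Pi.neg_apply] at this
            exact neg_eq_iff_eq_neg.1 this)
          rwa [classInner_neg_left, neg_eq_zero] at h'
      · exact fun h => absurd hneg h
    · rw [Finset.sum_eq_zero] at hθ1c
      · exact zero_ne_one hθ1c
      · intro α hα
        rcases hsirr α hα with h | h
        · exact classInner_eq_zero_of_ne h isIrrCharacter_one (hno α hα)
        · have h' := classInner_eq_zero_of_ne h isIrrCharacter_one fun h' => hneg (by
            have : α = fun _ => (-1 : ℂ) := funext fun g => by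
              have := congrFun h' g
              rw [Pi.neg_apply] at this
              exact neg_eq_iff_eq_neg.1 this
            rwa [← this])
          rwa [classInner_neg_left, neg_eq_zero] at h'
  obtain ⟨α, β, hαβ, hpair⟩ : ∃ α β, α ≠ β ∧ s.erase α₀ = {α, β} :=
    Finset.card_eq_two.1 (by rw [Finset.card_erase_of_mem hα₀, hscard])
  have hα : α ∈ s.erase α₀ := by rw [hpair]; exact Finset.mem_insert_self _ _
  have hβ : β ∈ s.erase α₀ := by rw [hpair]; simp
  have hθeq : ∀ g, θ g = 1 + α g + β g := fun g => by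
    rw [hsum, Finset.sum_apply, ← Finset.add_sum_erase _ _ hα₀, hpair, Finset.sum_pair hαβ, hα₀1,
      add_assoc]
  have hSirr : ∀ γ ∈ s, ∃ n : ℤ, γ t = n ∧ ∃ d : ℤ, γ 1 = d ∧ d ≠ 0 := by
    intro γ hγ
    obtain ⟨n, hn⟩ := CfsgLib.Coherence.exists_int_of_forall_pow_eq
      (CfsgLib.Coherence.signed_isGeneralized (hsirr γ hγ)) t fun k hk => by
        rw [ht] at hk
        obtain ⟨j, rfl⟩ := (Nat.coprime_two_right.1 hk)
        rw [pow_succ, pow_mul, show t ^ 2 = 1 by rw [sq, htt], one_pow, one_mul]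
    refine ⟨n, hn, ?_⟩
    rcases hsirr γ hγ with h | h <;> obtain ⟨d, hd0, hd⟩ := exists_degree_of_isIrr h
    · exact ⟨d, by rw [hd]; simp, by omega⟩
    · refine ⟨-d, ?_, by omega⟩
      rw [Pi.neg_apply] at hd
      rw [Int.cast_neg, Int.cast_natCast, ← hd, neg_neg]
  obtain ⟨x, hx, Da, hDa, hDa0⟩ := hSirr α (Finset.mem_of_mem_erase hα)
  obtain ⟨y, hy, Db, hDb, hDb0⟩ := hSirr β (Finset.mem_of_mem_erase hβ)
  have hdeg : 1 + Da + Db = 0 := by
    have h := hθeq 1
    rw [hθdef, CfsgLib.Frobenius.indFun_one, hφ1, mul_zero, hDa, hDb] at h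
    exact_mod_cast h.symm
  have hxy : 1 + x + y = 4 := by
    have h := hθeq t
    rw [hθt, hx, hy] at h
    exact_mod_cast h.symm
  -- the column at `t`
  have hcol : x * x + y * y ≤ 7 := by
    letI : Fintype (IrrCharacter G) := Fintype.ofFinite _
    have hu : ∀ γ ∈ s, ∃ χ : IrrCharacter G, (χ : G → ℂ) = γ ∨ (χ : G → ℂ) = -γ := fun γ hγ => by
      rcases hsirr γ hγ with h | h
      · exact ⟨⟨γ, h⟩, Or.inl rfl⟩
      · exact ⟨⟨-γ, h⟩, Or.inr rfl⟩
    haveI : Nonempty (IrrCharacter G) := ⟨trivIrr G⟩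
    choose! u hu using hu
    have huinj : Set.InjOn u (s : Set (G → ℂ)) := by
      intro a ha b hb hab
      by_contra hne
      have h := hsorth a ha b hb
      rw [if_neg hne] at h
      have h1 := classInner_self_of_isIrr (u a).2
      have h2 : (u a : G → ℂ) = (u b : G → ℂ) := congrArg Subtype.val hab
      rcases hu a ha with e1 | e1 <;> rcases hu b hb with e2 | e2 <;>
        (nth_rewrite 2 [h2] at h1; rw [e1, e2] at h1) <;>
        simp [h, CfsgLib.CyclicTI.inner_neg_right, classInner_neg_left] at h1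
    have h := sum_mul_conj t t
    rw [if_pos (IsConj.refl _), hC8] at h
    have hre := congrArg Complex.re h
    rw [Complex.re_sum, Complex.natCast_re] at hre
    have hle : ∑ χ ∈ s.image u, ((χ : G → ℂ) t * conj ((χ : G → ℂ) t)).re ≤ ((8 : ℕ) : ℝ) := by
      rw [← hre]
      refine Finset.sum_le_sum_of_subset_of_nonneg (Finset.subset_univ _) fun χ _ _ => ?_
      rw [Complex.mul_conj]
      exact Complex.normSq_nonneg _
    rw [Finset.sum_image huinj, ← Finset.add_sum_erase _ _ hα₀, hpair, Finset.sum_pair hαβ] at hle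
    have hsq : ∀ γ ∈ s, ∀ n : ℤ, γ t = n →
        ((u γ : G → ℂ) t * conj ((u γ : G → ℂ) t)).re = (n : ℝ) * n := fun γ hγ n hn => by
      rcases hu γ hγ with e1 | e1 <;> rw [e1] <;> simp [hn]
    rw [hsq α₀ hα₀ 1 (by rw [hα₀1]; simp), hsq α (Finset.mem_of_mem_erase hα) x hx,
      hsq β (Finset.mem_of_mem_erase hβ) y hy] at hle
    have : (1 : ℤ) * 1 + (x * x + y * y) ≤ 8 := by exact_mod_cast hle
    omega
  -- the pair sum
  set A : Finset (G × G) := Finset.univ.filter fun p => IsConj t p.1 ∧ IsConj t p.2 with hA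
  have hAmem : ∀ p, p ∈ A ↔ IsConj t p.1 ∧ IsConj t p.2 := fun p => by simp [hA]
  set h : ℤ := (C.index : ℤ) with hh
  have hconjiff : ∀ c : C, IsConj t (c : G) ↔ e c * e c = 1 ∧ e c ≠ 1 := by
    intro c
    rw [← map_mul, e.map_eq_one_iff, ne_eq, e.map_eq_one_iff]
    constructor
    · intro hc
      obtain ⟨g, hg⟩ := isConj_iff.1 hc
      refine ⟨Subtype.ext ?_, fun h1 => ht1 ?_⟩
      · rw [Subgroup.coe_mul, ← hg, Subgroup.coe_one,
          show g * t * g⁻¹ * (g * t * g⁻¹) = g * (t * t) * g⁻¹ by group, htt]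
        group
      · rw [h1, Subgroup.coe_one] at hg
        calc t = g⁻¹ * (g * t * g⁻¹) * g := by group
          _ = 1 := by rw [hg]; group
    · rintro ⟨h1, h2⟩
      refine hconj _ (orderOf_eq_prime ?_ fun h3 => h2 (Subtype.ext h3))
      rw [sq]
      exact congrArg Subtype.val h1
  have hR : ∑ p ∈ A, θ (p.1 * p.2) = (h : ℂ) * 32 := by
    have h49 := Cfsg.Agent.S0849.result C S hSC
      (fun c hc s hs => by
        obtain ⟨hsC, hs'⟩ := hs
        refine ⟨C.mul_mem (C.mul_mem hc hsC) (C.inv_mem hc), ?_⟩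
        rw [show (⟨c * s * c⁻¹, _⟩ : C) = ⟨c, hc⟩ * ⟨s, hsC⟩ * ⟨c, hc⟩⁻¹ from rfl, map_mul, map_mul,
          map_inv]
        exact vfun_supp_conj _ _ hs')
      hTI (fun s hs => by
        obtain ⟨hsC, hs'⟩ := hs
        refine ⟨C.inv_mem hsC, ?_⟩
        rw [show (⟨s⁻¹, _⟩ : C) = (⟨s, hsC⟩ : C)⁻¹ from rfl, map_inv]
        exact supp_inv _ hs')
      φ hφcl hφS t t ht ht
    rw [finsum_mem_eq_sum_of_inter_support_eq _ (t := A) (by ext p; simp [hA]),
      finsum_mem_eq_sum_of_inter_support_eq _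
        (t := Finset.univ.filter fun p : C × C => IsConj t (p.1 : G) ∧ IsConj t (p.2 : G))
        (by ext p; simp)] at h49
    rw [h49, hh, Int.cast_natCast, Finset.sum_filter]
    congr 1
    rw [Fintype.sum_equiv (e.toEquiv.prodCongr e.toEquiv) _
      (fun p : D4 × D4 => ((if (p.1 * p.1 = 1 ∧ p.1 ≠ 1) ∧ (p.2 * p.2 = 1 ∧ p.2 ≠ 1)
        then vfun (p.1 * p.2) else 0 : ℤ) : ℂ)) (fun p => ?_), ← Int.cast_sum, pair_sum]
    · norm_num
    · simp only [hconjiff, Equiv.prodCongr_apply, Prod.map_fst, Prod.map_snd, hφdef, Int.cast_ite,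
        Int.cast_zero]
      simp
  have hAcard : (A.card : ℂ) = (h : ℂ) * h := by
    have h1 := pair_sum_irr (isIrrCharacter_one (G := G)) t A hAmem
    rw [Finset.sum_const, nsmul_eq_mul] at h1
    rw [hh, Int.cast_natCast]
    linear_combination h1
  have hR' : h * ((Da * Db) + x * x * Db + y * y * Da) = 32 * (Da * Db) := by
    have h0 : (h : ℂ) ≠ 0 := by
      rw [hh, Int.cast_natCast]
      exact Nat.cast_ne_zero.2 Subgroup.index_ne_zero_of_finite
    have e1 := pair_sum_signed (hsirr α (Finset.mem_of_mem_erase hα)) t A hAmem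
    have e2 := pair_sum_signed (hsirr β (Finset.mem_of_mem_erase hβ)) t A hAmem
    rw [hDa, hx] at e1
    rw [hDb, hy] at e2
    have hsplit : ∑ p ∈ A, θ (p.1 * p.2)
        = (A.card : ℂ) + ∑ p ∈ A, α (p.1 * p.2) + ∑ p ∈ A, β (p.1 * p.2) := by
      simp only [hθeq, Finset.sum_add_distrib, Finset.sum_const, nsmul_eq_mul, mul_one]
    rw [hR, hAcard] at hsplit
    have hidx : ((C.index : ℂ)) = (h : ℂ) := by rw [hh, Int.cast_natCast]
    rw [hidx] at e1 e2
    have key : (h : ℂ) * ((h : ℂ) * (((Da * Db) + x * x * Db + y * y * Da : ℤ) : ℂ))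
        = (h : ℂ) * ((32 * (Da * Db) : ℤ) : ℂ) := by
      push_cast
      linear_combination (-(Da : ℂ) * Db) * hsplit - (Db : ℂ) * e1 - (Da : ℂ) * e2
    exact_mod_cast mul_left_cancel₀ h0 key
  -- no linear constituent
  have hne1 : ∀ γ ∈ s.erase α₀, ∀ d : ℤ, γ 1 = d → d ≠ 1 := by
    intro γ hγ d hd h1
    rw [h1, Int.cast_one] at hd
    rcases hsirr γ (Finset.mem_of_mem_erase hγ) with h | h
    · exact (Finset.mem_erase.1 hγ).1 ((eq_one_of_degree_one hperf h hd).trans hα₀1.symm)
    · obtain ⟨n, -, hn⟩ := exists_degree_of_isIrr h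
      rw [Pi.neg_apply, hd] at hn
      have := congrArg Complex.re hn
      simp at this
      linarith [Nat.cast_nonneg (α := ℝ) n]
  have hcases : (x = 1 ∧ y = 2) ∨ (x = 2 ∧ y = 1) := by
    have hy' : y = 3 - x := by omega
    subst hy'
    have : 1 ≤ x ∧ x ≤ 2 := by constructor <;> nlinarith
    omega
  have hhodd : Odd h := by rw [hh]; exact_mod_cast hodd
  have hfin : h = 21 ∨ h = 45 := by
    rcases hcases with ⟨rfl, rfl⟩ | ⟨rfl, rfl⟩
    · refine order_cases hhodd (hne1 α hα Da hDa) ?_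
      obtain rfl : Db = -1 - Da := by omega
      linear_combination -hR'
    · refine order_cases hhodd (hne1 β hβ Db hDb) ?_
      obtain rfl : Da = -1 - Db := by omega
      linear_combination -hR'
  rw [← C.card_mul_index, hC8]
  omega

end Cfsg.Agent.S0848
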