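import Cfsg.Statements.S2062
import Cfsg.Agent.Lib.OutMathieu.Outer

set_option autoImplicit false
open Cfsg CfsgLib.OutMathieu CfsgLib.Golay
open scoped Pointwise
set_option maxRecDepth 100000

namespace Cfsg.Agent.S2062

/-- The outer automorphism group of the Mathieu group M₂₂ (the permutations in the automorphism group of the length-24 binary code that fix each of two given points) has order 2. -/
theorem result : Nat.card (Cfsg.Out ↥Cfsg.Spor.M22) = 2 := by
  haveI : Fact (Nat.Prime certM22.p) := ⟨show Nat.Prime 11 by norm_num⟩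
  have h1 : ∀ x ∈ Cfsg.Spor.M22, Cfsg.projInv * x * Cfsg.projInv⁻¹ ∈ Cfsg.Spor.M22 := by
    rintro x ⟨⟨hx, hinf⟩, hzero⟩
    have hx' : x ∈ Cfsg.M24 := hx
    refine ⟨⟨(mul_mem (mul_mem projInv_mem_M24 hx') (inv_mem projInv_mem_M24) :
      Cfsg.projInv * x * Cfsg.projInv⁻¹ ∈ Cfsg.M24), ?_⟩, ?_⟩
    · change (Cfsg.projInv * x * Cfsg.projInv⁻¹) none = none
      rw [Equiv.Perm.mul_apply, Equiv.Perm.mul_apply,
        show Cfsg.projInv⁻¹ none = some 0 from rfl, show x (some 0) = some 0 from hzero]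
      rfl
    · change (Cfsg.projInv * x * Cfsg.projInv⁻¹) (some 0) = some 0
      rw [Equiv.Perm.mul_apply, Equiv.Perm.mul_apply,
        show Cfsg.projInv⁻¹ (some 0) = none from rfl, show x none = none from hinf]
      rfl
  have hinv : Cfsg.projInv⁻¹ = Cfsg.projInv := rfl
  have h2 : ∀ x ∈ Cfsg.Spor.M22, Cfsg.projInv⁻¹ * x * Cfsg.projInv ∈ Cfsg.Spor.M22 := by
    intro x hx
    have := h1 x hx
    rw [hinv] at this
    rwa [hinv]
  refine Cert.natCard_out_eq_two certM22_valid M22_eq_stabK ?_
    (θ := conjOn _ Cfsg.projInv h1 h2) ?_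
  · rw [M22_eq_stabK, card_stabK_two]
    decide +kernel
  · refine conjOn_not_inner (S := 1) M22_eq_stabK (Or.inl rfl) (by simp) (by simp) projInv_mem_M24
      ?_ h1 h2
    rw [smul_unmask isTbl_projInv]
    intro h
    have := unmask_injOn (by decide +kernel) (by norm_num) h
    revert this
    decide +kernel

end Cfsg.Agent.S2062
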