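import Cfsg.Statements.S2553
import Cfsg.Agent.Lib.InvChar.GLFourTwo
import Cfsg.Agent.Lib.Generators.SmallPermGroups
import Cfsg.Agent.Lib.Hall.Existence
import Cfsg.Agent.Lib.Cores.PCore

set_option autoImplicit false
open Cfsg

namespace Cfsg.Agent.S2553

open scoped Matrix
open CfsgLib.Generators.SmallPermGroups

private theorem noSolvNormal {G : Type*} [Group G] [Finite G] (hO : Cfsg.pPrimeCore 2 G = ⊥)
    (hO2 : Cfsg.pCore 2 G = ⊥) : NoSolvNormal G := by
  intro N hN hs
  haveI := hN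
  haveI := hs
  by_contra hne
  haveI : Nontrivial N := (Subgroup.nontrivial_iff_ne_bot N).mpr hne
  obtain ⟨p, hp, hcore⟩ := CfsgLib.Hall.exists_pCore_ne_bot (G := N)
  haveI := Fact.mk hp
  have hnorm : ((Cfsg.pCore p N).map N.subtype).Normal := inferInstance
  have hpg : IsPGroup p ((Cfsg.pCore p N).map N.subtype) := (CfsgLib.Cores.isPGroup_pCore p N).map _
  apply hcore
  refine (Subgroup.map_eq_bot_iff_of_injective _ N.subtype_injective).mp ?_
  rw [eq_bot_iff]
  rcases eq_or_ne p 2 with rfl | h2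
  · exact hO2 ▸ CfsgLib.Cores.le_pCore hpg
  · rw [← hO]
    refine le_sSup ⟨hnorm, ?_⟩
    obtain ⟨k, hk⟩ := IsPGroup.iff_card.mp hpg
    rw [hk]
    exact Nat.Coprime.pow_left k ((Nat.coprime_primes hp Nat.prime_two).mpr h2)

/-- The action of a matrix group on vectors. -/
private def linAct (H : Subgroup (GL (Fin 4) (ZMod 2))) : H →* Module.End (ZMod 2) (Fin 4 → ZMod 2) where
  toFun g := Matrix.mulVecLin ((g : GL (Fin 4) (ZMod 2)) : Matrix (Fin 4) (Fin 4) (ZMod 2))
  map_one' := by simp [Module.End.one_eq_id]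
  map_mul' g h := by rw [Subgroup.coe_mul, Units.val_mul, Matrix.mulVecLin_mul]; rfl

/-- A subgroup of order 1344 of GL(4,2) has a nontrivial normal 2-subgroup. -/
private theorem not_card_1344 (H : Subgroup (GL (Fin 4) (ZMod 2))) (hO2 : Cfsg.pCore 2 ↥H = ⊥)
    (hcard : Nat.card H = 1344) : False := by
  classical
  let act : H →* Module.End (ZMod 2) (Fin 4 → ZMod 2) := linAct H
  have hsmul : ∀ (g : H) v, g • v = act g v := fun _ _ => rfl
  have hzero : ∀ v, (0 : Fin 4 → ZMod 2) ∈ MulAction.orbit H v → v = 0 := by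
    rintro v ⟨g, hg⟩
    have hg' : g • v = 0 := hg
    have : g⁻¹ • (g • v) = g⁻¹ • (0 : Fin 4 → ZMod 2) := by rw [hg']
    rwa [inv_smul_smul, hsmul g⁻¹ 0, map_zero] at this
  have hfix : ∀ g : H, act g = 1 → g = 1 := fun g hg => by
    refine Subtype.ext (Units.ext ?_)
    exact Matrix.toLin'.injective (hg.trans Matrix.toLin'_one.symm)
  -- an orbit of odd size: a Sylow 2-subgroup fixes a nonzero vector
  haveI : Fact (Nat.Prime 2) := ⟨Nat.prime_two⟩
  obtain ⟨v, hv0, hvodd⟩ : ∃ v : Fin 4 → ZMod 2, v ≠ 0 ∧ ¬ 2 ∣ Nat.card (MulAction.orbit H v) := by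
    obtain ⟨P⟩ : Nonempty (Sylow 2 H) := inferInstance
    have hP : Nat.card ↥(P : Subgroup H) = 2 ^ 6 :=
      CfsgLib.SmallGroups.card_sylow_eq (m := 21) (by rw [hcard]; norm_num) (by norm_num) P
    have hz : (0 : Fin 4 → ZMod 2) ∈ MulAction.fixedPoints ↥(P : Subgroup H) (Fin 4 → ZMod 2) := fun g => smul_zero g
    obtain ⟨v, hv, hne⟩ := P.isPGroup'.exists_fixed_point_of_prime_dvd_card_of_fixed_point (Fin 4 → ZMod 2)
      (by rw [Nat.card_fun, Nat.card_fin, Nat.card_zmod]; norm_num) hz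
    refine ⟨v, fun h => hne h.symm, fun h2 => ?_⟩
    have hle : (P : Subgroup H) ≤ MulAction.stabilizer H v := fun g hg => hv ⟨g, hg⟩
    obtain ⟨c, hc⟩ := Subgroup.card_dvd_of_le hle
    have h := MulAction.card_orbit_mul_card_stabilizer_eq_card_group H v
    simp only [Fintype.card_eq_nat_card] at h
    rw [hc, hP, hcard] at h
    obtain ⟨e, he⟩ := h2
    rw [he] at h
    have h21 : 2 * (e * c) = 21 := by
      have h' : 64 * (2 * (e * c)) = 64 * 21 := by rw [← show 2 * e * (2 ^ 6 * c) = 64 * (2 * (e * c)) by ring, h]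
      omega
    omega
  set d := Nat.card (MulAction.orbit H v) with hd
  have hdv : d ∣ 1344 := by
    have h := MulAction.card_orbit_mul_card_stabilizer_eq_card_group H v
    simp only [Fintype.card_eq_nat_card] at h
    rw [hcard] at h
    exact Dvd.intro _ h
  have hd15 : d ≤ 15 := by
    have h : (MulAction.orbit H v).ncard ≤ ({0}ᶜ : Set (Fin 4 → ZMod 2)).ncard :=
      Set.ncard_le_ncard fun x hx hx0 => hv0 (hzero v ((Set.mem_singleton_iff.mp hx0) ▸ hx))
    rw [Set.ncard_compl, Set.ncard_singleton, Nat.card_fun, Nat.card_fin, Nat.card_zmod, ← Nat.card_coe_set_eq] at h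
    exact h
  have hd7 : d ≤ 7 := by
    have : ∀ x ∈ Nat.divisors 1344, x ≤ 15 → ¬ 2 ∣ x → x ≤ 7 := by decide +kernel
    exact this d (Nat.mem_divisors.mpr ⟨hdv, by norm_num⟩) hd15 hvodd
  let W : Submodule (ZMod 2) (Fin 4 → ZMod 2) := Submodule.span (ZMod 2) (MulAction.orbit H v)
  have hinv : ∀ g : H, ∀ w ∈ W, act g w ∈ W := fun g w hw => by
    induction hw using Submodule.span_induction with
    | mem x hx => exact Submodule.subset_span (MulAction.mem_orbit_of_mem_orbit g hx)
    | zero => rw [map_zero]; exact W.zero_mem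
    | add x y _ _ hx hy => rw [map_add]; exact W.add_mem hx hy
    | smul c x _ hx => rw [map_smul]; exact W.smul_mem c hx
  have hWtop : W ≠ ⊤ := by
    intro hW
    have hinj : Function.Injective (MulAction.toPermHom H (MulAction.orbit H v)) := by
      rw [← MonoidHom.ker_eq_bot_iff, eq_bot_iff]
      intro g hg
      refine hfix g (LinearMap.ext_on hW fun x hx => ?_)
      exact congrArg Subtype.val (Equiv.congr_fun (hg : MulAction.toPermHom H _ g = 1) ⟨x, hx⟩)
    have h1 := Subgroup.card_dvd_of_injective _ hinj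
    rw [Nat.card_perm, ← hd, hcard] at h1
    have h2 : 1344 ∣ (7).factorial := h1.trans (Nat.factorial_dvd_factorial hd7)
    norm_num [Nat.factorial] at h2
  have hWbot : W ≠ ⊥ := fun h => hv0 ((Submodule.eq_bot_iff W).mp h v (Submodule.subset_span (MulAction.mem_orbit_self v)))
  -- the kernel on `W` and on the quotient
  let f : H →* Module.End (ZMod 2) W × Module.End (ZMod 2) ((Fin 4 → ZMod 2) ⧸ W) :=
    { toFun := fun g => ((act g).restrict (hinv g), W.mapQ W (act g) (hinv g))
      map_one' := by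
        refine Prod.ext (LinearMap.ext fun w => Subtype.ext ?_) (Submodule.linearMap_qext _ (LinearMap.ext fun w => ?_))
        · show act 1 (w : Fin 4 → ZMod 2) = w; rw [map_one]; rfl
        · show Submodule.Quotient.mk (act 1 w) = Submodule.Quotient.mk w; rw [map_one]; rfl
      map_mul' := fun g h => by
        refine Prod.ext (LinearMap.ext fun w => Subtype.ext ?_) (Submodule.linearMap_qext _ (LinearMap.ext fun w => ?_))
        · show act (g * h) (w : Fin 4 → ZMod 2) = act g (act h w); rw [map_mul]; rfl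
        · show Submodule.Quotient.mk (act (g * h) w) = Submodule.Quotient.mk (act g (act h w)); rw [map_mul]; rfl }
  have hp : IsPGroup 2 f.ker := by
    intro g
    refine ⟨1, Subtype.ext (hfix _ (LinearMap.ext fun x => ?_))⟩
    have hg : f g.1 = 1 := g.2
    have h1 : ∀ w ∈ W, act g.1 w = w := fun w hw =>
      congrArg Subtype.val (LinearMap.congr_fun (congrArg Prod.fst hg) ⟨w, hw⟩)
    have h2 : act g.1 x - x ∈ W := (Submodule.Quotient.eq W).mp
      (LinearMap.congr_fun (congrArg Prod.snd hg) (Submodule.Quotient.mk x))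
    have h3 := h1 _ h2
    rw [map_sub] at h3
    show act (((g ^ (2 ^ 1)) : f.ker) : H) x = x
    rw [SubgroupClass.coe_pow, map_pow, pow_one, pow_two, Module.End.mul_apply]
    have hneg : ∀ y : Fin 4 → ZMod 2, -y = y := fun y => funext fun i => ZModModule.neg_eq_self _
    have h4 : act g.1 (act g.1 x) = act g.1 x - x + act g.1 x := sub_eq_iff_eq_add.mp h3
    rw [h4, sub_add_eq_add_sub, ← sub_add_eq_add_sub, sub_eq_add_neg, hneg, add_right_comm, ← two_smul (ZMod 2) (act g.1 x),
      show (2 : ZMod 2) = 0 from rfl, zero_smul, zero_add]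
  have hbot : f.ker = ⊥ := le_bot_iff.mp (hO2 ▸ CfsgLib.Cores.le_pCore hp)
  rw [MonoidHom.ker_eq_bot_iff] at hbot
  haveI : Finite (Module.End (ZMod 2) W) := Module.finite_of_finite (ZMod 2)
  haveI : Finite (Module.End (ZMod 2) ((Fin 4 → ZMod 2) ⧸ W)) := Module.finite_of_finite (ZMod 2)
  have h1 := Nat.card_le_card_of_injective f hbot
  rw [hcard, Nat.card_prod, Module.natCard_eq_pow_finrank (K := ZMod 2), Nat.card_zmod, Module.finrank_linearMap,
    Module.natCard_eq_pow_finrank (K := ZMod 2) (V := Module.End (ZMod 2) ((Fin 4 → ZMod 2) ⧸ W)), Nat.card_zmod, Module.finrank_linearMap] at h1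
  have h4 := W.finrank_quotient_add_finrank
  rw [Module.finrank_fin_fun] at h4
  have ha1 : Module.finrank (ZMod 2) W ≠ 0 := fun h => hWbot (Submodule.finrank_eq_zero.mp h)
  have hb1 : Module.finrank (ZMod 2) ((Fin 4 → ZMod 2) ⧸ W) ≠ 0 := fun h => hWtop
    (Submodule.eq_top_of_finrank_eq (by rw [Module.finrank_fin_fun]; omega))
  revert h1 h4 ha1 hb1
  generalize Module.finrank (ZMod 2) W = a
  generalize Module.finrank (ZMod 2) ((Fin 4 → ZMod 2) ⧸ W) = b
  intro h1 h4 ha1 hb1
  obtain ⟨rfl, rfl⟩ | ⟨rfl, rfl⟩ | ⟨rfl, rfl⟩ : (a = 1 ∧ b = 3) ∨ (a = 2 ∧ b = 2) ∨ (a = 3 ∧ b = 1) := by omega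
  all_goals norm_num at h1

/-- Let H be a nontrivial subgroup of GL(4,2) (a group isomorphic to the alternating group of degree 8) whose largest normal 2-subgroup and largest normal subgroup of odd order are both trivial. Then H is isomorphic to an alternating group of degree n for some 5 ≤ n ≤ 8, to the symmetric group of degree 5 or 6, or to GL(3,2). -/
theorem result (H : Subgroup (GL (Fin 4) (ZMod 2))) (hH : H ≠ ⊥) (hO : Cfsg.pPrimeCore 2 ↥H = ⊥) (hO2 : Cfsg.pCore 2 ↥H = ⊥) :
    (∃ n : ℕ, 5 ≤ n ∧ n ≤ 8 ∧ Nonempty (↥H ≃* alternatingGroup (Fin n))) ∨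
    Nonempty (↥H ≃* Equiv.Perm (Fin 5)) ∨ Nonempty (↥H ≃* Equiv.Perm (Fin 6)) ∨ Nonempty (↥H ≃* GL (Fin 3) (ZMod 2)) := by
  classical
  haveI : Nontrivial H := (Subgroup.nontrivial_iff_ne_bot H).mpr hH
  have hNS := noSolvNormal hO hO2
  let E := CfsgLib.InvChar.GLFourTwo.equiv
  let j : GL (Fin 4) (ZMod 2) →* Equiv.Perm (Fin 8) := (alternatingGroup (Fin 8)).subtype.comp E.toMonoidHom
  have hj : Function.Injective j := (alternatingGroup (Fin 8)).subtype_injective.comp E.injective
  set K := H.map j with hKdef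
  let eHK : H ≃* K := H.equivMapOfInjective j hj
  have hKA : K ≤ alternatingGroup (Fin 8) := by
    rintro y ⟨x, -, rfl⟩
    exact (E x).2
  have hK : NoSolvNormal K := hNS.of_equiv eHK
  haveI : Nontrivial K := eHK.symm.toEquiv.nontrivial
  -- a prime 5 or 7
  obtain ⟨p, hp, hp5, hpK⟩ : ∃ p : ℕ, p.Prime ∧ 5 ≤ p ∧ p ∣ Nat.card K := by
    by_contra hc
    push Not at hc
    have hd : Nat.card K ∣ 20160 := by
      have h2 := Subgroup.card_dvd_of_le hKA
      have h3 := card_alt (n := 8) (by norm_num)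
      simp only [Nat.factorial] at h3
      rwa [show Nat.card (alternatingGroup (Fin 8)) = 20160 by omega] at h2
    have c7 : (Nat.card K).Coprime 7 := ((by norm_num : Nat.Prime 7).coprime_iff_not_dvd.mpr (hc 7 (by norm_num) (by norm_num))).symm
    have c5 : (Nat.card K).Coprime 5 := ((by norm_num : Nat.Prime 5).coprime_iff_not_dvd.mpr (hc 5 (by norm_num) le_rfl)).symm
    exact hK.not_solvable (isSolvable_of_two_primes 2 3 6 2 Nat.prime_two Nat.prime_three rfl
      (c5.dvd_of_dvd_mul_right (c7.dvd_of_dvd_mul_right (by norm_num at hd ⊢; exact hd))))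
  haveI := Fact.mk hp
  obtain ⟨g, hg⟩ := exists_prime_orderOf_dvd_card' (G := K) p hpK
  obtain ⟨x, hx⟩ : ∃ x, (g : Equiv.Perm (Fin 8)) x ≠ x := by
    by_contra hc
    push Not at hc
    have : g = 1 := Subtype.ext (Equiv.ext hc)
    rw [this, orderOf_one] at hg
    exact hp.one_lt.ne hg
  let O := MulAction.orbit K x
  have hO5 : 5 ≤ Nat.card O := by
    have h1 := MulAction.card_orbit_mul_card_stabilizer_eq_card_group (Subgroup.zpowers g) x
    simp only [Fintype.card_eq_nat_card] at h1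
    rw [Nat.card_zpowers, hg] at h1
    rcases (Nat.dvd_prime hp).mp (Dvd.intro _ h1) with h2 | h2
    · have h3 : Subsingleton (MulAction.orbit (Subgroup.zpowers g) x) := (Nat.card_eq_one_iff_unique.mp h2).1
      exact absurd (congrArg Subtype.val (Subsingleton.elim
        (⟨g • x, ⟨⟨g, Subgroup.mem_zpowers g⟩, rfl⟩⟩ : MulAction.orbit (Subgroup.zpowers g) x) ⟨x, MulAction.mem_orbit_self x⟩)) hx
    · have h3 : Nat.card (MulAction.orbit (Subgroup.zpowers g) x) ≤ Nat.card O :=
        Nat.card_le_card_of_injective (fun z => ⟨z.1, by obtain ⟨⟨d, _⟩, hd⟩ := z.2; exact ⟨d, hd⟩⟩)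
          (fun a b h => Subtype.ext (congrArg (fun w : O => w.1) h))
      omega
  let ρ : K →* Equiv.Perm O := MulAction.toPermHom K O
  have hρ : Function.Injective ρ := by
    refine hK.injective ρ ?_
    have hinvc : ∀ k : K, ∀ y, (k : Equiv.Perm (Fin 8)) y ∈ Oᶜ ↔ y ∈ Oᶜ := by
      intro k y
      simp only [Set.mem_compl_iff, O]
      refine not_congr ⟨fun h => ?_, fun h => MulAction.mem_orbit_of_mem_orbit k h⟩
      have h' := MulAction.mem_orbit_of_mem_orbit k⁻¹ h
      rwa [show (k : Equiv.Perm (Fin 8)) y = k • y from rfl, inv_smul_smul] at h'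
    let σ : K →* Equiv.Perm ↥(Oᶜ) :=
      { toFun := fun k => (k : Equiv.Perm (Fin 8)).subtypePerm (hinvc k)
        map_one' := rfl
        map_mul' := fun _ _ => rfl }
    have hσ : Function.Injective (σ.comp ρ.ker.subtype) := by
      intro a b hab
      refine Subtype.ext (Subtype.ext (Equiv.ext fun y => ?_))
      by_cases hy : y ∈ O
      · have h1 := Equiv.congr_fun ((a.2 : ρ a.1 = 1).trans (b.2 : ρ b.1 = 1).symm) ⟨y, hy⟩
        exact congrArg Subtype.val h1
      · exact congrArg Subtype.val (Equiv.congr_fun hab ⟨y, hy⟩)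
    haveI : Group.IsSolvable (Equiv.Perm ↥(Oᶜ)) := by
      refine isSolvable_of_two_primes 2 3 1 1 Nat.prime_two Nat.prime_three (n := Nat.card (Equiv.Perm ↥(Oᶜ))) rfl ?_
      rw [Nat.card_perm]
      have hle : Nat.card ↥(Oᶜ) ≤ 3 := by
        rw [Nat.card_coe_set_eq, Set.ncard_compl, ← Nat.card_coe_set_eq, Nat.card_fin]
        omega
      exact (Nat.factorial_dvd_factorial hle).trans (by norm_num [Nat.factorial])
    exact Group.isSolvable_of_isSolvable_injective hσ
  have hO8 : Nat.card O ≤ 8 := by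
    have := Finite.card_subtype_le (fun y => y ∈ O)
    simpa using this
  let eO : O ≃ Fin (Nat.card O) := Finite.equivFin O
  let θ : K →* Equiv.Perm (Fin (Nat.card O)) := eO.permCongrHom.toMonoidHom.comp ρ
  have hθ : Function.Injective θ := eO.permCongrHom.injective.comp hρ
  obtain h5 | h6 | h7 | h8 : Nat.card O = 5 ∨ Nat.card O = 6 ∨ Nat.card O = 7 ∨ Nat.card O = 8 := by omega
  · let θ' : K →* Equiv.Perm (Fin 5) := ((finCongr h5).permCongrHom.toMonoidHom).comp θ
    have hθ' : Function.Injective θ' := (finCongr h5).permCongrHom.injective.comp hθ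
    let eL : H ≃* θ'.range := eHK.trans (MonoidHom.ofInjective hθ')
    haveI : Nontrivial θ'.range := (MonoidHom.ofInjective hθ').symm.toEquiv.nontrivial
    rcases degree_five θ'.range ((Subgroup.nontrivial_iff_ne_bot _).mp inferInstance)
      (hK.of_equiv (MonoidHom.ofInjective hθ')) with ⟨⟨e⟩⟩ | ⟨⟨e⟩⟩
    · exact Or.inl ⟨5, le_rfl, by norm_num, ⟨eL.trans e⟩⟩
    · exact Or.inr (Or.inl ⟨eL.trans e⟩)
  · let θ' : K →* Equiv.Perm (Fin 6) := ((finCongr h6).permCongrHom.toMonoidHom).comp θ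
    have hθ' : Function.Injective θ' := (finCongr h6).permCongrHom.injective.comp hθ
    let eL : H ≃* θ'.range := eHK.trans (MonoidHom.ofInjective hθ')
    haveI : Nontrivial θ'.range := (MonoidHom.ofInjective hθ').symm.toEquiv.nontrivial
    rcases degree_six θ'.range ((Subgroup.nontrivial_iff_ne_bot _).mp inferInstance)
      (hK.of_equiv (MonoidHom.ofInjective hθ')) with ⟨⟨e⟩⟩ | ⟨⟨e⟩⟩ | ⟨⟨e⟩⟩ | ⟨⟨e⟩⟩
    · exact Or.inl ⟨5, le_rfl, by norm_num, ⟨eL.trans e⟩⟩
    · exact Or.inr (Or.inl ⟨eL.trans e⟩)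
    · exact Or.inl ⟨6, by norm_num, by norm_num, ⟨eL.trans e⟩⟩
    · exact Or.inr (Or.inr (Or.inl ⟨eL.trans e⟩))
  · -- the remaining point is fixed
    obtain ⟨a, ha⟩ : ∃ a, Oᶜ = {a} := by
      rw [← Set.ncard_eq_one, Set.ncard_compl, ← Nat.card_coe_set_eq, h7, Nat.card_fin]
    have hfix : ∀ k ∈ K, k a = a := by
      intro k hk
      have hna : a ∉ O := fun h => (ha.ge rfl : a ∈ Oᶜ) h
      have hmem : k a ∈ Oᶜ := fun h => hna (by
        have h' := MulAction.mem_orbit_of_mem_orbit (⟨k, hk⟩ : K)⁻¹ h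
        rwa [show k a = (⟨k, hk⟩ : K) • a from rfl, inv_smul_smul] at h')
      rwa [ha, Set.mem_singleton_iff] at hmem
    obtain ⟨f, hf⟩ := exists_hom_alternating_of_fixed (n := 7) (by simp) a K hKA hfix
    let f' : K →* Equiv.Perm (Fin 7) := (alternatingGroup (Fin 7)).subtype.comp f
    have hf' : Function.Injective f' := (alternatingGroup (Fin 7)).subtype_injective.comp hf
    let eK7 : K ≃* f'.range := MonoidHom.ofInjective hf'
    have h7d : 7 ∣ Nat.card f'.range := by
      rw [← Nat.card_congr eK7.toEquiv, ← h7]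
      have := MulAction.card_orbit_mul_card_stabilizer_eq_card_group K x
      simp only [Fintype.card_eq_nat_card] at this
      exact Dvd.intro _ this
    have hle : f'.range ≤ alternatingGroup (Fin 7) := by
      rintro y ⟨k, rfl⟩
      exact (f k).2
    rcases degree_seven f'.range hle (hK.of_equiv eK7) h7d with ⟨⟨e⟩⟩ | ⟨⟨e⟩⟩
    · exact Or.inl ⟨7, by norm_num, by norm_num, ⟨(eHK.trans eK7).trans e⟩⟩
    · exact Or.inr (Or.inr (Or.inr ⟨(eHK.trans eK7).trans e⟩))
  · have hOu : O = Set.univ := Set.eq_of_subset_of_ncard_le (Set.subset_univ _)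
      (by rw [Set.ncard_univ, ← Nat.card_coe_set_eq, h8, Nat.card_fin])
    haveI : MulAction.IsPretransitive K (Fin 8) := MulAction.isPretransitive_iff_orbit_eq_univ x |>.mpr hOu
    have h1344 : Nat.card K ≠ 1344 := fun h => not_card_1344 H hO2 (by rw [Nat.card_congr eHK.toEquiv, h])
    rcases degree_eight K hKA hK h1344 with ⟨⟨e⟩⟩ | ⟨⟨e⟩⟩ | ⟨⟨e⟩⟩
    · exact Or.inl ⟨8, by norm_num, le_rfl, ⟨eHK.trans e⟩⟩
    · exact Or.inl ⟨7, by norm_num, by norm_num, ⟨eHK.trans e⟩⟩
    · exact Or.inr (Or.inr (Or.inr ⟨eHK.trans e⟩))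

end Cfsg.Agent.S2553
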