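import Cfsg.Statements.S2843
import Cfsg.Agent.Lib.FFModules.WeaklyClosed

set_option autoImplicit false
open Cfsg
open scoped commutatorElement Pointwise

namespace Cfsg.Agent.S2843

/-- Let Q be a nontrivial large p-subgroup of the finite group H, Q ≤ L ≤ H, and Y a nontrivial p-subgroup of H normalized by L. Let L° be the weak closure of Q in L (generated by the conjugates of Q inside L). Then L° equals the weak closure of Q in L·C_H(Y), and [L°, C_H(Y)] ≤ O_p(L°); in particular C_H(Y) normalizes L°. -/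
theorem result {H : Type*} [Group H] [Finite H] {p : ℕ} [Fact p.Prime] (Q : Subgroup H) (hQp : IsPGroup p ↥Q) (hQ1 : Q ≠ ⊥) (hL : Cfsg.IsLarge Q) (L : Subgroup H) (hQL : Q ≤ L) (Y : Subgroup H) (hYp : IsPGroup p ↥Y) (hY1 : Y ≠ ⊥) (hLY : L ≤ Subgroup.normalizer ((Y : Subgroup H) : Set H)) : Cfsg.weakClosure Q L = Cfsg.weakClosure Q (L ⊔ Subgroup.centralizer ((Y : Subgroup H) : Set H)) ∧ ⁅Cfsg.weakClosure Q L, Subgroup.centralizer ((Y : Subgroup H) : Set H)⁆ ≤ (Cfsg.pCoreOf p (Cfsg.weakClosure Q L)) ∧ Subgroup.centralizer ((Y : Subgroup H) : Set H) ≤ Subgroup.normalizer (((Cfsg.weakClosure Q L) : Subgroup H) : Set H) := by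
  have hwc := CfsgLib.FFModules.wc_of_isLarge hQp hQ1 hL
  set C := Subgroup.centralizer (Y : Set H) with hC
  have hLC : L ≤ Subgroup.normalizer (C : Set H) :=
    hLY.trans (CfsgLib.FFModules.normalizer_le_normalizer_centralizer Y)
  -- `C` normalises `Q` and its `L`-conjugates
  have hCQ : C ≤ Subgroup.normalizer (Q : Set H) := by
    obtain ⟨y, hy, hy1, hyc⟩ := CfsgLib.FFModules.exists_ne_one_fixed hQp hYp hY1 (hQL.trans hLY)
    refine le_trans ?_ (hL.2 (Subgroup.zpowers y) (Subgroup.zpowers_le.2 fun q hq => hyc q hq)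
      fun h => hy1 (by simpa using h.le (Subgroup.mem_zpowers y)))
    intro c hc
    refine Subgroup.centralizer_le_normalizer _ ?_
    intro z hz
    obtain ⟨n, rfl⟩ := Subgroup.mem_zpowers_iff.1 hz
    exact Commute.zpow_left (hc y hy) n
  set W := Cfsg.weakClosure Q L with hW
  have hconj : ∀ g : H, Q.map (MulAut.conj g).toMonoidHom ≤ L →
      C ≤ Subgroup.normalizer ((Q.map (MulAut.conj g).toMonoidHom : Subgroup H) : Set H) ∧
        ∃ l ∈ L, Q.map (MulAut.conj g).toMonoidHom = Q.map (MulAut.conj l).toMonoidHom := by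
    intro g hg
    obtain ⟨l, hl, e⟩ := CfsgLib.FFModules.wc_exists_conj hwc hQL hg
    refine ⟨?_, l, hl, e⟩
    rw [e]
    exact (CfsgLib.FFModules.map_conj_eq_self (hLC hl)).ge.trans
      ((Subgroup.map_mono hCQ).trans (Subgroup.le_normalizer_map _))
  have hCW : C ≤ Subgroup.normalizer (W : Set H) := by
    refine CfsgLib.FFModules.le_normalizer_of_conj_le fun c hc => ?_
    rw [hW, Cfsg.weakClosure, Subgroup.map_iSup]
    refine iSup_le fun g => ?_
    rw [CfsgLib.FFModules.map_conj_eq_self ((hconj g g.2).1 hc)]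
    exact CfsgLib.FFModules.le_weakClosure g.2
  refine ⟨le_antisymm (iSup_le fun g => CfsgLib.FFModules.le_weakClosure (g.2.trans le_sup_left)) (iSup_le fun g => ?_), ?_, hCW⟩
  · obtain ⟨k, hk, e⟩ := CfsgLib.FFModules.wc_exists_conj hwc (hQL.trans le_sup_left) g.2
    have hk' : k ∈ (L : Set H) * (C : Set H) := by
      rw [← Subgroup.coe_mul_of_left_le_normalizer_right L C hLC]; exact hk
    obtain ⟨l, hl, c, hc, rfl⟩ := Set.mem_mul.1 hk'
    rw [e, CfsgLib.FFModules.map_conj_mul, CfsgLib.FFModules.map_conj_eq_self (hCQ hc)]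
    exact CfsgLib.FFModules.le_weakClosure (CfsgLib.FFModules.conj_le_of_le hQL (Subgroup.le_normalizer hl))
  · set O := Cfsg.pCoreOf p W with hO
    have hWL : W ≤ L := CfsgLib.FFModules.weakClosure_le Q L
    have hWO : W ≤ Subgroup.normalizer (O : Set H) := CfsgLib.FFModules.le_normalizer_pCoreOf W
    let S : Subgroup H :=
      { carrier := {x | x ∈ W ∧ ∀ c ∈ C, ⁅x, c⁆ ∈ O}
        one_mem' := ⟨one_mem _, fun c _ => by simp [commutatorElement_def]⟩
        mul_mem' := fun {a b} ha hb => ⟨mul_mem ha.1 hb.1, fun c hc => by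
          have e : ⁅a * b, c⁆ = a * ⁅b, c⁆ * a⁻¹ * ⁅a, c⁆ := by simp only [commutatorElement_def]; group
          rw [e]
          exact mul_mem ((Subgroup.mem_normalizer_iff.1 (hWO ha.1) _).1 (hb.2 c hc)) (ha.2 c hc)⟩
        inv_mem' := fun {a} ha => ⟨inv_mem ha.1, fun c hc => by
          have e : ⁅a⁻¹, c⁆ = a⁻¹ * ⁅a, c⁆⁻¹ * (a⁻¹)⁻¹ := by simp only [commutatorElement_def]; group
          rw [e]
          exact (Subgroup.mem_normalizer_iff.1 (hWO (inv_mem ha.1)) _).1 (inv_mem (ha.2 c hc))⟩ }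
    have hS : W ≤ S := iSup_le fun g x hx => by
      refine ⟨CfsgLib.FFModules.le_weakClosure g.2 hx, fun c hc => ?_⟩
      set Q' := Q.map (MulAut.conj (g : H)).toMonoidHom with hQ'
      have hQ'W : Q' ≤ W := CfsgLib.FFModules.le_weakClosure g.2
      have h1 : ⁅x, c⁆ ∈ Q' ⊓ C := ⟨CfsgLib.CoprimeAction.commutator_le_left (hconj g g.2).1
          (Subgroup.commutator_mem_commutator hx hc), by
        have := mul_mem ((Subgroup.mem_normalizer_iff.1 (hLC (g.2 hx)) c).1 hc) (inv_mem hc)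
        simpa [commutatorElement_def] using this⟩
      have hcore : Q' ⊓ C ≤ Cfsg.pCoreOf p C := CfsgLib.FFModules.le_pCoreOf inf_le_right
        (CfsgLib.FFModules.le_normalizer_inf_of (hconj g g.2).1 Subgroup.le_normalizer)
        ((hQp.map _).to_le inf_le_left)
      exact CfsgLib.FFModules.le_pCoreOf (N := Cfsg.pCoreOf p C ⊓ W) inf_le_right
        (CfsgLib.FFModules.le_normalizer_inf_of ((hWL.trans hLC).trans
          (CfsgLib.FFModules.normalizer_le_normalizer_pCoreOf C)) Subgroup.le_normalizer)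
        ((CfsgLib.FFModules.isPGroup_pCoreOf C).to_le inf_le_left) ⟨hcore h1, hQ'W h1.1⟩
    exact Subgroup.commutator_le.2 fun x hx c hc => (hS hx).2 c hc

end Cfsg.Agent.S2843
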