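import Cfsg.Statements.S1578
import Cfsg.Agent.Lib.Leech.Canon

set_option autoImplicit false
open Cfsg

namespace Cfsg.Agent.S1578

/-- A lattice vector of customary norm 6 is the sum of an unordered pair of minimal vectors in exactly 276 ways (552 ordered summands). -/
theorem result (u : ↥Cfsg.leechLattice) (hu : Cfsg.sqNorm (u : Cfsg.GolayPt → ℤ) = 48) : {v : ↥Cfsg.leechLattice | Cfsg.sqNorm (v : Cfsg.GolayPt → ℤ) = 32 ∧ Cfsg.sqNorm ((u - v) : Cfsg.GolayPt → ℤ) = 32}.ncard = 552 := by
  have h := CfsgLib.Leech.ncard_dots_base48 (u := u) hu [24] (by decide) (tb := [184])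
    (by decide) [552] rfl (by decide)
    (by decide +kernel)
  simp only [List.map_cons, List.map_nil, List.cons.injEq, and_true] at h
  rw [← h]
  congr 1
  ext x
  refine and_congr_right fun hx => ?_
  rw [CfsgLib.Leech.sqNorm_sub, hu, hx]
  simp only [CfsgLib.Fischer2.coordVec]
  constructor <;> intro _ <;> omega

end Cfsg.Agent.S1578
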