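import Cfsg.Statements.S3347
import Cfsg.Agent.Lib.PermGroups.InvertedSylowRows
import Cfsg.Agent.Lib.Transfer.Residual
import Cfsg.Agent.Lib.Blocks.Knorr
import Cfsg.Agent.Lib.LBalance.PComponentMap
import Cfsg.Agent.Lib.PSolvable.Series
import Cfsg.Agent.Lib.Cores.PCore

set_option autoImplicit false
open Cfsg

namespace Cfsg.Agent.S3347

open CfsgLib.BlockSections CfsgLib.BlockSections.Exceptional CfsgLib.PermGroups
open scoped commutatorElement

theorem exists_inverting {G : Type*} [Group G] [Finite G] {p : ℕ} [Fact p.Prime] (hp : p ≠ 2)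
    {P : Sylow p G} (hab : IsMulCommutative (P : Subgroup G))
    (hidx : ((Subgroup.centralizer ((P : Subgroup G) : Set G)).subgroupOf
      (Subgroup.normalizer ((P : Subgroup G) : Set G))).index = 2)
    (hres : Cfsg.pResidual p G = ⊤) :
    ∃ n₀ ∈ Subgroup.normalizer ((P : Subgroup G) : Set G),
      (∀ w ∈ (P : Subgroup G), n₀ * w * n₀⁻¹ = w⁻¹) ∧
      ∀ n ∈ Subgroup.normalizer ((P : Subgroup G) : Set G),
        (∀ w ∈ (P : Subgroup G), n * w * n⁻¹ = w) ∨ ∀ w ∈ (P : Subgroup G), n * w * n⁻¹ = w⁻¹ := by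
  set N := Subgroup.normalizer ((P : Subgroup G) : Set G) with hN
  set C := Subgroup.centralizer ((P : Subgroup G) : Set G) with hC
  obtain ⟨⟨n₀, hn₀⟩, hn₀'⟩ := Subgroup.index_eq_two_iff.1 hidx
  have hn₀C : n₀ ∉ C := fun h => by
    rcases hn₀' 1 with ⟨-, h2⟩ | ⟨-, h2⟩
    · exact h2 (one_mem _)
    · exact h2 (by rw [one_mul]; exact h)
  have hsq : n₀ * n₀ ∈ C := by
    rcases hn₀' ⟨n₀, hn₀⟩ with ⟨h1, -⟩ | ⟨h1, -⟩
    · exact h1
    · exact absurd h1 hn₀C
  have hfix : ∀ n ∈ C, ∀ w ∈ (P : Subgroup G), n * w * n⁻¹ = w := fun n hn w hw => by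
    rw [← Subgroup.mem_centralizer_iff.1 hn w hw, mul_inv_cancel_right]
  have hdich : ∀ n ∈ N, n ∈ C ∨ n * n₀ ∈ C := fun n hn => by
    rcases hn₀' ⟨n, hn⟩ with ⟨h1, -⟩ | ⟨h1, -⟩
    · exact Or.inr h1
    · exact Or.inl h1
  have hcomm : ∀ a ∈ (P : Subgroup G), ∀ b ∈ (P : Subgroup G), a * b = b * a := fun a ha b hb =>
    congrArg Subtype.val (mul_comm' (⟨a, ha⟩ : (P : Subgroup G)) ⟨b, hb⟩)
  let I : Subgroup G :=
    { carrier := {w | w ∈ (P : Subgroup G) ∧ n₀ * w * n₀⁻¹ = w⁻¹}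
      one_mem' := ⟨one_mem _, by group⟩
      mul_mem' := fun {a b} ha hb => ⟨mul_mem ha.1 hb.1, by
        calc n₀ * (a * b) * n₀⁻¹ = (n₀ * a * n₀⁻¹) * (n₀ * b * n₀⁻¹) := by group
          _ = a⁻¹ * b⁻¹ := by rw [ha.2, hb.2]
          _ = _ := by rw [hcomm a ha.1 b hb.1, mul_inv_rev]⟩
      inv_mem' := fun {a} ha => ⟨inv_mem ha.1, by
        calc n₀ * a⁻¹ * n₀⁻¹ = (n₀ * a * n₀⁻¹)⁻¹ := by group
          _ = _ := by rw [ha.2]⟩ }
  have hstep : ∀ w ∈ (P : Subgroup G), w * (n₀ * w * n₀⁻¹)⁻¹ ∈ I := by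
    intro w hw
    have hw' : n₀ * w * n₀⁻¹ ∈ (P : Subgroup G) := (Subgroup.mem_normalizer_iff.1 hn₀ w).1 hw
    refine ⟨mul_mem hw (inv_mem hw'), ?_⟩
    calc n₀ * (w * (n₀ * w * n₀⁻¹)⁻¹) * n₀⁻¹ =
          (n₀ * w * n₀⁻¹) * ((n₀ * n₀) * w * (n₀ * n₀)⁻¹)⁻¹ := by group
      _ = (n₀ * w * n₀⁻¹) * w⁻¹ := by rw [hfix _ hsq w hw]
      _ = _ := by group
  have hle : (P : Subgroup G) ≤ I := by
    intro w hw
    have hmem := CfsgLib.Transfer.inf_pResidual_le_focalSubgroup P ⟨hw, hres ▸ Subgroup.mem_top w⟩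
    revert hmem
    suffices hsub : (P : Subgroup G).focalSubgroup ≤ I from fun hmem => hsub hmem
    rw [Subgroup.focalSubgroup_def, Subgroup.closure_le]
    rintro g ⟨hg, x, hx, u, rfl⟩
    have hconj : u * x⁻¹ * u⁻¹ ∈ (P : Subgroup G) := by
      rw [show u * x⁻¹ * u⁻¹ = x⁻¹ * (x * u * x⁻¹ * u⁻¹) by group]
      exact mul_mem (inv_mem hx) hg
    obtain ⟨n, hn, he⟩ := P.conj_eq_normalizer_conj_of_mem x⁻¹ u⁻¹ (inv_mem hx) (by rw [inv_inv]; exact hconj)
    rw [inv_inv] at he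
    show ⁅x, u⁆ ∈ I
    rw [commutatorElement_def, show x * u * x⁻¹ * u⁻¹ = x * (u * x⁻¹ * u⁻¹) by group, he]
    rcases hdich n⁻¹ (inv_mem hn) with h | h
    · have := hfix _ h x⁻¹ (inv_mem hx)
      rw [inv_inv] at this
      rw [this, mul_inv_cancel]; exact one_mem _
    · have h1 : n⁻¹ * x⁻¹ * n = n₀ * x⁻¹ * n₀⁻¹ := by
        have hxp : n₀ * x⁻¹ * n₀⁻¹ ∈ (P : Subgroup G) := (Subgroup.mem_normalizer_iff.1 hn₀ _).1 (inv_mem hx)
        calc n⁻¹ * x⁻¹ * n = n⁻¹ * (n₀ * n₀ * x⁻¹ * (n₀ * n₀)⁻¹) * n := by rw [hfix _ hsq _ (inv_mem hx)]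
          _ = (n⁻¹ * n₀) * (n₀ * x⁻¹ * n₀⁻¹) * (n⁻¹ * n₀)⁻¹ := by group
          _ = _ := hfix _ h _ hxp
      rw [h1, show n₀ * x⁻¹ * n₀⁻¹ = (n₀ * x * n₀⁻¹)⁻¹ by group]
      exact hstep x hx
  refine ⟨n₀, hn₀, fun w hw => (hle hw).2, fun n hn => ?_⟩
  rcases hdich n hn with h | h
  · exact Or.inl (hfix n h)
  · refine Or.inr fun w hw => ?_
    have h2 := hfix _ h (n₀⁻¹ * w * n₀) ((Subgroup.mem_normalizer_iff'' (H := (P : Subgroup G))).1 hn₀ w |>.1 hw)
    have h3 : n₀⁻¹ * w * n₀ = w⁻¹ := by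
      calc n₀⁻¹ * w * n₀ = n₀⁻¹ * (w⁻¹)⁻¹ * n₀ := by rw [inv_inv]
        _ = n₀⁻¹ * (n₀ * w⁻¹ * n₀⁻¹) * n₀ := by rw [(hle (inv_mem hw)).2]
        _ = _ := by group
    calc n * w * n⁻¹ = (n * n₀) * (n₀⁻¹ * w * n₀) * (n * n₀)⁻¹ := by group
      _ = _ := by rw [h2, h3]

/-- Without a `p'`-core the inverted Sylow subgroup is normal. -/
theorem sylow_normal {G : Type*} [Group G] [Finite G] {p : ℕ} [hp : Fact p.Prime] (hp2 : p ≠ 2)
    {P : Sylow p G} (hab : IsMulCommutative (P : Subgroup G)) (hnc : ¬ IsCyclic (P : Subgroup G))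
    {n₀ : G} (hn₀ : n₀ ∈ Subgroup.normalizer ((P : Subgroup G) : Set G))
    (hinv : ∀ w ∈ (P : Subgroup G), n₀ * w * n₀⁻¹ = w⁻¹)
    (hsign : ∀ n ∈ Subgroup.normalizer ((P : Subgroup G) : Set G),
        (∀ w ∈ (P : Subgroup G), n * w * n⁻¹ = w) ∨ ∀ w ∈ (P : Subgroup G), n * w * n⁻¹ = w⁻¹)
    (hcore : Cfsg.pPrimeCore p G = ⊥) : (P : Subgroup G).Normal := by
  classical
  haveI := Fintype.ofFinite G
  set N := Subgroup.normalizer ((P : Subgroup G) : Set G) with hN
  set C := Subgroup.centralizer ((P : Subgroup G) : Set G) with hC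
  have hodd : ∀ y ∈ (P : Subgroup G), y = y⁻¹ → y = 1 := by
    intro y hy e
    obtain ⟨k, hk⟩ := IsPGroup.iff_orderOf.1 P.2 ⟨y, hy⟩
    rw [Subgroup.orderOf_mk] at hk
    refine orderOf_eq_one_iff.1 (Nat.eq_one_of_dvd_coprimes ?_ (dvd_of_eq hk)
      (orderOf_dvd_of_pow_eq_one (show y ^ 2 = 1 by rw [pow_two]; nth_rewrite 1 [e]; exact inv_mul_cancel y)))
    exact ((Nat.coprime_primes hp.out Nat.prime_two).2 hp2).pow_left k
  haveI : Nontrivial (P : Subgroup G) := not_subsingleton_iff_nontrivial.1 fun _ => hnc inferInstance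
  obtain ⟨y₀, hy₀⟩ := exists_ne (1 : (P : Subgroup G))
  have hy₀' : (y₀ : G) ≠ 1 := fun e => hy₀ (Subtype.ext e)
  have hfixC : ∀ n, (∀ w ∈ (P : Subgroup G), n * w * n⁻¹ = w) → n ∈ C := fun n h =>
    Subgroup.mem_centralizer_iff.2 fun w hw => (mul_inv_eq_iff_eq_mul.1 (h w hw)).symm
  have hn₀C : n₀ ∉ C := fun h => hy₀' (hodd y₀ y₀.2 (by
    rw [← hinv y₀ y₀.2, ← Subgroup.mem_centralizer_iff.1 h y₀ y₀.2, mul_inv_cancel_right]))
  have hnotboth : ∀ n, (∀ w ∈ (P : Subgroup G), n * w * n⁻¹ = w⁻¹) → n ∉ C := fun n hn h =>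
    hy₀' (hodd y₀ y₀.2 (by
      rw [← hn y₀ y₀.2, ← Subgroup.mem_centralizer_iff.1 h y₀ y₀.2, mul_inv_cancel_right]))
  have hF : IsFrobSylow P 2 := by
    refine ⟨hab, Subgroup.index_eq_two_iff.2 ⟨⟨n₀, hn₀⟩, fun b => ?_⟩, fun y hy h1 => ?_⟩
    · simp only [Subgroup.mem_subgroupOf, Subgroup.coe_mul]
      rcases hsign b b.2 with h | h
      · refine Or.inr ⟨hfixC _ h, fun h' => hn₀C ?_⟩
        have := mul_mem (inv_mem (hfixC _ h)) h'
        rwa [inv_mul_cancel_left] at this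
      · refine Or.inl ⟨hfixC _ fun w hw => ?_, hnotboth _ h⟩
        calc (b : G) * n₀ * w * ((b : G) * n₀)⁻¹ = (b : G) * (n₀ * w * n₀⁻¹) * (b : G)⁻¹ := by group
          _ = w := by rw [hinv w hw, h _ (inv_mem hw), inv_inv]
    · refine le_antisymm ?_ (le_inf ?_ (Subgroup.centralizer_le_normalizer _))
      · rintro n ⟨hn1, hn2⟩
        rcases hsign n hn2 with h | h
        · exact hfixC _ h
        · refine absurd (hodd y hy ?_) h1
          rw [← h y hy, Subgroup.mem_centralizer_singleton_iff.1 hn1, mul_inv_cancel_right]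
      · exact Subgroup.centralizer_le (Set.singleton_subset_iff.2 hy)
  have hconj : ∀ y ∈ (P : Subgroup G), IsConj y y⁻¹ := fun y hy => isConj_iff.2 ⟨n₀, hinv y hy⟩
  have hcard : 7 < Nat.card (P : Subgroup G) := by
    obtain ⟨k, hk⟩ := IsPGroup.iff_card.1 P.2
    have h3 : 3 ≤ p := by
      have := hp.out.two_le
      omega
    rcases k with _ | _ | k
    · rw [pow_zero] at hk
      exact absurd (Nat.card_eq_one_iff_unique.1 hk).1 (not_subsingleton _)
    · rw [pow_one] at hk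
      exact absurd (isCyclic_of_prime_card hk) hnc
    · rw [hk]
      calc 7 < 3 ^ 2 := by norm_num
        _ ≤ p ^ 2 := Nat.pow_le_pow_left h3 2
        _ ≤ p ^ (k + 2) := Nat.pow_le_pow_right hp.out.pos (by omega)
  have h2 : 2 ∣ Nat.card G := by
    refine dvd_trans ?_ (orderOf_dvd_natCard n₀)
    by_contra hd
    refine hn₀C ?_
    have hsq : n₀ ^ 2 ∈ C := hfixC _ fun w hw => by
      calc n₀ ^ 2 * w * (n₀ ^ 2)⁻¹ = n₀ * (n₀ * w * n₀⁻¹) * n₀⁻¹ := by rw [pow_two]; group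
        _ = w := by rw [hinv w hw, hinv _ (inv_mem hw), inv_inv]
    obtain ⟨j, hj⟩ : ∃ j, orderOf n₀ = 2 * j + 1 := ⟨orderOf n₀ / 2, by omega⟩
    have : n₀ = (n₀ ^ 2) ^ (j + 1) := by
      rw [← pow_mul, show 2 * (j + 1) = orderOf n₀ + 1 by omega, pow_succ, pow_orderOf_eq_one, one_mul]
    rw [this]; exact pow_mem hsq _
  haveI := Fact.mk Nat.prime_two
  obtain ⟨t, hto⟩ := exists_prime_orderOf_dvd_card' 2 h2
  have ht1 : t ≠ 1 := fun e => by simp [e] at hto
  have ht : t * t = 1 := by rw [← pow_two, ← hto]; exact pow_orderOf_eq_one t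
  obtain ⟨M, hM⟩ := CfsgLib.Blocks.exists_isPModular_of_prime hp.out
  haveI := CfsgLib.Blocks.isPrime_of_isPModular hM
  obtain ⟨D, χ, hd, hne, hX, ha2, hδ2⟩ := exists_rows hF hM hcard
  have hχX : χ ∈ D.X := by rw [hX]; exact Or.inr rfl
  obtain ⟨K, hK, hmem, -⟩ := CfsgLib.CharTheory.exists_kernel
    (CfsgLib.CharTheory.IsIrrCharacter.isCharacter χ.2)
  have hKtop : K ≠ ⊤ := fun e => hne (CfsgLib.CharDegreesTheory.SmallDegrees.eq_trivIrr_of_const
    fun g => (hmem g).1 (e ▸ Subgroup.mem_top g))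
  have hdeg := (CfsgLib.BrauerCharacters.charDegree_spec χ).1
  by_cases haz : D.a χ * (charDegree (χ : G → ℂ) : ℤ) = 1
  swap
  · exfalso
    refine haz (degree_eq_one hF hM hp2 hconj hnc hd hne hX ha2 hδ2 ht fun hv => ?_)
    have hKbot : K = ⊥ := by
      refine le_bot_iff.1 (hcore ▸ CfsgLib.Cores.le_pPrimeCore_of_not_dvd hp.out fun hd' => ?_)
      obtain ⟨⟨x, hxK⟩, hx⟩ := exists_prime_orderOf_dvd_card' p hd'
      rw [Subgroup.orderOf_mk] at hx
      obtain ⟨Q, hQ⟩ := (IsPGroup.of_card (p := p) (n := 1) (show Nat.card (Subgroup.zpowers x) = p ^ 1 by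
        rw [Nat.card_zpowers, hx, pow_one])).exists_le_sylow
      obtain ⟨c, hc⟩ := MulAction.exists_smul_eq G P Q
      rw [← hc] at hQ
      obtain ⟨y, hyP, hyx⟩ := Subgroup.mem_map.1 (hQ (Subgroup.mem_zpowers x))
      change c * y * c⁻¹ = x at hyx
      have hy1 : y ≠ 1 := fun e => by
        rw [e, mul_one, mul_inv_cancel] at hyx
        rw [← hyx, orderOf_one] at hx
        exact hp.out.one_lt.ne hx
      have hyK : y ∈ K := by
        have := hK.conj_mem x hxK c⁻¹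
        rwa [← hyx, show c⁻¹ * (c * y * c⁻¹) * c⁻¹⁻¹ = y by group] at this
      have e := (hmem y).1 hyK
      rw [D.val_X χ hχX y y (isPPart_self hF hM hyP) hyP hy1, hdeg] at e
      have e' : D.a χ = (charDegree (χ : G → ℂ) : ℤ) := Int.cast_injective (α := ℂ) (by push_cast; exact e)
      rw [← e'] at haz
      exact haz ha2
    have := (hmem t).2 hv
    rw [hKbot, Subgroup.mem_bot] at this
    exact ht1 this
  -- a linear row
  have hz1 : charDegree (χ : G → ℂ) = 1 := by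
    have := Int.eq_one_or_neg_one_of_mul_eq_one (by rw [mul_comm]; exact haz : (charDegree (χ : G → ℂ) : ℤ) * D.a χ = 1)
    omega
  have ha1 : D.a χ = 1 := by rw [hz1] at haz; simpa using haz
  have hval : ∀ (z : G) (y : G), IsPPart p z y → y ∈ (P : Subgroup G) → y ≠ 1 → z ∈ K := by
    intro z y hz hy h1
    rw [hmem, D.val_X χ hχX z y hz hy h1, ha1, hdeg, hz1]
    simp
  have hPK : (P : Subgroup G) ≤ K := fun y hy => by
    by_cases h1 : y = 1
    · rw [h1]; exact one_mem _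
    · exact hval y y (isPPart_self hF hM hy) hy h1
  have hCK : C ≤ K := by
    intro s hs
    obtain ⟨v, hv⟩ := CfsgLib.Blocks.exists_isPPart p s
    obtain ⟨w, hvw, hcomm, ⟨k, hk⟩, hw⟩ := hv
    have hvz : v ∈ Subgroup.zpowers s := by
      obtain ⟨j, hj⟩ : ∃ j, (s : G) ^ (orderOf w * j) = v := by
        have hcop : Nat.Coprime (orderOf v) (orderOf w) := by
          rw [hk]; exact (hp.out.coprime_iff_not_dvd.2 hw).pow_left k
        obtain ⟨j, hj⟩ := exists_pow_eq_self_of_coprime hcop.symm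
        exact ⟨j, by rw [← hvw, pow_mul, hcomm.mul_pow, pow_orderOf_eq_one, mul_one, hj]⟩
      rw [← hj]; exact pow_mem (Subgroup.mem_zpowers s) _
    have hvC : v ∈ C := (Subgroup.zpowers_le.2 hs) hvz
    have hvP : v ∈ (P : Subgroup G) := by
      have hz : IsPGroup p (Subgroup.zpowers v) := IsPGroup.of_card (n := k) (by rw [Nat.card_zpowers, hk])
      have hzN : Subgroup.zpowers v ≤ N := by
        rw [Subgroup.zpowers_le]; exact Subgroup.centralizer_le_normalizer _ hvC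
      have he : Subgroup.zpowers v ⊔ (P : Subgroup G) = (P : Subgroup G) :=
        P.3 (IsPGroup.to_sup_of_normal_right' hz P.2 hzN) le_sup_right
      exact he ▸ Subgroup.mem_sup_left (Subgroup.mem_zpowers v)
    have hwC : w ∈ C := by
      rw [show w = v⁻¹ * s by rw [← hvw]; group]
      exact mul_mem (inv_mem hvC) hs
    have hwK : w ∈ K := by
      have h1 := hval ((y₀ : G) * w) y₀ ⟨w, rfl, Subgroup.mem_centralizer_iff.1 hwC y₀ y₀.2,
        isPElem hF hM y₀.2, hw⟩ y₀.2 hy₀'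
      have := mul_mem (inv_mem (hPK y₀.2)) h1
      rwa [inv_mul_cancel_left] at this
    rw [← hvw]
    exact mul_mem (hPK hvP) hwK
  have hn₀K : n₀ ∉ K := by
    intro h
    refine hKtop (top_le_iff.1 ((Sylow.normalizer_sup_eq_top' P hPK).symm.le.trans (sup_le ?_ le_rfl)))
    intro n hn
    rcases hsign n hn with h' | h'
    · exact hCK (hfixC _ h')
    · have hc : n * n₀ ∈ C := hfixC _ fun w hw => by
        calc n * n₀ * w * (n * n₀)⁻¹ = n * (n₀ * w * n₀⁻¹) * n⁻¹ := by group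
          _ = w := by rw [hinv w hw, h' _ (inv_mem hw), inv_inv]
      have := mul_mem (hCK hc) (inv_mem h)
      rwa [mul_inv_cancel_right] at this
  -- a normal complement in the kernel
  set Q := P.subtype hPK with hQ
  have hQle : Subgroup.normalizer ((Q : Subgroup K) : Set K) ≤
      Subgroup.centralizer ((Q : Subgroup K) : Set K) := by
    intro n hn
    have hnN : (n : G) ∈ N := by
      rw [hN, Subgroup.mem_normalizer_iff]
      intro w
      constructor
      · intro hw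
        exact (Subgroup.mem_normalizer_iff.1 hn ⟨w, hPK hw⟩).1 hw
      · intro hw
        have hw' : w ∈ K := by
          have := mul_mem (mul_mem (inv_mem n.2) (hPK hw)) n.2
          rwa [show (n : G)⁻¹ * ((n : G) * w * (n : G)⁻¹) * n = w by group] at this
        exact (Subgroup.mem_normalizer_iff.1 hn ⟨w, hw'⟩).2 hw
    rcases hsign n hnN with h' | h'
    · rw [Subgroup.mem_centralizer_iff]
      exact fun w hw => Subtype.ext (Subgroup.mem_centralizer_iff.1 (hfixC _ h') w hw)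
    · exfalso
      refine hn₀K ?_
      have hc : (n : G) * n₀ ∈ C := hfixC _ fun w hw => by
        calc (n : G) * n₀ * w * ((n : G) * n₀)⁻¹ = (n : G) * (n₀ * w * n₀⁻¹) * (n : G)⁻¹ := by group
          _ = w := by rw [hinv w hw, h' _ (inv_mem hw), inv_inv]
      have := mul_mem (inv_mem n.2) (hCK hc)
      rwa [inv_mul_cancel_left] at this
  have hcomp := MonoidHom.ker_transferSylow_isComplement' Q hQle
  set R := (MonoidHom.transferSylow Q hQle).ker with hR
  have hRle : R ≤ Cfsg.pPrimeCore p K := CfsgLib.Cores.le_pPrimeCore_of_not_dvd hp.out (by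
    rw [← hcomp.index_eq_card]; exact Q.not_dvd_index)
  have hKcore : Cfsg.pPrimeCore p K = ⊥ := by
    haveI := CfsgLib.Cores.pPrimeCore_characteristic p K
    have h1 : (Cfsg.pPrimeCore p K).map K.subtype ≤ Cfsg.pPrimeCore p G := by
      refine CfsgLib.Cores.le_pPrimeCore ?_
      rw [Subgroup.card_map_of_injective K.subtype_injective]
      exact CfsgLib.Cores.card_pPrimeCore_coprime p
    rw [hcore, le_bot_iff] at h1
    exact (Subgroup.map_eq_bot_iff_of_injective _ K.subtype_injective).1 h1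
  rw [hKcore, le_bot_iff] at hRle
  rw [hRle] at hcomp
  have hQtop : (Q : Subgroup K) = ⊤ := Subgroup.isComplement'_bot_left.1 hcomp
  have hKP : K = (P : Subgroup G) := le_antisymm (fun g hg => by
    have : (⟨g, hg⟩ : K) ∈ (Q : Subgroup K) := by rw [hQtop]; trivial
    exact this) hPK
  exact hKP ▸ hK

/-- Let G be a finite group, p an odd prime, and P an abelian, non-cyclic Sylow p-subgroup of G with [N_G(P) : C_G(P)] = 2. Then either O^p(G) is a proper subgroup of G, or G has p-length 1 (G = O_{p',p,p'}(G)). -/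
theorem result {G : Type*} [Group G] [Finite G]
    (p : ℕ) [Fact p.Prime] (hp : p ≠ 2) (P : Sylow p G) (hab : IsMulCommutative (P : Subgroup G)) (hnc : ¬ IsCyclic (P : Subgroup G))
    (hidx : ((Subgroup.centralizer ((P : Subgroup G) : Set G)).subgroupOf (Subgroup.normalizer ((P : Subgroup G) : Set G))).index = 2) :
    Cfsg.pResidual p G ≠ ⊤ ∨ Cfsg.PLengthLE p 1 G := by
  classical
  by_cases hres : Cfsg.pResidual p G = ⊤
  swap
  · exact Or.inl hres
  right
  obtain ⟨n₀, hn₀, hinv, hsign⟩ := exists_inverting hp hab hidx hres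
  set O := Cfsg.pPrimeCore p G with hO
  set f := QuotientGroup.mk' O with hf
  have hfs : Function.Surjective f := QuotientGroup.mk'_surjective O
  set P' := P.mapSurjective hfs with hP'
  have hP'c : (P' : Subgroup (G ⧸ O)) = (P : Subgroup G).map f := rfl
  have hinj : Function.Injective (f.comp (P : Subgroup G).subtype) := by
    rw [injective_iff_map_eq_one]
    intro w hw
    have hwO : (w : G) ∈ O := (QuotientGroup.eq_one_iff _).1 hw
    obtain ⟨k, hk⟩ := IsPGroup.iff_orderOf.1 P.2 w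
    refine orderOf_eq_one_iff.1 (Nat.eq_one_of_dvd_coprimes (a := p ^ k) (b := Nat.card O) ?_
      (dvd_of_eq hk) ?_)
    · exact ((CfsgLib.Cores.card_pPrimeCore_coprime p).symm).pow_left k
    · rw [← Subgroup.orderOf_coe]; exact Subgroup.orderOf_dvd_natCard O hwO
  have e : (P : Subgroup G) ≃* (P' : Subgroup (G ⧸ O)) :=
    (Subgroup.equivMapOfInjective ⊤ _ hinj |>.symm.trans Subgroup.topEquiv).symm.trans
      (MulEquiv.subgroupCongr (by rw [← MonoidHom.range_eq_map, MonoidHom.range_comp, Subgroup.range_subtype, hP'c]))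
  have hab' : IsMulCommutative (P' : Subgroup (G ⧸ O)) := ⟨⟨fun a b => by
    obtain ⟨a, rfl⟩ := e.surjective a
    obtain ⟨b, rfl⟩ := e.surjective b
    rw [← map_mul, ← map_mul, mul_comm']⟩⟩
  have hnc' : ¬ IsCyclic (P' : Subgroup (G ⧸ O)) := fun h => hnc (e.isCyclic.2 h)
  have hNmap : Subgroup.normalizer (((P' : Subgroup (G ⧸ O))) : Set (G ⧸ O)) =
      (Subgroup.normalizer ((P : Subgroup G) : Set G)).map f := by
    rw [hP'c]
    exact (CfsgLib.LBalance.map_normalizer_of_coprime O (CfsgLib.Cores.card_pPrimeCore_coprime p) P.2).symm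
  have hnorm : (P' : Subgroup (G ⧸ O)).Normal := by
    refine sylow_normal hp hab' hnc' (n₀ := f n₀) ?_ ?_ ?_ (CfsgLib.Cores.pPrimeCore_quotient_pPrimeCore p)
    · rw [hNmap]; exact Subgroup.mem_map_of_mem _ hn₀
    · intro w hw
      obtain ⟨w, hw', rfl⟩ := Subgroup.mem_map.1 (hP'c ▸ hw : w ∈ (P : Subgroup G).map f)
      rw [← map_inv, ← map_mul, ← map_mul, hinv w hw', map_inv]
    · intro n hn
      rw [hNmap] at hn
      obtain ⟨n, hn', rfl⟩ := Subgroup.mem_map.1 hn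
      rcases hsign n hn' with h | h
      · left
        intro w hw
        obtain ⟨w, hw', rfl⟩ := Subgroup.mem_map.1 (hP'c ▸ hw : w ∈ (P : Subgroup G).map f)
        rw [← map_inv, ← map_mul, ← map_mul, h w hw']
      · right
        intro w hw
        obtain ⟨w, hw', rfl⟩ := Subgroup.mem_map.1 (hP'c ▸ hw : w ∈ (P : Subgroup G).map f)
        rw [← map_inv, ← map_mul, ← map_mul, h w hw', map_inv]
  have hU2 : (P : Subgroup G) ≤ (Cfsg.upperPSeries p G 2).1 := by
    rw [CfsgLib.PSolvable.upperPSeries_two]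
    intro w hw
    show f w ∈ Cfsg.pCore p (G ⧸ O)
    haveI := hnorm
    exact CfsgLib.Cores.le_pCore P'.2 (hP'c ▸ Subgroup.mem_map_of_mem f hw)
  show (Cfsg.upperPSeries p G (2 * 1 + 1)).1 = ⊤
  rw [CfsgLib.PSolvable.upperPSeries_succ_of_even (by norm_num)]
  rw [top_le_iff.1 (CfsgLib.Cores.le_pPrimeCore (N := (⊤ : Subgroup (G ⧸ (Cfsg.upperPSeries p G 2).1))) ?_),
    Subgroup.comap_top]
  rw [Subgroup.card_top, ← Subgroup.index_eq_card]
  exact ((Fact.out : p.Prime).coprime_iff_not_dvd.2 fun hd =>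
    P.not_dvd_index (hd.trans (Subgroup.index_dvd_of_le hU2))).symm

end Cfsg.Agent.S3347
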