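import Cfsg.Statements.S0041
import Cfsg.Agent.Lib.Cores.FPFComplement
-- import your own Cfsg.Agent.* helpers here

set_option autoImplicit false
open Cfsg

namespace Cfsg.Agent.S0041

/-- A group acting on a nontrivial abelian group so that no nonidentity element has a nonidentity fixed point is cyclic, provided it is abelian or its order is a product of two (possibly equal) primes. -/
theorem result {G : Type*} [Group G] [Finite G] (A V : Subgroup G) [IsMulCommutative V]
    (hV : V ≠ ⊥) (hAV : A ≤ Subgroup.normalizer (V : Set G)) (hfpf : ∀ a ∈ A, a ≠ 1 → V ⊓ Subgroup.centralizer {a} = ⊥)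
    (hA : IsMulCommutative A ∨ ∃ p q : ℕ, p.Prime ∧ q.Prime ∧ Nat.card A = p * q) : IsCyclic A := by
  by_cases hcomm : IsMulCommutative A
  · exact CfsgLib.Cores.isCyclic_of_fpf hV hAV hfpf
  obtain ⟨p, q, hp, hq, hcard⟩ := hA.resolve_left hcomm
  exfalso
  apply hcomm
  wlog hpq : p ≤ q generalizing p q
  · exact this q p hq hp (by rw [hcard, mul_comm]) (le_of_not_ge hpq)
  haveI := Fact.mk hp
  haveI := Fact.mk hq
  rcases hpq.eq_or_lt with rfl | hlt
  · exact IsPGroup.isMulCommutative_of_card_eq_prime_sq (by rw [hcard, pow_two])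
  obtain ⟨x, hx⟩ := exists_prime_orderOf_dvd_card' (G := A) p (hcard ▸ dvd_mul_right p q)
  obtain ⟨y, hy⟩ := exists_prime_orderOf_dvd_card' (G := A) q (hcard ▸ dvd_mul_left q p)
  have huniq : ∀ z : A, orderOf z = q → z ∈ Subgroup.zpowers y := by
    intro z hz
    by_contra hzy
    have hinj : Function.Injective
        (fun w : Subgroup.zpowers y × Subgroup.zpowers z => (w.1 : A) * (w.2 : A)) := by
      rintro ⟨a, b⟩ ⟨a', b'⟩ h
      have h1 : (a' : A)⁻¹ * (a : A) = (b' : A) * (b : A)⁻¹ :=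
        inv_mul_eq_iff_eq_mul.2 (by rw [← mul_assoc]; exact eq_mul_inv_of_mul_eq h)
      have hm1 : (a' : A)⁻¹ * (a : A) ∈ Subgroup.zpowers y :=
        Subgroup.mul_mem _ (Subgroup.inv_mem _ a'.2) a.2
      have hm2 : (a' : A)⁻¹ * (a : A) ∈ Subgroup.zpowers z :=
        h1 ▸ Subgroup.mul_mem _ b'.2 (Subgroup.inv_mem _ b.2)
      have h2 : (a' : A)⁻¹ * (a : A) = 1 := by
        by_contra hne
        apply hzy
        rw [← CfsgLib.Cores.zpowers_eq_of_mem_of_prime (hy ▸ hq) hm1 hne,
          CfsgLib.Cores.zpowers_eq_of_mem_of_prime (hz ▸ hq) hm2 hne]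
        exact Subgroup.mem_zpowers z
      refine Prod.ext (Subtype.ext (inv_mul_eq_one.1 h2).symm) (Subtype.ext ?_)
      rw [h2] at h1
      exact (mul_inv_eq_one.1 h1.symm).symm
    have := Nat.card_le_card_of_injective _ hinj
    rw [Nat.card_prod, Nat.card_zpowers, Nat.card_zpowers, hy, hz, hcard] at this
    exact absurd this (not_le.2 ((Nat.mul_lt_mul_right hq.pos).2 hlt))
  have hnorm : (x : G) ∈ Subgroup.normalizer (Subgroup.zpowers (y : G) : Set G) := by
    refine CfsgLib.CoprimeAction.mem_normalizer_of_conj_mem fun w hw => ?_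
    obtain ⟨j, rfl⟩ := Subgroup.mem_zpowers_iff.1 hw
    rw [← conj_zpow]
    refine Subgroup.zpow_mem _ ?_ j
    have h := huniq (x * y * x⁻¹)
      (by rw [show x * y * x⁻¹ = MulAut.conj x y from rfl, MulEquiv.orderOf_eq, hy])
    obtain ⟨i, hi⟩ := Subgroup.mem_zpowers_iff.1 h
    exact Subgroup.mem_zpowers_iff.2 ⟨i, by simpa using congrArg Subtype.val hi⟩
  have hxy : Commute (x : G) (y : G) := CfsgLib.Cores.commute_of_fpf hV hAV hfpf x.2 y.2
    (by rw [Subgroup.orderOf_coe, hx]; exact hp) (by rw [Subgroup.orderOf_coe, hy]; exact hq) hnorm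
  have hxy' : Commute x y := Subtype.ext hxy.eq
  have hcyc : IsCyclic A := isCyclic_of_orderOf_eq_card (x * y) (by
    rw [hxy'.orderOf_mul_eq_mul_orderOf_of_coprime
      (by rw [hx, hy]; exact (Nat.coprime_primes hp hq).2 hlt.ne), hx, hy, hcard])
  infer_instance

end Cfsg.Agent.S0041
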