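import Cfsg.Statements.S2792
import Cfsg.Agent.Lib.Transfer.Tate
import Cfsg.Agent.Lib.Transfer.Fusion
import Cfsg.Agent.Lib.ConjFunctor.Engel
import Cfsg.Agent.Lib.PGroups.Frattini

set_option autoImplicit false
open Cfsg

namespace Cfsg.Agent.S2792


open scoped commutatorElement IsMulCommutative

/-- Elements of a commutative group of order coprime to `p` are closed under products. -/
def coprimeOrders (A : Type*) [CommGroup A] (p : ℕ) : Subgroup A where
  carrier := {a | (orderOf a).Coprime p}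
  one_mem' := by simp
  mul_mem' := fun {a b} ha hb =>
    ((Nat.Coprime.mul_left ha hb).coprime_dvd_left (Nat.lcm_dvd_mul _ _)).coprime_dvd_left
      (Commute.all a b).orderOf_mul_dvd_lcm
  inv_mem' := fun {a} ha => by simpa using ha

section Tate

variable {G : Type*} [Group G] [Finite G] {p : ℕ} [hp : Fact p.Prime]

/-- A homomorphism onto an elementary abelian group detecting the failure of control of transfer. -/
theorem exists_detecting (S : Sylow p G) (N : Subgroup G) (hSN : (S : Subgroup G) ≤ N)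
    (h : (S : Subgroup G) ⊓ commutator G ≠ (S : Subgroup G) ⊓ ⁅N, N⁆) :
    ∃ M : Subgroup N, M.Normal ∧ commutator N ≤ M ∧ (∀ x : N, x ^ p ∈ M) ∧
      ∃ s : N, (s : G) ∈ (S : Subgroup G) ∧ (s : G) ∈ commutator G ∧ s ∉ M := by
  by_contra hcon
  apply h
  refine le_antisymm ?_ (inf_le_inf_left _ (Subgroup.commutator_mono le_top le_top))
  have hT : (pResidual p G).subgroupOf N = pResidual p N := by
    refine CfsgLib.Transfer.tate N (fun hd => S.not_dvd_index (hd.trans (Subgroup.index_dvd_of_le hSN)))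
      fun M hM hc hpw v hv => ?_
    haveI := hM
    have hNp : IsPGroup p (N ⧸ M) := fun x => by
      obtain ⟨a, rfl⟩ := QuotientGroup.mk'_surjective M x
      exact ⟨1, by rw [pow_one, ← map_pow]; exact (QuotientGroup.eq_one_iff _).mpr (hpw a)⟩
    obtain ⟨x, hx, k, hk, rfl⟩ := CfsgLib.Transfer.exists_mul_eq (S.subtype hSN) v
    refine mul_mem ?_ (CfsgLib.Transfer.pResidual_le_of_isPGroup hNp hk)
    by_contra hxM
    have hxK : (x : G) ∈ pResidual p G := by
      have := mul_mem hv (inv_mem (CfsgLib.Transfer.pResidual_subtype_le N hk))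
      rwa [mul_inv_cancel_right] at this
    have hxf : (x : G) ∈ (S : Subgroup G).focalSubgroup :=
      CfsgLib.Transfer.inf_pResidual_le_focalSubgroup S ⟨hx, hxK⟩
    rw [← Subgroup.commutator_inf_eq_focalSubgroup] at hxf
    exact hcon ⟨M, hM, hc, hpw, x, hx, hxf.1, hxM⟩
  rintro x ⟨hxS, hxG⟩
  refine ⟨hxS, ?_⟩
  haveI := CfsgLib.Transfer.pResidual_normal (G := G) (p := p)
  set q := QuotientGroup.mk' (pResidual p G) with hq
  have hNtop : N.map q = ⊤ := by
    refine top_le_iff.1 fun y _ => ?_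
    obtain ⟨g, rfl⟩ := QuotientGroup.mk'_surjective (pResidual p G) y
    obtain ⟨a, ha, k, hk, rfl⟩ := CfsgLib.Transfer.exists_mul_eq S g
    exact ⟨a, hSN ha, by rw [map_mul, show q k = 1 from (QuotientGroup.eq_one_iff k).2 hk, mul_one]⟩
  have hxq : q x ∈ (⁅N, N⁆).map q := by
    rw [Subgroup.map_commutator, hNtop]
    have := Subgroup.mem_map_of_mem q hxG
    rw [commutator_def, Subgroup.map_commutator] at this
    exact Subgroup.commutator_mono le_top le_top this
  obtain ⟨c, hc, hcx⟩ := hxq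
  have hcN : c ∈ N := Subgroup.commutator_le_self N hc
  have hr : (⟨c⁻¹ * x, mul_mem (inv_mem hcN) (hSN hxS)⟩ : N) ∈ pResidual p N := by
    rw [← hT, Subgroup.mem_subgroupOf]
    exact (QuotientGroup.eq).1 hcx
  rw [← Subgroup.map_subtype_commutator] at hc ⊢
  obtain ⟨c', hc', rfl⟩ := hc
  refine ⟨⟨x, hSN hxS⟩, ?_, rfl⟩
  have h1 : (Abelianization.of (⟨x, hSN hxS⟩ : N)) = 1 := by
    have e1 : Abelianization.of (⟨x, hSN hxS⟩ : N) ∈ coprimeOrders (Abelianization N) p := by
      have hle : pResidual p N ≤ (coprimeOrders (Abelianization N) p).comap Abelianization.of :=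
        (Subgroup.closure_le _).2 fun g hg => Nat.Coprime.coprime_dvd_left (orderOf_map_dvd _ g) hg
      have h2 := hle hr
      rw [Subgroup.mem_comap] at h2
      have h3 : (⟨x, hSN hxS⟩ : N) = c' * ⟨(c' : G)⁻¹ * x, mul_mem (inv_mem hcN) (hSN hxS)⟩ :=
        Subtype.ext (by simp)
      have h4 : Abelianization.of c' = 1 :=
        MonoidHom.mem_ker.1 (Abelianization.commutator_subset_ker _ hc')
      rw [h3, map_mul, h4, one_mul]
      exact h2
    obtain ⟨k, hk⟩ := S.2 ⟨x, hxS⟩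
    have e2 : orderOf (Abelianization.of (⟨x, hSN hxS⟩ : N)) ∣ p ^ k :=
      (orderOf_map_dvd _ _).trans (orderOf_dvd_of_pow_eq_one (Subtype.ext (congrArg Subtype.val hk :)))
    exact orderOf_eq_one_iff.1
      (Nat.Coprime.eq_one_of_dvd ((show (orderOf _).Coprime p from e1).pow_right k) e2)
  exact (QuotientGroup.eq_one_iff _).1 h1

end Tate

section Fixed

variable {G : Type*} [Group G] {H : Subgroup G} {A : Type*} [CommGroup A]

open Classical in
/-- The contribution of a point to the transfer. -/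
noncomputable def ptVal (φ : H →* A) (s : G) (q : G ⧸ H) : A :=
  if h : q.out⁻¹ * s * q.out ∈ H then φ ⟨_, h⟩ else 1

open Classical in
theorem ptVal_mk (φ : H →* A) (s g : G) :
    ptVal φ s (g : G ⧸ H) = if h : g⁻¹ * s * g ∈ H then φ ⟨_, h⟩ else 1 := by
  obtain ⟨n, hn⟩ := QuotientGroup.mk_out_eq_mul H g
  have key : ((g : G ⧸ H)).out⁻¹ * s * ((g : G ⧸ H)).out = (n : G)⁻¹ * (g⁻¹ * s * g) * n := by
    rw [hn]; group
  unfold ptVal
  by_cases h : g⁻¹ * s * g ∈ H
  · have h' : ((g : G ⧸ H)).out⁻¹ * s * ((g : G ⧸ H)).out ∈ H := by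
      rw [key]; exact mul_mem (mul_mem (inv_mem n.2) h) n.2
    rw [dif_pos h, dif_pos h', show (⟨_, h'⟩ : H) = n⁻¹ * ⟨_, h⟩ * n from Subtype.ext key, map_mul,
      map_mul, map_inv, mul_comm, mul_inv_cancel_left]
  · rw [dif_neg h, dif_neg fun h' => h ?_]
    rw [key] at h'
    simpa [mul_assoc] using mul_mem (mul_mem n.2 h') (inv_mem n.2)

theorem ptVal_eq_one (φ : H →* A) {s : G} {q : G ⧸ H} (h : s • q ≠ q) : ptVal φ s q = 1 := by
  classical
  refine dif_neg fun hm => h ?_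
  conv_rhs => rw [← QuotientGroup.out_eq' q]
  conv_lhs => rw [← QuotientGroup.out_eq' q]
  show ((s * q.out : G) : G ⧸ H) = _
  rw [QuotientGroup.eq]
  simpa [mul_assoc] using inv_mem hm

theorem ptVal_fixed (φ : H →* A) {s : G} {q : G ⧸ H} (h : q.out⁻¹ * s * q.out ∈ H) :
    ptVal φ s q = φ ⟨_, h⟩ := by
  classical
  exact dif_pos h

variable [Finite G] {p : ℕ} [hp : Fact p.Prime]

/-- The transfer of a `p`-element whose proper powers are killed is the product over the fixed points. -/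
theorem transfer_eq_prod_ptVal [Fintype (G ⧸ H)] (φ : H →* A) (s : G) (hs : ∃ k, orderOf s ∣ p ^ k)
    (hkill : ∀ (g : G) (n : ℕ), p ∣ n → ∀ h : g⁻¹ * s ^ n * g ∈ H, φ ⟨_, h⟩ = 1) :
    MonoidHom.transfer φ s = ∏ q : G ⧸ H, ptVal φ s q := by
  classical
  letI : Fintype (Quotient (MulAction.orbitRel (Subgroup.zpowers s) (G ⧸ H))) := Fintype.ofFinite _
  rw [MonoidHom.transfer_eq_prod_quotient_orbitRel_zpowers_quot,
    ← Finset.prod_fiberwise (Finset.univ : Finset (G ⧸ H))
      (fun q => (Quotient.mk'' q : Quotient (MulAction.orbitRel (Subgroup.zpowers s) (G ⧸ H))))]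
  refine Finset.prod_congr rfl fun Q _ => ?_
  set c := Q.out with hc
  by_cases hfix : s • c = c
  · have hone : Function.minimalPeriod (s • ·) c = 1 := Function.minimalPeriod_eq_one_iff_isFixedPt.2 hfix
    rw [Finset.prod_eq_single c]
    · have hm : c.out⁻¹ * s * c.out ∈ H := by
        have := QuotientGroup.out_conj_pow_minimalPeriod_mem H s c
        rwa [hone, pow_one] at this
      rw [ptVal_fixed φ hm]
      exact congrArg φ (Subtype.ext (show c.out⁻¹ * s ^ Function.minimalPeriod (s • ·) c * c.out = _ by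
        rw [hone, pow_one]))
    · intro q hq hqc
      refine absurd ?_ hqc
      rw [Finset.mem_filter, ← Quotient.out_eq' Q, Quotient.eq''] at hq
      obtain ⟨⟨z, hz⟩, hzq⟩ := hq.2
      have h1 : z ∈ MulAction.stabilizer G c := Subgroup.zpowers_le.2 (show s ∈ MulAction.stabilizer G c from hfix) hz
      exact hzq.symm.trans h1
    · intro h
      exact absurd (Finset.mem_filter.2 ⟨Finset.mem_univ c, by rw [hc]; exact Quotient.out_eq' Q⟩) h
  · obtain ⟨k, hk⟩ := hs
    have hdvd : Function.minimalPeriod (s • ·) c ∣ p ^ k := by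
      refine dvd_trans ?_ hk
      rw [← MulAction.pow_smul_eq_iff_minimalPeriod_dvd, pow_orderOf_eq_one, one_smul]
    obtain ⟨i, -, hi⟩ := (Nat.dvd_prime_pow hp.out).1 hdvd
    have hi0 : i ≠ 0 := fun e => hfix (Function.minimalPeriod_eq_one_iff_isFixedPt.1 (by
      rw [hi, e, pow_zero]))
    rw [hkill c.out _ (hi ▸ dvd_pow_self p hi0)]
    refine (Finset.prod_eq_one fun q hq => ptVal_eq_one φ fun hsq => hfix ?_).symm
    rw [Finset.mem_filter, ← Quotient.out_eq' Q, Quotient.eq''] at hq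
    obtain ⟨⟨z, hz⟩, hzq⟩ := hq.2
    change z • c = q at hzq
    obtain ⟨j, rfl⟩ := Subgroup.mem_zpowers_iff.1 hz
    have h2 : s • s ^ j • c = s ^ j • c := by rw [hzq]; exact hsq
    rw [← mul_smul, ← zpow_one_add, add_comm, zpow_add_one, mul_smul] at h2
    exact MulAction.injective (s ^ j) h2

end Fixed

/-- `[x, z; k]` pulled back along a homomorphism into an elementary abelian group. -/
theorem prod_conj_eq_iterate {X A : Type*} [Group X] [CommGroup A] {p : ℕ} [hp : Fact p.Prime]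
    (hA : ∀ a : A, a ^ p = 1) (ψ : X →* A) (c : X →* X) (x : X) :
    ∏ i ∈ Finset.range p, ψ (c^[i] x) = ψ ((fun y => y⁻¹ * c y)^[p - 1] x) := by
  let f : AddMonoid.End (Additive (X →* A)) :=
    AddMonoidHom.mk' (fun χ => Additive.ofMul ((Additive.toMul χ).comp c)) fun a b => rfl
  have hchar : (p : AddMonoid.End (Additive (X →* A))) = 0 := by
    refine AddMonoidHom.ext fun χ => ?_
    refine (AddMonoid.End.natCast_apply p χ).trans ?_
    apply Additive.toMul.injective
    exact MonoidHom.ext fun y => hA _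
  have hval : ∀ (i : ℕ) (χ : X →* A) (y : X),
      Additive.toMul ((f ^ i) (Additive.ofMul χ)) y = χ (c^[i] y) := by
    intro i
    induction i with
    | zero => intro χ y; rfl
    | succ i ih =>
      intro χ y
      rw [pow_succ']
      show Additive.toMul ((f ^ i) (Additive.ofMul χ)) (c y) = _
      rw [ih, ← Function.iterate_succ_apply]
  have hd : ∀ (k : ℕ) (χ : X →* A) (y : X),
      Additive.toMul (((f - 1) ^ k) (Additive.ofMul χ)) y = χ ((fun y => y⁻¹ * c y)^[k] y) := by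
    intro k
    induction k with
    | zero => intro χ y; rfl
    | succ k ih =>
      intro χ y
      rw [pow_succ]
      show Additive.toMul (((f - 1) ^ k) ((f - 1) (Additive.ofMul χ))) y = _
      refine (ih (Additive.toMul ((f - 1) (Additive.ofMul χ))) y).trans ?_
      rw [Function.iterate_succ_apply']
      show χ (c ((fun y => y⁻¹ * c y)^[k] y)) / χ ((fun y => y⁻¹ * c y)^[k] y) = _
      rw [map_mul, map_inv, div_eq_mul_inv, mul_comm]
  have hsum := CfsgLib.ConjFunctor.geom_sum_eq_sub_one_pow hchar f 1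
  rw [pow_one] at hsum
  rw [← hd (p - 1) ψ x, ← hsum]
  have hs : ∀ n : ℕ, Additive.toMul ((∑ i ∈ Finset.range n, f ^ i) (Additive.ofMul ψ)) x =
      ∏ i ∈ Finset.range n, Additive.toMul ((f ^ i) (Additive.ofMul ψ)) x := by
    intro n
    induction n with
    | zero => rfl
    | succ n ih =>
      rw [Finset.sum_range_succ, Finset.prod_range_succ, ← ih]
      rfl
  rw [hs]
  exact Finset.prod_congr rfl fun i _ => (hval i ψ x).symm

section Main

variable {G : Type*} [Group G] [Finite G] {p : ℕ} [hp : Fact p.Prime]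

/-- The heart of the argument. -/
theorem exists_witness (S : Sylow p G) (W : Subgroup G) (hW : Cfsg.IsWeaklyClosed W (S : Subgroup G))
    {A : Type*} [CommGroup A] (hA : ∀ a : A, a ^ p = 1) (N : Subgroup G)
    (hN : N = Subgroup.normalizer (W : Set G))
    (θ : N →* A) {s : N}
    (hsS : (s : G) ∈ (S : Subgroup G)) (hsG : (s : G) ∈ commutator G) (hθ : θ s ≠ 1)
    (hmin : ∀ x : N, (x : G) ∈ (S : Subgroup G) → (x : G) ∈ commutator G →
      orderOf x < orderOf s → θ x = 1) :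
    ∃ x ∈ (S : Subgroup G), ∃ z ∈ W, ∃ W₀ : Subgroup ↥W, IsCoatom W₀ ∧
      (fun y : G => y⁻¹ * z⁻¹ * y * z)^[p - 1] x ∈ W₀.map W.subtype ∧
      (fun y : G => y⁻¹ * z⁻¹ * y * z)^[p - 1] x ∉ ((frattini ↥W₀).map W₀.subtype).map W.subtype := by
  classical
  have hWN : W ≤ N := hN ▸ Subgroup.le_normalizer
  have hSN : (S : Subgroup G) ≤ N := fun x hx => by
    have h1 : W.map (MulAut.conj x).toMonoidHom ≤ (S : Subgroup G) := by
      rintro _ ⟨w, hw, rfl⟩
      exact mul_mem (mul_mem hx (hW.1 hw)) (inv_mem hx)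
    exact (SetLike.ext_iff.1 hN _).2
      (Subgroup.mem_normalizer_fintype fun w hw => (hW.2 x h1).le ⟨w, hw, rfl⟩)
  have hsp : ∃ k, orderOf (s : G) ∣ p ^ k := by
    obtain ⟨k, hk⟩ := S.2 ⟨(s : G), hsS⟩
    exact ⟨k, orderOf_dvd_of_pow_eq_one (congrArg Subtype.val hk)⟩
  -- proper powers of conjugates are killed
  have hkill : ∀ (g : G) (n : ℕ), p ∣ n → ∀ h : g⁻¹ * (s : G) ^ n * g ∈ N, θ ⟨_, h⟩ = 1 := by
    intro g n hn h
    set y : N := ⟨_, h⟩ with hy
    have hyp' : IsPGroup p (Subgroup.zpowers y) := by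
      obtain ⟨k, hk⟩ := hsp
      obtain ⟨i, -, hi⟩ := (Nat.dvd_prime_pow hp.out).1 (show orderOf y ∣ p ^ k by
        rw [← Subgroup.orderOf_coe]
        refine orderOf_dvd_of_pow_eq_one ?_
        show (g⁻¹ * (s : G) ^ n * g) ^ p ^ k = 1
        have h2 := congrArg (fun t => g⁻¹ * t * g) (show ((s : G) ^ n) ^ p ^ k = 1 by
          rw [← pow_mul, mul_comm, pow_mul, orderOf_dvd_iff_pow_eq_one.1 hk, one_pow])
        have h3 := conj_pow (a := g⁻¹) (b := (s : G) ^ n) (i := p ^ k)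
        rw [inv_inv] at h3
        rw [h3]
        simpa using h2)
      exact IsPGroup.iff_card.2 ⟨i, by rw [Nat.card_zpowers, hi]⟩
    obtain ⟨T, hT⟩ := hyp'.exists_le_sylow
    obtain ⟨m, hm⟩ := MulAction.exists_smul_eq N T (S.subtype hSN)
    have hmy : m * y * m⁻¹ ∈ (S.subtype hSN : Subgroup N) := by
      rw [← hm, Sylow.coe_subgroup_smul]
      exact Subgroup.smul_mem_pointwise_smul _ (MulAut.conj m) _ (hT (Subgroup.mem_zpowers y))
    have h1 : θ (m * y * m⁻¹) = 1 := by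
      refine hmin _ (by simpa [Subgroup.mem_subgroupOf] using hmy) ?_ ?_
      · show (m : G) * (g⁻¹ * (s : G) ^ n * g) * (m : G)⁻¹ ∈ commutator G
        refine (inferInstance : (commutator G).Normal).conj_mem _ ?_ _
        simpa using (inferInstance : (commutator G).Normal).conj_mem _ (pow_mem hsG n) g⁻¹
      · have e1 : orderOf (m * y * m⁻¹) = orderOf ((s : G) ^ n) := by
          rw [← MulAut.conj_apply, MulEquiv.orderOf_eq, ← Subgroup.orderOf_coe]
          show orderOf (g⁻¹ * (s : G) ^ n * g) = _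
          conv_lhs => rw [show g⁻¹ * (s : G) ^ n * g = MulAut.conj g⁻¹ ((s : G) ^ n) by simp]
          exact MulEquiv.orderOf_eq _ _
        rw [e1, ← Subgroup.orderOf_coe]
        have hs1 : (s : G) ≠ 1 := fun e => hθ (by rw [show s = 1 from Subtype.ext e, map_one])
        obtain ⟨k, hk⟩ := hsp
        obtain ⟨i, -, hi⟩ := (Nat.dvd_prime_pow hp.out).1 hk
        have hi0 : i ≠ 0 := fun e => hs1 (orderOf_eq_one_iff.1 (by rw [hi, e, pow_zero]))
        have hdvd : p ∣ orderOf (s : G) := hi ▸ dvd_pow_self p hi0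
        rw [orderOf_pow]
        exact Nat.div_lt_self (orderOf_pos _) (lt_of_lt_of_le hp.out.one_lt
          (Nat.le_of_dvd (Nat.gcd_pos_of_pos_left _ (orderOf_pos _)) (Nat.dvd_gcd hdvd hn)))
    rw [map_mul, map_mul, map_inv, mul_comm, inv_mul_cancel_left] at h1
    exact h1
  letI : Fintype (G ⧸ N) := Fintype.ofFinite _
  have htr : ∏ q : G ⧸ N, ptVal θ (s : G) q = 1 := by
    rw [← transfer_eq_prod_ptVal θ (s : G) hsp hkill]
    exact MonoidHom.mem_ker.1 (Abelianization.commutator_subset_ker _ hsG)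
  set H₀ := Subgroup.zpowers (s : G) ⊔ W with hH₀
  have hH₀S : H₀ ≤ (S : Subgroup G) := sup_le (Subgroup.zpowers_le.2 hsS) hW.1
  have hH₀N : H₀ ≤ N := hH₀S.trans hSN
  have hH₀p : IsPGroup p H₀ := S.2.to_le hH₀S
  letI : Fintype (Quotient (MulAction.orbitRel H₀ (G ⧸ N))) := Fintype.ofFinite _
  rw [← Finset.prod_fiberwise (Finset.univ : Finset (G ⧸ N))
      (fun q => (Quotient.mk'' q : Quotient (MulAction.orbitRel H₀ (G ⧸ N))))] at htr
  set b : G ⧸ N := ((1 : G) : G ⧸ N) with hb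
  set Q₀ : Quotient (MulAction.orbitRel H₀ (G ⧸ N)) := Quotient.mk'' b with hQ₀
  have hbfix : ∀ h : H₀, h • b = b := fun h => by
    show (((h : G) * 1 : G) : G ⧸ N) = ((1 : G) : G ⧸ N)
    rw [QuotientGroup.eq]
    simpa using inv_mem (hH₀N h.2)
  have hb1 : ∏ q ∈ Finset.univ.filter
      (fun q : G ⧸ N => (Quotient.mk'' q : Quotient (MulAction.orbitRel H₀ (G ⧸ N))) = Q₀),
      ptVal θ (s : G) q = θ s := by
    rw [Finset.prod_eq_single b]
    · rw [hb, ptVal_mk, dif_pos (by simpa using s.2)]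
      exact congrArg θ (Subtype.ext (by simp))
    · intro q hq hqb
      rw [Finset.mem_filter, hQ₀, Quotient.eq''] at hq
      obtain ⟨h, hh⟩ := hq.2
      exact absurd (hh.symm.trans (hbfix h)) hqb
    · intro h
      exact absurd (Finset.mem_filter.2 ⟨Finset.mem_univ b, hQ₀.symm⟩) h
  obtain ⟨Q, hQne, hQprod⟩ : ∃ Q ≠ Q₀, ∏ q ∈ Finset.univ.filter
      (fun q : G ⧸ N => (Quotient.mk'' q : Quotient (MulAction.orbitRel H₀ (G ⧸ N))) = Q),
      ptVal θ (s : G) q ≠ 1 := by
    by_contra hall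
    push Not at hall
    rw [Finset.prod_eq_single Q₀ (fun Q _ hQ => hall Q hQ) (fun h => absurd (Finset.mem_univ _) h),
      hb1] at htr
    exact hθ htr
  set g := Q.out.out with hg
  set q₀ : G ⧸ N := (g : G ⧸ N) with hq₀
  have hQ : (Quotient.mk'' q₀ : Quotient (MulAction.orbitRel H₀ (G ⧸ N))) = Q := by
    rw [hq₀, hg, QuotientGroup.out_eq']; exact Quotient.out_eq' Q
  set R := MulAction.stabilizer H₀ q₀ with hR
  have hRiff : ∀ r : H₀, r ∈ R ↔ g⁻¹ * (r : G) * g ∈ N := fun r => by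
    show (((r : G) * g : G) : G ⧸ N) = _ ↔ _
    rw [QuotientGroup.eq]
    constructor <;> intro h <;> simpa [mul_assoc] using inv_mem h
  -- `W` moves `q₀`
  obtain ⟨w₁, hw₁, hw₁R⟩ : ∃ w, ∃ h : w ∈ W, (⟨w, Subgroup.mem_sup_right h⟩ : H₀) ∉ R := by
    by_contra hall
    push Not at hall
    have hsub : W.map (MulAut.conj g⁻¹).toMonoidHom ≤ N := by
      rintro _ ⟨w, hw, rfl⟩
      simpa [mul_assoc] using (hRiff _).1 (hall w hw)
    obtain ⟨T, hT⟩ := (((S.2.to_le hW.1).map (MulAut.conj g⁻¹).toMonoidHom).comap_subtype (H := W.map (MulAut.conj g⁻¹).toMonoidHom) : IsPGroup p ((W.map (MulAut.conj g⁻¹).toMonoidHom).subgroupOf N)).exists_le_sylow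
    obtain ⟨m, hm⟩ := MulAction.exists_smul_eq N T (S.subtype hSN)
    have h2 : W.map (MulAut.conj ((m : G) * g⁻¹)).toMonoidHom ≤ (S : Subgroup G) := by
      rintro _ ⟨w, hw, rfl⟩
      have hwN : g⁻¹ * w * g ∈ N := (hRiff _).1 (hall w hw)
      have h3 : m * ⟨_, hwN⟩ * m⁻¹ ∈ (S.subtype hSN : Subgroup N) := by
        rw [← hm, Sylow.coe_subgroup_smul]
        exact Subgroup.smul_mem_pointwise_smul _ (MulAut.conj m) _ (hT ⟨w, hw, by simp⟩)
      simpa [Subgroup.mem_subgroupOf, mul_assoc] using h3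
    have h4' : (m : G) * g⁻¹ ∈ Subgroup.normalizer (W : Set G) := Subgroup.mem_normalizer_fintype fun w hw =>
      (hW.2 _ h2).le ⟨w, hw, rfl⟩
    have h4 : (m : G) * g⁻¹ ∈ N := (SetLike.ext_iff.1 hN _).2 h4'
    have hgN : g ∈ N := by
      have h5 := inv_mem (mul_mem (inv_mem m.2) h4)
      simpa using h5
    refine hQne ?_
    rw [← hQ, hQ₀]
    congr 1
    rw [hq₀, hb, QuotientGroup.eq]
    simpa using inv_mem hgN
  obtain ⟨H₁, hH₁, hRH₁⟩ := (eq_top_or_exists_le_coatom R).resolve_left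
    (fun e => hw₁R (e ▸ Subgroup.mem_top _))
  haveI : Group.IsNilpotent H₀ := hH₀p.isNilpotent
  haveI hH₁n : H₁.Normal :=
    Subgroup.NormalizerCondition.normal_of_coatom H₁ Group.normalizerCondition_of_isNilpotent hH₁
  set sH : H₀ := ⟨(s : G), Subgroup.mem_sup_left (Subgroup.mem_zpowers _)⟩ with hsH
  by_cases hsH₁ : sH ∈ H₁
  swap
  · refine absurd (Finset.prod_eq_one fun q hq => ptVal_eq_one θ fun hfix => hsH₁ ?_) hQprod
    rw [Finset.mem_filter, ← hQ, Quotient.eq''] at hq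
    obtain ⟨h, hh⟩ := hq.2
    change h • q₀ = q at hh
    have h1 : h⁻¹ * sH * h ∈ R := by
      show (h⁻¹ * sH * h) • q₀ = q₀
      rw [mul_smul, mul_smul, hh, inv_smul_eq_iff, hh]
      exact hfix
    have := hH₁n.conj_mem _ (hRH₁ h1) h
    simpa [mul_assoc] using this
  obtain ⟨z, hzW, hzH₁⟩ : ∃ z, ∃ h : z ∈ W, (⟨z, Subgroup.mem_sup_right h⟩ : H₀) ∉ H₁ := by
    by_contra hall
    push Not at hall
    refine hH₁.1 (top_le_iff.1 ?_)
    have : H₀ ≤ H₁.map H₀.subtype := sup_le (Subgroup.zpowers_le.2 ⟨sH, hsH₁, rfl⟩)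
      fun w hw => ⟨_, hall w hw, rfl⟩
    intro x _
    obtain ⟨y, hy, hyx⟩ := this x.2
    exact (Subtype.ext hyx : y = x) ▸ hy
  set zH : H₀ := ⟨z, Subgroup.mem_sup_right hzW⟩ with hzH
  -- the index of `H₁`
  haveI hnt : Nontrivial (H₀ ⧸ H₁) := ⟨⟨QuotientGroup.mk zH, 1,
    fun e => hzH₁ ((QuotientGroup.eq_one_iff _).1 e)⟩⟩
  have hquot : ∀ x : H₀ ⧸ H₁, x ≠ 1 → Subgroup.zpowers x = ⊤ := by
    intro x hx
    have h1 : H₁ < (Subgroup.zpowers x).comap (QuotientGroup.mk' H₁) := by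
      refine lt_of_le_of_ne (fun y hy => ?_) fun e => hx ?_
      · rw [Subgroup.mem_comap, QuotientGroup.mk'_apply, (QuotientGroup.eq_one_iff y).2 hy]
        exact one_mem _
      · obtain ⟨y, rfl⟩ := QuotientGroup.mk'_surjective H₁ x
        refine (QuotientGroup.eq_one_iff y).2 ?_
        rw [e]
        exact Subgroup.mem_zpowers _
    have h2 := hH₁.2 _ h1
    rw [← Subgroup.map_comap_eq_self_of_surjective (QuotientGroup.mk'_surjective H₁)
      (Subgroup.zpowers x), h2, Subgroup.map_top_of_surjective _ (QuotientGroup.mk'_surjective H₁)]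
  have hcardQ : Nat.card (H₀ ⧸ H₁) = p := by
    obtain ⟨k, hk0, hk⟩ := (hH₀p.to_quotient H₁).nontrivial_iff_card.1 hnt
    obtain ⟨x, hx⟩ := exists_prime_orderOf_dvd_card' (G := H₀ ⧸ H₁) p (hk ▸ dvd_pow_self p hk0.ne')
    have := hquot x fun e => by rw [e, orderOf_one] at hx; exact hp.out.ne_one hx.symm
    rw [← Subgroup.card_top, ← this, Nat.card_zpowers, hx]
  have hzgen : Subgroup.zpowers (QuotientGroup.mk zH : H₀ ⧸ H₁) = ⊤ :=
    hquot _ fun e => hzH₁ ((QuotientGroup.eq_one_iff _).1 e)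
  have hzord : orderOf (QuotientGroup.mk zH : H₀ ⧸ H₁) = p := by
    rw [← Nat.card_zpowers, hzgen, Subgroup.card_top, hcardQ]
  set R' := R.subgroupOf H₁ with hR'
  letI : Fintype (H₁ ⧸ R') := Fintype.ofFinite _
  let f : R' →* A := θ.comp
    { toFun := fun r => ⟨g⁻¹ * ((r : H₁) : H₀) * g, (hRiff _).1 r.2⟩
      map_one' := Subtype.ext (by simp)
      map_mul' := fun a b => Subtype.ext (by simp [mul_assoc]) }
  set ψ := MonoidHom.transfer f with hψdef
  let c : H₁ →* H₁ := (MulAut.conjNormal (zH⁻¹)).toMonoidHom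
  set s₁ : H₁ := ⟨sH, hsH₁⟩ with hs₁
  set u : ℕ → H₁ := fun i => c^[i] s₁ with hu
  have hcval : ∀ y : H₁, ((c y : H₁) : H₀) = zH⁻¹ * y * zH := fun y => by simp [c]
  have huval : ∀ i, ((u i : H₁) : G) = (z ^ i)⁻¹ * (s : G) * z ^ i := by
    intro i
    induction i with
    | zero => simp [hu, hs₁, hsH]
    | succ i ih =>
      simp only [hu, Function.iterate_succ_apply']
      rw [hcval]
      simp only [Subgroup.coe_mul, InvMemClass.coe_inv]
      rw [show (((c^[i] s₁ : H₁) : H₀) : G) = (z ^ i)⁻¹ * (s : G) * z ^ i from ih, pow_succ]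
      simp [hzH, mul_assoc]
  have hψu : ∀ i, ψ (u i) = ∏ k : H₁ ⧸ R', ptVal f (u i) k := by
    intro i
    refine transfer_eq_prod_ptVal (p := p) f (u i) ?_ fun a n hn h => ?_
    · obtain ⟨k, hk⟩ := hH₀p ((u i : H₁) : H₀)
      exact ⟨k, orderOf_dvd_of_pow_eq_one (Subtype.ext hk)⟩
    · have key : g⁻¹ * (((a⁻¹ * (u i) ^ n * a : H₁) : H₀) : G) * g =
          (z ^ i * ((a : H₀) : G) * g)⁻¹ * (s : G) ^ n * (z ^ i * ((a : H₀) : G) * g) := by
        simp only [Subgroup.coe_mul, InvMemClass.coe_inv, SubmonoidClass.coe_pow, huval]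
        rw [show ((z ^ i)⁻¹ * (s : G) * z ^ i) ^ n = (z ^ i)⁻¹ * (s : G) ^ n * z ^ i by
          have h3 := conj_pow (a := (z ^ i)⁻¹) (b := (s : G)) (i := n)
          rwa [inv_inv] at h3]
        group
      have h' : g⁻¹ * (((a⁻¹ * (u i) ^ n * a : H₁) : H₀) : G) * g ∈ N := (hRiff _).1 h
      show θ ⟨_, h'⟩ = 1
      refine Eq.trans (congrArg θ (Subtype.ext key)) (hkill _ n hn ?_)
      rw [← key]
      exact h'
  -- the orbit product
  have horbit : ∏ q ∈ Finset.univ.filter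
      (fun q : G ⧸ N => (Quotient.mk'' q : Quotient (MulAction.orbitRel H₀ (G ⧸ N))) = Q),
      ptVal θ (s : G) q = ∏ i ∈ Finset.range p, ψ (u i) := by
    rw [Finset.prod_congr rfl fun i _ => hψu i, Finset.prod_sigma']
    symm
    refine Finset.prod_bij (fun x _ => (zH ^ x.1 * ((x.2.out : H₁) : H₀)) • q₀) ?_ ?_ ?_ ?_
    · intro x _
      refine Finset.mem_filter.2 ⟨Finset.mem_univ _, ?_⟩
      rw [← hQ, Quotient.eq'']
      exact ⟨_, rfl⟩
    · rintro ⟨i, k⟩ hi ⟨j, l⟩ hj heq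
      simp only [Finset.mem_sigma, Finset.mem_range, Finset.mem_univ, and_true] at hi hj
      have h1 : (zH ^ j * ((l.out : H₁) : H₀))⁻¹ * (zH ^ i * ((k.out : H₁) : H₀)) ∈ R := by
        show _ • q₀ = q₀
        rw [mul_smul, inv_smul_eq_iff]
        exact heq
      have hij : i = j := by
        have h2 := congrArg (QuotientGroup.mk' H₁) (mul_inv_cancel_left (zH ^ j * ((l.out : H₁) : H₀))
          (zH ^ i * ((k.out : H₁) : H₀)))
        rw [map_mul, show QuotientGroup.mk' H₁ ((zH ^ j * ((l.out : H₁) : H₀))⁻¹ *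
          (zH ^ i * ((k.out : H₁) : H₀))) = 1 from (QuotientGroup.eq_one_iff _).2 (hRH₁ h1), mul_one,
          map_mul, map_mul, map_pow, map_pow,
          show QuotientGroup.mk' H₁ ((l.out : H₁) : H₀) = 1 from (QuotientGroup.eq_one_iff _).2 l.out.2,
          show QuotientGroup.mk' H₁ ((k.out : H₁) : H₀) = 1 from (QuotientGroup.eq_one_iff _).2 k.out.2,
          mul_one, mul_one] at h2
        exact (pow_injOn_Iio_orderOf (x := (QuotientGroup.mk zH : H₀ ⧸ H₁)) (by simpa [hzord] using hj)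
          (by simpa [hzord] using hi) h2).symm
      subst hij
      have h3 : l = k := by
        refine (QuotientGroup.out_eq' l).symm.trans ((QuotientGroup.eq.2 ?_).trans (QuotientGroup.out_eq' k))
        show (((l.out : H₁)⁻¹ * (k.out : H₁) : H₁) : H₀) ∈ R
        simpa [mul_assoc] using h1
      subst h3
      rfl
    · intro q hq
      rw [Finset.mem_filter, ← hQ, Quotient.eq''] at hq
      obtain ⟨h, hh⟩ := hq.2
      change h • q₀ = q at hh
      have hmem : (QuotientGroup.mk h : H₀ ⧸ H₁) ∈ Subgroup.zpowers (QuotientGroup.mk zH : H₀ ⧸ H₁) :=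
        hzgen ▸ Subgroup.mem_top _
      rw [← mem_powers_iff_mem_zpowers, Submonoid.mem_powers_iff] at hmem
      obtain ⟨j, hj⟩ := hmem
      rw [← pow_mod_orderOf, hzord, ← QuotientGroup.mk_pow, QuotientGroup.eq] at hj
      set i := j % p with hi
      set a : H₁ := ⟨(zH ^ i)⁻¹ * h, hj⟩ with ha
      obtain ⟨r, hr⟩ := QuotientGroup.mk_out_eq_mul R' a
      refine ⟨⟨i, QuotientGroup.mk a⟩, Finset.mem_sigma.2 ⟨Finset.mem_range.2 (Nat.mod_lt _ hp.out.pos),
        Finset.mem_univ _⟩, ?_⟩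
      rw [← hh, hr]
      show (zH ^ i * ((a * (r : H₁) : H₁) : H₀)) • q₀ = h • q₀
      rw [Subgroup.coe_mul, ← mul_assoc, show zH ^ i * ((a : H₁) : H₀) = h from mul_inv_cancel_left _ _,
        mul_smul]
      congr 1
      exact r.2
    · rintro ⟨i, k⟩ _
      set a := k.out with ha
      have e : (zH ^ i * ((a : H₁) : H₀)) • q₀ = ((z ^ i * ((a : H₀) : G) * g : G) : G ⧸ N) := by
        show ((((zH ^ i * ((a : H₁) : H₀) : H₀) : G) * g : G) : G ⧸ N) = _
        simp [hzH]
      rw [e, ptVal_mk]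
      have key : g⁻¹ * (((a⁻¹ * u i * a : H₁) : H₀) : G) * g =
          (z ^ i * ((a : H₀) : G) * g)⁻¹ * (s : G) * (z ^ i * ((a : H₀) : G) * g) := by
        simp only [Subgroup.coe_mul, InvMemClass.coe_inv, huval]
        group
      show ptVal f (u i) k = _
      by_cases hmem : a⁻¹ * u i * a ∈ R'
      · have h2 := (hRiff _).1 hmem
        have h3 : (z ^ i * ((a : H₀) : G) * g)⁻¹ * (s : G) * (z ^ i * ((a : H₀) : G) * g) ∈ N := by
          rw [← key]; exact h2
        rw [ptVal_fixed f hmem, dif_pos h3]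
        exact congrArg θ (Subtype.ext key)
      · rw [show ptVal f (u i) k = 1 from dif_neg hmem, dif_neg]
        intro h3
        rw [← key] at h3
        exact hmem ((hRiff _).2 h3)
  set yy : H₁ := (fun y => y⁻¹ * c y)^[p - 1] s₁ with hyy
  have hψyy : ψ yy ≠ 1 := by
    rw [hyy, ← prod_conj_eq_iterate hA ψ c s₁]
    rw [horbit] at hQprod
    exact hQprod
  have hiter : ∀ k, ((((fun y => y⁻¹ * c y)^[k] s₁ : H₁) : H₀) : G) =
      (fun y : G => y⁻¹ * z⁻¹ * y * z)^[k] (s : G) := by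
    intro k
    induction k with
    | zero => rfl
    | succ k ih =>
      rw [Function.iterate_succ_apply', Function.iterate_succ_apply', ← ih]
      simp only [Subgroup.coe_mul, InvMemClass.coe_inv, hcval]
      simp [hzH, mul_assoc]
  have hyyW : ∀ k, (fun y : G => y⁻¹ * z⁻¹ * y * z)^[k + 1] (s : G) ∈ W := by
    intro k
    induction k with
    | zero =>
      show (s : G)⁻¹ * z⁻¹ * (s : G) * z ∈ W
      have h1 := (Subgroup.mem_normalizer_iff.1 (show (s : G)⁻¹ ∈ Subgroup.normalizer (W : Set G) by rw [← hN]; exact inv_mem (hSN hsS)) z⁻¹).1 (inv_mem hzW)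
      rw [inv_inv] at h1
      exact mul_mem h1 hzW
    | succ k ih =>
      rw [Function.iterate_succ_apply']
      exact mul_mem (mul_mem (mul_mem (inv_mem ih) (inv_mem hzW)) ih) hzW
  obtain ⟨p', hp'⟩ : ∃ p', p - 1 = p' + 1 := ⟨p - 2, by have := hp.out.two_le; omega⟩
  -- the maximal subgroup `W₀`
  let incl : W →* H₀ := Subgroup.inclusion le_sup_right
  set W₀ := H₁.comap incl with hW₀
  have hW₀ne : W₀ ≠ ⊤ := fun e => hzH₁ (show (⟨z, hzW⟩ : W) ∈ W₀ from e ▸ Subgroup.mem_top _)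
  have hW₀idx : W₀.index = p := by
    rcases (Nat.dvd_prime hp.out).1 (show W₀.index ∣ p by
      rw [hW₀, Subgroup.index_comap, ← hcardQ, ← Subgroup.index_eq_card]
      exact Subgroup.relIndex_dvd_index_of_normal H₁ incl.range) with h | h
    · exact absurd (Subgroup.index_eq_one.1 h) hW₀ne
    · exact h
  have hco : IsCoatom W₀ := by
    refine ⟨hW₀ne, fun K hK => ?_⟩
    have h1 := Subgroup.relIndex_mul_index hK.le
    rw [hW₀idx] at h1
    rcases (Nat.dvd_prime hp.out).1 (Dvd.intro_left _ h1) with h | h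
    · exact Subgroup.index_eq_one.1 h
    · exfalso
      rw [h] at h1
      have h2 : W₀.relIndex K = 1 := Nat.eq_of_mul_eq_mul_right hp.out.pos (h1.trans (one_mul p).symm)
      exact hK.not_ge (Subgroup.relIndex_eq_one.1 h2)
  refine ⟨(s : G), hsS, z, hzW, W₀, hco, ?_, ?_⟩
  · refine ⟨⟨_, hp' ▸ hyyW p'⟩, ?_, rfl⟩
    show (incl _) ∈ H₁
    rw [show incl ⟨_, hp' ▸ hyyW p'⟩ = ((yy : H₁) : H₀) from Subtype.ext (hiter (p - 1)).symm]
    exact yy.2
  · rintro ⟨w, ⟨w₀, hw₀, rfl⟩, hw⟩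
    let χ : W₀ →* A := ψ.comp ((incl.comp W₀.subtype).codRestrict H₁ fun x => x.2)
    haveI : Fintype W₀ := Fintype.ofFinite _
    have hker : frattini W₀ ≤ χ.ker := by
      refine CfsgLib.PGroups.frattini_le_of (p := p) ?_ ?_
      · exact Abelianization.commutator_subset_ker χ
      · exact fun x => MonoidHom.mem_ker.2 (by rw [map_pow]; exact hA _)
    refine hψyy ?_
    have h1 : ((incl.comp W₀.subtype).codRestrict H₁ fun x => x.2) w₀ = yy :=
      Subtype.ext (Subtype.ext (hw.trans (hiter (p - 1)).symm))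
    rw [← h1]
    exact hker hw₀

end Main

/-- Let S be a Sylow p-subgroup of the finite group G and W a subgroup of S weakly closed in S with respect to G. If S ∩ G' ≠ S ∩ (N_G(W))', then there are x ∈ S, z ∈ W and a maximal subgroup W₀ of W such that the iterated commutator [x, z; p−1] (with [x, z] = x⁻¹z⁻¹xz and [x, z; i+1] = [[x, z; i], z]) lies in W₀ but not in the Frattini subgroup of W₀; in particular [x, z; p−1] ≠ 1. -/
theorem result {G : Type*} [Group G] [Finite G] {p : ℕ} [Fact p.Prime] (S : Sylow p G) (W : Subgroup G) (hW : Cfsg.IsWeaklyClosed W (S : Subgroup G)) (h : (S : Subgroup G) ⊓ commutator G ≠ (S : Subgroup G) ⊓ ⁅Subgroup.normalizer (W : Set G), Subgroup.normalizer (W : Set G)⁆) : ∃ x ∈ (S : Subgroup G), ∃ z ∈ W, ∃ W₀ : Subgroup ↥W, IsCoatom W₀ ∧ (fun y : G => y⁻¹ * z⁻¹ * y * z)^[p - 1] x ∈ W₀.map W.subtype ∧ (fun y : G => y⁻¹ * z⁻¹ * y * z)^[p - 1] x ∉ ((frattini ↥W₀).map W₀.subtype).map W.subtype := by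
  classical
  have hSN : (S : Subgroup G) ≤ Subgroup.normalizer (W : Set G) := fun x hx => by
    have h1 : W.map (MulAut.conj x).toMonoidHom ≤ (S : Subgroup G) := by
      rintro _ ⟨w, hw, rfl⟩
      exact mul_mem (mul_mem hx (hW.1 hw)) (inv_mem hx)
    exact Subgroup.mem_normalizer_fintype fun w hw => (hW.2 x h1).le ⟨w, hw, rfl⟩
  obtain ⟨M, hMn, hMc, hMp, s₀, hs₀S, hs₀G, hs₀M⟩ := exists_detecting S _ hSN h
  haveI := hMn
  haveI : IsMulCommutative (↥(Subgroup.normalizer (W : Set G)) ⧸ M) :=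
    (Subgroup.Normal.quotient_commutative_iff_commutator_le).2 hMc
  obtain ⟨s, ⟨hsS, hsG, hsM⟩, hmin⟩ := Set.Finite.exists_minimalFor
    (fun x : ↥(Subgroup.normalizer (W : Set G)) => orderOf x)
    {x | (x : G) ∈ (S : Subgroup G) ∧ (x : G) ∈ commutator G ∧ x ∉ M} (Set.toFinite _)
    ⟨s₀, hs₀S, hs₀G, hs₀M⟩
  refine exists_witness S W hW (fun a => ?_) _ rfl (QuotientGroup.mk' M) hsS hsG
    (fun e => hsM ((QuotientGroup.eq_one_iff s).1 e)) fun x hxS hxG hlt => ?_
  · obtain ⟨x, rfl⟩ := QuotientGroup.mk'_surjective M a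
    rw [← map_pow]
    exact (QuotientGroup.eq_one_iff _).2 (hMp x)
  · by_contra hx
    have := hmin ⟨hxS, hxG, fun e => hx ((QuotientGroup.eq_one_iff x).2 e)⟩ hlt.le
    exact absurd this (not_le.2 hlt)

end Cfsg.Agent.S2792
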