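import Cfsg.Statements.S2807
import Cfsg.Agent.S2792
import Cfsg.Agent.Lib.TwoGroups.Basic
import Cfsg.Agent.Lib.PGroups.Frattini

set_option autoImplicit false
open Cfsg

namespace Cfsg.Agent.S2807

open scoped commutatorElement Nat

/-- The map `y ↦ [y, z]`. -/
def commMap {Q : Type*} [Group Q] (z : Q) : Q → Q := fun y => y⁻¹ * z⁻¹ * y * z

theorem commMap_map {Q R : Type*} [Group Q] [Group R] (f : Q →* R) (z : Q) (k : ℕ) (x : Q) :
    f ((commMap z)^[k] x) = (commMap (f z))^[k] (f x) := by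
  induction k with
  | zero => rfl
  | succ k ih =>
    rw [Function.iterate_succ_apply', Function.iterate_succ_apply', ← ih]
    simp [commMap]

theorem commutator_top_lt {Q : Type*} [Group Q] [Group.IsNilpotent Q] (L : Subgroup Q) [L.Normal]
    (hL : L ≠ ⊥) : ⁅L, (⊤ : Subgroup Q)⁆ < L := by
  refine lt_of_le_of_ne (Subgroup.commutator_le_left L _) fun h => hL ?_
  obtain ⟨n, hn⟩ := Subgroup.nilpotent_iff_lowerCentralSeries.1 ‹Group.IsNilpotent Q›
  have hle : ∀ k, L ≤ Subgroup.lowerCentralSeries (⊤ : Subgroup Q) k := by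
    intro k
    induction k with
    | zero => simp
    | succ k ih =>
      rw [Subgroup.lowerCentralSeries_succ, ← h]
      exact Subgroup.commutator_mono ih le_rfl
  exact le_bot_iff.1 (hn ▸ hle n)

theorem card_commutator_le {Q : Type*} [Group Q] [Finite Q] {p : ℕ} [hp : Fact p.Prime]
    (hQ : IsPGroup p Q) {k : ℕ} (L : Subgroup Q) [L.Normal] (hL : Nat.card L ≤ p ^ (k + 1)) :
    Nat.card ↥⁅L, (⊤ : Subgroup Q)⁆ ≤ p ^ k := by
  haveI := hQ.isNilpotent
  by_cases hne : L = ⊥
  · subst hne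
    rw [Subgroup.commutator_bot_left, Subgroup.card_bot]
    exact Nat.one_le_pow _ _ hp.out.pos
  have hlt := commutator_top_lt L hne
  obtain ⟨a, ha⟩ := IsPGroup.iff_card.1 (hQ.to_subgroup L)
  obtain ⟨b, hb⟩ := IsPGroup.iff_card.1 (hQ.to_subgroup ⁅L, (⊤ : Subgroup Q)⁆)
  have hba : b < a := by
    have h : Nat.card ↥⁅L, (⊤ : Subgroup Q)⁆ < Nat.card L := Set.Finite.card_lt_card (Set.toFinite _) hlt
    rw [ha, hb] at h
    exact (Nat.pow_lt_pow_iff_right hp.out.one_lt).1 h
  have hak : a ≤ k + 1 := by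
    rw [ha] at hL
    exact (Nat.pow_le_pow_iff_right hp.out.one_lt).1 hL
  rw [hb]
  exact Nat.pow_le_pow_right hp.out.pos (by omega)

/-- Iterated commutators run out along a normal subgroup of small order. -/
theorem iterate_eq_one {Q : Type*} [Group Q] [Finite Q] {p : ℕ} [hp : Fact p.Prime]
    (hQ : IsPGroup p Q) (z : Q) : ∀ (k : ℕ) (L : Subgroup Q), L.Normal → Nat.card L ≤ p ^ k →
      ∀ v ∈ L, (commMap z)^[k] v = 1 := by
  intro k
  induction k with
  | zero =>
    intro L _ hL v hv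
    have h1 : L = ⊥ := Subgroup.eq_bot_of_card_le L (by simpa using hL)
    rw [h1, Subgroup.mem_bot] at hv
    exact hv
  | succ k ih =>
    intro L hLn hL v hv
    rw [Function.iterate_succ_apply]
    refine ih _ inferInstance (card_commutator_le hQ L hL) _ ?_
    have := Subgroup.commutator_mem_commutator (inv_mem hv) (Subgroup.mem_top z⁻¹)
    simpa [commMap, commutatorElement_def] using this

/-- A finite `p`-group with a nonvanishing iterated commutator modulo the Frattini subgroup of a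
maximal subgroup maps onto `Z_p ≀ Z_p`. -/
theorem exists_surjective {S : Type*} [Group S] [Finite S] {p : ℕ} [hp : Fact p.Prime]
    (hS : IsPGroup p S) (x z : S) (M : Subgroup S) (hM : IsCoatom M)
    (hin : (commMap z)^[p - 1] x ∈ M)
    (hout : (commMap z)^[p - 1] x ∉ (frattini ↥M).map M.subtype) :
    ∃ (P : Sylow p (Equiv.Perm (Fin (p ^ 2)))) (f : S →* ↥(P : Subgroup (Equiv.Perm (Fin (p ^ 2))))),
      Function.Surjective f := by
  classical
  haveI := CfsgLib.TwoGroups.normal_of_isCoatom hS hM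
  have hMi := CfsgLib.TwoGroups.index_eq_of_isCoatom hS hM
  -- a maximal subgroup of `M` avoiding the commutator
  obtain ⟨K₀, hK₀, hyK⟩ : ∃ K₀ : Subgroup M, IsCoatom K₀ ∧ (⟨_, hin⟩ : M) ∉ K₀ := by
    by_contra hcon
    push Not at hcon
    refine hout ⟨⟨_, hin⟩, ?_, rfl⟩
    simp only [SetLike.mem_coe, frattini, Order.radical, Subgroup.mem_iInf]
    exact hcon
  set K := K₀.map M.subtype with hK
  have hKM : K ≤ M := Subgroup.map_subtype_le _
  have hKi : K.index = p ^ 2 := by
    rw [hK, Subgroup.index_map_subtype, CfsgLib.TwoGroups.index_eq_of_isCoatom (hS.to_subgroup M) hK₀,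
      hMi, sq]
  set N := K.normalCore with hN
  have hyN : (commMap z)^[p - 1] x ∉ N := fun h => by
    obtain ⟨w, hw, hwe⟩ := K.normalCore_le h
    exact hyK ((Subtype.ext hwe : w = ⟨_, hin⟩) ▸ hw)
  -- the core has index at least `p ^ (p + 1)`
  have hbound : p ^ (p + 1) ≤ N.index := by
    by_contra hlt
    obtain ⟨e, he⟩ := hS.index N
    rw [he] at hlt
    have hep : e ≤ p := by
      have := (Nat.pow_lt_pow_iff_right hp.out.one_lt).1 (not_le.1 hlt)
      omega
    let π := QuotientGroup.mk' N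
    have hQ : IsPGroup p (S ⧸ N) := hS.to_quotient N
    refine hyN ((QuotientGroup.eq_one_iff _).1 ?_)
    show π ((commMap z)^[p - 1] x) = 1
    rw [commMap_map]
    haveI hLn : (M.map π).Normal :=
      (inferInstance : M.Normal).map π (QuotientGroup.mk'_surjective N)
    have he0 : 0 < e := by
      rcases Nat.eq_zero_or_pos e with h0 | h0
      · exfalso
        have h1 := Subgroup.index_dvd_of_le (K.normalCore_le)
        rw [← hN, he, h0, pow_zero, hKi, Nat.dvd_one] at h1
        exact hp.out.ne_one ((pow_eq_one_iff.1 h1).resolve_right two_ne_zero)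
      · exact h0
    have hLi : (M.map π).index = p := by
      rw [Subgroup.index_map_eq _ (QuotientGroup.mk'_surjective N)
        (by rw [QuotientGroup.ker_mk']; exact (K.normalCore_le).trans hKM), hMi]
    have hLc : Nat.card (M.map π) ≤ p ^ (p - 1) := by
      have h1 := Subgroup.card_mul_index (M.map π)
      rw [hLi, ← Subgroup.index_eq_card, he] at h1
      obtain ⟨e', rfl⟩ := Nat.exists_eq_succ_of_ne_zero he0.ne'
      rw [pow_succ] at h1
      rw [Nat.eq_of_mul_eq_mul_right hp.out.pos h1]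
      exact Nat.pow_le_pow_right hp.out.pos (by omega)
    obtain ⟨p', hp'⟩ : ∃ p', p - 1 = p' + 1 := ⟨p - 2, by have := hp.out.two_le; omega⟩
    rw [hp'] at hLc ⊢
    by_cases hzM : z ∈ M
    · -- then the first commutator lies deep in `M`
      rw [Function.iterate_succ_apply]
      refine iterate_eq_one hQ _ p' _ inferInstance (card_commutator_le hQ (M.map π) hLc) _ ?_
      have := inv_mem (Subgroup.commutator_mem_commutator
        (inv_mem (Subgroup.mem_map_of_mem π hzM)) (Subgroup.mem_top (π x)⁻¹))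
      rwa [show commMap (π z) (π x) = ⁅(π z)⁻¹, (π x)⁻¹⁆⁻¹ by
        simp only [commMap, commutatorElement_def]; group]
    · -- move `x` into `M`
      have htop : Subgroup.zpowers z ⊔ M = ⊤ := hM.2 _ (lt_of_le_of_ne le_sup_right fun h =>
        hzM (h ▸ Subgroup.mem_sup_left (Subgroup.mem_zpowers z)))
      obtain ⟨y, hy, m, hm, rfl⟩ := Subgroup.mem_sup_of_normal_right.1
        (htop ▸ Subgroup.mem_top x)
      obtain ⟨i, rfl⟩ := Subgroup.mem_zpowers_iff.1 hy
      rw [Function.iterate_succ_apply, show commMap (π z) (π (z ^ i * m)) = commMap (π z) (π m) by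
        simp only [commMap, map_mul, map_zpow]; group, ← Function.iterate_succ_apply]
      exact iterate_eq_one hQ _ _ _ inferInstance hLc _ (Subgroup.mem_map_of_mem π hm)
  -- the action on the cosets of `K`
  have hcard : Nat.card (S ⧸ K) = Nat.card (Fin (p ^ 2)) := by
    rw [← Subgroup.index_eq_card, hKi, Nat.card_fin]
  let ε : S ⧸ K ≃ Fin (p ^ 2) := (Finite.card_eq.1 hcard).some
  let ψ : S →* Equiv.Perm (Fin (p ^ 2)) :=
    ε.permCongrHom.toMonoidHom.comp (MulAction.toPermHom S (S ⧸ K))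
  have hψker : ψ.ker = N := by
    rw [hN, Subgroup.normalCore_eq_ker]
    ext g
    rw [MonoidHom.mem_ker, MonoidHom.mem_ker]
    exact map_eq_one_iff _ ε.permCongrHom.injective
  have hR : IsPGroup p ψ.range := hS.of_surjective ψ.rangeRestrict ψ.rangeRestrict_surjective
  obtain ⟨P, hP⟩ := hR.exists_le_sylow
  have hPcard : Nat.card (P : Subgroup (Equiv.Perm (Fin (p ^ 2)))) = p ^ (p + 1) := by
    rw [Sylow.card_eq_multiplicity, Nat.card_perm, Nat.card_fin, sq,
      Nat.factorization_factorial_mul hp.out]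
    have h1 := Nat.factorization_factorial_mul (n := 1) hp.out
    rw [mul_one, Nat.factorial_one, Nat.factorization_one, Finsupp.coe_zero, Pi.zero_apply,
      zero_add] at h1
    rw [h1, add_comm]
  have heq : (P : Subgroup (Equiv.Perm (Fin (p ^ 2)))) = ψ.range := by
    refine (Subgroup.eq_of_le_of_card_ge hP ?_).symm
    rw [hPcard, ← Subgroup.index_ker, hψker]
    exact hbound
  refine ⟨P, ψ.codRestrict _ fun s => hP ⟨s, rfl⟩, ?_⟩
  rintro ⟨y, hy⟩
  rw [heq] at hy
  obtain ⟨s, rfl⟩ := hy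
  exact ⟨s, rfl⟩

/-- Let S be a Sylow p-subgroup of the finite group G. If S ∩ G' ≠ S ∩ (N_G(S))' (derived subgroups), then the wreath product Z_p ≀ Z_p — realised as a Sylow p-subgroup of the symmetric group of degree p² — is a homomorphic image of S. -/
theorem result {G : Type*} [Group G] [Finite G] {p : ℕ} [Fact p.Prime] (S : Sylow p G) (h : (S : Subgroup G) ⊓ commutator G ≠ (S : Subgroup G) ⊓ ⁅Subgroup.normalizer ((S : Subgroup G) : Set G), Subgroup.normalizer ((S : Subgroup G) : Set G)⁆) : ∃ (P : Sylow p (Equiv.Perm (Fin (p ^ 2)))) (f : ↥(S : Subgroup G) →* ↥(P : Subgroup (Equiv.Perm (Fin (p ^ 2))))), Function.Surjective f := by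
  have hW : Cfsg.IsWeaklyClosed (S : Subgroup G) (S : Subgroup G) :=
    ⟨le_rfl, fun g hg => Subgroup.eq_of_le_of_card_ge hg
      (Subgroup.card_map_of_injective (MulAut.conj g).injective).ge⟩
  obtain ⟨x, hx, z, hz, W₀, hW₀, hin, hout⟩ := Cfsg.Agent.S2792.result S (S : Subgroup G) hW h
  have hval : (((commMap (⟨z, hz⟩ : (S : Subgroup G)))^[p - 1] ⟨x, hx⟩ : (S : Subgroup G)) : G) =
      (fun y : G => y⁻¹ * z⁻¹ * y * z)^[p - 1] x :=
    commMap_map (S : Subgroup G).subtype _ _ _
  obtain ⟨w, hw, hwe⟩ := hin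
  have hwe' : (commMap (⟨z, hz⟩ : (S : Subgroup G)))^[p - 1] ⟨x, hx⟩ = w :=
    Subtype.ext (hval.trans hwe.symm)
  refine exists_surjective S.2 ⟨x, hx⟩ ⟨z, hz⟩ W₀ hW₀ (hwe' ▸ hw) fun hmem => hout ?_
  rw [← hval]
  exact ⟨_, hmem, rfl⟩

end Cfsg.Agent.S2807
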