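import Cfsg.Statements.S5225
import Cfsg.Agent.S2807
import Cfsg.Agent.S5098
import Cfsg.Agent.S5224
import Cfsg.Agent.Lib.Cores.YoshidaCocycle
-- import your own Cfsg.Agent.* helpers here

set_option autoImplicit false
open Cfsg

namespace Cfsg.Agent.S5225

set_option linter.style.haveILetI false

open Cfsg.FusionSystem CfsgLib.Alperin CfsgLib.FusionExamples CfsgLib.FusionExamples.Biset
  CfsgLib.FusionExamples.Monomial CfsgLib.FusionBasics.PPower CfsgLib.FusionExamples.Marks

universe u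

theorem exists_wreath {Ω : Type u} [Group Ω] {S : Subgroup Ω} [Finite S] {p : ℕ} [hp : Fact p.Prime]
    (hS : IsPGroup p S) {F : Cfsg.FusionSystem S} (hF : F.IsSaturated p) (M : Cfsg.FusionSystem S)
    (hMs : M.IsSaturated p) (hMF : M.IsSubsystemOf F)
    (haut : ∀ (P : Subgroup Ω) (φ : P →* Ω), φ ∈ F.Hom P → P = S → φ ∈ M.Hom P)
    (hne : M.focalSubgroup ≠ F.focalSubgroup) :
    ∃ (W : Sylow p (Equiv.Perm (Fin (p ^ 2)))) (f : ↥S →* ↥(W : Subgroup (Equiv.Perm (Fin (p ^ 2))))),
      Function.Surjective f := by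
  classical
  have hfocS : ∀ E : Cfsg.FusionSystem S, E.focalSubgroup ≤ S := fun E => by
    refine (Subgroup.closure_le _).mpr ?_
    rintro _ ⟨P, φ, x, hφ, rfl⟩
    exact S.mul_mem (S.inv_mem (dom_le hφ x.2)) (apply_mem hφ x)
  have hfocle : M.focalSubgroup ≤ F.focalSubgroup := by
    refine (Subgroup.closure_le _).mpr ?_
    rintro _ ⟨P, φ, x, hφ, rfl⟩
    exact Subgroup.subset_closure ⟨P, φ, x, hMF P hφ, rfl⟩
  set K : Subgroup S := ((frattini ↥S).map S.subtype ⊔ M.focalSubgroup).subgroupOf S with hK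
  have hΦK : frattini ↥S ≤ K := fun x hx =>
    Subgroup.mem_subgroupOf.2 (Subgroup.mem_sup_left (Subgroup.mem_map_of_mem S.subtype hx))
  have hKc : commutator S ≤ K := (CfsgLib.PGroups.commutator_le_frattini hS).trans hΦK
  haveI hKn : K.Normal := ⟨fun x hx g => by
    have h := K.mul_mem (hKc (Subgroup.commutator_mem_commutator (Subgroup.mem_top g)
      (Subgroup.mem_top x))) hx
    rwa [commutatorElement_def, inv_mul_cancel_right] at h⟩
  letI : CommGroup (S ⧸ K) := { (inferInstance : Group (S ⧸ K)) with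
    mul_comm := by
      rintro ⟨a⟩ ⟨b⟩
      refine QuotientGroup.eq.2 (hKc ?_)
      rw [commutator_def]
      have h := Subgroup.commutator_mem_commutator (Subgroup.mem_top b⁻¹) (Subgroup.mem_top a⁻¹)
      simpa [commutatorElement_def, mul_assoc] using h }
  let θ : S →* S ⧸ K := QuotientGroup.mk' K
  have hA : ∀ a : S ⧸ K, a ^ p = 1 := by
    rintro ⟨a⟩
    exact (QuotientGroup.eq_one_iff _).2 (hΦK (CfsgLib.PGroups.pow_mem_frattini hS a))
  -- a detected element of least order
  obtain ⟨s, ⟨hsf, hs⟩, hmin⟩ : ∃ s : S, ((s : Ω) ∈ F.focalSubgroup ∧ θ s ≠ 1) ∧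
      ∀ v : S, (v : Ω) ∈ F.focalSubgroup → θ v ≠ 1 → orderOf s ≤ orderOf v := by
    obtain ⟨s, hs, hmin⟩ := Set.exists_min_image {s : S | (s : Ω) ∈ F.focalSubgroup ∧ θ s ≠ 1}
      orderOf (Set.toFinite _) (by
        by_contra hemp
        rw [Set.not_nonempty_iff_eq_empty] at hemp
        refine hne ((Cfsg.Agent.S5224.result p hS F hF M hMs hMF).1.1 ?_).symm
        refine le_antisymm (sup_le le_sup_left fun x hx => ?_) (sup_le_sup_left hfocle _)
        by_contra hxK
        exact Set.eq_empty_iff_forall_notMem.1 hemp ⟨x, hfocS F hx⟩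
          ⟨hx, fun h => hxK (Subgroup.mem_subgroupOf.1 ((QuotientGroup.eq_one_iff _).1 h))⟩)
    exact ⟨s, hs, fun v h1 h2 => hmin v ⟨h1, h2⟩⟩
  -- the biset
  obtain ⟨m, hm, d, hd, hmcard⟩ := exists_stable_saturated hS hF (isCentral_bot F)
  have hfree : ∀ (b : S) (x : RightSet m), b • x = x → b = 1 := by
    intro b x hb
    have h1 : ((1 : S), b) ∈ MulAction.stabilizer (↥S × ↥S) (show MSet m from x) := hb
    exact congrArg Prod.snd
      ((stabilizer_mem (isCentral_bot F) hm.1 (show MSet m from x)).2.fst_injective h1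
        (one_mem _) rfl)
  haveI : Finite (Orb S (RightSet m)) := Quotient.finite _
  letI := Fintype.ofFinite (Orb S (RightSet m))
  have hn : ¬ p ∣ Nat.card (Orb S (RightSet m)) := by
    have h : Nat.card (RightSet m) = Nat.card (Orb S (RightSet m)) * Nat.card S := by
      rw [← Nat.card_prod]
      exact Nat.card_congr
        { toFun := fun x => (orb x, co x)
          invFun := fun q => q.2 • sec q.1
          left_inv := fun x => co_spec x
          right_inv := fun q => by
            obtain ⟨h1, h2⟩ := eq_of_smul_sec hfree (x := q.2 • sec q.1) rfl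
            exact Prod.ext h1 h2 }
    rwa [Nat.eq_of_mul_eq_mul_right Nat.card_pos (h.symm.trans hmcard)]
  let L := leftHom m
  letI := orbAction hfree
  letI actS : MulAction S (Orb S (RightSet m)) := MulAction.compHom _ L
  have hsmul : ∀ (v : S) (y : Orb S (RightSet m)), v • y = orbMove (L v) y := fun _ _ => rfl
  let f : S → Orb S (RightSet m) → S ⧸ K := fun v y => θ (coeff (L v) y)
  have hf : ∀ u v y, f (u * v) y = f v y * f u (v • y) := fun u v y => by
    show θ _ = θ _ * θ _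
    rw [← map_mul θ, map_mul L, (move_mul hfree _ _ _).2, ← hsmul]
  -- the graphs at the stabilisers
  have hgraph : ∀ y : Orb S (RightSet m), ∃ (P : Subgroup Ω) (χ : P →* Ω), χ ∈ F.Hom P ∧
      ∀ v : S, v • y = y → ∃ h : (v : Ω) ∈ P, χ ⟨v, h⟩ = (((coeff (L v) y)⁻¹ : S) : Ω) := by
    intro y
    obtain ⟨χ, hχ, hχx⟩ :=
      (stabilizer_mem (isCentral_bot F) hm.1 (show MSet m from (sec y : RightSet m))).2
    refine ⟨_, χ, hχ, fun v hv => ?_⟩
    have h1 := apply_sec (L v) y
    rw [hsmul] at hv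
    rw [hv] at h1
    have hstab : ((v, (coeff (L v) y)⁻¹) : ↥S × ↥S) ∈
        MulAction.stabilizer (↥S × ↥S) (show MSet m from (sec y : RightSet m)) := by
      rw [MulAction.mem_stabilizer_iff,
        show ((v, (coeff (L v) y)⁻¹) : ↥S × ↥S) =
          ((1 : S), (coeff (L v) y)⁻¹) * ((v, 1) : ↥S × ↥S) from
            Prod.ext (one_mul _).symm (mul_one _).symm, mul_smul]
      show (coeff (L v) y)⁻¹ • ((L v : Equiv.Perm (RightSet m)) (sec y)) = sec y
      rw [h1, inv_smul_smul]
    exact ⟨fst_mem hstab, hχx _ hstab⟩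
  choose P χ hχ hχv using hgraph
  have hfix : ∀ y, (∀ v : S, v • y = y) → ∀ v, f v y = θ⁻¹ v := by
    intro y hy v
    have hP : P y = S := le_antisymm (dom_le (hχ y)) fun w hw => (hχv y ⟨w, hw⟩ (hy _)).1
    obtain ⟨hv, hve⟩ := hχv y v (hy v)
    have h1 : (((v⁻¹ * (coeff (L v) y)⁻¹ : S)) : Ω) ∈ M.focalSubgroup :=
      Subgroup.subset_closure ⟨_, χ y, ⟨v, hv⟩, haut _ _ (hχ y) hP, by rw [hve]; rfl⟩
    have h2 : θ (v⁻¹ * (coeff (L v) y)⁻¹) = 1 :=
      (QuotientGroup.eq_one_iff _).2 (Subgroup.mem_subgroupOf.2 (Subgroup.mem_sup_right h1))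
    rw [map_mul, map_inv, map_inv, ← mul_inv_rev, inv_eq_one] at h2
    exact eq_inv_of_mul_eq_one_left h2
  have hkill : ∀ (q : ℕ) (y : Orb S (RightSet m)), p ∣ q → s ^ q • y = y → f (s ^ q) y = 1 := by
    intro q y hq hy
    obtain ⟨hv, hve⟩ := hχv y _ hy
    set x := s ^ q with hx
    set c := (coeff (L x) y)⁻¹ with hc
    have hcf : (c : Ω) ∈ F.focalSubgroup := by
      have h1 : (x : Ω)⁻¹ * (c : Ω) ∈ F.focalSubgroup :=
        Subgroup.subset_closure ⟨_, χ y, ⟨x, hv⟩, hχ y, by rw [hve]⟩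
      have h2 := F.focalSubgroup.mul_mem
        (show (x : Ω) ∈ F.focalSubgroup by rw [hx, SubmonoidClass.coe_pow]; exact pow_mem hsf q) h1
      rwa [mul_inv_cancel_left] at h2
    have hlt : orderOf c < orderOf s := by
      have e : orderOf c = orderOf x := by
        rw [← Subgroup.orderOf_coe, ← hve, orderOf_injective (χ y) (F.injective_of_mem (hχ y)),
          ← Subgroup.orderOf_coe]
        exact Subgroup.orderOf_coe x
      have hs1 : s ≠ 1 := fun h => hs (by rw [h, map_one])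
      obtain ⟨k, hk⟩ := hS s
      obtain ⟨i, -, hi⟩ := (Nat.dvd_prime_pow hp.out).1 (orderOf_dvd_of_pow_eq_one hk)
      have hi0 : i ≠ 0 := fun h => hs1 (orderOf_eq_one_iff.1 (by rw [hi, h, pow_zero]))
      have hdvd : p ∣ orderOf s := hi ▸ dvd_pow_self p hi0
      rw [e, hx, orderOf_pow]
      exact Nat.div_lt_self (orderOf_pos _) (lt_of_lt_of_le hp.out.one_lt
        (Nat.le_of_dvd (Nat.gcd_pos_of_pos_left _ (orderOf_pos _)) (Nat.dvd_gcd hdvd hq)))
    have h3 : θ c = 1 := by
      by_contra h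
      exact absurd (hmin c hcf h) (not_le.2 hlt)
    rw [hc, map_inv, inv_eq_one] at h3
    exact h3
  have htot : ∏ y, f s y = 1 := by
    let t : S →* S ⧸ K := (transfer hfree θ).comp L
    have hfoc : F.focalSubgroup ≤ t.ker.map S.subtype := by
      refine (Subgroup.closure_le _).mpr ?_
      rintro _ ⟨Q, φ, x, hφ, rfl⟩
      obtain ⟨g, hg⟩ := exists_conj_leftHom (isCentral_bot F) hm hφ bot_le
      refine ⟨(⟨x, dom_le hφ x.2⟩ : ↥S)⁻¹ * ⟨φ x, apply_mem hφ x⟩, ?_, rfl⟩
      show t _ = 1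
      rw [map_mul, map_inv]
      show (transfer hfree θ _)⁻¹ * transfer hfree θ _ = 1
      rw [show L ⟨φ x, apply_mem hφ x⟩ = _ from hg x, map_mul, map_mul, map_inv,
        mul_comm (transfer hfree θ g), mul_inv_cancel_right, inv_mul_cancel]
    obtain ⟨s', hs', he⟩ := hfoc hsf
    rw [show s' = s from Subtype.ext he] at hs'
    exact hs'
  obtain ⟨z, M₀, hM₀, hin, hout⟩ := CfsgLib.Cores.exists_iterate_of_cocycle hS hA hf θ⁻¹ hfix hn s
    hkill (by rwa [MonoidHom.inv_apply, ne_eq, inv_eq_one]) htot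
  exact Cfsg.Agent.S2807.exists_surjective hS s z M₀ hM₀ hin hout

/-- Yoshida's Theorem for fusion systems. Let F be a saturated fusion system over a finite p-group S and N the normalizer fusion system of S in F. If the focal subgroups of F and N differ (N does not control transfer in F), then S has a quotient isomorphic to the wreath product C_p ≀ C_p (realised as a Sylow p-subgroup of the symmetric group of degree p²). -/
theorem result {Ω : Type*} [Group Ω] {S : Subgroup Ω} [Finite S] (p : ℕ) [Fact p.Prime] (hS : IsPGroup p S) (F : Cfsg.FusionSystem S) (hF : F.IsSaturated p) (N : Cfsg.FusionSystem (Cfsg.FusionSystem.normalizerIn S S)) (hN : F.IsNormalizerSystem S N) (hne : N.focalSubgroup ≠ F.focalSubgroup) : ∃ (W : Sylow p (Equiv.Perm (Fin (p ^ 2)))) (f : ↥S →* ↥(W : Subgroup (Equiv.Perm (Fin (p ^ 2))))), Function.Surjective f := by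
  have hnS : Cfsg.FusionSystem.normalizerIn S S = S :=
    le_antisymm inf_le_left fun x hx => ⟨hx, Subgroup.le_normalizer hx⟩
  have hfull : F.IsFullyNormalized S := by
    refine ⟨le_rfl, fun Q _ => ?_⟩
    rw [hnS]
    exact Subgroup.card_le_of_le inf_le_left
  have hNs := Cfsg.Agent.S5098.result p hS F hF S hfull N hN
  have key : ∀ (T : Subgroup Ω) (M : Cfsg.FusionSystem T), T = S → M.IsSaturated p →
      (∀ P, M.Hom P ⊆ F.Hom P) →
      (∀ (P : Subgroup Ω) (φ : P →* Ω), φ ∈ F.Hom P → P = S → φ ∈ M.Hom P) →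
      M.focalSubgroup ≠ F.focalSubgroup →
      ∃ (W : Sylow p (Equiv.Perm (Fin (p ^ 2))))
        (f : ↥S →* ↥(W : Subgroup (Equiv.Perm (Fin (p ^ 2))))), Function.Surjective f := by
    rintro T M rfl hM hMF haut hne
    exact exists_wreath hS hF M hM hMF haut hne
  refine key _ N hnS hNs (fun P φ hφ => ?_) ?_ hne
  · rw [hN P] at hφ
    exact hφ.1
  intro P φ hφ hPS
  subst hPS
  rw [hN P]
  refine ⟨hφ, hnS.ge, fun x => hnS.ge (CfsgLib.Alperin.apply_mem hφ x),
    φ.comp (Subgroup.inclusion (sup_le le_rfl le_rfl)),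
    CfsgLib.Alperin.restrict_mem hφ _, fun x => rfl, ?_⟩
  refine Subgroup.eq_of_le_of_card_ge ?_ ?_
  · rintro _ ⟨x, -, rfl⟩
    exact CfsgLib.Alperin.apply_mem hφ _
  · rw [Subgroup.card_map_of_injective (F.injective_of_mem (CfsgLib.Alperin.restrict_mem hφ _)),
      Nat.card_congr (Subgroup.subgroupOfEquivOfLe (le_sup_right : P ≤ P ⊔ P)).toEquiv]

end Cfsg.Agent.S5225
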