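import Cfsg.Statements.S0899
import Cfsg.Agent.Lib.RealChar.SmallDegreeSylow

set_option autoImplicit false
open Cfsg

namespace Cfsg.Agent.S0899

theorem transfer {p : ℕ} [Fact p.Prime] {A B : Type*} [Group A] [Group B] [Finite A] [Finite B]
    (e : A ≃* B) (h : ∀ Q : Sylow p B, (Q : Subgroup B).Normal) (Q : Sylow p A) :
    (Q : Subgroup A).Normal := by
  have hn := h (Q.mapSurjective (f := e.toMonoidHom) e.surjective)
  have := hn.comap e.toMonoidHom
  have h2 : ((Q : Subgroup A).map e.toMonoidHom).comap e.toMonoidHom = (Q : Subgroup A) :=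
    Subgroup.comap_map_eq_self_of_injective e.injective _
  exact h2 ▸ this

theorem main (p : ℕ) [Fact p.Prime] (n : ℕ) (hnp : n + 1 < p) :
    ∀ (c : ℕ) {G : Type*} [Group G] [Finite G], Nat.card G = c →
      ∀ (ρ : Representation ℂ G (Fin n → ℂ)), Function.Injective ρ →
      ((n + 1) ^ 2 ≤ p ∨ ∀ K : Subgroup G, ¬ p ^ 2 ∣ Nat.card K →
        ∀ Q : Sylow p K, (Q : Subgroup K).Normal) →
      ∀ P : Sylow p G, (P : Subgroup G).Normal := by
  intro c
  induction c using Nat.strong_induction_on with
  | _ c ih =>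
    intro G _ _ hc ρ hρ h P
    have hsub : ∀ K : Subgroup G, K ≠ ⊤ → ∀ Q : Sylow p K, (Q : Subgroup K).Normal := by
      intro K hK
      refine ih (Nat.card K) (hc ▸ ?_) rfl (ρ.comp K.subtype)
        (hρ.comp Subtype.val_injective) (h.imp id ?_)
      · exact lt_of_le_of_ne (Subgroup.card_le_card_group K)
          fun e => hK ((Subgroup.card_eq_iff_eq_top K).mp e)
      · intro h' L hL Q
        let e := Subgroup.equivMapOfInjective L K.subtype Subtype.val_injective
        exact transfer e (h' _ (by rwa [← Nat.card_congr e.toEquiv])) Q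
    rcases h with h | h
    · exact CfsgLib.RealChar.normal_sylow_step n ρ hρ hnp hsub (Or.inl h) P
    by_cases hd : p ^ 2 ∣ Nat.card G
    · exact CfsgLib.RealChar.normal_sylow_step n ρ hρ hnp hsub (Or.inr hd) P
    · exact transfer Subgroup.topEquiv.symm (h ⊤ (by rwa [Nat.card_congr Subgroup.topEquiv.toEquiv])) P

/-- Let G be a finite group with a faithful complex representation of degree n (on Fin n → ℂ) and p a prime. Suppose either that (n + 1) ^ 2 ≤ p, or that n + 1 < p and every subgroup of G whose order is not divisible by p ^ 2 has a normal Sylow p-subgroup. Then every Sylow p-subgroup of G is normal. -/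
theorem result {G : Type*} [Group G] [Finite G] (n : ℕ) (ρ : Representation ℂ G (Fin n → ℂ)) (hρ : Function.Injective ρ) (p : ℕ) [Fact p.Prime] (h : (n + 1) ^ 2 ≤ p ∨ (n + 1 < p ∧ ∀ K : Subgroup G, ¬ p ^ 2 ∣ Nat.card K → ∀ Q : Sylow p K, (Q : Subgroup K).Normal)) (P : Sylow p G) : (P : Subgroup G).Normal := by
  have hp : p.Prime := Fact.out
  have hnp : n + 1 < p := by
    rcases h with h | ⟨h, -⟩
    · rcases Nat.eq_zero_or_pos n with h0 | h0
      · have := hp.two_le; omega
      · have : n + 1 < (n + 1) ^ 2 := by nlinarith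
        omega
    · exact h
  exact main p n hnp _ rfl ρ hρ (h.imp id fun h => h.2) P

end Cfsg.Agent.S0899
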