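import Cfsg.Statements.S4705
import Cfsg.Agent.Lib.SmallGroups.QuasiSimpleTop
-- import your own Cfsg.Agent.* helpers here

set_option autoImplicit false
open Cfsg

namespace Cfsg.Agent.S4705

open CfsgLib.CharTheory CfsgLib.Blocks CfsgLib.DefectOne CfsgLib.SmallGroups Finset

theorem zp_inj {p : ℕ} [Fact p.Prime] {a b : ZMod p} (h : zp a = zp b) : a = b :=
  ZMod.val_injective p ((zp_root (p := p)).pow_inj (ZMod.val_lt a) (ZMod.val_lt b) h)

/-- Let G be a finite group with centre Z and p > 5 a prime such that a Sylow p-subgroup of G has order p and is not normal. If G has a faithful irreducible character of degree p − 2, then p = 2^a + 1 for some a and G is isomorphic to the direct product of SL(2, 2^a) with Z. -/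
theorem result {G : Type*} [Group G] [Finite G] (p : ℕ) [Fact p.Prime] (hp : 5 < p) (P : Sylow p G) (hP : Nat.card P = p) (hnn : ¬ (P : Subgroup G).Normal) (ζ : G → ℂ) (hζ : Cfsg.IsIrrCharacter G ζ) (hfaith : ∀ g : G, ζ g = ζ 1 → g = 1) (hdeg : Cfsg.charDegree ζ = p - 2) : ∃ (a : ℕ) (F : Type) (_ : Field F) (_ : Fintype F), p = 2 ^ a + 1 ∧ Fintype.card F = 2 ^ a ∧ Nonempty (G ≃* Matrix.SpecialLinearGroup (Fin 2) F × Subgroup.center G) := by
  classical
  haveI := Fintype.ofFinite G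
  have hG : ExactPrime G p := exactPrime_of_sylow P hP
  have hprime : p.Prime := Fact.out
  have hnn' : ∀ H : Subgroup G, H.Normal → Nat.card H ≠ p := by
    intro H hH hc
    refine hnn ?_
    have hf : (Nat.card G).factorization p = 1 := by
      refine le_antisymm ?_ (hprime.factorization_pos_of_dvd Nat.card_pos.ne' hG.dvd)
      by_contra hlt
      push Not at hlt
      exact hG.sq ((hprime.pow_dvd_iff_le_factorization Nat.card_pos.ne').2 hlt)
    let Q : Sylow p G := Sylow.ofCard H (by rw [hc, hf, pow_one])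
    haveI : (Q : Subgroup G).Normal := hH
    haveI := Sylow.unique_of_normal Q hH
    rw [show (P : Subgroup G) = H from congrArg (fun R : Sylow p G => (R : Subgroup G)) (Subsingleton.elim P Q)]
    exact hH
  obtain ⟨u₀, hu₀⟩ := exists_prime_orderOf_dvd_card' (G := G) p hG.dvd
  obtain ⟨S, hS⟩ := exists_sect (QuasiSimple.exactPrime_pClosure (p := p) hG)
    (u := (⟨u₀, QuasiSimple.mem_pClosure hu₀⟩ : QuasiSimple.pClosure G p))
    (by rw [Subgroup.orderOf_mk, hu₀])
  have hcd : Cfsg.charDegree ζ + 1 < p := by omega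
  have h := QuasiSimple.hyp_pClosure hG hnn' hζ hfaith hcd S
  set ψ := fun k : QuasiSimple.pClosure G p => ζ k with hψ
  have htop : Cfsg.charDegree ψ + 2 = p := by
    show Cfsg.charDegree ζ + 2 = p
    omega
  obtain ⟨hbot, a, F, iF, jF, hpa, hFc, ⟨iso⟩⟩ := h.sl_two htop hp
  obtain ⟨l, hl⟩ := h.exists_label htop hp
  -- the section in the whole group
  obtain ⟨T, hT⟩ := exists_sect hG (u := (S.u : G)) (by rw [Subgroup.orderOf_coe, S.ord])
  obtain ⟨M, hM⟩ := exists_isPModular_of_prime hprime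
  haveI := isPrime_of_isPModular hM
  haveI := Fintype.ofFinite (IrrCharacter T.V)
  let χ : IrrCharacter G := ⟨ζ, hζ⟩
  have hval : ∀ i : (ZMod p)ˣ, ζ (T.u ^ (i : ZMod p).val)
      = -(zp ((l : ZMod p) * (i : ZMod p)) + zp (-((l : ZMod p) * (i : ZMod p)))) := fun i => by
    rw [hT, ← SubmonoidClass.coe_pow]
    exact hl i
  have hTV : ∀ v : T.V, (v : G) ∈ Subgroup.center G := by
    have hnat : ∀ φ : IrrCharacter T.V, ∃ n : ℕ, row T ζ φ 0 = (n : ℂ) := fun φ => by
      obtain ⟨d, ρ, hρ⟩ := IsIrrCharacter.isCharacter hζ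
      obtain ⟨n, hn⟩ := IsCharacter.exists_classInner_eq_nat (χ := fun v : T.V => ζ v)
        ⟨d, ρ.comp T.V.subtype, funext fun k => congrFun hρ k⟩ φ
      refine ⟨n, ?_⟩
      rw [row, ← hn]
      simp only [pow_zero, one_mul]
    choose n hn using hnat
    choose m hm using fun φ => row_zero_eq hG T χ φ
    have hA : ∀ φ, row T ζ φ 0 + ∑ i, rowU T χ φ i = (p : ℂ) * (m φ : ℂ) := fun φ => by
      rw [sum_dfun_eq hG, show row T ζ φ 0 = _ from hm φ]
      ring
    have hval0 : ∀ i : ℕ, ζ (T.u ^ i) = ∑ φ : IrrCharacter T.V, row T ζ φ i * (φ : T.V → ℂ) 1 := fun i => by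
      rw [← apply_eq_sum_row T (IsIrrCharacter.isClassFunction hζ) i 1, OneMemClass.coe_one, mul_one]
    have hdn : (∑ φ : IrrCharacter T.V, n φ * Cfsg.charDegree (φ : T.V → ℂ)) = p - 2 := by
      refine Nat.cast_injective (R := ℂ) ?_
      push_cast
      rw [sum_congr rfl fun φ _ => by rw [← hn, charDegree_cast φ], ← hval0, pow_zero,
        ← show (Cfsg.charDegree ζ : ℂ) = ζ 1 from charDegree_cast χ, hdeg]
    have hmsum : (∑ φ : IrrCharacter T.V, m φ * Cfsg.charDegree (φ : T.V → ℂ)) = 1 := by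
      refine Nat.cast_injective (R := ℂ) (mul_left_cancel₀ (Nat.cast_ne_zero.2 hprime.ne_zero : (p : ℂ) ≠ 0) ?_)
      push_cast
      rw [mul_sum, sum_congr rfl fun φ _ => by rw [← mul_assoc, ← hA φ, charDegree_cast φ, add_mul, sum_mul],
        sum_add_distrib, sum_comm, ← hval0]
      simp only [rowU]
      rw [sum_congr rfl (s₂ := (univ : Finset (ZMod p)ˣ)) fun i _ => (hval0 (i : ZMod p).val).symm.trans (hval i),
        pow_zero, ← show (Cfsg.charDegree ζ : ℂ) = ζ 1 from charDegree_cast χ, hdeg]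
      simp only [sum_neg_distrib, sum_add_distrib, ← neg_mul, sum_units_zp hG, if_neg (Units.ne_zero l),
        if_neg (show ¬ -(l : ZMod p) = 0 from fun h0 => l.ne_zero (neg_eq_zero.1 h0))]
      rw [Nat.cast_sub (by omega : 2 ≤ p)]
      push_cast
      ring
    obtain ⟨φ₀, -, hφ₀⟩ : ∃ φ₀ ∈ (univ : Finset (IrrCharacter T.V)), m φ₀ * Cfsg.charDegree (φ₀ : T.V → ℂ) ≠ 0 :=
      exists_ne_zero_of_sum_ne_zero (by rw [hmsum]; exact one_ne_zero)
    have huniq : ∀ φ, m φ ≠ 0 → φ = φ₀ := fun φ hφ => by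
      by_contra hne
      have h1 : ∑ x ∈ ({φ, φ₀} : Finset (IrrCharacter T.V)), m x * Cfsg.charDegree (x : T.V → ℂ) ≤ 1 :=
        hmsum ▸ sum_le_sum_of_subset_of_nonneg (subset_univ _) fun _ _ _ => Nat.zero_le _
      rw [sum_pair hne] at h1
      have := Nat.pos_of_ne_zero (mul_ne_zero hφ (charDegree_ne_zero' φ))
      omega
    have hφm : m φ₀ = 1 ∧ Cfsg.charDegree (φ₀ : T.V → ℂ) = 1 := by
      have h1 : m φ₀ * Cfsg.charDegree (φ₀ : T.V → ℂ) ≤ 1 :=
        hmsum ▸ single_le_sum (f := fun φ => m φ * Cfsg.charDegree (φ : T.V → ℂ)) (fun _ _ => Nat.zero_le _)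
          (mem_univ φ₀)
      have h2 : m φ₀ * Cfsg.charDegree (φ₀ : T.V → ℂ) = 1 := by omega
      exact ⟨Nat.eq_one_of_mul_eq_one_right h2, Nat.eq_one_of_mul_eq_one_left h2⟩
    have hinv : ∀ y : T.N, y • φ₀ = φ₀ := fun y => by
      obtain ⟨c, hc⟩ := T.exists_unit_conj y
      refine huniq _ ?_
      have h1 : row T ζ (y • φ₀) 0 + ∑ i, rowU T χ (y • φ₀) i = row T ζ φ₀ 0 + ∑ i, rowU T χ φ₀ i := by
        congr 1
        · have := T.row_smul χ y φ₀ hc 0
          rwa [mul_zero] at this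
        · rw [← Equiv.sum_comp (Equiv.mulLeft c) (rowU T χ (y • φ₀))]
          refine sum_congr rfl fun i _ => ?_
          rw [Equiv.coe_mulLeft, rowU, rowU, ← T.row_smul χ y φ₀ hc]
          show row T _ _ _ = row T _ _ _
          rw [row, row]
          congr 1
          funext v
          rw [Units.val_mul, T.pow_val_mul]
      rw [hA, hA, hφm.1] at h1
      intro h0
      rw [h0, Nat.cast_zero, mul_zero, Nat.cast_one, mul_one] at h1
      exact hprime.ne_zero (Nat.cast_eq_zero.1 h1.symm)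
    have hU : ∃ i, rowU T χ φ₀ i ≠ 0 := by
      by_contra hno
      push Not at hno
      have h1 := hA φ₀
      rw [sum_eq_zero fun i _ => hno i, add_zero, hn, hφm.1, Nat.cast_one, mul_one, Nat.cast_inj] at h1
      have h2 : n φ₀ * Cfsg.charDegree (φ₀ : T.V → ℂ) ≤ p - 2 :=
        hdn ▸ single_le_sum (f := fun φ => n φ * Cfsg.charDegree (φ : T.V → ℂ)) (fun _ _ => Nat.zero_le _)
          (mem_univ φ₀)
      rw [hφm.2, mul_one] at h2
      omega
    have hT0 : rowT hG T χ φ₀ ≠ 0 := (count hG T hM φ₀).1 χ hU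
    have hzero : ∀ φ, φ ≠ φ₀ → row T ζ φ 0 = 0 := fun φ hφ => by
      have hT' : rowT hG T χ φ = 0 := by
        by_contra hne
        obtain ⟨y, hy⟩ := (rowT_spec hG T hM χ).2 φ₀ φ hT0 hne
        exact hφ (hy.symm.trans (hinv y))
      have hU' : ∀ i, rowU T χ φ i = 0 := fun i => by
        by_contra hne
        exact (count hG T hM φ).1 χ ⟨i, hne⟩ hT'
      have h1 := hA φ
      rw [sum_eq_zero fun i _ => hU' i, add_zero] at h1
      rw [h1, Classical.not_not.1 fun hne => hφ (huniq φ hne), Nat.cast_zero, mul_zero]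
    intro v
    have hv : ζ v = (p - 2 : ℕ) * (φ₀ : T.V → ℂ) v := by
      have h1 := apply_eq_sum_row T (IsIrrCharacter.isClassFunction hζ) 0 v
      rw [pow_zero, one_mul, sum_eq_single φ₀ (fun φ _ hφ => by rw [hzero φ hφ, zero_mul]) (by simp)] at h1
      have h2 := hval0 0
      rw [pow_zero, sum_eq_single φ₀ (fun φ _ hφ => by rw [hzero φ hφ, zero_mul]) (by simp),
        ← show (Cfsg.charDegree ζ : ℂ) = ζ 1 from charDegree_cast χ, ← charDegree_cast φ₀, hφm.2,
        Nat.cast_one, mul_one, hdeg] at h2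
      rw [h1, h2]
    obtain ⟨d, ρ, hρirr, hρ⟩ := hζ
    have hd : p - 2 = d := by
      rw [← hdeg, Cfsg.charDegree, ← hρ, Representation.char_one, Module.finrank_fin_fun, Complex.natCast_re,
        Nat.floor_natCast]
    have hnorm : ‖(φ₀ : T.V → ℂ) v‖ = 1 := by
      obtain ⟨d', σ, hσirr, hσ⟩ := φ₀.2
      have hd' : 1 = d' := by
        rw [← hφm.2, Cfsg.charDegree, ← hσ, Representation.char_one, Module.finrank_fin_fun, Complex.natCast_re,
          Nat.floor_natCast]
      subst hd'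
      obtain ⟨ι, hι, b, μ, hcard, hμ, -, hchar⟩ := exists_eigenbasis σ v
      rw [hσ] at hchar
      have h1 := hchar 1
      rw [pow_one] at h1
      rw [Module.finrank_fin_fun] at hcard
      obtain ⟨i₀, hi₀⟩ := Fintype.card_eq_one_iff.1 hcard
      rw [h1, Fintype.sum_eq_single i₀ (fun i hi => absurd (hi₀ i) hi), pow_one]
      exact norm_eq_one_of_pow_eq_one' (orderOf_pos v).ne' (hμ i₀)
    obtain ⟨c, hc⟩ := (norm_character_eq_iff ρ (v : G)).1 (by
      rw [hρ, hv, norm_mul, hnorm, mul_one, Complex.norm_natCast, Module.finrank_fin_fun, hd])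
    refine Subgroup.mem_center_iff.2 fun g => ?_
    have h1 : ρ (g * v * g⁻¹ * (v : G)⁻¹) = 1 := by
      have h2 : ρ g * ρ (v : G) = ρ (v : G) * ρ g := by rw [hc, mul_smul_comm, smul_mul_assoc]; rfl
      rw [map_mul, map_mul, map_mul, h2, mul_assoc (ρ (v : G)), ← map_mul ρ g, mul_inv_cancel,
        map_one, mul_one, ← map_mul, mul_inv_cancel, map_one]
    have h3 := hfaith (g * v * g⁻¹ * (v : G)⁻¹) (by
      rw [← hρ]
      show LinearMap.trace ℂ _ (ρ _) = LinearMap.trace ℂ _ (ρ 1)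
      rw [h1, ρ.map_one])
    rwa [mul_inv_eq_one, mul_inv_eq_iff_eq_mul] at h3
  -- the product
  have hcov : ∀ g : G, ∃ k ∈ (QuasiSimple.pClosure G p), ∃ z ∈ Subgroup.center G, g = k * z := by
    have hcase : ∀ y : G, y * T.u = T.u * y → ∃ k ∈ (QuasiSimple.pClosure G p), ∃ z ∈ Subgroup.center G, y = k * z := fun y hy => by
      obtain ⟨x, hx, v, hv⟩ := exists_decomp T.ord hG.sq hM T.V.subtype T.range_subtype hy
      refine ⟨x, (Subgroup.zpowers_le.2 ?_) hx, v, hTV v, hv⟩
      rw [hT]; exact S.u.2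
    obtain ⟨y₀, hy₀⟩ := h.exists_inverting htop hp
    have hy₀' : (y₀ : G) * T.u * (y₀ : G)⁻¹ = T.u⁻¹ := by
      rw [hT, ← Subgroup.coe_inv, ← Subgroup.coe_mul, ← Subgroup.coe_mul, hy₀, Subgroup.coe_inv]
    intro g
    have ho : orderOf (g * T.u * g⁻¹) = p := by
      rw [show orderOf (g * T.u * g⁻¹) = orderOf T.u from
        orderOf_injective (MulAut.conj g).toMonoidHom (MulAut.conj g).injective T.u, T.ord]
    obtain ⟨c, i, v, hi, hcv⟩ := S.exists_conj_sect (QuasiSimple.exactPrime_pClosure hG)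
      (g := (⟨g * T.u * g⁻¹, QuasiSimple.mem_pClosure ho⟩ : QuasiSimple.pClosure G p))
      (by rw [Subgroup.orderOf_mk, ho])
    have hv1 : (v : QuasiSimple.pClosure G p) = 1 := Subgroup.mem_bot.1 (hbot ▸ h.center_eq.ge v.2)
    rw [hv1, mul_one] at hcv
    set y := (c : G) * g with hy
    have hyu : y * T.u * y⁻¹ = T.u ^ i := by
      have h1 := congrArg Subtype.val hcv
      simp only [Subgroup.coe_mul, Subgroup.coe_inv, SubmonoidClass.coe_pow] at h1
      rw [hT] at h1 ⊢
      rw [← h1, hy]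
      group
    set i' : (ZMod p)ˣ := Units.mk0 (i : ZMod p) (fun h0 => hi ((ZMod.natCast_eq_zero_iff _ _).1 h0)) with hi'
    have hpow : T.u ^ i = T.u ^ (i' : ZMod p).val := by
      rw [hi', Units.val_mk0, ZMod.val_natCast, pow_mod_u T]
    have hsame : ζ (T.u ^ (i' : ZMod p).val) = ζ (T.u ^ ((1 : (ZMod p)ˣ) : ZMod p).val) := by
      rw [Units.val_one, ZMod.val_one, pow_one, ← hpow, ← hyu]
      exact IsIrrCharacter.isClassFunction hζ T.u y
    rw [hval, hval, neg_inj, Units.val_one, mul_one] at hsame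
    have hii : (i' : ZMod p) = 1 ∨ (i' : ZMod p) = -1 := by
      set A := zp ((l : ZMod p) * (i' : ZMod p)) with hA
      set B := zp (l : ZMod p) with hB
      have hA' : A * zp (-((l : ZMod p) * (i' : ZMod p))) = 1 := by rw [hA, ← zp_add, add_neg_cancel, zp_zero]
      have hB' : B * zp (-(l : ZMod p)) = 1 := by rw [hB, ← zp_add, add_neg_cancel, zp_zero]
      have hfac : (A - B) * (A * B - 1) = 0 := by
        linear_combination (A * B) * hsame - B * hA' + A * hB'
      rcases mul_eq_zero.1 hfac with h1 | h1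
      · left
        have h2 := zp_inj (sub_eq_zero.1 h1)
        exact mul_left_cancel₀ l.ne_zero (h2.trans (mul_one _).symm)
      · right
        have h2 : zp ((l : ZMod p) * (i' : ZMod p) + (l : ZMod p)) = zp (0 : ZMod p) := by
          rw [zp_add, zp_zero]; exact sub_eq_zero.1 h1
        have h3 := zp_inj h2
        refine mul_left_cancel₀ l.ne_zero ?_
        linear_combination h3
    have hyK : ∃ k ∈ (QuasiSimple.pClosure G p), ∃ z ∈ Subgroup.center G, y = k * z := by
      rcases hii with h1 | h1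
      · refine hcase y ?_
        rw [hpow, h1, ZMod.val_one, pow_one, mul_inv_eq_iff_eq_mul] at hyu
        exact hyu
      · have hinv : T.u ^ (i' : ZMod p).val = T.u⁻¹ := by
          refine eq_inv_of_mul_eq_one_left ?_
          rw [← pow_succ, ← orderOf_dvd_iff_pow_eq_one, T.ord, ← ZMod.natCast_eq_zero_iff, Nat.cast_add,
            ZMod.natCast_zmod_val, Nat.cast_one, h1, neg_add_cancel]
        rw [hpow, hinv] at hyu
        obtain ⟨k, hk, z, hz, hkz⟩ := hcase ((y₀ : G) * y) (by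
          rw [← mul_inv_eq_iff_eq_mul]
          calc (y₀ : G) * y * T.u * ((y₀ : G) * y)⁻¹ = (y₀ : G) * (y * T.u * y⁻¹) * (y₀ : G)⁻¹ := by group
            _ = (y₀ : G) * T.u⁻¹ * (y₀ : G)⁻¹ := by rw [hyu]
            _ = ((y₀ : G) * T.u * (y₀ : G)⁻¹)⁻¹ := by group
            _ = T.u := by rw [hy₀', inv_inv])
        refine ⟨(y₀ : G)⁻¹ * k, (QuasiSimple.pClosure G p).mul_mem ((QuasiSimple.pClosure G p).inv_mem y₀.2) hk, z, hz, ?_⟩
        rw [mul_assoc, ← hkz, inv_mul_cancel_left]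
    obtain ⟨k, hk, z, hz, hkz⟩ := hyK
    refine ⟨(c : G)⁻¹ * k, (QuasiSimple.pClosure G p).mul_mem ((QuasiSimple.pClosure G p).inv_mem c.2) hk, z, hz, ?_⟩
    rw [mul_assoc, ← hkz, hy, inv_mul_cancel_left]
  let f : (QuasiSimple.pClosure G p) × Subgroup.center G →* G :=
    MonoidHom.noncommCoprod (QuasiSimple.pClosure G p).subtype (Subgroup.center G).subtype fun k z =>
      Subgroup.mem_center_iff.1 z.2 (k : G)
  have hfapp : ∀ x, f x = (x.1 : G) * (x.2 : G) := fun x => rfl
  have hinj : Function.Injective f := by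
    rw [← MonoidHom.ker_eq_bot_iff, Subgroup.eq_bot_iff_forall]
    rintro ⟨k, z⟩ hkz
    rw [MonoidHom.mem_ker, hfapp] at hkz
    have hk1 : k = 1 := by
      rw [← Subgroup.mem_bot, ← hbot, Subgroup.mem_center_iff]
      intro k'
      refine Subtype.ext ?_
      have hkz' : (k : G) = (z : G)⁻¹ := eq_inv_of_mul_eq_one_left hkz
      rw [Subgroup.coe_mul, Subgroup.coe_mul, hkz']
      exact Subgroup.mem_center_iff.1 (Subgroup.inv_mem _ z.2) (k' : G)
    subst hk1
    simp only [OneMemClass.coe_one, one_mul] at hkz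
    exact Prod.ext rfl (Subtype.ext hkz)
  have hsurj : Function.Surjective f := fun g => by
    obtain ⟨k, hk, z, hz, hkz⟩ := hcov g
    exact ⟨(⟨k, hk⟩, ⟨z, hz⟩), hkz.symm⟩
  exact ⟨a, F, iF, jF, hpa, hFc,
    ⟨(MulEquiv.ofBijective f ⟨hinj, hsurj⟩).symm.trans (iso.prodCongr (MulEquiv.refl _))⟩⟩

end Cfsg.Agent.S4705
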