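import Cfsg.Statements.S1695
import Cfsg.Agent.Lib.SporRecognition.Cert.He2058.Main
import Cfsg.Agent.Lib.SporRecognition.Cert.He2058.Orbits
import Cfsg.Agent.Lib.SporRecognition.Cert.He2058.Lower
import Cfsg.Agent.Lib.SporRecognition.Cert.He49980.Upper
import Cfsg.Agent.Lib.SporRecognition.Cert.He672.Upper
import Cfsg.Agent.Lib.SporRecognition.Cert.He120.Upper


set_option autoImplicit false
open Cfsg

namespace Cfsg.Agent.S1695

open CfsgLib.SporRecognition.CosetCert

theorem upper : Finite (PresentedGroup (Cfsg.Spor.coxRelators Cfsg.Spor.He.edges ∪ {r | r ∈ Cfsg.Spor.He.extra})) ∧ Nat.card (PresentedGroup (Cfsg.Spor.coxRelators Cfsg.Spor.He.edges ∪ {r | r ∈ Cfsg.Spor.He.extra})) ≤ 4030387200 := by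
  have b0 : Bound (Cfsg.Spor.coxRelators Cfsg.Spor.He.edges ∪ {r | r ∈ Cfsg.Spor.He.extra}) ([] : List (List (Cfsg.Spor.He.Gen × Bool))) 1 := bound_nil
  have b1 : Bound (Cfsg.Spor.coxRelators Cfsg.Spor.He.edges ∪ {r | r ∈ Cfsg.Spor.He.extra}) (([.a, .c, .d, .e] : List Cfsg.Spor.He.Gen).map fun a => [(a, true)]) 120 :=
    (Bound.extend (WH := CfsgLib.SporRecognition.Cert.He120.subW) b0 ([.a, .c, .d, .e] : List Cfsg.Spor.He.Gen) (by decide +kernel) 120 (by decide) CfsgLib.SporRecognition.Cert.He120.tabU CfsgLib.SporRecognition.Cert.He120.sect).mono (by decide)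
  have b2 : Bound (Cfsg.Spor.coxRelators Cfsg.Spor.He.edges ∪ {r | r ∈ Cfsg.Spor.He.extra}) (([.a, .c, .d, .e, .f, .g] : List Cfsg.Spor.He.Gen).map fun a => [(a, true)]) 80640 :=
    (Bound.extend (WH := CfsgLib.SporRecognition.Cert.He672.subW) b1 ([.a, .c, .d, .e, .f, .g] : List Cfsg.Spor.He.Gen) (by decide +kernel) 672 (by decide) CfsgLib.SporRecognition.Cert.He672.tabU CfsgLib.SporRecognition.Cert.He672.sect).mono (by decide)
  have b3 : Bound (Cfsg.Spor.coxRelators Cfsg.Spor.He.edges ∪ {r | r ∈ Cfsg.Spor.He.extra}) (([.a, .b, .c, .d, .e, .f, .g] : List Cfsg.Spor.He.Gen).map fun a => [(a, true)]) 4030387200 :=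
    (Bound.extend (WH := CfsgLib.SporRecognition.Cert.He49980.subW) b2 ([.a, .b, .c, .d, .e, .f, .g] : List Cfsg.Spor.He.Gen) (by decide +kernel) 49980 (by decide) CfsgLib.SporRecognition.Cert.He49980.tabU CfsgLib.SporRecognition.Cert.He49980.sect).mono (by decide)
  exact Bound.card_le b3 (fun a => by cases a <;> decide)

theorem labs_lt : allBelow 12 2058 (fun u => Nat.blt (CfsgLib.SporRecognition.Cert.He2058.lab u) 5) = true := by decide +kernel

theorem blocks : ∀ s ∈ (Finset.range 5).powerset, CfsgLib.SporRecognition.Cert.He2058.lab 0 ∈ s →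
    (∑ l ∈ s, ([1, 1360, 425, 136, 136] : List Nat).getD l 0) ∣ 2058 → s = {CfsgLib.SporRecognition.Cert.He2058.lab 0} ∨ s = Finset.range 5 := by
  rw [show CfsgLib.SporRecognition.Cert.He2058.lab 0 = 0 by decide +kernel]
  decide +kernel

theorem sizes_ok : ∀ l, (hl : l < ([1, 1360, 425, 136, 136] : List Nat).length) →
    {u : Fin 2058 | CfsgLib.SporRecognition.Cert.He2058.lab u = l}.ncard = ([1, 1360, 425, 136, 136] : List Nat)[l] := by
  intro l hl
  rw [ncard_lab (d := 12) (by decide)]
  have hl' : l < 5 := hl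
  interval_cases l
  · exact CfsgLib.SporRecognition.Cert.He2058.size0
  · exact CfsgLib.SporRecognition.Cert.He2058.size1
  · exact CfsgLib.SporRecognition.Cert.He2058.size2
  · exact CfsgLib.SporRecognition.Cert.He2058.size3
  · exact CfsgLib.SporRecognition.Cert.He2058.size4

/-- The presented Held group is simple of the expected order (that is, it is a simple group of the order of the Held group). -/
theorem result : Cfsg.IsHe Cfsg.Spor.He := by
  obtain ⟨hfin, hup⟩ := upper
  haveI := hfin
  exact simple_and_card_of_cert CfsgLib.SporRecognition.Cert.He2058.certified (by decide) 4030387200 hup CfsgLib.SporRecognition.Cert.He2058.subT rfl CfsgLib.SporRecognition.Cert.He2058.subT_spec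
    CfsgLib.SporRecognition.Cert.He2058.lab CfsgLib.SporRecognition.Cert.He2058.root CfsgLib.SporRecognition.Cert.He2058.rk CfsgLib.SporRecognition.Cert.He2058.via CfsgLib.SporRecognition.Cert.He2058.src CfsgLib.SporRecognition.Cert.He2058.lab_spec (allBelow_spec CfsgLib.SporRecognition.Cert.He2058.orbChk) (by decide +kernel)
    [1, 1360, 425, 136, 136] (fun u hu => by simpa [Nat.blt_eq] using allBelow_spec labs_lt u hu) sizes_ok blocks
    (by decide +kernel) 7 (by norm_num) (by norm_num) CfsgLib.SporRecognition.Cert.He2058.seedW CfsgLib.SporRecognition.Cert.He2058.seedT rfl CfsgLib.SporRecognition.Cert.He2058.seed_ok CfsgLib.SporRecognition.Cert.He2058.lower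

end Cfsg.Agent.S1695
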