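import Cfsg.Statements.S1694
import Cfsg.Agent.Lib.SporRecognition.Cert.Suz1782.Main
import Cfsg.Agent.Lib.SporRecognition.Cert.Suz1782.Orbits
import Cfsg.Agent.Lib.SporRecognition.Cert.Suz1782.Lower
import Cfsg.Agent.Lib.SporRecognition.Cert.SuzG416.Upper
import Cfsg.Agent.Lib.SporRecognition.Cert.SuzJ280.Upper
import Cfsg.Agent.Lib.SporRecognition.Cert.Suz2160.Upper


set_option autoImplicit false
open Cfsg

namespace Cfsg.Agent.S1694

open CfsgLib.SporRecognition.CosetCert

theorem upper : Finite (PresentedGroup (Cfsg.Spor.coxRelators Cfsg.Spor.Suz.edges ∪ {r | r ∈ Cfsg.Spor.Suz.extra})) ∧ Nat.card (PresentedGroup (Cfsg.Spor.coxRelators Cfsg.Spor.Suz.edges ∪ {r | r ∈ Cfsg.Spor.Suz.extra})) ≤ 448345497600 := by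
  have b0 : Bound (Cfsg.Spor.coxRelators Cfsg.Spor.Suz.edges ∪ {r | r ∈ Cfsg.Spor.Suz.extra}) ([] : List (List (Cfsg.Spor.Suz.Gen × Bool))) 1 := bound_nil
  have b1 : Bound (Cfsg.Spor.coxRelators Cfsg.Spor.Suz.edges ∪ {r | r ∈ Cfsg.Spor.Suz.extra}) (([.a, .b, .c, .d] : List Cfsg.Spor.Suz.Gen).map fun a => [(a, true)]) 2160 :=
    (Bound.extend (WH := CfsgLib.SporRecognition.Cert.Suz2160.subW) b0 ([.a, .b, .c, .d] : List Cfsg.Spor.Suz.Gen) (by decide +kernel) 2160 (by decide) CfsgLib.SporRecognition.Cert.Suz2160.tabU CfsgLib.SporRecognition.Cert.Suz2160.sect).mono (by decide)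
  have b2 : Bound (Cfsg.Spor.coxRelators Cfsg.Spor.Suz.edges ∪ {r | r ∈ Cfsg.Spor.Suz.extra}) (([.a, .b, .c, .d, .e] : List Cfsg.Spor.Suz.Gen).map fun a => [(a, true)]) 604800 :=
    (Bound.extend (WH := CfsgLib.SporRecognition.Cert.SuzJ280.subW) b1 ([.a, .b, .c, .d, .e] : List Cfsg.Spor.Suz.Gen) (by decide +kernel) 280 (by decide) CfsgLib.SporRecognition.Cert.SuzJ280.tabU CfsgLib.SporRecognition.Cert.SuzJ280.sect).mono (by decide)
  have b3 : Bound (Cfsg.Spor.coxRelators Cfsg.Spor.Suz.edges ∪ {r | r ∈ Cfsg.Spor.Suz.extra}) (([.a, .b, .c, .d, .e, .f] : List Cfsg.Spor.Suz.Gen).map fun a => [(a, true)]) 251596800 :=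
    (Bound.extend (WH := CfsgLib.SporRecognition.Cert.SuzG416.subW) b2 ([.a, .b, .c, .d, .e, .f] : List Cfsg.Spor.Suz.Gen) (by decide +kernel) 416 (by decide) CfsgLib.SporRecognition.Cert.SuzG416.tabU CfsgLib.SporRecognition.Cert.SuzG416.sect).mono (by decide)
  have b4 : Bound (Cfsg.Spor.coxRelators Cfsg.Spor.Suz.edges ∪ {r | r ∈ Cfsg.Spor.Suz.extra}) (([.a, .b, .c, .d, .e, .f, .g] : List Cfsg.Spor.Suz.Gen).map fun a => [(a, true)]) 448345497600 := by
    obtain ⟨s, h0, h1⟩ := CfsgLib.SporRecognition.Cert.Suz1782.certified.sect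
    exact (Bound.extend (WH := CfsgLib.SporRecognition.Cert.Suz1782.subW) b3 ([.a, .b, .c, .d, .e, .f, .g] : List Cfsg.Spor.Suz.Gen) (by decide +kernel) 1782 (by decide) (fun a => CfsgLib.SporRecognition.Cert.Suz1782.tabs a true)
      ⟨s, h0, fun a _ u hu => ⟨(CfsgLib.SporRecognition.Cert.Suz1782.tablesOK a true u hu).1, h1 a u hu⟩⟩).mono (by decide)
  exact Bound.card_le b4 (fun a => by cases a <;> decide)

theorem labs_lt : allBelow 11 1782 (fun u => Nat.blt (CfsgLib.SporRecognition.Cert.Suz1782.lab u) 3) = true := by decide +kernel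

theorem blocks : ∀ s ∈ (Finset.range 3).powerset, CfsgLib.SporRecognition.Cert.Suz1782.lab 0 ∈ s →
    (∑ l ∈ s, ([1, 1365, 416] : List Nat).getD l 0) ∣ 1782 → s = {CfsgLib.SporRecognition.Cert.Suz1782.lab 0} ∨ s = Finset.range 3 := by
  rw [show CfsgLib.SporRecognition.Cert.Suz1782.lab 0 = 0 by decide +kernel]
  decide +kernel

theorem sizes_ok : ∀ l, (hl : l < ([1, 1365, 416] : List Nat).length) →
    {u : Fin 1782 | CfsgLib.SporRecognition.Cert.Suz1782.lab u = l}.ncard = ([1, 1365, 416] : List Nat)[l] := by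
  intro l hl
  rw [ncard_lab (d := 11) (by decide)]
  have hl' : l < 3 := hl
  interval_cases l
  · exact CfsgLib.SporRecognition.Cert.Suz1782.size0
  · exact CfsgLib.SporRecognition.Cert.Suz1782.size1
  · exact CfsgLib.SporRecognition.Cert.Suz1782.size2

/-- The presented sporadic Suzuki group is simple of the expected order (that is, it is a simple group of the order of the sporadic Suzuki group). -/
theorem result : Cfsg.IsSuz Cfsg.Spor.Suz := by
  obtain ⟨hfin, hup⟩ := upper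
  haveI := hfin
  exact simple_and_card_of_cert CfsgLib.SporRecognition.Cert.Suz1782.certified (by decide) 448345497600 hup CfsgLib.SporRecognition.Cert.Suz1782.subT rfl CfsgLib.SporRecognition.Cert.Suz1782.subT_spec
    CfsgLib.SporRecognition.Cert.Suz1782.lab CfsgLib.SporRecognition.Cert.Suz1782.root CfsgLib.SporRecognition.Cert.Suz1782.rk CfsgLib.SporRecognition.Cert.Suz1782.via CfsgLib.SporRecognition.Cert.Suz1782.src CfsgLib.SporRecognition.Cert.Suz1782.lab_spec (allBelow_spec CfsgLib.SporRecognition.Cert.Suz1782.orbChk) (by decide +kernel)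
    [1, 1365, 416] (fun u hu => by simpa [Nat.blt_eq] using allBelow_spec labs_lt u hu) sizes_ok blocks
    (by decide +kernel) 11 (by norm_num) (by norm_num) CfsgLib.SporRecognition.Cert.Suz1782.seedW CfsgLib.SporRecognition.Cert.Suz1782.seedT rfl CfsgLib.SporRecognition.Cert.Suz1782.seed_ok CfsgLib.SporRecognition.Cert.Suz1782.lower

end Cfsg.Agent.S1694
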