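import Cfsg.Statements.S1475
import Cfsg.Agent.Lib.OrderDegrees.Coclique

set_option autoImplicit false
open Cfsg

namespace Cfsg.Agent.S1475

/-- Let G be a finite solvable group such that the order of every element is a prime power (1 included). Then at most two distinct primes divide the order of G. -/
theorem result {G : Type*} [Group G] [Finite G] [Group.IsSolvable G] (h : ∀ g : G, IsPrimePow (orderOf g) ∨ g = 1) :
    (Nat.card G).primeFactors.card ≤ 2 := by
  by_contra hcard
  obtain ⟨r, hr, s, hs, t, ht, hrs, hrt, hst⟩ := Finset.two_lt_card.mp (not_le.mp hcard)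
  have key : ∀ a b : ℕ, a.Prime → b.Prime → a ≠ b → ¬ ∃ x : G, orderOf x = a * b := by
    rintro a b ha hb hab ⟨x, hx⟩
    rcases h x with hpp | rfl
    · rw [hx] at hpp
      obtain ⟨q, k, hq, -, hqk⟩ := (isPrimePow_nat_iff _).mp hpp
      have h1 := (Nat.prime_dvd_prime_iff_eq ha hq).mp (ha.dvd_of_dvd_pow (hqk ▸ dvd_mul_right a b))
      have h2 := (Nat.prime_dvd_prime_iff_eq hb hq).mp (hb.dvd_of_dvd_pow (hqk ▸ dvd_mul_left b a))
      exact hab (h1.trans h2.symm)
    · rw [orderOf_one] at hx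
      exact ha.one_lt.ne' (Nat.eq_one_of_mul_eq_one_right hx.symm)
  rw [Nat.mem_primeFactors] at hr hs ht
  refine CfsgLib.OrderDegrees.false_of_solvable_coclique (⊤ : Subgroup G) ?_ hr.1 hs.1 ht.1 hrs hrt hst
    (key _ _ hr.1 hs.1 hrs) (key _ _ hr.1 ht.1 hrt) (key _ _ hs.1 ht.1 hst)
    (by rw [Subgroup.card_top]; exact hr.2.1) (by rw [Subgroup.card_top]; exact hs.2.1) ht.2.1
  infer_instance

end Cfsg.Agent.S1475
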