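import Cfsg.Statements.S0183
import Cfsg.Agent.Lib.Frobenius.CN.Local
import Cfsg.Agent.Lib.Frobenius.CN.Quotient
import Cfsg.Agent.Lib.Frobenius.CN.Main
import Cfsg.Agent.Lib.Frobenius.CA.Group

set_option autoImplicit false
open Cfsg

namespace Cfsg.Agent.S0183

open scoped Pointwise
open CfsgLib.Frobenius.CN

universe u

variable {G : Type u} [Group G]

/-- Nilpotent subgroups containing the centralizers of their non-identity elements. -/
abbrev Closed (G : Type u) [Group G] :=
  {M : Subgroup G // M ≠ ⊥ ∧ Group.IsNilpotent M ∧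
    ∀ a ∈ M, a ≠ 1 → Subgroup.centralizer ({a} : Set G) ≤ M}

theorem closed_eq [Finite G] (M N : Closed G) {a : G} (ha : a ∈ M.1) (haN : a ∈ N.1) (ha1 : a ≠ 1) :
    M.1 = N.1 := by
  have key : ∀ M N : Closed G, a ∈ M.1 → a ∈ N.1 → M.1 ≤ N.1 := by
    intro M N haM haN x hx
    have := M.2.2.1
    have : Nontrivial M.1 := ⟨⟨⟨a, haM⟩, 1, fun e => ha1 (congrArg Subtype.val e)⟩⟩
    have := (Subgroup.nontrivial_iff_ne_bot _).2 (Group.IsNilpotent.center_ne_bot (G := M.1))
    obtain ⟨⟨z, hz⟩, hzne⟩ := exists_ne (1 : Subgroup.center M.1)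
    have hz1 : (z : G) ≠ 1 := fun e => hzne (Subtype.ext (Subtype.ext e))
    have hzc : ∀ b : M.1, (b : G) * z = z * b := fun b =>
      congrArg Subtype.val (Subgroup.mem_center_iff.1 hz b)
    have hzN : (z : G) ∈ N.1 := N.2.2.2 a haN ha1
      (Subgroup.mem_centralizer_singleton_iff.2 (hzc ⟨a, haM⟩).symm)
    exact N.2.2.2 z hzN hz1 (Subgroup.mem_centralizer_singleton_iff.2 (hzc ⟨x, hx⟩))
  exact le_antisymm (key M N ha haN) (key N M haN ha)

/-- Conjugation of closed subgroups. -/
def conjClosed (g : G) (M : Closed G) : Closed G :=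
  ⟨M.1.map (MulAut.conj g).toMonoidHom,
    fun h => M.2.1 ((Subgroup.map_eq_bot_iff_of_injective _ (MulAut.conj g).injective).1 h),
    haveI := M.2.2.1
    nilpotent_of_mulEquiv (M.1.equivMapOfInjective _ (MulAut.conj g).injective),
    by
      rintro _ ⟨a, ha, rfl⟩ ha1 c hc
      have ha1' : a ≠ 1 := fun e => ha1 (by rw [e, map_one])
      refine ⟨g⁻¹ * c * g, M.2.2.2 a ha ha1' (Subgroup.mem_centralizer_singleton_iff.2 ?_), ?_⟩
      · have h := Subgroup.mem_centralizer_singleton_iff.1 hc
        simp only [MulEquiv.coe_toMonoidHom, MulAut.conj_apply] at h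
        calc g⁻¹ * c * g * a = g⁻¹ * (c * (g * a * g⁻¹)) * g := by group
          _ = g⁻¹ * (g * a * g⁻¹ * c) * g := by rw [h]
          _ = a * (g⁻¹ * c * g) := by group
      · simp [mul_assoc]⟩

theorem mem_conjClosed {g x : G} {M : Closed G} :
    x ∈ (conjClosed g M).1 ↔ g⁻¹ * x * g ∈ M.1 := by
  show x ∈ M.1.map (MulAut.conj g).toMonoidHom ↔ _
  constructor
  · rintro ⟨a, ha, rfl⟩
    simpa [mul_assoc] using ha
  · intro h
    exact ⟨_, h, by simp [mul_assoc]⟩

/-- Conjugacy of closed subgroups. -/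
def rel (M N : Closed G) : Prop := ∃ g : G, ∀ x : G, x ∈ N.1 ↔ g⁻¹ * x * g ∈ M.1

theorem rel_equivalence : Equivalence (rel (G := G)) where
  refl M := ⟨1, by simp⟩
  symm := by
    rintro M N ⟨g, hg⟩
    refine ⟨g⁻¹, fun x => ?_⟩
    rw [hg]
    simp [mul_assoc]
  trans := by
    rintro M N L ⟨g, hg⟩ ⟨h, hh⟩
    refine ⟨h * g, fun x => ?_⟩
    rw [hh, hg]
    simp [mul_assoc]

theorem false_of_simple [Finite G] (hodd : Odd (Nat.card G)) (hCN : Cfsg.IsCNGroup G)
    [IsSimpleGroup G] (hne : ∃ a b : G, a * b ≠ b * a)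
    (hsol : ∀ H : Subgroup G, H ≠ ⊤ → Group.IsSolvable H) : False := by
  classical
  have : Fintype G := Fintype.ofFinite _
  have : Nontrivial G := IsSimpleGroup.toNontrivial
  let sd : Setoid (Closed G) := ⟨rel, rel_equivalence⟩
  have : Finite (Quotient sd) := Quotient.finite _
  have : Fintype (Quotient sd) := Fintype.ofFinite _
  have uniq : ∀ k l : Quotient sd, ∀ a ∈ k.out.1, a ≠ 1 → ∀ h : G, h⁻¹ * a * h ∈ l.out.1 →
      k = l := by
    intro k l a ha ha1 h hh
    have he := closed_eq k.out (conjClosed h l.out) ha (mem_conjClosed.2 hh) ha1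
    rw [← Quotient.out_eq k, ← Quotient.out_eq l]
    exact (Quotient.sound (s := sd) ⟨h, fun x => by rw [he]; exact mem_conjClosed⟩).symm
  have htop : ∀ M : Closed G, M.1 ≠ ⊤ := by
    intro M h
    have hn : Group.IsNilpotent (⊤ : Subgroup G) := h ▸ M.2.2.1
    have hG : Group.IsNilpotent G := nilpotent_of_mulEquiv Subgroup.topEquiv
    rcases Subgroup.Normal.eq_bot_or_eq_top
      (inferInstance : (Subgroup.center G).Normal) with e | e
    · exact Group.IsNilpotent.center_ne_bot (G := G) e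
    · obtain ⟨a, b, hab⟩ := hne
      exact hab (Subgroup.mem_center_iff.1 (e.symm ▸ Subgroup.mem_top b) a)
  refine false_of_system (G := G) (ι := Quotient sd)
    { A := fun k => k.out.1, hC := fun k => k.out.2.2.2, nilp := fun k => k.out.2.2.1,
      ne_bot := fun k => k.out.2.1, cover := ?_, uniq := uniq, coprime := ?_, one_lt := ?_ } hodd
  · intro g hg
    obtain ⟨M, hMn, hgM, hMC⟩ := exists_nilpotent_closed hodd hCN hne hsol hg
    let C : Closed G := ⟨M, fun e => hg (by rwa [e, Subgroup.mem_bot] at hgM), hMn, hMC⟩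
    obtain ⟨h, hh⟩ := Quotient.exact (Quotient.out_eq (Quotient.mk sd C))
    exact ⟨Quotient.mk sd C, h, (hh g).1 hgM⟩
  · intro k l hkl
    refine Nat.coprime_of_dvd fun p hp hk hl => hkl ?_
    have := Fact.mk hp
    obtain ⟨P, hP, a, haP, ha1⟩ := exists_sylow_le k.out.2.2.2 k.out.2.2.1 hk
    obtain ⟨Q, hQ, -⟩ := exists_sylow_le l.out.2.2.2 l.out.2.2.1 hl
    obtain ⟨g, hg⟩ := MulAction.exists_smul_eq G P Q
    refine uniq k l a (hP haP) ha1 g⁻¹ (hQ ?_)
    rw [← hg, inv_inv, Sylow.coe_subgroup_smul, Subgroup.mem_pointwise_smul_iff_inv_smul_mem,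
      ← map_inv, MulAut.smul_def, MulAut.conj_apply,
      show g⁻¹ * (g * a * g⁻¹) * g⁻¹⁻¹ = a by group]
    exact haP
  · intro k
    rcases Nat.lt_or_ge 1 (CfsgLib.Frobenius.CA.nIndex k.out.1) with h | h
    · exact h
    refine absurd (le_antisymm ?_ Subgroup.le_normalizer)
      (normalizer_ne k.out.2.2.2 k.out.2.2.1 k.out.2.1 (htop _))
    rw [← Subgroup.subgroupOf_eq_top, ← Subgroup.index_eq_one]
    have := CfsgLib.Frobenius.CN.nIndex_pos k.out.1
    exact le_antisymm h this

theorem main : ∀ (n : ℕ) (G : Type u) [Group G] [Finite G], Nat.card G = n →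
    Odd (Nat.card G) → Cfsg.IsCNGroup G → Group.IsSolvable G := by
  intro n
  induction n using Nat.strong_induction_on with
  | _ n ih =>
    intro G _ _ hn hodd hCN
    by_cases hc : ∀ a b : G, a * b = b * a
    · exact Group.isSolvable_of_comm hc
    push Not at hc
    have hsub : ∀ E : Subgroup G, Cfsg.IsCNGroup E := by
      intro E x hx
      have hx1 : (x : G) ≠ 1 := fun e => hx (Subtype.ext e)
      have := hCN x hx1
      let f := (E.subtype.comp (Subgroup.centralizer ({x} : Set E)).subtype).codRestrict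
        (Subgroup.centralizer ({(x : G)} : Set G)) fun c =>
          Subgroup.mem_centralizer_singleton_iff.2
            (congrArg Subtype.val (Subgroup.mem_centralizer_singleton_iff.1 c.2))
      have hf : Function.Injective f := fun a b e =>
        Subtype.ext (Subtype.ext (congrArg Subtype.val e :))
      exact (Group.isNilpotent_congr (MonoidHom.ofInjective hf)).2 (Subgroup.isNilpotent _)
    have IH : ∀ E : Subgroup G, E ≠ ⊤ → Group.IsSolvable E := fun E hE =>
      ih _ (hn ▸ lt_of_le_of_ne E.card_le_card_group fun h => hE (E.eq_top_of_card_eq h)) E rfl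
        (hodd.of_dvd_nat E.card_subgroup_dvd_card) (hsub E)
    by_cases hN : ∃ N : Subgroup G, N.Normal ∧ N ≠ ⊥ ∧ N ≠ ⊤
    · obtain ⟨N, hNn, h1, h2⟩ := hN
      obtain ⟨M, hMn, hM, hMc⟩ :=
        CfsgLib.Frobenius.CA.exists_abelian_normal N h1 (IH N h2)
      obtain ⟨p, hp, hpd⟩ := Nat.exists_prime_and_dvd
        ((Subgroup.one_lt_card_iff_ne_bot M).2 hM).ne'
      have := Fact.mk hp
      let W : Subgroup G :=
        { carrier := {x | x ∈ M ∧ x ^ p = 1}
          one_mem' := ⟨M.one_mem, one_pow p⟩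
          mul_mem' := fun {x y} hx hy => ⟨M.mul_mem hx.1 hy.1, by
            have hc' : Commute x y := hMc x hx.1 y hy.1
            rw [hc'.mul_pow, hx.2, hy.2, one_mul]⟩
          inv_mem' := fun {x} hx => ⟨M.inv_mem hx.1, by rw [inv_pow, hx.2, inv_one]⟩ }
      have hWn : W.Normal := ⟨fun x hx g =>
        ⟨hMn.conj_mem x hx.1 g, by rw [conj_pow, hx.2]; group⟩⟩
      have hWp : IsPGroup p W := fun x => ⟨1, Subtype.ext (by rw [pow_one]; exact x.2.2)⟩
      have hW : W ≠ ⊥ := by
        obtain ⟨a, ha⟩ := exists_prime_orderOf_dvd_card' p hpd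
        intro h
        have hmem : (a : G) ∈ W := ⟨a.2, by
          rw [← Subgroup.coe_pow, ← ha, pow_orderOf_eq_one, Subgroup.coe_one]⟩
        rw [h, Subgroup.mem_bot] at hmem
        rw [← Subgroup.orderOf_coe, hmem, orderOf_one] at ha
        exact hp.ne_one ha.symm
      have hWc : ∀ a ∈ W, ∀ b ∈ W, a * b = b * a := fun a ha b hb => hMc a ha.1 b hb.1
      have hWs : Group.IsSolvable W :=
        Group.isSolvable_of_comm fun a b => Subtype.ext (hWc a a.2 b b.2)
      have hlt : Nat.card (G ⧸ W) < n := by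
        rw [← hn, ← Subgroup.index_eq_card, ← W.card_mul_index]
        exact lt_mul_left (Nat.pos_of_ne_zero W.index_ne_zero_of_finite)
          ((Subgroup.one_lt_card_iff_ne_bot W).2 hW)
      have := ih _ hlt (G ⧸ W) rfl
        (hodd.of_dvd_nat (Subgroup.card_quotient_dvd_card W))
        (isCNGroup_quotient hCN W hWc hWp hW)
      exact (Group.isSolvable_iff_subgroup_quotient W).2 ⟨hWs, this⟩
    · have : Nontrivial G := by
        obtain ⟨a, b, hab⟩ := hc
        exact ⟨a, 1, fun h => hab (by simp [h])⟩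
      have : IsSimpleGroup G := ⟨fun H hH => by
        by_contra h
        push Not at h
        exact hN ⟨H, hH, h.1, h.2⟩⟩
      exact (false_of_simple hodd hCN hc IH).elim


/-- The CN-Theorem for odd order: a finite group of odd order in which every non-identity element has a nilpotent centralizer (a CN-group) is solvable. -/
theorem result {G : Type*} [Group G] [Finite G] (hodd : Odd (Nat.card G)) (hCN : Cfsg.IsCNGroup G) : Group.IsSolvable G := by
  exact main _ G rfl hodd hCN

end Cfsg.Agent.S0183
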