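import Cfsg.Statements.S3784
import Mathlib


set_option autoImplicit false
open Cfsg

namespace Cfsg.Agent.S3784

lemma catalan_q_two (p a b : ℕ) (hp : p.Prime) (ha : 1 ≤ a) (hb : 1 ≤ b)
    (h : p ^ a = 2 ^ b + 1) :
    (a = 1 ∧ (∃ m : ℕ, b = 2 ^ m) ∧ p = 2 ^ b + 1) ∨ (p ^ a = 9 ∧ 2 ^ b = 8) := by
  have hodd : Odd (p ^ a) := by
    rw [h]; exact (Nat.even_pow.2 ⟨even_two, by omega⟩).add_one
  have hpodd : Odd p := (Nat.odd_pow_iff (by omega)).1 hodd
  have hp1 : 2 ≤ p := hp.two_le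
  rcases Nat.even_or_odd a with hae | hao
  · right
    obtain ⟨c, rfl⟩ := hae
    have hx1 : 1 ≤ p ^ c := Nat.one_le_pow _ _ (by omega)
    obtain ⟨x, hx⟩ : ∃ x, p ^ c = x + 1 := ⟨p ^ c - 1, by omega⟩
    have hm : x * (x + 2) = 2 ^ b := by
      have : (x + 1) * (x + 1) = 2 ^ b + 1 := by rw [← hx, ← pow_add, h]
      nlinarith
    obtain ⟨i, -, hi⟩ := (Nat.dvd_prime_pow Nat.prime_two).1 (Dvd.intro _ hm)
    obtain ⟨j, -, hj⟩ := (Nat.dvd_prime_pow Nat.prime_two).1 (Dvd.intro_left _ hm)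
    have hi1 : i = 1 := by
      have hlt : i < j := (Nat.pow_lt_pow_iff_right (by norm_num)).1 (by omega : 2 ^ i < 2 ^ j)
      have h2 : 2 ^ i ∣ 2 := by
        have := Nat.dvd_sub (pow_dvd_pow 2 hlt.le) (dvd_refl (2 ^ i))
        rwa [show 2 ^ j - 2 ^ i = 2 by omega] at this
      have h3 : i ≤ 1 := (Nat.pow_dvd_pow_iff_le_right (x := 2) (by norm_num)).1 (by simpa using h2)
      rcases Nat.lt_or_ge i 1 with h0 | h0
      · exfalso
        have : i = 0 := by omega
        subst this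
        have hx3 : x = 1 := by simpa using hi
        rw [hx3] at hm
        have : (3 : ℕ) = 2 ^ b := by omega
        have h4 : 2 ∣ 2 ^ b := dvd_pow_self 2 (by omega)
        omega
      · omega
    subst hi1
    have : x = 2 := by simpa using hi
    subst this
    refine ⟨?_, by omega⟩
    rw [pow_add, hx]; norm_num
  · left
    have hg := geom_sum_mul (p : ℤ) a
    have hso : Odd (∑ i ∈ Finset.range a, p ^ i) := by
      rw [Finset.odd_sum_iff_odd_card_odd]
      rw [Finset.filter_true_of_mem (fun i _ => hpodd.pow), Finset.card_range]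
      exact hao
    have hd : (∑ i ∈ Finset.range a, p ^ i) ∣ 2 ^ b := by
      refine ⟨p - 1, ?_⟩
      zify [show 1 ≤ p by omega]
      rw [hg]
      have : ((p : ℤ)) ^ a = 2 ^ b + 1 := by exact_mod_cast h
      omega
    obtain ⟨i, -, hi⟩ := (Nat.dvd_prime_pow Nat.prime_two).1 hd
    rw [hi] at hso
    have hi0 : i = 0 := by
      by_contra h0
      exact Nat.not_even_iff_odd.2 hso (Nat.even_pow.2 ⟨even_two, h0⟩)
    subst hi0
    have ha1 : a = 1 := by
      by_contra h1
      have : (∑ i ∈ Finset.range 2, p ^ i) ≤ ∑ i ∈ Finset.range a, p ^ i :=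
        Finset.sum_le_sum_of_subset (Finset.range_mono (by omega))
      simp [Finset.sum_range_succ] at this
      simp at hi
      omega
    subst ha1
    rw [pow_one] at h
    refine ⟨rfl, ?_, h⟩
    exact Nat.pow_of_pow_add_prime (by norm_num) (by omega) (h ▸ hp)


/-- Let p, q be primes and a, b positive integers with p^a = q^b + 1. Then either p = 2, b = 1, a is prime and q = 2^a − 1; or q = 2, a = 1, b is a power of 2 and p = 2^b + 1; or p^a = 9 and q^b = 8. -/
theorem result (p q a b : ℕ) (hp : p.Prime) (hq : q.Prime) (ha : 1 ≤ a) (hb : 1 ≤ b) (h : p ^ a = q ^ b + 1) : (p = 2 ∧ b = 1 ∧ a.Prime ∧ q + 1 = 2 ^ a) ∨ (q = 2 ∧ a = 1 ∧ (∃ m : ℕ, b = 2 ^ m) ∧ p = 2 ^ b + 1) ∨ (p ^ a = 9 ∧ q ^ b = 8) := by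
  have hq1 := hq.two_le
  rcases Nat.even_or_odd q with hqe | hqo
  · have hq2 : q = 2 := (Nat.Prime.even_iff hq).1 hqe
    subst hq2
    rcases catalan_q_two p a b hp ha hb h with h1 | h1
    · exact Or.inr (Or.inl ⟨rfl, h1⟩)
    · exact Or.inr (Or.inr h1)
  · left
    have hev : Even (p ^ a) := by rw [h]; exact (hqo.pow).add_one
    have hp2 : p = 2 := (Nat.Prime.even_iff hp).1 (Nat.even_pow.1 hev).1
    subst hp2
    have ha2 : 2 ≤ a := by
      by_contra h1
      have : a = 1 := by omega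
      subst this
      have : q ≤ q ^ b := Nat.le_self_pow (by omega) q
      omega
    have h4 : 4 ∣ 2 ^ a := ⟨2 ^ (a - 2), by rw [show (4:ℕ) = 2 ^ 2 by norm_num, ← pow_add]; congr 1; omega⟩
    have hbo : Odd b := by
      by_contra hbe
      obtain ⟨c, rfl⟩ := Nat.not_odd_iff_even.1 hbe
      obtain ⟨t, ht⟩ : Odd (q ^ c) := hqo.pow
      rw [pow_add, ht] at h
      obtain ⟨u, hu⟩ := h4
      have : 4 * u = 4 * (t * t + t) + 2 := by rw [← hu, h]; ring
      omega
    have hg := geom_sum_mul (-(q : ℤ)) b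
    rw [hbo.neg_pow] at hg
    set S := ∑ i ∈ Finset.range b, (-(q : ℤ)) ^ i with hS
    have hqb : S * ((q : ℤ) + 1) = 2 ^ a := by
      have : ((q : ℤ)) ^ b + 1 = 2 ^ a := by exact_mod_cast h.symm
      linarith
    have hSodd : Odd S := by
      have h2 : (q : ZMod 2) = 1 := ZMod.natCast_eq_one_iff_odd.2 hqo
      rw [← ZMod.intCast_eq_one_iff_odd, hS]
      push_cast
      rw [h2]
      simp [ZMod.natCast_eq_one_iff_odd.2 hbo]
    have hd : S.natAbs ∣ 2 ^ a := by
      have h' := Int.natAbs_dvd_natAbs.2 (Dvd.intro _ hqb)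
      simpa [Int.natAbs_pow] using h'
    obtain ⟨i, -, hi⟩ := (Nat.dvd_prime_pow Nat.prime_two).1 hd
    have hi0 : i = 0 := by
      by_contra h0
      have := Int.natAbs_odd.2 hSodd
      rw [hi] at this
      exact Nat.not_even_iff_odd.2 this (Nat.even_pow.2 ⟨even_two, h0⟩)
    subst hi0
    have hS1 : S = 1 := by
      rcases Int.natAbs_eq S with h1 | h1 <;> rw [hi] at h1 <;> simp at h1
      · exact h1
      · exfalso
        rw [h1] at hqb
        have : (0 : ℤ) < 2 ^ a := by positivity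
        omega
    rw [hS1, one_mul] at hqb
    have hqa : q + 1 = 2 ^ a := by exact_mod_cast hqb
    have hb1 : b = 1 := by
      have : q ^ b = q ^ 1 := by rw [pow_one]; omega
      exact Nat.pow_right_injective hq1 this
    have hpr : (2 ^ a - 1).Prime := by rwa [show 2 ^ a - 1 = q by omega]
    exact ⟨rfl, hb1, (Nat.prime_of_pow_sub_one_prime (by omega) hpr).2, hqa⟩

end Cfsg.Agent.S3784
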