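import Cfsg.Statements.S2589
import Cfsg.Agent.Lib.Classes.SemisimpleIsometry
import Cfsg.Agent.Lib.Forms.SympBridge
-- import your own Cfsg.Agent.* helpers here

set_option autoImplicit false
open Cfsg

namespace Cfsg.Agent.S2589

open CfsgLib.Classes.SemiConj

/-- Two semisimple elements of the finite symplectic group Sp_2m(F) (elements of order prime to the characteristic) are conjugate in Sp_2m(F) if and only if they are conjugate in GL_2m(F). -/
theorem result {F : Type*} [Field F] [Fintype F] {p : ℕ} [Fact p.Prime] [CharP F p] {m : ℕ} (A B : Matrix.symplecticGroup (Fin m) F) (hA : (orderOf A).Coprime p) : IsConj A B ↔ IsConj (A : Matrix (Fin m ⊕ Fin m) (Fin m ⊕ Fin m) F) (B : Matrix (Fin m ⊕ Fin m) (Fin m ⊕ Fin m) F) := by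
  refine ⟨fun h => (Matrix.symplecticGroup (Fin m) F).subtype.map_isConj h, fun h => ?_⟩
  obtain ⟨c, hc⟩ := h
  have hr0 : orderOf A ≠ 0 := (orderOf_pos A).ne'
  have hr : ((orderOf A : ℕ) : F) ≠ 0 := fun h => by
    rw [CharP.cast_eq_zero_iff F p] at h
    exact (Fact.out : p.Prime).not_dvd_one (hA ▸ Nat.dvd_gcd h dvd_rfl)
  set TA := Matrix.toLinAlgEquiv' (A : Matrix (Fin m ⊕ Fin m) (Fin m ⊕ Fin m) F) with hTA
  set TB := Matrix.toLinAlgEquiv' (B : Matrix (Fin m ⊕ Fin m) (Fin m ⊕ Fin m) F) with hTB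
  let X : (Fin m ⊕ Fin m → F) ≃ₗ[F] (Fin m ⊕ Fin m → F) := LinearEquiv.ofLinearMap
    (Matrix.toLinAlgEquiv' (c : Matrix (Fin m ⊕ Fin m) (Fin m ⊕ Fin m) F))
    (Matrix.toLinAlgEquiv' ((c⁻¹ : (Matrix (Fin m ⊕ Fin m) (Fin m ⊕ Fin m) F)ˣ) : Matrix (Fin m ⊕ Fin m) (Fin m ⊕ Fin m) F))
    (by rw [← Module.End.mul_eq_comp, ← map_mul, Units.mul_inv, map_one]; rfl)
    (by rw [← Module.End.mul_eq_comp, ← map_mul, Units.inv_mul, map_one]; rfl)
  have hX : ∀ v, X (TA v) = TB (X v) := fun v => LinearMap.congr_fun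
    (show Matrix.toLinAlgEquiv' (c : Matrix (Fin m ⊕ Fin m) (Fin m ⊕ Fin m) F) * TA = TB * Matrix.toLinAlgEquiv' (c : Matrix (Fin m ⊕ Fin m) (Fin m ⊕ Fin m) F) by
      rw [hTA, hTB, ← map_mul, ← map_mul, hc.eq]) v
  have hAr : TA ^ orderOf A = 1 := by
    rw [hTA, ← map_pow, ← SubmonoidClass.coe_pow, pow_orderOf_eq_one, OneMemClass.coe_one, map_one]
  have hBr : TB ^ orderOf A = 1 := by
    refine LinearMap.ext fun v => ?_
    obtain ⟨u, rfl⟩ := X.surjective v
    have key : ∀ k u, X ((TA ^ k) u) = (TB ^ k) (X u) := fun k => by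
      induction k with
      | zero => simp
      | succ k ih => intro u; rw [pow_succ, pow_succ, Module.End.mul_apply, Module.End.mul_apply, ih, hX]
    rw [← key, hAr]; rfl
  obtain ⟨g, hg, hgA⟩ := exists_alt_conj (B := CfsgLib.Omega.sympBilin m F) (CfsgLib.Forms.sympBilin_nondeg m F)
    (CfsgLib.Forms.sympBilin_isAlt m F) hr hAr hBr
    (fun u v => by simp only [CfsgLib.Omega.sympBilin_apply]; exact CfsgLib.Omega.sympForm_mulVec_of_mem A.2 u v)
    (fun u v => by simp only [CfsgLib.Omega.sympBilin_apply]; exact CfsgLib.Omega.sympForm_mulVec_of_mem B.2 u v) X hX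
  simp only [CfsgLib.Omega.sympBilin_apply] at hg
  refine isConj_iff.mpr ⟨CfsgLib.Forms.spOfEquiv g hg, mul_inv_eq_iff_eq_mul.mpr (Subtype.ext (Matrix.ext_of_mulVec_single fun i => ?_))⟩
  rw [Submonoid.coe_mul, Submonoid.coe_mul, ← Matrix.mulVec_mulVec, ← Matrix.mulVec_mulVec, CfsgLib.Forms.spOfEquiv_mulVec,
    CfsgLib.Forms.spOfEquiv_mulVec]
  exact hgA _

end Cfsg.Agent.S2589
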