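import Cfsg.Statements.S1138
import Cfsg.Agent.Lib.SuzukiTwo.Class
import Mathlib.GroupTheory.Exponent

set_option autoImplicit false
open Cfsg
open scoped commutatorElement

namespace Cfsg.Agent.S1138

/-- Let `P` be a Suzuki 2-group with `|Z(P)| = q`. Then every square lies in `Z(P)` and `P/Z(P)` is abelian (so elementary abelian), `|P| = q²` or `|P| = q³`, and `P` has exponent 4. -/
theorem result {P : Type*} [Group P] (hP : Cfsg.IsSuzukiTwoGroup P) :
    (∀ x : P, x * x ∈ Subgroup.center P) ∧ (∀ x y : P, x⁻¹ * y⁻¹ * x * y ∈ Subgroup.center P) ∧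
      (Nat.card P = Nat.card (Subgroup.center P) ^ 2 ∨ Nat.card P = Nat.card (Subgroup.center P) ^ 3) ∧
      Monoid.exponent P = 4 := by
  obtain ⟨K, hT⟩ := CfsgLib.SuzukiTwo.exists_torus hP
  obtain ⟨F, _, _, _, η, κ, hC⟩ := hT.exists_coord
  have htop := CfsgLib.SuzukiTwo.layer_center_eq_top hT hC
  have hmem : ∀ y : P, y * y ∈ Subgroup.center P ∧ ∀ p : P, ⁅p, y⁆ ∈ Subgroup.center P :=
    fun y => CfsgLib.SuzukiTwo.mem_layer.1 (htop ▸ Subgroup.mem_top y)
  refine ⟨fun x => (hmem x).1, fun x y => ?_, ?_, ?_⟩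
  · have h := (hmem y⁻¹).2 x⁻¹
    simpa [commutatorElement_def] using h
  · have h := CfsgLib.SuzukiTwo.card_layer hT hC
    rw [htop, Subgroup.card_top, ← CfsgLib.SuzukiTwo.card_center hT hC] at h
    exact h
  · have hdvd : Monoid.exponent P ∣ 2 ^ 2 := Monoid.exponent_dvd_of_forall_pow_eq_one fun x => by
      have h := CfsgLib.SuzukiTwo.center_sq_eq_one hT hC (hmem x).1
      simpa [pow_succ, mul_assoc] using h
    obtain ⟨x, y, hxy⟩ := hT.nonab
    have hnot : ¬ Monoid.exponent P ∣ 2 ^ 1 := by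
      intro h
      have hsq : ∀ g : P, g * g = 1 := fun g => by
        have := Monoid.exponent_dvd_iff_forall_pow_eq_one.1 h g
        simpa [pow_two] using this
      have hinv : ∀ g : P, g⁻¹ = g := fun g => inv_eq_of_mul_eq_one_right (hsq g)
      exact hxy (by rw [← hinv (x * y), mul_inv_rev, hinv, hinv])
    obtain ⟨i, hi, hie⟩ := (Nat.dvd_prime_pow Nat.prime_two).1 hdvd
    rcases (show i = 0 ∨ i = 1 ∨ i = 2 by omega) with rfl | rfl | rfl
    · exact absurd (hie ▸ by norm_num) hnot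
    · exact absurd (hie ▸ dvd_rfl) hnot
    · rw [hie]; norm_num

end Cfsg.Agent.S1138
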