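import Cfsg.Statements.S0996
import Cfsg.Agent.Lib.SmallGroups.BrauerReynoldsMain
import Cfsg.Agent.Lib.BGAppendix.Basic
-- import your own Cfsg.Agent.* helpers here

set_option autoImplicit false
open Cfsg

namespace Cfsg.Agent.S0996

open scoped commutatorElement

/-- A group with a self-centralising subgroup of prime order and few Sylow subgroups is simple if perfect. -/
theorem simple_and_data {G : Type*} [Group G] [Finite G] (hperf : commutator G = ⊤) (p : ℕ)
    [hp : Fact p.Prime] (z : G) (hz : orderOf z = p)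
    (hC : Subgroup.centralizer ({z} : Set G) = Subgroup.zpowers z)
    (hn : 2 * Nat.card (Sylow p G) < (p + 1) * (p + 2)) :
    IsSimpleGroup G ∧ ¬ IsMulCommutative G ∧ ∃ P : Sylow p G,
      Nat.card ↥(P : Subgroup G) = p ∧
        Nat.card ↥(Subgroup.centralizer ((P : Subgroup G) : Set G)) = p := by
  classical
  have hZ : Nat.card ↥(Subgroup.zpowers z) = p := by rw [Nat.card_zpowers, hz]
  obtain ⟨P, hP⟩ := (IsPGroup.of_card (p := p) (n := 1) (G := ↥(Subgroup.zpowers z))
    (by rw [hZ, pow_one])).exists_le_sylow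
  -- `P = ⟨z⟩`
  have hPz : (P : Subgroup G) = Subgroup.zpowers z := by
    refine le_antisymm ?_ hP
    have hzP : z ∈ (P : Subgroup G) := hP (Subgroup.mem_zpowers z)
    haveI : Nontrivial ↥(P : Subgroup G) := ⟨⟨z, hzP⟩, 1, fun h => by
      have : z = 1 := congrArg Subtype.val h
      rw [this, orderOf_one] at hz; exact hp.out.ne_one hz.symm⟩
    haveI := P.isPGroup'.center_nontrivial
    obtain ⟨⟨w, hw⟩, hw1⟩ := exists_ne (1 : Subgroup.center ↥(P : Subgroup G))
    have hwz : (w : G) ∈ Subgroup.zpowers z := by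
      rw [← hC, Subgroup.mem_centralizer_singleton_iff]
      exact (congrArg Subtype.val (Subgroup.mem_center_iff.1 hw ⟨z, hzP⟩)).symm
    have hw1' : (w : G) ≠ 1 := fun h => hw1 (Subtype.ext (Subtype.ext h))
    have hgen : Subgroup.zpowers (w : G) = Subgroup.zpowers z := by
      refine Subgroup.eq_of_le_of_card_ge ((Subgroup.zpowers_le).2 hwz) ?_
      rw [Nat.card_zpowers, hz, Nat.card_zpowers]
      have h := Subgroup.orderOf_dvd_natCard _ hwz
      rw [hZ] at h
      rcases (Nat.dvd_prime hp.out).1 h with h1 | h1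
      · exact absurd (orderOf_eq_one_iff.1 h1) hw1'
      · omega
    intro x hx
    rw [← hC, Subgroup.mem_centralizer_singleton_iff]
    obtain ⟨k, hk⟩ := Subgroup.mem_zpowers_iff.1 (hgen.symm ▸ Subgroup.mem_zpowers z :
      z ∈ Subgroup.zpowers (w : G))
    rw [← hk]
    exact ((show Commute x w from congrArg Subtype.val (Subgroup.mem_center_iff.1 hw ⟨x, hx⟩)).zpow_right k).eq
  have hcardP : Nat.card ↥(P : Subgroup G) = p := by rw [hPz, hZ]
  have hCP : Subgroup.centralizer ((P : Subgroup G) : Set G) = (P : Subgroup G) := by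
    rw [hPz, Subgroup.zpowers_eq_closure, Subgroup.centralizer_closure, hC, Subgroup.zpowers_eq_closure]
  have hnc : ¬ IsMulCommutative G := fun h => by
    have h1 : commutator G = ⊥ := (commutator_eq_bot_iff_center_eq_top G).2
      (eq_top_iff.2 fun g _ => Subgroup.mem_center_iff.2 fun x => h.is_comm.comm x g)
    rw [hperf] at h1
    have : z ∈ (⊥ : Subgroup G) := h1 ▸ Subgroup.mem_top z
    rw [Subgroup.mem_bot] at this
    rw [this, orderOf_one] at hz; exact hp.out.ne_one hz.symm
  -- a normal subgroup supplemented by `N(P)` is everything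
  have htop : ∀ N : Subgroup G, N.Normal →
      N ⊔ Subgroup.normalizer ((P : Subgroup G) : Set G) = ⊤ → N = ⊤ := by
    intro N hNn hsup
    haveI := hNn
    set NP := Subgroup.normalizer ((P : Subgroup G) : Set G) with hNP
    have hN : ⁅NP, NP⁆ ≤ (P : Subgroup G) := by
      refine Subgroup.commutator_le.2 fun a ha b hb => ?_
      haveI : IsCyclic ↥(P : Subgroup G) := isCyclic_of_prime_card hcardP
      letI : CommGroup ↥(P : Subgroup G) := IsCyclic.commGroup
      haveI : Fact (Nat.card ↥(P : Subgroup G)).Prime := ⟨by rw [hcardP]; exact hp.out⟩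
      let ψ := (IsCyclic.mulAutMulEquiv ↥(P : Subgroup G)).toMonoidHom.comp
        (P : Subgroup G).normalizerMonoidHom
      have h1 : (⁅(⟨a, ha⟩ : ↥NP), ⟨b, hb⟩⁆ : ↥NP) ∈ (P : Subgroup G).normalizerMonoidHom.ker := by
        have h2 : ψ ⁅(⟨a, ha⟩ : ↥NP), ⟨b, hb⟩⁆ = 1 := by
          rw [map_commutatorElement]
          exact commutatorElement_eq_one_iff_mul_comm.2 (mul_comm _ _)
        exact (IsCyclic.mulAutMulEquiv ↥(P : Subgroup G)).injective (h2.trans (map_one _).symm)
      rw [Subgroup.normalizerMonoidHom_ker, Subgroup.mem_subgroupOf, hCP] at h1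
      exact h1
    have hperfQ : commutator (G ⧸ N) = ⊤ := by
      rw [← top_le_iff, ← Subgroup.map_top_of_surjective _ (QuotientGroup.mk'_surjective N), ← hperf,
        commutator_def, Subgroup.map_commutator, Subgroup.map_top_of_surjective _ (QuotientGroup.mk'_surjective N)]
      rfl
    have hmap : NP.map (QuotientGroup.mk' N) = ⊤ := by
      rw [← Subgroup.map_top_of_surjective _ (QuotientGroup.mk'_surjective N), ← hsup, Subgroup.map_sup,
        QuotientGroup.map_mk'_self, bot_sup_eq]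
    have h1 : (⊤ : Subgroup (G ⧸ N)) ≤ (P : Subgroup G).map (QuotientGroup.mk' N) := by
      rw [← hperfQ, commutator_def, ← hmap, ← Subgroup.map_commutator]
      exact Subgroup.map_mono hN
    have h2 : ⁅(P : Subgroup G), (P : Subgroup G)⁆ = ⊥ := by
      rw [Subgroup.commutator_eq_bot_iff_le_centralizer, hCP]
    have h3 : (⊤ : Subgroup (G ⧸ N)) ≤ ⊥ := by
      calc (⊤ : Subgroup (G ⧸ N)) = ⁅(⊤ : Subgroup (G ⧸ N)), ⊤⁆ := by rw [← commutator_def, hperfQ]
        _ ≤ ⁅(P : Subgroup G).map (QuotientGroup.mk' N), (P : Subgroup G).map (QuotientGroup.mk' N)⁆ :=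
            Subgroup.commutator_mono h1 h1
        _ = ⊥ := by rw [← Subgroup.map_commutator, h2, Subgroup.map_bot]
    refine eq_top_iff.2 fun g _ => ?_
    exact (QuotientGroup.eq_one_iff g).1 (h3 (Subgroup.mem_top _))
  haveI : Nontrivial G := ⟨z, 1, fun h => by rw [h, orderOf_one] at hz; exact hp.out.ne_one hz.symm⟩
  refine ⟨⟨fun N hNn => ?_⟩, hnc, P, hcardP, by rw [hCP, hcardP]⟩
  haveI := hNn
  rw [or_iff_not_imp_left]
  intro hbot
  refine htop N hNn ?_
  by_contra hne
  set NP := Subgroup.normalizer ((P : Subgroup G) : Set G) with hNP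
  have hnN : ¬ p ∣ Nat.card N := by
    intro hd
    apply hne
    obtain ⟨x, hx⟩ := exists_prime_orderOf_dvd_card' p hd
    obtain ⟨Q, hQ⟩ := (IsPGroup.of_card (p := p) (n := 1) (G := ↥(Subgroup.zpowers (x : G)))
      (by rw [Nat.card_zpowers, Subgroup.orderOf_coe, hx, pow_one])).exists_le_sylow
    have hQN : (Q : Subgroup G) ≤ N := by
      have hQc : Nat.card ↥(Q : Subgroup G) = p :=
        (Sylow.card_eq_multiplicity Q).trans ((Sylow.card_eq_multiplicity P).symm.trans hcardP)
      rw [← Subgroup.eq_of_le_of_card_ge hQ (by rw [hQc, Nat.card_zpowers, Subgroup.orderOf_coe, hx])]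
      exact Subgroup.zpowers_le.2 x.2
    obtain ⟨g, hg⟩ := MulAction.exists_smul_eq G Q P
    have hPN : (P : Subgroup G) ≤ N := by
      rw [← hg]
      rintro _ ⟨w, hw, rfl⟩
      exact hNn.conj_mem w (hQN hw) g
    have h := Sylow.normalizer_sup_eq_top' P hPN
    rwa [sup_comm] at h
  have hNP1 : N ⊓ (P : Subgroup G) = ⊥ :=
    Subgroup.inf_eq_bot_of_coprime ((hp.out.coprime_iff_not_dvd.2 hnN).symm.coprime_dvd_right
      (dvd_of_eq hcardP))
  have hfix : ∀ x ∈ N, (∀ y ∈ (P : Subgroup G), y * x = x * y) → x = 1 := by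
    intro x hx hxy
    have h : x ∈ N ⊓ (P : Subgroup G) := ⟨hx, by rw [← hCP]; exact Subgroup.mem_centralizer_iff.2 hxy⟩
    rwa [hNP1, Subgroup.mem_bot] at h
  have hN1 : Nat.card N ≡ 1 [MOD p] := by
    letI : MulAction ↥(P : Subgroup G) ↥N :=
      { smul := fun y x => ⟨(y : G) * x * (y : G)⁻¹, hNn.conj_mem x x.2 y⟩
        one_smul := fun x => Subtype.ext (by show (1 : G) * x * (1 : G)⁻¹ = x; group)
        mul_smul := fun y w x => Subtype.ext (by
          show (y : G) * w * x * ((y : G) * w)⁻¹ = (y : G) * ((w : G) * x * (w : G)⁻¹) * (y : G)⁻¹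
          group) }
    have h := IsPGroup.card_modEq_card_fixedPoints (p := p) P.isPGroup' (↥N)
    haveI : Subsingleton ↑(MulAction.fixedPoints ↥(P : Subgroup G) ↥N) := ⟨fun x w => by
      have hall : ∀ v : ↑(MulAction.fixedPoints ↥(P : Subgroup G) ↥N), (v : ↥N) = 1 := fun v => by
        refine Subtype.ext (hfix _ (v : ↥N).2 fun y hy => ?_)
        have h1 : y * ((v : ↥N) : G) * y⁻¹ = (v : ↥N) := congrArg Subtype.val (v.2 ⟨y, hy⟩)
        exact mul_inv_eq_iff_eq_mul.1 h1
      exact Subtype.ext ((hall x).trans (hall w).symm)⟩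
    haveI : Nonempty ↑(MulAction.fixedPoints ↥(P : Subgroup G) ↥N) := ⟨⟨1, fun y => Subtype.ext (by
      show (y : G) * 1 * (y : G)⁻¹ = 1; group)⟩⟩
    have h1 : Nat.card ↑(MulAction.fixedPoints ↥(P : Subgroup G) ↥N) = 1 :=
      Nat.card_eq_one_iff_unique.2 ⟨inferInstance, inferInstance⟩
    rwa [h1] at h
  have hinf : NP ⊓ N = ⊥ := by
    rw [eq_bot_iff]
    rintro x ⟨hxP, hxN⟩
    refine Subgroup.mem_bot.2 (hfix x hxN fun y hy => ?_)
    have h1 : y * x * y⁻¹ * x⁻¹ ∈ N ⊓ (P : Subgroup G) := by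
      refine ⟨N.mul_mem (hNn.conj_mem x hxN y) (N.inv_mem hxN), ?_⟩
      rw [show y * x * y⁻¹ * x⁻¹ = y * (x * y⁻¹ * x⁻¹) by group]
      exact (P : Subgroup G).mul_mem hy
        ((Subgroup.mem_normalizer_iff.1 hxP _).1 ((P : Subgroup G).inv_mem hy))
    rw [hNP1, Subgroup.mem_bot, mul_inv_eq_one, mul_inv_eq_iff_eq_mul] at h1
    exact h1
  have hH := CfsgLib.BGAppendix.card_sup_eq_mul (A := NP) (B := N)
    (by rw [Subgroup.normalizer_eq_top_iff.2 hNn]; exact le_top) hinf
  set H := NP ⊔ N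
  have h1 := Subgroup.card_mul_index NP
  have h2 := Subgroup.card_mul_index H
  rw [hH] at h2
  have hn' : Nat.card (Sylow p G) = Nat.card N * H.index := by
    rw [P.card_eq_index_normalizer]
    exact Nat.eq_of_mul_eq_mul_left (Nat.card_pos (α := NP)) (h1.trans (h2.symm.trans (mul_assoc _ _ _)))
  have ha : H.index ≡ 1 [MOD p] := by
    have h3 := card_sylow_modEq_one p G
    rw [hn'] at h3
    have h4 := (Nat.ModEq.mul_right H.index hN1.symm).trans h3
    rwa [one_mul] at h4
  have hbig : ∀ w : ℕ, w ≡ 1 [MOD p] → 1 < w → p + 1 ≤ w := fun w hw hw1 => by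
    have h4 : p ∣ w - 1 := (Nat.modEq_iff_dvd' hw1.le).1 hw.symm
    have := Nat.le_of_dvd (by omega) h4
    omega
  have hNgt : 1 < Nat.card N := by
    rw [Finite.one_lt_card_iff_nontrivial]; exact (Subgroup.nontrivial_iff_ne_bot N).2 hbot
  have hHgt : 1 < H.index := by
    refine Nat.one_lt_iff_ne_zero_and_ne_one.2 ⟨Subgroup.index_ne_zero_of_finite, fun h => hne ?_⟩
    rw [sup_comm]; exact Subgroup.index_eq_one.1 h
  have := Nat.mul_le_mul (hbig _ hN1 hNgt) (hbig _ ha hHgt)
  rw [← hn'] at this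
  nlinarith

/-- Let G be a finite perfect group containing an element z of prime order p whose centralizer is the cyclic group it generates, and suppose the number 1 + n * p of Sylow p-subgroups satisfies n < (p + 3) / 2. Then p > 3 and G is isomorphic to the projective special linear group of dimension 2 over the field with p elements, or p - 1 is a power of 2 and G is isomorphic to that group over the field with p - 1 elements. -/
theorem result {G : Type*} [Group G] [Finite G] (hperf : commutator G = ⊤) (p : ℕ) [Fact p.Prime] (z : G) (hz : orderOf z = p) (hC : Subgroup.centralizer ({z} : Set G) = Subgroup.zpowers z) (hn : 2 * Nat.card (Sylow p G) < (p + 1) * (p + 2)) : (∃ (F : Type) (_ : Field F) (_ : Fintype F), Fintype.card F = p ∧ 3 < p ∧ Nonempty (G ≃* Matrix.ProjectiveSpecialLinearGroup (Fin 2) F)) ∨ (∃ (m : ℕ) (F : Type) (_ : Field F) (_ : Fintype F), Fintype.card F = 2 ^ m ∧ p = 2 ^ m + 1 ∧ 3 < p ∧ Nonempty (G ≃* Matrix.ProjectiveSpecialLinearGroup (Fin 2) F)) := by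
  obtain ⟨hs, hnc, P, hcardP, hcardC⟩ := simple_and_data hperf p z hz hC hn
  haveI := hs
  exact CfsgLib.SmallGroups.BrauerReynolds.brauer_self_centralizing hnc P hcardP hn

end Cfsg.Agent.S0996
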