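import Cfsg.Statements.S1001
import Cfsg.Agent.Lib.Blocks.PrimePowerDegree
import Cfsg.Agent.Lib.CharTheory.Burnside
import Cfsg.Agent.Lib.SmallGroups.Basic

set_option autoImplicit false
open Cfsg

namespace Cfsg.Agent.S1001

/-- In a finite simple group whose order has the form p * 3^a * 2^b with p prime, the centralizer of any element of order p is the cyclic group it generates. -/
theorem result {G : Type*} [Group G] [Finite G] [IsSimpleGroup G] (p a b : ℕ) (hp : p.Prime) (hG : Nat.card G = p * 3 ^ a * 2 ^ b) (x : G) (hx : orderOf x = p) : Subgroup.centralizer ({x} : Set G) = Subgroup.zpowers x := by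
  haveI := Fact.mk hp
  haveI : Fact (Nat.Prime 3) := ⟨Nat.prime_three⟩
  by_cases h23 : p = 2 ∨ p = 3
  · -- two primes: the group has prime order
    have hdvd : ∃ i j, Nat.card G ∣ 3 ^ i * 2 ^ j := by
      rcases h23 with rfl | rfl
      · exact ⟨a, b + 1, dvd_of_eq (by rw [hG]; ring)⟩
      · exact ⟨a + 1, b, dvd_of_eq (by rw [hG]; ring)⟩
    obtain ⟨i, j, hij⟩ := hdvd
    have hsolv := CfsgLib.CharTheory.isSolvable_of_card_dvd_pow_mul_pow 3 2 i j
      Nat.prime_three Nat.prime_two hij
    have hcomm := IsSimpleGroup.comm_iff_isSolvable.2 hsolv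
    haveI : IsMulCommutative G := ⟨⟨hcomm⟩⟩
    have hpr : (Nat.card G).Prime := Group.is_simple_iff_prime_card.1 inferInstance
    have hcard : Nat.card G = p := by
      have h := orderOf_dvd_natCard x
      rw [hx] at h
      exact ((Nat.prime_dvd_prime_iff_eq hp hpr).1 h).symm
    have htop : Subgroup.zpowers x = ⊤ := Subgroup.eq_top_of_card_eq _ (by
      rw [Nat.card_zpowers, hx, hcard])
    rw [htop, eq_top_iff]
    intro y _
    exact Subgroup.mem_centralizer_singleton_iff.2 (hcomm y x)
  push Not at h23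
  have hp3 : (3 : ℕ) ≠ p := Ne.symm h23.2
  have hp2 : (2 : ℕ) ≠ p := Ne.symm h23.1
  have hpg : IsPGroup p ↥(Subgroup.zpowers x) :=
    IsPGroup.of_card (n := 1) (by rw [Nat.card_zpowers, hx, pow_one])
  obtain ⟨S, hS⟩ := hpg.exists_le_sylow
  have hScard : Nat.card (S : Subgroup G) = p := by
    have hm : ¬ p ∣ 3 ^ a * 2 ^ b := fun h => by
      rcases hp.dvd_mul.1 h with h | h
      · exact hp3 ((Nat.prime_dvd_prime_iff_eq hp Nat.prime_three).1 (hp.dvd_of_dvd_pow h)).symm
      · exact hp2 ((Nat.prime_dvd_prime_iff_eq hp Nat.prime_two).1 (hp.dvd_of_dvd_pow h)).symm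
    simpa using CfsgLib.SmallGroups.card_sylow_eq (a := 1) (m := 3 ^ a * 2 ^ b)
      (by rw [hG]; ring) hm S
  have hSx : (S : Subgroup G) = Subgroup.zpowers x :=
    (Subgroup.eq_of_le_of_card_ge hS (by rw [hScard, Nat.card_zpowers, hx])).symm
  have hC := CfsgLib.Blocks.centralizer_sylow_of_card (p := 3) (q := 2) (a := a) (b := b)
    Nat.prime_two hp3 hp2 (by rw [hG]; ring) S
  have hC' : Subgroup.centralizer ((S : Subgroup G) : Set G) = (S : Subgroup G) := hC
  rw [hSx] at hC'
  refine le_antisymm ?_ ?_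
  · intro y hy
    rw [← hC', Subgroup.mem_centralizer_iff]
    intro z hz
    obtain ⟨k, rfl⟩ := Subgroup.mem_zpowers_iff.1 hz
    exact ((Commute.zpow_right (Subgroup.mem_centralizer_singleton_iff.1 hy : Commute y x) k)).eq.symm
  · exact Subgroup.zpowers_le.2 (Subgroup.mem_centralizer_singleton_iff.2 rfl)

end Cfsg.Agent.S1001
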