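import Cfsg.Statements.S2475
import Cfsg.Agent.Lib.CharDegrees.PSLTwoClasses

set_option autoImplicit false
open Cfsg Matrix
open scoped MatrixGroups

namespace Cfsg.Agent.S2475

open CfsgLib.SL2 CfsgLib.CharDegrees
open CfsgLib.ClassicalLinear (upS upS_coe upS_add upS_injective)

/-- The set of element orders of PSL(2,q): let F be a finite field of characteristic p with q ≥ 4 elements and d = gcd(2, q − 1). The orders of elements of PSL(2,F) are exactly the divisors of p, of (q − 1)/d and of (q + 1)/d. -/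
theorem result {F : Type*} [Field F] [Fintype F] (p : ℕ) [Fact p.Prime] [CharP F p] (h4 : 4 ≤ Fintype.card F) :
    Set.range (orderOf : Matrix.ProjectiveSpecialLinearGroup (Fin 2) F → ℕ) =
      {m : ℕ | m ∣ p ∨ m ∣ (Fintype.card F - 1) / Nat.gcd 2 (Fintype.card F - 1) ∨ m ∣ (Fintype.card F + 1) / Nat.gcd 2 (Fintype.card F - 1)} := by
  have hq : Nat.card F = Fintype.card F := Nat.card_eq_fintype_card
  ext m
  simp only [Set.mem_range, Set.mem_ofPred_eq]
  constructor
  · rintro ⟨x, rfl⟩
    obtain ⟨g, rfl⟩ := QuotientGroup.mk'_surjective _ x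
    by_cases ht : tr g ^ 2 = 4
    · refine Or.inl ?_
      obtain ⟨k, ε, z, hε, hk⟩ := trichotomy ht
      show orderOf (proj₂ g) ∣ p
      rw [← orderOf_injective (MulAut.conj (proj₂ k)).toMonoidHom (MulAut.conj (proj₂ k)).injective (proj₂ g)]
      show orderOf (proj₂ k * proj₂ g * (proj₂ k)⁻¹) ∣ p
      rw [← proj₂_conj_eq, hk, map_mul, (proj₂_eq_one_iff ε).2 ((mem_center_iff ε).1 hε), one_mul,
        orderOf_dvd_iff_pow_eq_one, ← map_pow, upS_pow, CharP.cast_eq_zero, zero_mul, upS_zero, map_one]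
    · have h := orderOf_proj₂_dvd_of_semisimple ht
      rcases card_centralizer_or ht with h' | h' <;> rw [h', hq] at h
      · exact Or.inr (Or.inl h)
      · exact Or.inr (Or.inr h)
  · have key : ∀ (x : Matrix.ProjectiveSpecialLinearGroup (Fin 2) F), m ∣ orderOf x → ∃ y : Matrix.ProjectiveSpecialLinearGroup (Fin 2) F, orderOf y = m := fun x hx => by
      exact ⟨_, orderOf_pow_orderOf_div (orderOf_pos x).ne' hx⟩
    rintro (h | h | h)
    · refine key (proj₂ (upS 1)) (h.trans (dvd_of_eq ?_))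
      refine (orderOf_eq_prime ?_ ?_).symm
      · rw [← map_pow, upS_pow, CharP.cast_eq_zero, zero_mul, upS_zero, map_one]
      · intro h0
        refine one_ne_zero ((upS_mem_center_iff (1 : F)).1 ((mem_center_iff _).2 ((proj₂_eq_one_iff _).1 h0)))
    · obtain ⟨g, -, -, -, hd⟩ := exists_orderOf_proj₂ h4 (Or.inl rfl)
      exact key (proj₂ g) (h.trans (hq ▸ hd))
    · obtain ⟨g, -, -, -, hd⟩ := exists_orderOf_proj₂ h4 (Or.inr rfl)
      exact key (proj₂ g) (h.trans (hq ▸ hd))

end Cfsg.Agent.S2475
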