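import Cfsg.Statements.S2476
import Cfsg.Agent.Lib.CharDegrees.PSLOrders

set_option autoImplicit false
open Cfsg

namespace Cfsg.Agent.S2476

open Polynomial in
/-- Upper bound: a power of a matrix of determinant one with small exponent is scalar. -/
theorem scalar_cases {F : Type*} [Field F] [Fintype F] (p : ℕ) [Fact p.Prime] [CharP F p]
    (M : Matrix (Fin 3) (Fin 3) F) (hdet : M.det = 1) :
    ∃ k : ℕ, (k = (Fintype.card F ^ 2 + Fintype.card F + 1) / Nat.gcd 3 (Fintype.card F - 1) ∨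
      k = (Fintype.card F ^ 2 - 1) / Nat.gcd 3 (Fintype.card F - 1) ∨ k = Fintype.card F - 1 ∨
      k = p * (Fintype.card F - 1) / Nat.gcd 3 (Fintype.card F - 1) ∨ (p = 2 ∧ k = 4)) ∧
      ∃ c : F, M ^ k = Matrix.scalar (Fin 3) c := by
  classical
  have hq1 : 2 ≤ Fintype.card F := Fintype.one_lt_card
  set q := Fintype.card F with hq
  set d := Nat.gcd 3 (q - 1) with hd
  have hd3 : d ∣ 3 := Nat.gcd_dvd_left _ _
  have hdq : d ∣ q - 1 := Nat.gcd_dvd_right _ _
  have hd0 : 0 < d := Nat.gcd_pos_of_pos_left _ (by norm_num)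
  obtain ⟨d', hd'⟩ := hd3
  obtain ⟨e, he⟩ := hdq
  have hpd : p * (q - 1) / d = p * e := by
    rw [he, ← mul_assoc, mul_comm p d, mul_assoc, Nat.mul_div_cancel_left _ hd0]
  set χ := M.charpoly with hχ
  have hdeg : χ.natDegree = 3 := by rw [hχ, Matrix.charpoly_natDegree_eq_dim, Fintype.card_fin]
  have hmon : χ.Monic := M.charpoly_monic
  have hc0 : χ.eval 0 = -1 := by
    have h := Matrix.det_eq_sign_charpoly_coeff M
    rw [hdet, Fintype.card_fin, ← hχ, coeff_zero_eq_eval_zero] at h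
    linear_combination h
  have descend : ∀ (P : F[X]), χ ∣ P → aeval M P = 0 := fun P hP => by
    obtain ⟨s, rfl⟩ := hP
    rw [map_mul, hχ, Matrix.aeval_self_charpoly, zero_mul]
  have scal : ∀ (k : ℕ) (c : F), χ ∣ X ^ k - C c → M ^ k = Matrix.scalar (Fin 3) c :=
    fun k c h => by
      have := descend _ h
      rw [map_sub, map_pow, aeval_X, aeval_C, sub_eq_zero] at this
      exact this
  have hfe : ∀ x : F, x ≠ 0 → x ^ (q - 1) = 1 := fun x hx => FiniteField.pow_card_sub_one_eq_one x hx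
  by_cases hroot : ∃ a, χ.IsRoot a
  swap
  · -- irreducible
    push Not at hroot
    have hirr : Irreducible χ := (irreducible_iff_roots_eq_zero_of_degree_le_three
      (by omega) (by omega)).2 (Multiset.eq_zero_of_forall_notMem fun a ha =>
        hroot a (isRoot_of_mem_roots ha))
    haveI : Fact (Irreducible χ) := ⟨hirr⟩
    haveI : Module.Finite F (AdjoinRoot χ) := (AdjoinRoot.powerBasis hirr.ne_zero).finite
    set γ := AdjoinRoot.root χ
    set pb := AdjoinRoot.powerBasis hirr.ne_zero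
    have hnorm : Algebra.norm F γ = 1 := by
      rw [show γ = pb.gen from rfl, Algebra.PowerBasis.norm_gen_eq_coeff_zero_minpoly,
        AdjoinRoot.powerBasis_dim, show pb.gen = AdjoinRoot.root χ from rfl,
        AdjoinRoot.minpoly_root hirr.ne_zero, hmon.leadingCoeff, inv_one, map_one, mul_one,
        coeff_zero_eq_eval_zero, hc0, hdeg]
      norm_num
    have hγ : γ ^ (q ^ 2 + q + 1) = 1 := by
      haveI : Finite (AdjoinRoot χ) := Module.finite_of_finite F
      have h := FiniteField.algebraMap_norm_eq_pow_sum (K := F) (L := AdjoinRoot χ) (x := γ)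
      rw [hnorm, map_one, pb.finrank, AdjoinRoot.powerBasis_dim, hdeg, Nat.card_eq_fintype_card,
        ← hq] at h
      rw [h]; congr 1; simp [Finset.sum_range_succ]; ring
    have hdM : d ∣ q ^ 2 + q + 1 := by
      rw [show q = d * e + 1 by omega, show (d * e + 1) ^ 2 + (d * e + 1) + 1 =
        d * (d * e * e + 3 * e) + 3 by ring]
      exact dvd_add (dvd_mul_right _ _) ⟨d', hd'⟩
    set k := (q ^ 2 + q + 1) / d
    obtain ⟨c, hc⟩ : ∃ c : F, algebraMap F _ c = γ ^ k := by
      refine CfsgLib.CharDegrees.eq_algebraMap_of_pow_card_eq ?_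
      rw [← hq, show q = d * e + 1 by omega, pow_succ, pow_mul, ← pow_mul γ k d,
        Nat.div_mul_cancel hdM, hγ, one_pow, one_mul]
    refine ⟨k, Or.inl rfl, c, scal k c ?_⟩
    rw [← AdjoinRoot.mk_eq_zero, map_sub, map_pow, AdjoinRoot.mk_X, AdjoinRoot.mk_C,
      ← AdjoinRoot.algebraMap_eq, hc, sub_self]
  obtain ⟨a, ha⟩ := hroot
  obtain ⟨g, hg⟩ : X - C a ∣ χ := dvd_iff_isRoot.2 ha
  have hgm : g.Monic := (monic_X_sub_C a).of_mul_monic_left (hg ▸ hmon)
  have hgd : g.natDegree = 2 := by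
    have h := congrArg natDegree hg
    rw [hdeg, (monic_X_sub_C a).natDegree_mul hgm, natDegree_X_sub_C] at h
    omega
  have hag : a * g.eval 0 = 1 := by
    have h := congrArg (eval 0) hg
    rw [hc0, eval_mul, eval_sub, eval_X, eval_C] at h
    linear_combination h
  have ha0 : a ≠ 0 := left_ne_zero_of_mul_eq_one hag
  by_cases hroot2 : ∃ b, g.IsRoot b
  swap
  · -- a quadratic factor
    push Not at hroot2
    have hirr : Irreducible g := (irreducible_iff_roots_eq_zero_of_degree_le_three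
      (by omega) (by omega)).2 (Multiset.eq_zero_of_forall_notMem fun b hb =>
        hroot2 b (isRoot_of_mem_roots hb))
    haveI : Fact (Irreducible g) := ⟨hirr⟩
    haveI : Module.Finite F (AdjoinRoot g) := (AdjoinRoot.powerBasis hirr.ne_zero).finite
    set β := AdjoinRoot.root g
    set pb := AdjoinRoot.powerBasis hirr.ne_zero
    haveI : Finite (AdjoinRoot g) := Module.finite_of_finite F
    have hnorm : algebraMap F (AdjoinRoot g) (g.eval 0) = β ^ (q + 1) := by
      have h1 : Algebra.norm F β = g.eval 0 := by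
        rw [show β = pb.gen from rfl, Algebra.PowerBasis.norm_gen_eq_coeff_zero_minpoly,
          AdjoinRoot.powerBasis_dim, show pb.gen = AdjoinRoot.root g from rfl,
          AdjoinRoot.minpoly_root hirr.ne_zero, hgm.leadingCoeff, inv_one, map_one, mul_one,
          coeff_zero_eq_eval_zero, hgd]
        norm_num
      rw [← h1, FiniteField.algebraMap_norm_eq_pow_sum, pb.finrank, AdjoinRoot.powerBasis_dim, hgd,
        Nat.card_eq_fintype_card, ← hq]
      simp [Finset.sum_range_succ, add_comm]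
    have hab : algebraMap F (AdjoinRoot g) a * β ^ (q + 1) = 1 := by
      rw [← hnorm, ← map_mul, hag, map_one]
    set k := (q ^ 2 - 1) / d
    have hk : k = (q + 1) * e := by
      show (q ^ 2 - 1) / d = _
      rw [show q ^ 2 - 1 = d * ((q + 1) * e) by
        rw [show d * ((q + 1) * e) = (q + 1) * (q - 1) by rw [he]; ring, ← Nat.sq_sub_sq, one_pow],
        Nat.mul_div_cancel_left _ hd0]
    have hβk : β ^ k = algebraMap F _ (a ^ k) := by
      have h1 : algebraMap F (AdjoinRoot g) (a ^ k) * β ^ ((q + 1) * k) = 1 := by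
        rw [map_pow, pow_mul, ← mul_pow, hab, one_pow]
      have hβ0 : β ^ ((q + 1) * k) ≠ 0 := right_ne_zero_of_mul_eq_one h1
      apply mul_right_cancel₀ hβ0
      rw [h1, ← pow_add, hk]
      have hb1 : β ^ ((q + 1) * (q - 1)) = 1 := by
        have h2 : g.eval 0 ≠ 0 := right_ne_zero_of_mul_eq_one hag
        rw [pow_mul, ← hnorm, ← map_pow, hfe _ h2, map_one]
      have hsum : (q + 1) * e + (q + 1) * ((q + 1) * e) =
          (q + 1) * (q - 1) * (e + d') := by
        rw [he]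
        have h3 : q = d * e + 1 := by omega
        rw [h3]
        calc (d * e + 1 + 1) * e + (d * e + 1 + 1) * ((d * e + 1 + 1) * e)
            = (d * e + 1 + 1) * e * (d * e + 3) := by ring
          _ = _ := by rw [hd']; ring
      rw [hsum, pow_mul, hb1, one_pow]
    refine ⟨k, Or.inr (Or.inl rfl), a ^ k, scal k _ ?_⟩
    rw [hg]
    refine (((irreducible_X_sub_C a).coprime_iff_not_dvd).2 fun h => ?_).mul_dvd
      (dvd_iff_isRoot.2 (by simp)) ?_
    · have := natDegree_le_of_dvd ((irreducible_X_sub_C a).dvd_symm hirr h) (X_sub_C_ne_zero a)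
      rw [natDegree_X_sub_C, hgd] at this
      omega
    · rw [← AdjoinRoot.mk_eq_zero, map_sub, map_pow, AdjoinRoot.mk_X, AdjoinRoot.mk_C,
        ← AdjoinRoot.algebraMap_eq, hβk, sub_self]
  obtain ⟨b, hb⟩ := hroot2
  obtain ⟨h, hh⟩ : X - C b ∣ g := dvd_iff_isRoot.2 hb
  have hhm : h.Monic := (monic_X_sub_C b).of_mul_monic_left (hh ▸ hgm)
  have hhd : h.natDegree = 1 := by
    have h' := congrArg natDegree hh
    rw [hgd, (monic_X_sub_C b).natDegree_mul hhm, natDegree_X_sub_C] at h'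
    omega
  obtain ⟨c, rfl⟩ : ∃ c, h = X - C c := ⟨-h.coeff 0, by
    rw [map_neg, sub_neg_eq_add]; exact hhm.eq_X_add_C hhd⟩
  have habc : a * b * c = 1 := by
    rw [hh, eval_mul, eval_sub, eval_sub, eval_X, eval_C, eval_C] at hag
    linear_combination hag
  have hbc : b ≠ 0 ∧ c ≠ 0 :=
    ⟨fun e0 => by simp [e0] at habc, fun e0 => by simp [e0] at habc⟩
  have hχ3 : χ = (X - C a) * ((X - C b) * (X - C c)) := by rw [hg, hh]
  have double : ∀ x y : F, x ≠ 0 → x * x * y = 1 → χ = (X - C x) ^ 2 * (X - C y) →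
      ∃ k : ℕ, (k = (q ^ 2 + q + 1) / d ∨ k = (q ^ 2 - 1) / d ∨ k = q - 1 ∨
        k = p * (q - 1) / d ∨ (p = 2 ∧ k = 4)) ∧ ∃ c : F, M ^ k = Matrix.scalar (Fin 3) c := by
    intro x y hx hxy hP
    rcases eq_or_ne y x with hyx | hyx
    · -- triple root
      rw [hyx, ← pow_succ] at hP
      have hdvd : ∀ t : ℕ, 3 ≤ p ^ t → M ^ p ^ t = Matrix.scalar (Fin 3) (x ^ p ^ t) :=
        fun t ht => scal _ _ (by
          rw [hP, C_pow, ← sub_pow_char_pow]
          exact pow_dvd_pow _ ht)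
      have hp2 := (Fact.out : p.Prime).two_le
      rcases eq_or_ne p 2 with h2 | h2
      · subst h2
        exact ⟨4, Or.inr (Or.inr (Or.inr (Or.inr ⟨rfl, rfl⟩))), x ^ 4, hdvd 2 (by norm_num)⟩
      · refine ⟨p * (q - 1) / d, Or.inr (Or.inr (Or.inr (Or.inl rfl))), (x ^ p ^ 1) ^ e, ?_⟩
        rw [hpd, pow_mul, map_pow, ← hdvd 1 (by rw [pow_one]; omega), pow_one]
    · refine ⟨p * (q - 1) / d, Or.inr (Or.inr (Or.inr (Or.inl rfl))), (x ^ e) ^ p, ?_⟩
      rw [hpd]
      apply scal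
      have hye : y ^ e = x ^ e := by
        have h1 : (x ^ e) ^ 3 = 1 := by
          rw [← pow_mul, show e * 3 = (q - 1) * d' by rw [he, hd']; ring, pow_mul, hfe x hx, one_pow]
        have h2 : (x ^ e) ^ 2 * y ^ e = 1 := by
          rw [← pow_mul, mul_comm e, pow_mul, ← mul_pow, pow_two, hxy, one_pow]
        exact mul_left_cancel₀ (pow_ne_zero 2 (pow_ne_zero e hx)) (h2.trans (h1.symm.trans (pow_succ _ 2)))
      rw [hP, mul_comm p, pow_mul, C_pow, ← sub_pow_char]
      have h1 : (X - C x) * (X - C y) ∣ X ^ e - C (x ^ e) := by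
        refine IsCoprime.mul_dvd ((irreducible_X_sub_C x).coprime_iff_not_dvd.2 fun hd' => ?_)
          (dvd_iff_isRoot.2 (by simp)) (dvd_iff_isRoot.2 (by simp [hye]))
        rw [dvd_iff_isRoot, IsRoot, eval_sub, eval_X, eval_C, sub_eq_zero] at hd'
        exact hyx hd'.symm
      refine dvd_trans ?_ (pow_dvd_pow_of_dvd h1 p)
      rw [mul_pow]
      exact mul_dvd_mul (pow_dvd_pow _ (Fact.out : p.Prime).two_le)
        (dvd_pow_self _ (Fact.out : p.Prime).ne_zero)
  rcases eq_or_ne a b with hab | hab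
  · exact double a c ha0 (by rw [← habc, hab]) (by rw [hχ3, ← hab]; ring)
  rcases eq_or_ne a c with hac | hac
  · exact double a b ha0 (by rw [← habc, ← hac]; ring) (by rw [hχ3, ← hac]; ring)
  rcases eq_or_ne b c with hbc' | hbc'
  · exact double b a hbc.1 (by rw [← habc, ← hbc']; ring) (by rw [hχ3, ← hbc']; ring)
  refine ⟨q - 1, Or.inr (Or.inr (Or.inl rfl)), 1, scal _ 1 ?_⟩
  rw [hχ3, map_one]
  have hr : ∀ x : F, x ≠ 0 → X - C x ∣ (X ^ (q - 1) - 1 : F[X]) := fun x hx =>
    dvd_iff_isRoot.2 (by simp [hfe x hx])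
  have hco : ∀ x y : F, x ≠ y → IsCoprime (X - C x) (X - C y) := fun x y hxy =>
    (irreducible_X_sub_C x).coprime_iff_not_dvd.2 fun hd' => by
      rw [dvd_iff_isRoot, IsRoot, eval_sub, eval_X, eval_C, sub_eq_zero] at hd'
      exact hxy hd'
  exact ((hco a b hab).mul_right (hco a c hac)).mul_dvd (hr a ha0)
    ((hco b c hbc').mul_dvd (hr b hbc.1) (hr c hbc.2))

/-- An element with a scalar power only for multiples of `m` gives all divisors of `m`. -/
theorem mem_range_of_forall {F : Type*} [Field F] [Fintype F] (A : Matrix.SpecialLinearGroup (Fin 3) F)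
    {m a : ℕ} (h : ∀ (k : ℕ) (c : F),
      (A : Matrix (Fin 3) (Fin 3) F) ^ k = Matrix.scalar (Fin 3) c → m ∣ k) (ha : a ∣ m) :
    a ∈ Set.range (orderOf : Matrix.ProjectiveSpecialLinearGroup (Fin 3) F → ℕ) := by
  obtain ⟨c, hc⟩ := (CfsgLib.CharDegrees.orderOf_toPSL_dvd_iff A _).1 dvd_rfl
  exact ⟨_, orderOf_pow_orderOf_div (orderOf_pos _).ne' (ha.trans (h _ c hc))⟩

theorem mem_quadratic {F : Type*} [Field F] [Fintype F] (p : ℕ) [Fact p.Prime] [CharP F p] :
    ∃ A : Matrix.SpecialLinearGroup (Fin 3) F, ∀ (k : ℕ) (c : F),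
      (A : Matrix (Fin 3) (Fin 3) F) ^ k = Matrix.scalar (Fin 3) c →
        (Fintype.card F ^ 2 - 1) / Nat.gcd 3 (Fintype.card F - 1) ∣ k := by
  classical
  have hq1 : 2 ≤ Fintype.card F := Fintype.one_lt_card
  set q := Fintype.card F with hq
  set K := FiniteField.Extension F p 2
  obtain ⟨γ, hγ⟩ := IsCyclic.exists_generator (α := Kˣ)
  have hγo : orderOf γ = q ^ 2 - 1 := by
    rw [orderOf_eq_card_of_forall_mem_zpowers hγ, Nat.card_units, FiniteField.natCard_extension,
      Nat.card_eq_fintype_card]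
  set N := Algebra.norm F (γ : K) with hN
  have hN' : algebraMap F K N = (γ : K) ^ (q + 1) := by
    rw [hN, FiniteField.algebraMap_norm_eq_pow_sum, FiniteField.finrank_extension,
      Nat.card_eq_fintype_card, ← hq]
    simp [Finset.sum_range_succ, add_comm]
  have hN0 : N ≠ 0 := fun h => by
    rw [h, map_zero] at hN'
    exact pow_ne_zero _ γ.ne_zero hN'.symm
  have hfin : Module.finrank F (K × F) = 3 := by
    rw [Module.finrank_prod, FiniteField.finrank_extension, Module.finrank_self]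
  let b := Module.finBasisOfFinrankEq F (K × F) hfin
  set x : K × F := ((γ : K), N⁻¹) with hx
  have hdet : (Algebra.leftMulMatrix b x).det = 1 := by
    have hlm : Algebra.lmul F (K × F) x =
        (Algebra.lmul F K (γ : K)).prodMap (Algebra.lmul F F N⁻¹) :=
      LinearMap.ext fun z => rfl
    rw [← Algebra.norm_eq_matrix_det, Algebra.norm_apply, hlm, LinearMap.det_prodMap,
      ← Algebra.norm_apply, ← Algebra.norm_apply, Algebra.norm_self, ← hN]
    simp [hN0]
  refine ⟨⟨_, hdet⟩, fun k c hc => ?_⟩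
  have hxk : x ^ k = algebraMap F (K × F) c := by
    apply Algebra.leftMulMatrix_injective b
    rw [map_pow, AlgHom.commutes]
    exact hc
  have h1 : (γ : K) ^ k = algebraMap F K c := by
    simpa [hx] using congrArg Prod.fst hxk
  have h2 : (N⁻¹) ^ k = c := by simpa [hx] using congrArg Prod.snd hxk
  have h3 : γ ^ ((q + 2) * k) = 1 := by
    apply Units.ext
    rw [Units.val_pow_eq_pow_val, Units.val_one, show (q + 2) * k = k + (q + 1) * k by ring, pow_add,
      pow_mul, ← hN', ← map_pow, h1, ← map_mul, ← h2, ← mul_pow, inv_mul_cancel₀ hN0, one_pow,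
      map_one]
  have h4 : q ^ 2 - 1 ∣ (q + 2) * k := hγo ▸ orderOf_dvd_of_pow_eq_one h3
  have hg : Nat.gcd (q ^ 2 - 1) (q + 2) = Nat.gcd 3 (q - 1) := by
    rw [show q ^ 2 - 1 = (q + 1) * (q - 1) by rw [← Nat.sq_sub_sq, one_pow],
      Nat.Coprime.gcd_mul_left_cancel _
        (show Nat.Coprime (q + 1) (q + 1 + 1) from
          Nat.coprime_self_add_right.2 (Nat.coprime_one_right (q + 1))),
      Nat.gcd_comm 3, show q + 2 = 3 + (q - 1) by omega, Nat.gcd_add_self_right]
  obtain ⟨_, ⟨u, hu⟩⟩ : True ∧ Nat.gcd 3 (q - 1) ∣ q + 2 := ⟨trivial, hg ▸ Nat.gcd_dvd_right _ _⟩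
  have hdd : 0 < Nat.gcd 3 (q - 1) := Nat.gcd_pos_of_pos_left _ (by norm_num)
  have hco : Nat.Coprime ((q ^ 2 - 1) / Nat.gcd 3 (q - 1)) u := by
    have := Nat.coprime_div_gcd_div_gcd (m := q ^ 2 - 1) (n := q + 2) (hg ▸ hdd)
    rwa [hg, show (q + 2) / Nat.gcd 3 (q - 1) = u by rw [hu]; exact Nat.mul_div_cancel_left _ hdd]
      at this
  refine hco.dvd_of_dvd_mul_left ?_
  have h5 := Nat.div_dvd_div (hg ▸ Nat.gcd_dvd_left (q ^ 2 - 1) (q + 2)) h4
  rwa [hu, mul_assoc, Nat.mul_div_cancel_left _ hdd] at h5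

theorem mem_double {F : Type*} [Field F] [Fintype F] (p : ℕ) [Fact p.Prime] [CharP F p] :
    ∃ A : Matrix.SpecialLinearGroup (Fin 3) F, ∀ (k : ℕ) (c : F),
      (A : Matrix (Fin 3) (Fin 3) F) ^ k = Matrix.scalar (Fin 3) c →
        p * (Fintype.card F - 1) / Nat.gcd 3 (Fintype.card F - 1) ∣ k := by
  classical
  have hq1 : 2 ≤ Fintype.card F := Fintype.one_lt_card
  set q := Fintype.card F with hq
  obtain ⟨a, ha⟩ := IsCyclic.exists_generator (α := Fˣ)
  have hao : orderOf a = q - 1 := by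
    rw [orderOf_eq_card_of_forall_mem_zpowers ha, Nat.card_eq_fintype_card, Fintype.card_units]
  set U : Matrix (Fin 3) (Fin 3) F :=
    !![(a : F), (a : F), 0; 0, (a : F), 0; 0, 0, ((a⁻¹ ^ 2 : Fˣ) : F)] with hU
  have hdet : U.det = 1 := by
    rw [hU, Matrix.det_fin_three]
    simp [Units.val_pow_eq_pow_val]
    field_simp
  have hpow : ∀ k : ℕ, U ^ k = !![(a : F) ^ k, (k : F) * (a : F) ^ k, 0; 0, (a : F) ^ k, 0;
      0, 0, ((a⁻¹ ^ 2 : Fˣ) : F) ^ k] := by
    intro k
    induction k with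
    | zero => ext i j; fin_cases i <;> fin_cases j <;> simp
    | succ k ih =>
      rw [pow_succ, ih, hU]
      ext i j
      fin_cases i <;> fin_cases j <;> simp [Matrix.mul_apply, Fin.sum_univ_three, pow_succ] <;> ring
  refine ⟨⟨U, hdet⟩, fun k c hc => ?_⟩
  have hc' : U ^ k = Matrix.scalar (Fin 3) c := hc
  rw [hpow] at hc'
  have h01 : (k : F) * (a : F) ^ k = 0 := by simpa using congrFun (congrFun hc' 0) 1
  have h00 : (a : F) ^ k = c := by simpa using congrFun (congrFun hc' 0) 0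
  have h22 : ((a⁻¹ ^ 2 : Fˣ) : F) ^ k = c := by simpa using congrFun (congrFun hc' 2) 2
  have hpk : p ∣ k := (CharP.cast_eq_zero_iff F p k).1
    ((mul_eq_zero.1 h01).resolve_right (pow_ne_zero _ a.ne_zero))
  have h3 : a ^ (3 * k) = 1 := by
    have h : a ^ k = (a⁻¹ ^ 2) ^ k := Units.ext (by
      simp only [Units.val_pow_eq_pow_val] at h22 ⊢
      rw [h00, h22])
    rw [show 3 * k = k + 2 * k by ring, pow_add, pow_mul, h, ← mul_pow, inv_pow, inv_mul_cancel,
      one_pow]
  have h4 : q - 1 ∣ 3 * k := hao ▸ orderOf_dvd_of_pow_eq_one h3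
  set d := Nat.gcd 3 (q - 1) with hd
  have hd0 : 0 < d := Nat.gcd_pos_of_pos_left _ (by norm_num)
  have hdq : d ∣ q - 1 := Nat.gcd_dvd_right _ _
  have hek : (q - 1) / d ∣ k := by
    have hco : Nat.Coprime ((q - 1) / d) (3 / d) :=
      (Nat.coprime_div_gcd_div_gcd (hd ▸ hd0)).symm
    refine hco.dvd_of_dvd_mul_left ?_
    rw [Nat.mul_comm, ← Nat.mul_div_assoc k (Nat.gcd_dvd_left 3 (q - 1)), Nat.mul_comm k]
    exact Nat.div_dvd_div hdq h4
  rw [Nat.mul_div_assoc _ hdq]
  refine Nat.Coprime.mul_dvd_of_dvd_of_dvd ?_ hpk hek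
  refine ((Fact.out : p.Prime).coprime_iff_not_dvd.2 fun h => ?_)
  have h1 : p ∣ q - 1 := h.trans (Nat.div_dvd_of_dvd hdq)
  obtain ⟨f, -, hpf⟩ := FiniteField.card F p
  have h2 : p ∣ q := by rw [hq, hpf]; exact dvd_pow_self _ f.ne_zero
  have := Nat.dvd_sub h2 h1
  rw [show q - (q - 1) = 1 by omega] at this
  exact (Fact.out : p.Prime).not_dvd_one this

/-- The set of element orders of PSL(3,q): let F be a finite field of characteristic p with q elements and d = gcd(3, q − 1). The orders of elements of PSL(3,F) are exactly the divisors of (q² + q + 1)/d, of (q² − 1)/d, of q − 1, of p(q − 1)/d, and, when p = 2, of 4. -/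
theorem result {F : Type*} [Field F] [Fintype F] (p : ℕ) [Fact p.Prime] [CharP F p] :
    Set.range (orderOf : Matrix.ProjectiveSpecialLinearGroup (Fin 3) F → ℕ) =
      {m : ℕ | m ∣ (Fintype.card F ^ 2 + Fintype.card F + 1) / Nat.gcd 3 (Fintype.card F - 1) ∨
        m ∣ (Fintype.card F ^ 2 - 1) / Nat.gcd 3 (Fintype.card F - 1) ∨ m ∣ Fintype.card F - 1 ∨
        m ∣ p * (Fintype.card F - 1) / Nat.gcd 3 (Fintype.card F - 1) ∨ (p = 2 ∧ m ∣ 4)} := by
  ext a
  constructor
  · rintro ⟨g, rfl⟩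
    obtain ⟨A, rfl⟩ := QuotientGroup.mk_surjective g
    obtain ⟨k, hk, c, hc⟩ := scalar_cases p (A : Matrix (Fin 3) (Fin 3) F) A.2
    have h : orderOf (CfsgLib.CharDegrees.toPSL A) ∣ k :=
      (CfsgLib.CharDegrees.orderOf_toPSL_dvd_iff A k).2 ⟨c, hc⟩
    rcases hk with rfl | rfl | rfl | rfl | ⟨h2, rfl⟩
    · exact Or.inl h
    · exact Or.inr (Or.inl h)
    · exact Or.inr (Or.inr (Or.inl h))
    · exact Or.inr (Or.inr (Or.inr (Or.inl h)))
    · exact Or.inr (Or.inr (Or.inr (Or.inr ⟨h2, h⟩)))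
  · intro ha
    rcases ha with ha | ha | ha | ha | ⟨rfl, ha⟩
    · obtain ⟨A, hA⟩ := CfsgLib.CharDegrees.exists_psl_orderOf_singer (F := F) (n := 3) (by norm_num)
      refine mem_range_of_forall A (fun k c hc => ?_) ha
      have h := hA.trans ((CfsgLib.CharDegrees.orderOf_toPSL_dvd_iff A k).2 ⟨c, hc⟩)
      rwa [show ∑ i ∈ Finset.range 3, Fintype.card F ^ i =
        Fintype.card F ^ 2 + Fintype.card F + 1 by simp [Finset.sum_range_succ]; ring] at h
    · obtain ⟨A, hA⟩ := mem_quadratic (F := F) p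
      exact mem_range_of_forall A hA ha
    · classical
      obtain ⟨u, hu⟩ := IsCyclic.exists_generator (α := Fˣ)
      have hdet : (Matrix.diagonal ![(u : F), 1, ((u⁻¹ : Fˣ) : F)]).det = 1 := by
        simp [Matrix.det_diagonal, Fin.prod_univ_three]
      refine mem_range_of_forall ⟨_, hdet⟩ (m := Fintype.card F - 1) (fun k c hc => ?_) ha
      have hc' : (Matrix.diagonal ![(u : F), 1, ((u⁻¹ : Fˣ) : F)]) ^ k = Matrix.scalar (Fin 3) c := hc
      rw [Matrix.diagonal_pow] at hc'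
      have h0 := congrFun (congrFun hc' 0) 0
      have h1 := congrFun (congrFun hc' 1) 1
      simp at h0 h1
      rw [← Fintype.card_units, ← Nat.card_eq_fintype_card, ← orderOf_eq_card_of_forall_mem_zpowers hu,
        orderOf_dvd_iff_pow_eq_one]
      exact Units.ext (by rw [Units.val_pow_eq_pow_val, h0, ← h1]; rfl)
    · obtain ⟨A, hA⟩ := mem_double (F := F) p
      exact mem_range_of_forall A hA ha
    · obtain ⟨A, hA, -⟩ := CfsgLib.CharDegrees.exists_psl_unipotent (F := F) (n := 3) 2 (m := 3)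
        (t := 1) (by norm_num) le_rfl
      exact ⟨_, orderOf_pow_orderOf_div (orderOf_pos _).ne' (hA.symm ▸ ha :
        a ∣ orderOf (CfsgLib.CharDegrees.toPSL A))⟩

end Cfsg.Agent.S2476
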