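import Cfsg.Statements.S2060
import Cfsg.Agent.Lib.OutMathieu.Outer
import Cfsg.Agent.Lib.OutMathieu.CertM11

set_option autoImplicit false
open Cfsg CfsgLib.OutMathieu CfsgLib.Golay

namespace Cfsg.Agent.S2060

/-- The outer automorphism group of the Mathieu group M₁₁ (the stabiliser of a dodecad and one of its points in the automorphism group of the length-24 binary code) is trivial: every automorphism is inner. -/
theorem result : Nat.card (Cfsg.Out ↥Cfsg.Spor.M11) = 1 := by
  haveI : Fact (Nat.Prime certM11.p) := ⟨show Nat.Prime 11 by norm_num⟩
  refine Cert.natCard_out_eq_one certM11_valid certM11_noInv M11_eq_stabK ?_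
  rw [M11_eq_stabK, card_stabK_dodecad_point]
  decide +kernel

end Cfsg.Agent.S2060
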