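import Cfsg.Statements.S2916
import Cfsg.Agent.Lib.Involutions.GLTwoThree.Model
import Cfsg.Agent.Lib.Mathieu.Order7920.Steiner
import Cfsg.Agent.Lib.OrderDegrees.M11NSE

set_option autoImplicit false
open Cfsg

namespace Cfsg.Agent.S2916

/-- Let G be a finite group with O²(G) = G (no proper normal subgroup of 2-power index), and let t be an involution of G whose centralizer C_G(t) is isomorphic to GL₂(3). Then G is isomorphic to PSL₃(3) or to the Mathieu group M₁₁. -/
theorem result {G : Type*} [Group G] [Finite G] (hO : Cfsg.pResidual 2 G = ⊤) (t : G) (ht : orderOf t = 2) (hC : Nonempty (↥(Subgroup.centralizer ({t} : Set G)) ≃* GL (Fin 2) (ZMod 3))) : (∃ (F : Type) (_ : Field F) (_ : Fintype F), Fintype.card F = 3 ∧ Nonempty (G ≃* Matrix.ProjectiveSpecialLinearGroup (Fin 3) F)) ∨ Cfsg.Spor.IsoM11 G := by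
    classical
    haveI : Fact (Nat.Prime 3) := ⟨by norm_num⟩
    haveI := Fintype.ofFinite G
    obtain ⟨e⟩ := hC
    have hone : ∀ x : G, orderOf x = 2 → IsConj t x := fun x hx =>
      CfsgLib.Involutions.GLTwoThree.isConj_involution e ht hO hx
    have hsimple := CfsgLib.Involutions.GLTwoThree.isSimpleGroup e ht hone
    rcases CfsgLib.Involutions.GLTwoThree.card_eq e ht hO with h | h
    · exact Or.inl ⟨ZMod 3, inferInstance, inferInstance, ZMod.card 3,
        CfsgLib.Involutions.GLTwoThree.Model.nonempty_psl ⟨t, e, ht, hone, hsimple, h⟩⟩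
    · exact Or.inr (CfsgLib.Mathieu.Order7920.nonempty_mulEquiv ⟨hsimple, h⟩
        CfsgLib.OrderDegrees.M11NSE.isM11_sporM11)

end Cfsg.Agent.S2916
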