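import Cfsg.Statements.S3224
import Cfsg.Agent.Lib.InvChar.Basic
import Cfsg.Agent.Lib.TwoGroups.Basic
import Cfsg.Agent.Lib.TwoGroups.RankOne
import Cfsg.Agent.Lib.TwoGroups.PBasics

set_option autoImplicit false
open Cfsg
open CfsgLib.InvChar

namespace Cfsg.Agent.S3224

/-- A finite 2-group containing an involution whose centralizer has order 4 is dihedral, quasi-dihedral (semidihedral), or of order 4. -/
theorem result {S : Type*} [Group S] [Finite S] (hS : IsPGroup 2 S)
    (x : S) (hx : orderOf x = 2) (hC : Nat.card ↥(Subgroup.centralizer ({x} : Set S)) = 4) :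
    (∃ n : ℕ, Nonempty (S ≃* DihedralGroup n)) ∨ Cfsg.IsQuasiDihedral S ∨ Nat.card S = 4 := by
  classical
  haveI : Fact (Nat.Prime 2) := ⟨Nat.prime_two⟩
  by_cases h4 : Nat.card S = 4
  · exact Or.inr (Or.inr h4)
  have hx2 : x * x = 1 := by rw [← pow_two, ← hx]; exact pow_orderOf_eq_one x
  have hxinv : x⁻¹ = x := inv_eq_of_mul_eq_one_right hx2
  set C := Subgroup.centralizer ({x} : Set S) with hCdef
  obtain ⟨e, he⟩ := IsPGroup.iff_card.1 hS
  have he3 : 3 ≤ e := by
    have h1 : 4 ∣ 2 ^ e := by rw [← he, ← hC]; exact C.card_subgroup_dvd_card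
    rcases e with _ | _ | _ | e
    · norm_num at h1
    · norm_num at h1
    · exact absurd he (by simpa using h4)
    · omega
  have hcard8 : 8 ≤ Nat.card S := by
    rw [he]; exact (pow_le_pow_right₀ (by norm_num : 1 ≤ 2) he3)
  set D := commutator S with hDdef
  have hco : ∀ M : Subgroup S, IsCoatom M → D ≤ M ∧ ∀ g : S, g ^ 2 ∈ M := by
    intro M hM
    have hi := CfsgLib.TwoGroups.index_eq_of_isCoatom hS hM
    haveI : M.Normal := CfsgLib.TwoGroups.normal_of_isCoatom hS hM
    haveI : IsCyclic (S ⧸ M) := isCyclic_of_prime_card (p := 2) hi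
    letI : CommGroup (S ⧸ M) := IsCyclic.commGroup
    refine ⟨?_, fun g => ?_⟩
    · rw [hDdef, commutator_def, Subgroup.commutator_le]
      intro a _ b _
      rw [← QuotientGroup.eq_one_iff, ← QuotientGroup.mk'_apply, map_commutatorElement, commutatorElement_eq_one_iff_mul_comm]
      exact mul_comm _ _
    · have h0 := pow_card_eq_one' (x := (g : S ⧸ M))
      rw [show Nat.card (S ⧸ M) = 2 from hi] at h0
      exact (QuotientGroup.eq_one_iff _).1 h0
  have hΦ : D ≤ frattini S := by
    rw [frattini, Order.radical]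
    exact le_iInf₂ fun M hM => (hco M hM).1
  have hsq : ∀ g : S, g ^ 2 ∈ frattini S := by
    intro g
    rw [frattini, Order.radical, Subgroup.mem_iInf]
    intro M
    rw [Subgroup.mem_iInf]
    exact fun hM => (hco M hM).2 g
  -- the Frattini quotient is not cyclic
  have hnc : ¬ IsCyclic (S ⧸ frattini S) := by
    intro hcyc
    obtain ⟨g, hg⟩ := isCyclic_iff_exists_zpowers_eq_top.1 hcyc
    obtain ⟨g, rfl⟩ := QuotientGroup.mk_surjective g
    have htop : Subgroup.zpowers g ⊔ frattini S = ⊤ := by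
      rw [eq_top_iff]
      intro s _
      have : (s : S ⧸ frattini S) ∈ Subgroup.zpowers (g : S ⧸ frattini S) := hg ▸ Subgroup.mem_top _
      obtain ⟨k, hk⟩ := Subgroup.mem_zpowers_iff.1 this
      rw [← QuotientGroup.mk_zpow, QuotientGroup.eq] at hk
      have h2 := Subgroup.mul_mem _ (Subgroup.mem_sup_left (T := frattini S) (Subgroup.zpow_mem _ (Subgroup.mem_zpowers g) k))
        (Subgroup.mem_sup_right (S := Subgroup.zpowers g) hk)
      simpa using h2
    have hcy := frattini_nongenerating htop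
    have hC' : C = ⊤ := by
      rw [eq_top_iff]
      intro s _
      rw [Subgroup.mem_centralizer_singleton_iff]
      obtain ⟨i, rfl⟩ := Subgroup.mem_zpowers_iff.1 (hcy ▸ Subgroup.mem_top s)
      obtain ⟨j, rfl⟩ := Subgroup.mem_zpowers_iff.1 (hcy ▸ Subgroup.mem_top x)
      rw [← zpow_add, ← zpow_add, add_comm]
    rw [hC', Subgroup.card_top] at hC
    exact h4 hC
  have hΦi : 4 ≤ (frattini S).index := by
    obtain ⟨k, hk⟩ := hS.index (frattini S)
    rcases k with _ | _ | k
    · exfalso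
      apply hnc
      haveI : Subsingleton (S ⧸ frattini S) := (Nat.card_eq_one_iff_unique.1 (by simpa [Subgroup.index] using hk)).1
      exact isCyclic_of_subsingleton
    · exfalso
      apply hnc
      exact isCyclic_of_prime_card (p := 2) (by simpa [Subgroup.index] using hk)
    · rw [hk, show k + 1 + 1 = k + 2 by omega, pow_add]
      have := Nat.one_le_pow k 2 (by norm_num)
      omega
  -- the class of `x`
  have hclass : MulAction.orbit (ConjAct S) x ⊆ (fun u => x * u) '' (D : Set S) := by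
    rintro _ ⟨c, rfl⟩
    refine ⟨x⁻¹ * (ConjAct.ofConjAct c * x * (ConjAct.ofConjAct c)⁻¹), ?_, ?_⟩
    · have := Subgroup.commutator_mem_commutator (Subgroup.mem_top x⁻¹) (Subgroup.mem_top (ConjAct.ofConjAct c))
      rw [commutatorElement_def, inv_inv] at this
      rw [hDdef, commutator_def]
      simpa [mul_assoc] using this
    · simp [ConjAct.smul_def, mul_assoc]
  have horb : Nat.card (MulAction.orbit (ConjAct S) x) = C.index := by
    rw [Nat.card_congr (MulAction.orbitEquivQuotientStabilizer (ConjAct S) x), ConjAct.stabilizer_eq_centralizer,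
      Subgroup.index]
    rfl
  have hDi : D.index = 4 ∧ frattini S = D := by
    have h1 : C.index ≤ Nat.card D := by
      rw [← horb, Nat.card_coe_set_eq]
      refine (Set.ncard_le_ncard hclass).trans ((Set.ncard_image_le).trans ?_)
      rw [← Nat.card_coe_set_eq]
      rfl
    have h2 := C.index_mul_card
    have h3 := (frattini S).index_mul_card
    have h5 := Subgroup.card_le_of_le hΦ
    have h6 := D.index_mul_card
    rw [hC] at h2
    have h7 : Nat.card D = Nat.card ↥(frattini S) := by nlinarith [Nat.mul_le_mul_right (Nat.card ↥(frattini S)) hΦi]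
    have h8 : 4 * Nat.card D = Nat.card S := by nlinarith [Nat.mul_le_mul_right (Nat.card ↥(frattini S)) hΦi]
    refine ⟨Nat.eq_of_mul_eq_mul_right Nat.card_pos (h6.trans h8.symm), (Subgroup.eq_of_le_of_card_ge hΦ h7.ge).symm⟩
  obtain ⟨hDi, hDΦ⟩ := hDi
  have hDcard : 4 * Nat.card D = Nat.card S := by rw [← hDi]; exact D.index_mul_card
  have hclass' : MulAction.orbit (ConjAct S) x = (fun u => x * u) '' (D : Set S) := by
    refine Set.eq_of_subset_of_ncard_le hclass ?_
    rw [Set.ncard_image_of_injective _ (mul_right_injective x), ← Nat.card_coe_set_eq, ← Nat.card_coe_set_eq, horb]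
    have h2 := C.index_mul_card
    rw [hC] at h2
    show Nat.card D ≤ _
    omega
  have hxD : x ∉ D := by
    intro h
    have : (1 : S) ∈ MulAction.orbit (ConjAct S) x := by
      rw [hclass']
      exact ⟨x, h, hx2⟩
    obtain ⟨c, hc⟩ := this
    have hx1 : x = 1 := by
      have := congrArg (fun z => (c⁻¹ : ConjAct S) • z) hc
      simpa using this
    simp [hx1] at hx
  have hinv : ∀ u ∈ D, x * u * x⁻¹ = u⁻¹ := by
    intro u hu
    have : x * u ∈ MulAction.orbit (ConjAct S) x := hclass' ▸ ⟨u, hu, rfl⟩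
    obtain ⟨c, hc⟩ := this
    have h1 : (x * u) * (x * u) = 1 := by
      rw [show x * u = c • x from hc.symm, ← smul_mul', hx2, smul_one]
    calc x * u * x⁻¹ = (x * u) * (x * u) * u⁻¹ := by rw [hxinv]; group
      _ = u⁻¹ := by rw [h1, one_mul]
  -- `D` is cyclic
  letI : CommGroup D := { (inferInstance : Group D) with
    mul_comm := fun a b => Subtype.ext (by
      show (a : S) * b = b * a
      have h1 := hinv _ (mul_mem a.2 b.2)
      rw [← conj_mul, hinv a a.2, hinv b b.2, ← mul_inv_rev, inv_inj] at h1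
      exact h1.symm) }
  have hcycD : IsCyclic D := by
    refine CfsgLib.TwoGroups.isCyclic_of_uniqueOrderP_comm (p := 2) (hS.to_subgroup D) ?_
    rw [CfsgLib.TwoGroups.uniqueOrderP_iff_unique_involution]
    intro a b ha hb
    by_contra hne
    have hmemC : ∀ d : D, orderOf d = 2 → (d : S) ∈ D ⊓ C := by
      intro d hd
      refine ⟨d.2, Subgroup.mem_centralizer_singleton_iff.2 ?_⟩
      have h1 := hinv d d.2
      have h2 : (d : S)⁻¹ = d := inv_eq_of_mul_eq_one_right (by
        have := pow_orderOf_eq_one d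
        rw [hd, pow_two] at this
        exact congrArg Subtype.val this)
      rw [h2] at h1
      exact (mul_inv_eq_iff_eq_mul.1 h1).symm
    have hcard2 : Nat.card ↥(D ⊓ C) ≤ 2 := by
      have hlt : D ⊓ C < C := lt_of_le_of_ne inf_le_right fun h => hxD (h.ge (Subgroup.mem_centralizer_singleton_iff.2 rfl)).1
      have h1 := Subgroup.card_dvd_of_le hlt.le
      rw [hC] at h1
      have h2 : Nat.card ↥(D ⊓ C) ≠ 4 := fun h => hlt.ne (Subgroup.eq_of_le_of_card_ge hlt.le (by rw [h, hC]))
      have h3 := Nat.le_of_dvd (by norm_num) h1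
      rcases Nat.lt_or_ge (Nat.card ↥(D ⊓ C)) 3 with h | h
      · omega
      · exfalso; have : Nat.card ↥(D ⊓ C) = 3 := by omega
        rw [this] at h1; norm_num at h1
    haveI : Fintype ↥(D ⊓ C) := Fintype.ofFinite _
    rw [Nat.card_eq_fintype_card] at hcard2
    have h3 : ({1, ⟨a, hmemC a ha⟩, ⟨b, hmemC b hb⟩} : Finset ↥(D ⊓ C)).card ≤ 2 := (Finset.card_le_univ _).trans hcard2
    have ha1 : (a : S) ≠ 1 := fun h => by
      have : a = 1 := Subtype.ext h
      simp [this] at ha
    have hb1 : (b : S) ≠ 1 := fun h => by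
      have : b = 1 := Subtype.ext h
      simp [this] at hb
    have n1 : (1 : ↥(D ⊓ C)) ≠ ⟨a, hmemC a ha⟩ := fun h => ha1 (congrArg Subtype.val h).symm
    have n2 : (1 : ↥(D ⊓ C)) ≠ ⟨b, hmemC b hb⟩ := fun h => hb1 (congrArg Subtype.val h).symm
    have n3 : (⟨a, hmemC a ha⟩ : ↥(D ⊓ C)) ≠ ⟨b, hmemC b hb⟩ := fun h => hne (Subtype.ext (congrArg (Subtype.val : ↥(D ⊓ C) → S) h))
    rw [Finset.card_insert_of_notMem (by simp only [Finset.mem_insert, Finset.mem_singleton, not_or]; exact ⟨n1, n2⟩),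
      Finset.card_insert_of_notMem (by simp only [Finset.mem_singleton]; exact n3), Finset.card_singleton] at h3
    omega
  -- an element outside `⟨x⟩ D`
  obtain ⟨y, hy⟩ : ∃ y : S, y ∉ Subgroup.zpowers x ⊔ D := by
    by_contra! hall
    have htop : Subgroup.zpowers x ⊔ D = ⊤ := (Subgroup.eq_top_iff' _).2 hall
    rw [← hDΦ] at htop
    have hcy := frattini_nongenerating htop
    have h1 : Nat.card S ≤ 2 := by
      rw [← Subgroup.card_top, ← hcy, Nat.card_zpowers, hx]
    omega
  -- the images generate `S / D`, hence `x, y` generate `S`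
  have hgen : Subgroup.zpowers x ⊔ Subgroup.zpowers y ⊔ frattini S = ⊤ := by
    rw [hDΦ]
    set T := Subgroup.zpowers x ⊔ Subgroup.zpowers y ⊔ D with hT
    have hlt1 : D < Subgroup.zpowers x ⊔ D :=
      lt_of_le_of_ne le_sup_right fun h => hxD (h ▸ Subgroup.mem_sup_left (Subgroup.mem_zpowers x))
    have hlt2 : Subgroup.zpowers x ⊔ D < T :=
      lt_of_le_of_ne (sup_le (le_sup_left.trans le_sup_left) le_sup_right)
        fun h => hy (h ▸ Subgroup.mem_sup_left (Subgroup.mem_sup_right (Subgroup.mem_zpowers y)))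
    by_contra hne
    have a1 := Subgroup.index_strictAnti hlt1
    have a2 := Subgroup.index_strictAnti hlt2
    have a3 : 1 < T.index := by
      rcases Nat.lt_or_ge 1 T.index with h | h
      · exact h
      · exact absurd (Subgroup.index_eq_one.1 (by have := Nat.pos_of_ne_zero (Subgroup.index_ne_zero_of_finite (H := T)); omega)) hne
    have b1 : (Subgroup.zpowers x ⊔ D).index ∣ 4 := hDi ▸ Subgroup.index_dvd_of_le hlt1.le
    rw [hDi] at a1
    have : (Subgroup.zpowers x ⊔ D).index = 3 := by omega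
    rw [this] at b1; norm_num at b1
  have hgen' : Subgroup.zpowers x ⊔ Subgroup.zpowers y = ⊤ := frattini_nongenerating hgen
  -- `D` is generated by `c = [x, y]`
  obtain ⟨c, hc⟩ : ∃ c, c = x * y * x⁻¹ * y⁻¹ := ⟨_, rfl⟩
  have hcD : c ∈ D := by
    rw [hc, hDdef, commutator_def, ← commutatorElement_def]
    exact Subgroup.commutator_mem_commutator (Subgroup.mem_top x) (Subgroup.mem_top y)
  haveI hcn : (Subgroup.zpowers c).Normal := by
    haveI : D.Normal := inferInstanceAs (commutator S).Normal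
    obtain ⟨d, hd⟩ := (Subgroup.isCyclic_iff_exists_zpowers_eq_top D).1 hcycD
    refine ⟨fun z hz g => ?_⟩
    obtain ⟨i, rfl⟩ := Subgroup.mem_zpowers_iff.1 hz
    obtain ⟨j, hj⟩ := Subgroup.mem_zpowers_iff.1 (show c ∈ Subgroup.zpowers d from hd.symm ▸ hcD)
    have hgd : g * d * g⁻¹ ∈ Subgroup.zpowers d := by
      rw [hd]; exact (inferInstance : D.Normal).conj_mem d (hd ▸ Subgroup.mem_zpowers d) g
    obtain ⟨k, hk⟩ := Subgroup.mem_zpowers_iff.1 hgd
    refine ⟨k * i, ?_⟩
    show c ^ (k * i) = g * c ^ i * g⁻¹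
    rw [← conj_zpow, zpow_mul]
    congr 1
    rw [← hj, ← conj_zpow, ← hk, ← zpow_mul, ← zpow_mul, mul_comm]
  have hDc : D ≤ Subgroup.zpowers c := by
    rw [hDdef, commutator_def]
    let q := QuotientGroup.mk' (Subgroup.zpowers c)
    have hqc : q x * q y = q y * q x := by
      rw [← commutatorElement_eq_one_iff_mul_comm, ← map_commutatorElement]
      exact (QuotientGroup.eq_one_iff _).2 (by rw [commutatorElement_def, ← hc]; exact Subgroup.mem_zpowers c)
    have hcent : ∀ a : S, q a * q x = q x * q a ∧ q a * q y = q y * q a := by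
      intro a
      have : a ∈ (Subgroup.centralizer ({q x, q y} : Set _)).comap q := by
        have hle : Subgroup.zpowers x ⊔ Subgroup.zpowers y ≤ (Subgroup.centralizer ({q x, q y} : Set _)).comap q := by
          refine sup_le (Subgroup.zpowers_le.2 ?_) (Subgroup.zpowers_le.2 ?_)
          · exact Subgroup.mem_centralizer_iff.2 (by rintro z (rfl | rfl) <;> simp [hqc])
          · exact Subgroup.mem_centralizer_iff.2 (by rintro z (rfl | rfl) <;> simp [hqc])
        exact hle (hgen' ▸ Subgroup.mem_top a)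
      exact ⟨(Subgroup.mem_centralizer_iff.1 this (q x) (Or.inl rfl)).symm,
        (Subgroup.mem_centralizer_iff.1 this (q y) (Or.inr rfl)).symm⟩
    rw [Subgroup.commutator_le]
    intro a _ b _
    rw [← QuotientGroup.eq_one_iff]
    show q (a * b * a⁻¹ * b⁻¹) = 1
    rw [← commutatorElement_def]
    rw [map_commutatorElement, commutatorElement_eq_one_iff_mul_comm]
    have hle : Subgroup.zpowers x ⊔ Subgroup.zpowers y ≤ (Subgroup.centralizer ({q a} : Set _)).comap q := by
      refine sup_le (Subgroup.zpowers_le.2 ?_) (Subgroup.zpowers_le.2 ?_)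
      · exact Subgroup.mem_centralizer_singleton_iff.2 (hcent a).1.symm
      · exact Subgroup.mem_centralizer_singleton_iff.2 (hcent a).2.symm
    exact (Subgroup.mem_centralizer_singleton_iff.1 (hle (hgen' ▸ Subgroup.mem_top b))).symm
  have hy2 : y ^ 2 ∈ D := hDΦ ▸ hsq y
  have hxy2 : (x * y) ^ 2 ∈ D := hDΦ ▸ hsq _
  have hc' : c = (x * y) ^ 2 * (y ^ 2)⁻¹ := by
    rw [hc, hxinv, pow_two, pow_two]; group
  -- one of `y`, `x y` squares to a generator of `D`
  obtain ⟨a, ha2, haD⟩ : ∃ a : S, a ^ 2 ∈ D ∧ D ≤ Subgroup.zpowers (a ^ 2) := by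
    by_contra! hcon
    have key : ∀ z ∈ D, ¬ D ≤ Subgroup.zpowers z → z ∈ Subgroup.zpowers (c ^ 2) := by
      intro z hz hnle
      obtain ⟨k, rfl⟩ := Subgroup.mem_zpowers_iff.1 (hDc hz)
      rcases Int.emod_two_eq k with h | h
      · exact ⟨k / 2, by
          show (c ^ 2) ^ (k / 2) = c ^ k
          rw [← zpow_natCast c 2, ← zpow_mul]; congr 1; omega⟩
      · exfalso
        apply hnle
        refine hDc.trans (Subgroup.zpowers_le.2 ?_)
        obtain ⟨m, hm⟩ := IsPGroup.iff_orderOf.1 hS c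
        have hco : IsCoprime k (orderOf c : ℤ) := by
          rw [hm]; push_cast
          exact IsCoprime.pow_right ((Int.prime_two.coprime_iff_not_dvd).2 (by omega)).symm
        obtain ⟨u, v, huv⟩ := hco
        refine ⟨u, ?_⟩
        show (c ^ k) ^ u = c
        rw [← zpow_mul, show k * u = 1 - v * (orderOf c : ℤ) by linarith, zpow_sub, zpow_one, mul_comm v, zpow_mul,
          zpow_natCast, pow_orderOf_eq_one, one_zpow, inv_one, mul_one]
    have hmem : c ∈ Subgroup.zpowers (c ^ 2) := by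
      have h0 := mul_mem (key _ hxy2 (hcon _ hxy2)) (inv_mem (key _ hy2 (hcon _ hy2)))
      rwa [← hc'] at h0
    obtain ⟨m, hm⟩ := IsPGroup.iff_orderOf.1 hS c
    have hle : Subgroup.zpowers c ≤ Subgroup.zpowers (c ^ 2) := Subgroup.zpowers_le.2 hmem
    have h1 := Subgroup.card_le_of_le hle
    rw [Nat.card_zpowers, Nat.card_zpowers, hm] at h1
    rcases m with _ | m
    · have hc1 : c = 1 := orderOf_eq_one_iff.1 (by simpa using hm)
      have : D = ⊥ := le_bot_iff.1 (hDc.trans (by rw [hc1, Subgroup.zpowers_one_eq_bot]))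
      rw [this, Subgroup.card_bot] at hDcard
      omega
    · rw [orderOf_pow_of_dvd (by norm_num) (hm ▸ dvd_pow_self 2 (by omega)), hm] at h1
      have : 2 ^ (m + 1) / 2 < 2 ^ (m + 1) := Nat.div_lt_self (by positivity) (by norm_num)
      omega
  obtain ⟨m, hm⟩ := IsPGroup.iff_card.1 (hS.to_subgroup D)
  have hcard2a : orderOf (a ^ 2) = 2 ^ m := by
    rw [← Nat.card_zpowers, ← hm]
    congr
    exact le_antisymm (Subgroup.zpowers_le.2 ha2) haD
  have hm1 : 1 ≤ m := by
    rcases m with _ | m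
    · rw [pow_zero] at hm; omega
    · omega
  have hoa : orderOf a = 2 ^ (m + 1) := by
    have hpa : 2 ∣ orderOf a := hS.dvd_orderOf (by
      rintro rfl
      rw [one_pow, orderOf_one] at hcard2a
      have : 2 ^ 1 ≤ 2 ^ m := pow_le_pow_right₀ (by norm_num) hm1
      omega)
    rw [orderOf_pow_of_dvd (by norm_num) hpa] at hcard2a
    rw [pow_succ, ← hcard2a, Nat.div_mul_cancel hpa]
  have hS2 : Nat.card S = 2 * 2 ^ (m + 1) := by rw [← hDcard, hm, pow_succ]; ring
  have hxa : x ∉ Subgroup.zpowers a := by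
    intro h
    obtain ⟨k, hk⟩ := Subgroup.mem_zpowers_iff.1 h
    have h2 : a ^ (2 * k) = 1 := by rw [mul_comm, zpow_mul, hk]; exact (zpow_ofNat x 2).trans (by rw [pow_two, hx2])
    rw [CfsgLib.TwoGroups.zpow_eq_one_iff_dvd hoa] at h2
    obtain ⟨t, ht⟩ := h2
    have hk2 : k = 2 ^ m * t := by push_cast at ht; rw [pow_succ] at ht; linarith
    apply hxD
    rw [← hk, hk2]
    obtain ⟨j, rfl⟩ : ∃ j, m = j + 1 := ⟨m - 1, by omega⟩
    rw [show (2 : ℤ) ^ (j + 1) * t = 2 * (2 ^ j * t) by rw [pow_succ]; ring, zpow_mul]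
    exact Subgroup.zpow_mem _ (by rw [zpow_ofNat]; exact ha2) _
  haveI : (Subgroup.zpowers a).Normal := Subgroup.normal_of_index_eq_two
    (CfsgLib.TwoGroups.index_zpowers_eq_two (hS2.trans (by rw [hoa])))
  obtain ⟨r, hr⟩ := Subgroup.mem_zpowers_iff.1
    ((inferInstance : (Subgroup.zpowers a).Normal).conj_mem a (Subgroup.mem_zpowers a) x)
  have h2r : a ^ (2 * r) = a ^ (-2 : ℤ) := by
    rw [mul_comm, zpow_mul, hr, zpow_neg, zpow_ofNat, zpow_ofNat, conj_pow]
    exact hinv _ ha2
  rw [CfsgLib.TwoGroups.zpow_eq_zpow_iff_dvd hoa] at h2r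
  obtain ⟨t, ht⟩ := h2r
  have hr1 : r = -1 - 2 ^ m * t := by push_cast at ht; rw [pow_succ] at ht; linarith
  have hpow2 : (a ^ ((2 : ℤ) ^ m)) ^ (2 : ℤ) = 1 := by
    rw [← zpow_mul, CfsgLib.TwoGroups.zpow_eq_one_iff_dvd hoa]
    exact ⟨1, by push_cast; rw [pow_succ]; ring⟩
  obtain ⟨s, hs⟩ : ∃ s, t = 2 * s ∨ t = 2 * s + 1 := ⟨t / 2, by omega⟩
  rcases hs with rfl | rfl
  · left
    refine ⟨2 ^ (m + 1), CfsgLib.TwoGroups.nonempty_mulEquiv_dihedral hoa hS2 hxa (by rw [pow_two, hx2]) ?_⟩
    rw [← hr, hr1, show (-1 : ℤ) - 2 ^ m * (2 * s) = -1 + 2 ^ m * 2 * (-s) by ring, zpow_add, zpow_mul (a) (2 ^ m * 2),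
      zpow_mul a, hpow2, one_zpow, mul_one, zpow_neg, zpow_one]
  · rcases Nat.lt_or_ge m 2 with hm2 | hm2
    · -- `S` would be abelian
      obtain rfl : m = 1 := by omega
      exfalso
      have hfix : x * a * x⁻¹ = a := by
        rw [← hr]
        nth_rw 2 [← zpow_one a]
        rw [CfsgLib.TwoGroups.zpow_eq_zpow_iff_dvd hoa, hr1]
        exact ⟨s + 1, by push_cast; ring⟩
      have hle : Subgroup.zpowers a ⊔ Subgroup.zpowers x ≤ C := by
        refine sup_le (Subgroup.zpowers_le.2 ?_) (Subgroup.zpowers_le.2 ?_)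
        · exact Subgroup.mem_centralizer_singleton_iff.2 (mul_inv_eq_iff_eq_mul.1 hfix).symm
        · exact Subgroup.mem_centralizer_singleton_iff.2 rfl
      have hlt : Subgroup.zpowers a < Subgroup.zpowers a ⊔ Subgroup.zpowers x :=
        lt_of_le_of_ne le_sup_left fun h => hxa (h ▸ Subgroup.mem_sup_right (Subgroup.mem_zpowers x))
      have h1 := Subgroup.card_le_of_le hle
      have h2 : Nat.card ↥(Subgroup.zpowers a) < Nat.card ↥(Subgroup.zpowers a ⊔ Subgroup.zpowers x) :=
        lt_of_not_ge fun hge => hlt.ne (Subgroup.eq_of_le_of_card_ge hlt.le hge)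
      rw [Nat.card_zpowers, hoa] at h2
      rw [hC] at h1
      norm_num at h2
      omega
    · right; left
      refine ⟨m + 1, by omega, by rw [hS2]; ring, a, x, hoa, hx, ?_⟩
      rw [← hr, show m + 1 - 1 = m by omega, ← zpow_natCast a (2 ^ m - 1)]
      rw [CfsgLib.TwoGroups.zpow_eq_zpow_iff_dvd hoa, hr1]
      refine ⟨s + 1, ?_⟩
      rw [Nat.cast_sub Nat.one_le_two_pow]
      push_cast; ring

end Cfsg.Agent.S3224
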