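import Cfsg.Statements.S1644
import Cfsg.Agent.Lib.J1Order.Unique.Main
import Cfsg.Agent.Lib.JankoOne.Involution

set_option autoImplicit false
open Cfsg

namespace Cfsg.Agent.S1644

/-- The first Janko group recognised by an involution centraliser, at the level of isomorphism: a finite simple group with abelian Sylow 2-subgroups of order 8 and an involution whose centraliser is isomorphic to Z/2 × A₅ is isomorphic to the subgroup of GL(7, 11) generated by the two explicit Janko matrices. -/
theorem result {G : Type*} [Group G] [Finite G] [IsSimpleGroup G] (S : Sylow 2 G) (hS : IsMulCommutative (S : Subgroup G)) (h8 : Nat.card S = 8) (t : G) (ht : orderOf t = 2) (e : (Subgroup.centralizer ({t} : Set G)) ≃* Multiplicative (ZMod 2) × alternatingGroup (Fin 5)) : Cfsg.Spor.IsoJ1 G := by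
  haveI : IsSimpleGroup Cfsg.Spor.J1 := CfsgLib.SporadicB.J1Cert.isJ1.1
  have hc : Nat.card Cfsg.Spor.J1 = 175560 := CfsgLib.SporadicB.J1Cert.isJ1.2
  have h16 : ¬ 16 ∣ Nat.card G := by
    intro h
    have := S.pow_dvd_card_of_pow_dvd_card (n := 4) (by norm_num; exact h)
    rw [h8] at this
    norm_num at this
  obtain ⟨H, -⟩ := CfsgLib.J1Order.exists_hyp ht h16 e
  obtain ⟨u, hu, ⟨f⟩⟩ := CfsgLib.JankoOne.exists_involution_centralizer
  obtain ⟨H', -⟩ := CfsgLib.J1Order.exists_hyp hu (by rw [hc]; norm_num) f
  exact CfsgLib.J1Order.nonempty_mulEquiv H H'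

end Cfsg.Agent.S1644
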