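import Cfsg.Statements.S3189
import Cfsg.Agent.Lib.Involutions.ReeExclusion
import Cfsg.Agent.Lib.SmallGroups.TransferFixed
import Cfsg.Agent.Lib.NormalComplements.AutCount

set_option autoImplicit false
open Cfsg

namespace Cfsg.Agent.S3189

open CfsgLib CfsgLib.Involutions in
/-- Structure of the centralizer of an involution when `|N(S):C(S)| = 21`, and the resulting
contradiction. -/
private theorem not_twenty_one {G : Type*} [Group G] [Finite G] [IsSimpleGroup G]
    (hG : ¬ IsMulCommutative G) (S : Sylow 2 G) (hS8 : Nat.card (S : Subgroup G) = 8)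
    (hab : IsMulCommutative (S : Subgroup G))
    (hC : ∀ t : G, orderOf t = 2 → Group.IsSolvable ↥(Subgroup.centralizer ({t} : Set G)))
    {t : G} (htS : t ∈ (S : Subgroup G)) (ht : orderOf t = 2)
    (hone : ∀ e ∈ (S : Subgroup G), e ≠ 1 → IsConj t e)
    {g : G} (hgN : g ∈ Subgroup.normalizer ((S : Subgroup G) : Set G))
    (hgt : g ∈ Subgroup.centralizer ({t} : Set G))
    (hg3 : g ^ 3 ∈ Subgroup.centralizer ((S : Subgroup G) : Set G))
    (hgS : g ∉ Subgroup.centralizer ((S : Subgroup G) : Set G))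
    (hgen : ∀ x ∈ Subgroup.normalizer ((S : Subgroup G) : Set G),
      x ∈ Subgroup.centralizer ({t} : Set G) →
      ∃ i : ℕ, (g ^ i)⁻¹ * x ∈ Subgroup.centralizer ((S : Subgroup G) : Set G)) : False := by
  classical
  haveI : Fact (Nat.Prime 2) := ⟨Nat.prime_two⟩
  haveI := hC t ht
  set C := Subgroup.centralizer ({t} : Set G) with hCdef
  set O := centralizerPPrimeCore 2 t with hOdef
  have hOC : O ≤ C := Balance.centralizerPPrimeCore_le_centralizer 2 t
  have hOn : ∀ c ∈ C, ∀ n ∈ O, c * n * c⁻¹ ∈ O := fun c hc n hn =>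
    (Subgroup.mem_normalizer_iff.1
      (Balance.centralizer_le_normalizer_centralizerPPrimeCore 2 t hc) n).1 hn
  have hOodd : ¬ 2 ∣ Nat.card O := Balance.not_dvd_card_centralizerPPrimeCore (p := 2) t
  have hcomm : ∀ a ∈ (S : Subgroup G), ∀ b ∈ (S : Subgroup G), a * b = b * a := fun a ha b hb =>
    congrArg Subtype.val (hab.is_comm.comm ⟨a, ha⟩ ⟨b, hb⟩)
  have hSC : (S : Subgroup G) ≤ C := fun s hs => by
    rw [hCdef, Subgroup.mem_centralizer_singleton_iff]; exact hcomm s hs t htS
  have hSO : ∀ y ∈ (S : Subgroup G), y ∈ O → y = 1 := fun y hy hyO => by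
    have hd : Nat.Coprime (Nat.card (S : Subgroup G)) (Nat.card O) := by
      rw [hS8, show 8 = 2 ^ 3 by norm_num]
      exact (Nat.prime_two.coprime_iff_not_dvd.2 hOodd).pow_left 3
    have := Subgroup.mem_inf.2 ⟨hy, hyO⟩
    rwa [Subgroup.inf_eq_bot_of_coprime hd, Subgroup.mem_bot] at this
  -- quotient by the core
  let N := pPrimeCore 2 ↥C
  haveI hNn : N.Normal := Subgroup.sSup_normal _ (fun _ h => h.1)
  let π := QuotientGroup.mk' N
  let SC : Sylow 2 ↥C := S.subtype hSC
  let T : Sylow 2 (↥C ⧸ N) := SC.mapSurjective (QuotientGroup.mk'_surjective N)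
  have hTab : ∀ a ∈ (T : Subgroup (↥C ⧸ N)), ∀ b ∈ (T : Subgroup (↥C ⧸ N)), a * b = b * a := by
    intro a ha b hb
    obtain ⟨a', ha', rfl⟩ := Subgroup.mem_map.1 ha
    obtain ⟨b', hb', rfl⟩ := Subgroup.mem_map.1 hb
    rw [← map_mul, ← map_mul]
    exact congrArg π (Subtype.ext (hcomm _ ha' _ hb'))
  have hP := Balance.centralizer_pCore_le_of_isSolvable (G := ↥C) (p := 2)
  have hpT : pCore 2 (↥C ⧸ N) ≤ (T : Subgroup (↥C ⧸ N)) :=
    IsPGroup.le_sylow_of_normal (Cores.isPGroup_pCore 2 _) T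
  have hTp : (T : Subgroup (↥C ⧸ N)) ≤ pCore 2 (↥C ⧸ N) := fun a ha =>
    hP (Subgroup.mem_centralizer_iff.2 fun b hb => hTab b (hpT hb) a ha)
  have hTeq : pCore 2 (↥C ⧸ N) = (T : Subgroup (↥C ⧸ N)) := le_antisymm hpT hTp
  have hlift : ∀ x : ↥C, π x ∈ (T : Subgroup (↥C ⧸ N)) →
      ∃ s ∈ (S : Subgroup G), ∃ o ∈ O, (x : G) = s * o := by
    intro x hx
    obtain ⟨s', hs', e⟩ := Subgroup.mem_map.1 hx
    exact ⟨s', hs', (s' : G)⁻¹ * x, ⟨s'⁻¹ * x, QuotientGroup.eq.1 e, rfl⟩, by
      rw [mul_inv_cancel_left]⟩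
  -- `S O` is normal in `C`, so `C = N_C(S) O`
  have hfrat : ∀ x ∈ C, ∃ n ∈ Subgroup.normalizer ((S : Subgroup G) : Set G), n ∈ C ∧
      ∃ o ∈ O, x = n * o := by
    haveI : (pCore 2 (↥C ⧸ N)).Normal := Subgroup.sSup_normal _ (fun _ h => h.1)
    let K : Subgroup ↥C := (pCore 2 (↥C ⧸ N)).comap π
    haveI : K.Normal := Subgroup.Normal.comap inferInstance π
    have hle : (SC : Subgroup ↥C) ≤ K := fun x hx => by
      show π x ∈ pCore 2 (↥C ⧸ N)
      rw [hTeq]
      exact Subgroup.mem_map_of_mem _ hx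
    have htop : Subgroup.normalizer ((SC : Subgroup ↥C) : Set ↥C) ⊔ K = ⊤ :=
      Sylow.normalizer_sup_eq_top' SC hle
    intro x hx
    have hm : (⟨x, hx⟩ : ↥C) ∈
        Subgroup.normalizer ((SC : Subgroup ↥C) : Set ↥C) ⊔ K := by rw [htop]; trivial
    obtain ⟨n, hn, k, hk, e⟩ := Subgroup.mem_sup_of_normal_right.1 hm
    have hk' : π k ∈ (T : Subgroup (↥C ⧸ N)) := hTeq ▸ hk
    obtain ⟨s, hs, o, ho, hso⟩ := hlift k hk'
    have hnN : (n : G) ∈ Subgroup.normalizer ((S : Subgroup G) : Set G) := by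
      rw [Subgroup.mem_normalizer_iff]
      intro y
      constructor
      · intro hy
        exact (Subgroup.mem_normalizer_iff.1 hn ⟨y, hSC hy⟩).1 hy
      · intro hy
        have hyC : y ∈ C := by
          have := C.mul_mem (C.mul_mem (C.inv_mem n.2) (hSC hy)) n.2
          simpa [mul_assoc] using this
        exact (Subgroup.mem_normalizer_iff.1 hn ⟨y, hyC⟩).2 hy
    refine ⟨n * s, Subgroup.mul_mem _ hnN (Subgroup.le_normalizer hs), C.mul_mem n.2 (hSC hs), o,
      ho, ?_⟩
    rw [mul_assoc, ← hso]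
    exact (congrArg Subtype.val e).symm
  have hcS : ∀ x ∈ Subgroup.centralizer ((S : Subgroup G) : Set G),
      ∃ s ∈ (S : Subgroup G), ∃ o ∈ O, x = s * o := by
    intro x hx
    have hxC : x ∈ C := by
      rw [hCdef, Subgroup.mem_centralizer_singleton_iff]
      exact ((Subgroup.mem_centralizer_iff.1 hx) t htS).symm
    refine hlift ⟨x, hxC⟩ (hTeq ▸ hP (Subgroup.mem_centralizer_iff.2 fun b hb => ?_))
    obtain ⟨b', hb', rfl⟩ := Subgroup.mem_map.1 (hpT hb)
    rw [← map_mul, ← map_mul]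
    exact congrArg π (Subtype.ext ((Subgroup.mem_centralizer_iff.1 hx) _ hb'))
  -- an element of odd order
  obtain ⟨a, m, hm, he⟩ := Nat.exists_eq_two_pow_mul_odd (orderOf_pos g).ne'
  set v := g ^ (2 ^ a) with hv
  have hvC : v ∈ C := pow_mem hgt _
  have hvN : v ∈ Subgroup.normalizer ((S : Subgroup G) : Set G) := pow_mem hgN _
  have hvodd : Odd (orderOf v) := by
    rw [hv, orderOf_pow, he, Nat.gcd_mul_right_left, Nat.mul_div_cancel_left _ (by positivity)]
    exact hm
  have hv3c : v ^ 3 ∈ Subgroup.centralizer ((S : Subgroup G) : Set G) := by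
    rw [hv, ← pow_mul, mul_comm, pow_mul]; exact pow_mem hg3 _
  have hv3 : v ^ 3 ∈ O := by
    obtain ⟨s, hs, o, ho, e⟩ := hcS _ hv3c
    have hcso : Commute s o := by
      have := (Subgroup.mem_centralizer_iff.1 hv3c) s hs
      rw [e, ← mul_assoc, mul_assoc s o s] at this
      exact (mul_left_cancel (by rw [← mul_assoc]; exact this) : s * o = o * s)
    have hs1 : s = 1 := by
      set k := orderOf (v ^ 3) * Nat.card O with hk
      have hk1 : (v ^ 3) ^ k = 1 := by
        rw [hk, pow_mul, pow_orderOf_eq_one, one_pow]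
      have ho1 : o ^ k = 1 := by
        rw [hk, mul_comm, pow_mul]
        rw [orderOf_dvd_iff_pow_eq_one.1 (Subgroup.orderOf_dvd_natCard _ ho), one_pow]
      rw [e, hcso.mul_pow, ho1, mul_one] at hk1
      have h2 : orderOf s ∣ 8 := hS8 ▸ Subgroup.orderOf_dvd_natCard _ hs
      have hkodd : Odd k := by
        refine Odd.mul ?_ (Nat.odd_iff.2 (Nat.two_dvd_ne_zero.1 hOodd))
        rw [orderOf_pow]
        exact hvodd.of_dvd_nat (Nat.div_dvd_of_dvd (Nat.gcd_dvd_left _ _))
      exact orderOf_eq_one_iff.1 (Nat.eq_one_of_dvd_coprimes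
        ((Nat.coprime_two_left.2 hkodd).pow_left 3) h2 (orderOf_dvd_of_pow_eq_one hk1))
    rw [e, hs1, one_mul]
    exact ho
  have hgv : ∃ i : ℕ, (v ^ i)⁻¹ * g ∈ Subgroup.centralizer ((S : Subgroup G) : Set G) := by
    -- `2 ^ a` is invertible modulo three
    have h2 : 2 ^ a % 3 = 1 ∨ 2 ^ a % 3 = 2 := by
      have : ¬ 3 ∣ 2 ^ a := fun h => by
        have := Nat.prime_three.dvd_of_dvd_pow h; omega
      omega
    have hd : ∀ i j : ℕ, 2 ^ a * i = 1 + 3 * j →
        (v ^ i)⁻¹ * g ∈ Subgroup.centralizer ((S : Subgroup G) : Set G) := by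
      intro i j h
      rw [hv, ← pow_mul, h, pow_add, pow_one, pow_mul, mul_inv_rev, inv_mul_cancel_right]
      exact inv_mem (pow_mem hg3 j)
    have hdiv := Nat.div_add_mod (2 ^ a) 3
    rcases h2 with h | h
    · exact ⟨1, hd 1 (2 ^ a / 3) (by omega)⟩
    · exact ⟨2, hd 2 (2 * (2 ^ a / 3) + 1) (by omega)⟩
  obtain ⟨i₀, hi₀⟩ := hgv
  have hvS : v ∉ Subgroup.centralizer ((S : Subgroup G) : Set G) := fun h =>
    hgS (by simpa using Subgroup.mul_mem _ (pow_mem h i₀) hi₀)
  have hconjS : ∀ w ∈ Subgroup.normalizer ((S : Subgroup G) : Set G), ∀ s ∈ (S : Subgroup G),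
      w * s * w⁻¹ ∈ (S : Subgroup G) := fun w hw s hs =>
    (Subgroup.mem_normalizer_iff.1 hw s).1 hs
  have hdec : ∀ x ∈ C, ∃ i < 3, ∃ s ∈ (S : Subgroup G), ∃ o ∈ O, x = v ^ i * s * o := by
    intro x hx
    obtain ⟨n, hnN, hnC, o, ho, rfl⟩ := hfrat x hx
    obtain ⟨i, hi⟩ := hgen n hnN hnC
    have hsubN : Subgroup.centralizer ((S : Subgroup G) : Set G) ≤
        Subgroup.normalizer ((S : Subgroup G) : Set G) := fun z hz => by
      rw [Subgroup.mem_normalizer_iff]
      intro y
      constructor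
      · intro hy
        rw [← (Subgroup.mem_centralizer_iff.1 hz) y hy, mul_inv_cancel_right]; exact hy
      · intro hy
        have := (Subgroup.mem_centralizer_iff.1 hz) _ hy
        have e2 : z * y * z⁻¹ = y := mul_left_cancel (a := z) (by
          rw [← this]; group)
        rwa [e2] at hy
    -- `g ^ i ≡ v ^ (i₀ i)`
    have key : ∀ k : ℕ, (v ^ (i₀ * k))⁻¹ * g ^ k ∈
        Subgroup.centralizer ((S : Subgroup G) : Set G) := by
      intro k
      have hcv : Commute v g := (Commute.refl g).pow_left _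
      rw [pow_mul, ← inv_pow, ← ((hcv.pow_left i₀).inv_left).mul_pow]
      exact pow_mem hi₀ k
    have hn : (v ^ (i₀ * i % 3))⁻¹ * n ∈ Subgroup.centralizer ((S : Subgroup G) : Set G) := by
      have h1 := Subgroup.mul_mem _ (pow_mem hv3c (i₀ * i / 3))
        (Subgroup.mul_mem _ (key i) hi)
      convert h1 using 1
      have e : v ^ (i₀ * i) = v ^ (i₀ * i % 3) * (v ^ 3) ^ (i₀ * i / 3) := by
        rw [← pow_mul v 3, ← pow_add, Nat.mod_add_div]
      rw [e]; group
    obtain ⟨s, hs, o', ho', e⟩ := hcS _ hn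
    exact ⟨i₀ * i % 3, Nat.mod_lt _ (by norm_num), s, hs, o' * o, O.mul_mem ho' ho, by
      rw [← mul_assoc, mul_assoc (v ^ _) s o', ← e, mul_inv_cancel_left]⟩
  -- fixed points of `v` on `S`
  let F : Subgroup G := (S : Subgroup G) ⊓ Subgroup.centralizer ({v} : Set G)
  have hfix : ∀ s ∈ (S : Subgroup G), v * s * v⁻¹ = s → s = 1 ∨ s = t := by
    intro s hs hsv
    have hsF : s ∈ F := ⟨hs, Subgroup.mem_centralizer_singleton_iff.2
      (mul_inv_eq_iff_eq_mul.1 hsv).symm⟩
    have htF : t ∈ F := ⟨htS, Subgroup.mem_centralizer_singleton_iff.2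
      (Subgroup.mem_centralizer_singleton_iff.1 hvC).symm⟩
    by_contra hcon
    push Not at hcon
    have hFS : F ≤ (S : Subgroup G) := inf_le_left
    have hlt : F < (S : Subgroup G) := by
      refine lt_of_le_of_ne hFS fun h => hvS (Subgroup.mem_centralizer_iff.2 fun y hy => ?_)
      have : y ∈ F := h ▸ hy
      exact Subgroup.mem_centralizer_singleton_iff.1 this.2
    -- `v` permutes `S` with fixed point set `F`
    letI : MulAction (Subgroup.zpowers v) (S : Subgroup G) := MulAction.compHom _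
      ((Subgroup.normalizerMonoidHom (S : Subgroup G)).comp
        (Subgroup.inclusion (Subgroup.zpowers_le.2 hvN)))
    let vv : Subgroup.zpowers v := ⟨v, Subgroup.mem_zpowers v⟩
    let e : Function.End (S : Subgroup G) := MulAction.toEndHom vv
    have he3 : e ^ 3 ^ 1 = 1 := by
      rw [pow_one, ← map_pow]
      refine funext fun y => Subtype.ext ?_
      show (v ^ 3) * (y : G) * (v ^ 3)⁻¹ = y
      rw [← (Subgroup.mem_centralizer_iff.1 hv3c) y y.2, mul_inv_cancel_right]
    haveI := Fintype.ofFinite (S : Subgroup G)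
    haveI : Fact (Nat.Prime 3) := ⟨Nat.prime_three⟩
    have hmod := Equiv.Perm.card_fixedPoints_modEq (p := 3) (n := 1) (f := e) he3
    have hcard : Fintype.card (Function.fixedPoints e) = Nat.card F := by
      rw [← Nat.card_eq_fintype_card]
      refine Nat.card_congr ⟨fun y => ⟨(y.1 : G), y.1.2, Subgroup.mem_centralizer_singleton_iff.2
          (mul_inv_eq_iff_eq_mul.1 (congrArg Subtype.val y.2 : v * (y.1 : G) * v⁻¹ = y.1)).symm⟩,
        fun y => ⟨⟨(y : G), y.2.1⟩, Subtype.ext (mul_inv_eq_iff_eq_mul.2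
          (Subgroup.mem_centralizer_singleton_iff.1 y.2.2).symm)⟩, fun y => rfl, fun y => rfl⟩
    have hmod' : Nat.card (S : Subgroup G) ≡ Nat.card F [MOD 3] := by
      rw [Nat.card_eq_fintype_card, ← hcard]
      convert hmod using 2
    rw [hS8] at hmod'
    clear hmod
    rename' hmod' => hmod
    have hd : Nat.card F ∣ 8 := hS8 ▸ Subgroup.card_dvd_of_le hFS
    have hne8 : Nat.card F ≠ 8 := fun h =>
      hlt.ne (Subgroup.eq_of_le_of_card_ge hFS (by rw [h, hS8]))
    have h2 : Nat.card F = 2 := by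
      have hF8 : Nat.card F ≤ 8 := Nat.le_of_dvd (by norm_num) hd
      have hpos : 0 < Nat.card F := Nat.card_pos
      unfold Nat.ModEq at hmod
      interval_cases h : Nat.card F <;> omega
    have hlt3 : 2 < Nat.card F := by
      have hinj : Function.Injective (![⟨1, F.one_mem⟩, ⟨t, htF⟩, ⟨s, hsF⟩] : Fin 3 → F) := by
        intro p q hpq
        have ht1 : t ≠ 1 := fun h => by rw [h, orderOf_one] at ht; omega
        fin_cases p <;> fin_cases q <;>
          simp_all [Subtype.ext_iff, Ne.symm hcon.1, Ne.symm hcon.2, Ne.symm ht1]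
      have := Nat.card_le_card_of_injective _ hinj
      rw [Nat.card_fin] at this
      omega
    omega
  -- `x = v ^ i s o` and `x w x⁻¹` modulo the core
  have hmodc : ∀ x w : G, w ∈ C → ∀ i : ℕ, ∀ s ∈ (S : Subgroup G), ∀ o ∈ O,
      x = v ^ i * s * o → ∃ o' ∈ O, x * w * x⁻¹ = v ^ i * (s * w * s⁻¹) * (v ^ i)⁻¹ * o' := by
    intro x w hw i s hs o ho hx
    refine ⟨(v ^ i * (s * w * s⁻¹) * (v ^ i)⁻¹)⁻¹ * (x * w * x⁻¹), ?_, by group⟩
    have hb : v ^ i * s ∈ C := C.mul_mem (pow_mem hvC i) (hSC hs)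
    have h1 : (w⁻¹ * o * w) * o⁻¹ ∈ O := by
      have := hOn w⁻¹ (C.inv_mem hw) o ho
      rw [inv_inv] at this
      exact O.mul_mem this (O.inv_mem ho)
    have := hOn _ hb _ h1
    convert this using 1
    rw [hx]; group
  have hvO : v ∉ O := by
    intro h
    refine hvS (Subgroup.mem_centralizer_iff.2 fun s hs => ?_)
    have h1 : v * s * v⁻¹ * s⁻¹ ∈ O := by
      have := O.mul_mem h (hOn s (hSC hs) _ (O.inv_mem h))
      convert this using 1; group
    have h2 := hSO _ (Subgroup.mul_mem _ (hconjS v hvN s hs) (inv_mem hs)) h1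
    exact (mul_inv_eq_iff_eq_mul.1 (mul_inv_eq_one.1 h2)).symm
  have hvS' : ∀ s ∈ (S : Subgroup G), v⁻¹ * s * v ∈ (S : Subgroup G) := fun s hs => by
    simpa using hconjS v⁻¹ (inv_mem hvN) s hs
  -- `s v s⁻¹ = v · [v, s]`
  have hsv : ∀ x ∈ C, ∀ i, ∀ s ∈ (S : Subgroup G), ∀ o ∈ O, x = v ^ i * s * o →
      ∃ o' ∈ O, x * v * x⁻¹ = v * (v ^ i * (v⁻¹ * s * v * s⁻¹) * (v ^ i)⁻¹) * o' := by
    intro x hx i s hs o ho e
    obtain ⟨o', ho', e'⟩ := hmodc x v hvC i s hs o ho e
    refine ⟨o', ho', e'.trans ?_⟩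
    have hc : Commute v (v ^ i) := (Commute.refl v).pow_right i
    congr 1
    rw [← mul_assoc v, ← mul_assoc v, hc.eq]
    group
  have hbad : ∀ x ∈ C, ∀ i < 3, ∀ s ∈ (S : Subgroup G), ∀ o ∈ O, x = v ^ i * s * o →
      ((x * v * x⁻¹ * v⁻¹ ∈ O ↔ (s = 1 ∨ s = t)) ∧ x * v * x⁻¹ * v ∉ O) := by
    intro x hx i hi s hs o ho e
    obtain ⟨o', ho', e'⟩ := hsv x hx i s hs o ho e
    set r := v ^ i * (v⁻¹ * s * v * s⁻¹) * (v ^ i)⁻¹ with hr
    have hrS : r ∈ (S : Subgroup G) :=
      hconjS _ (pow_mem hvN i) _ (Subgroup.mul_mem _ (hvS' s hs) (inv_mem hs))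
    constructor
    · constructor
      · intro h
        have h1 : v * r * v⁻¹ ∈ O := by
          have := O.mul_mem h (hOn v hvC _ (O.inv_mem ho'))
          convert this using 1
          rw [e']; group
        have h2 := hSO _ (hconjS v hvN r hrS) h1
        have h3 : r = 1 := conj_eq_one_iff.1 h2
        have h4 : v⁻¹ * s * v * s⁻¹ = 1 := conj_eq_one_iff.1 h3
        refine hfix s hs ?_
        have h5 : v⁻¹ * s * v = s := mul_inv_eq_one.1 h4
        calc v * s * v⁻¹ = v * (v⁻¹ * s * v) * v⁻¹ := by rw [h5]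
          _ = s := by group
      · intro h
        have h4 : v⁻¹ * s * v * s⁻¹ = 1 := by
          rcases h with rfl | rfl
          · group
          · rw [mul_inv_eq_one, mul_assoc, ← Subgroup.mem_centralizer_singleton_iff.1 hvC,
              inv_mul_cancel_left]
        rw [e', hr, h4, mul_one, mul_inv_cancel, mul_one]
        exact hOn v hvC o' ho'
    · intro h
      -- modulo the core `v r v ≡ v² r'` would be trivial
      have h1 : v * v * (v⁻¹ * r * v) ∈ O := by
        have := O.mul_mem h (hOn v⁻¹ (C.inv_mem hvC) _ (O.inv_mem ho'))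
        convert this using 1
        rw [e']; group
      have hr' : v⁻¹ * r * v ∈ (S : Subgroup G) := hvS' r hrS
      refine hvS (Subgroup.mem_centralizer_iff.2 fun y hy => ?_)
      -- `v ^ 2` centralizes `S`
      have h2 : v * v * y * (v * v)⁻¹ * y⁻¹ = 1 := by
        refine hSO _ (Subgroup.mul_mem _ (hconjS _ (Subgroup.mul_mem _ hvN hvN) y hy) (inv_mem hy)) ?_
        set q := v⁻¹ * r * v
        have hqy : q * y = y * q := hcomm q hr' y hy
        have := O.mul_mem h1 (hOn y (hSC hy) _ (O.inv_mem h1))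
        convert this using 1
        calc v * v * y * (v * v)⁻¹ * y⁻¹ = v * v * (y * q) * q⁻¹ * (v * v)⁻¹ * y⁻¹ := by group
          _ = _ := by rw [← hqy]; group
      have h3 : v * v * y = y * (v * v) :=
        mul_inv_eq_iff_eq_mul.1 (mul_inv_eq_one.1 h2)
      have h4 : v ^ 3 * y = y * v ^ 3 := ((Subgroup.mem_centralizer_iff.1 hv3c) y hy).symm
      have hc : Commute (v ^ 3 * (v * v)⁻¹) y := (Commute.mul_left h4 (Commute.inv_left h3))
      rw [show v ^ 3 * (v * v)⁻¹ = v by group] at hc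
      exact hc.eq.symm
  -- counting
  let f : Fin 3 × ↥(S : Subgroup G) × ↥O → ↥C := fun q =>
    ⟨v ^ (q.1 : ℕ) * (q.2.1 : G) * (q.2.2 : G),
      C.mul_mem (C.mul_mem (pow_mem hvC _) (hSC (SetLike.coe_mem q.2.1)))
        (hOC (SetLike.coe_mem q.2.2))⟩
  have hfb : Function.Bijective f := by
    constructor
    · rintro ⟨i, ⟨s, hs⟩, ⟨o, ho⟩⟩ ⟨j, ⟨s', hs'⟩, ⟨o', ho'⟩⟩ h
      have h' : v ^ (i : ℕ) * s * o = v ^ (j : ℕ) * s' * o' := congrArg Subtype.val h
      have hij : ∀ a b : Fin 3, ∀ p ∈ (S : Subgroup G), ∀ p' ∈ (S : Subgroup G),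
          ∀ q ∈ O, ∀ q' ∈ O, (a : ℕ) ≤ b → v ^ (a : ℕ) * p * q = v ^ (b : ℕ) * p' * q' → a = b := by
        intro a b p hp p' hp' q hq q' hq' hle he
        by_contra hne
        have hd : (b : ℕ) - a = 1 ∨ (b : ℕ) - a = 2 := by
          have := b.2
          have : (a : ℕ) ≠ b := fun h => hne (Fin.ext h)
          omega
        have he2 : v ^ ((b : ℕ) - a) = p * (q * q'⁻¹) * p'⁻¹ := by
          rw [pow_sub v hle]
          have : v ^ (b : ℕ) = v ^ (a : ℕ) * p * q * q'⁻¹ * p'⁻¹ := by rw [he]; group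
          rw [this]
          have hcv : Commute (v ^ (a : ℕ)) (v ^ (b : ℕ)) := (Commute.refl v).pow_pow _ _
          rw [← this, (hcv.symm.inv_right).eq, this]
          group
        -- such a power centralizes `S`
        have hcent : ∀ y ∈ (S : Subgroup G),
            Commute (v ^ ((b : ℕ) - a)) y := by
          intro y hy
          refine mul_inv_eq_iff_eq_mul.1 (mul_inv_eq_one.1 (hSO _ (Subgroup.mul_mem _
            (hconjS _ (pow_mem hvN _) y hy) (inv_mem hy)) ?_))
          rw [he2]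
          set w := q * q'⁻¹
          have hw : w ∈ O := O.mul_mem hq (O.inv_mem hq')
          have hz : p'⁻¹ * y * p' = y := by
            rw [mul_assoc, hcomm y hy p' hp', inv_mul_cancel_left]
          have hp2 : p * y * p⁻¹ = y := by rw [hcomm p hp y hy, mul_inv_cancel_right]
          have hkey : p * (w * (y * w⁻¹ * y⁻¹)) * p⁻¹ ∈ O :=
            hOn p (hSC hp) _ (O.mul_mem hw (hOn y (hSC hy) _ (O.inv_mem hw)))
          convert hkey using 1
          calc p * w * p'⁻¹ * y * (p * w * p'⁻¹)⁻¹ * y⁻¹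
              = p * w * (p'⁻¹ * y * p') * w⁻¹ * p⁻¹ * y⁻¹ := by group
            _ = p * w * y * w⁻¹ * p⁻¹ * (p * y * p⁻¹)⁻¹ := by rw [hz, hp2]
            _ = p * (w * (y * w⁻¹ * y⁻¹)) * p⁻¹ := by group
        refine hvS (Subgroup.mem_centralizer_iff.2 fun y hy => ?_)
        have h4 : Commute (v ^ 3) y := ((Subgroup.mem_centralizer_iff.1 hv3c) y hy).symm
        rcases hd with h | h <;> have h5 := hcent y hy <;> rw [h] at h5
        · rw [pow_one] at h5; exact h5.eq.symm
        · have hc := h4.mul_left h5.inv_left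
          rw [show v ^ 3 * (v ^ 2)⁻¹ = v by group] at hc
          exact hc.eq.symm
      obtain rfl : i = j := by
        rcases le_total (i : ℕ) j with hle | hle
        · exact hij i j s hs s' hs' o ho o' ho' hle h'
        · exact (hij j i s' hs' s hs o' ho' o ho hle h'.symm).symm
      rw [mul_assoc, mul_assoc] at h'
      have h2 := mul_left_cancel h'
      have h3 : s'⁻¹ * s = o' * o⁻¹ := by
        rw [inv_mul_eq_iff_eq_mul, ← mul_assoc, ← h2, mul_inv_cancel_right]
      obtain rfl : s' = s := inv_mul_eq_one.1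
        (hSO _ (Subgroup.mul_mem _ (inv_mem hs') hs) (h3 ▸ O.mul_mem ho' (O.inv_mem ho)))
      obtain rfl : o = o' := mul_left_cancel h2
      rfl
    · rintro ⟨x, hx⟩
      obtain ⟨i, hi, s, hs, o, ho, e⟩ := hdec x hx
      exact ⟨(⟨i, hi⟩, ⟨s, hs⟩, ⟨o, ho⟩), Subtype.ext e.symm⟩
  have h24 : Nat.card C = 24 * Nat.card O := by
    rw [← Nat.card_congr (Equiv.ofBijective f hfb), Nat.card_prod, Nat.card_prod, Nat.card_fin,
      hS8, ← mul_assoc]
    norm_num
  have h6 : Nat.card {x : G // x ∈ C ∧ x * v * x⁻¹ * v⁻¹ ∈ O} = 6 * Nat.card O := by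
    let e1 := Equiv.ofBijective f hfb
    have e2 : {x : G // x ∈ C ∧ x * v * x⁻¹ * v⁻¹ ∈ O} ≃
        Fin 3 × {s : (S : Subgroup G) // (s : G) = 1 ∨ (s : G) = t} × O := by
      refine (Equiv.subtypeSubtypeEquivSubtypeInter (· ∈ C)
        (fun x : G => x * v * x⁻¹ * v⁻¹ ∈ O)).symm.trans ?_
      refine (e1.subtypeEquiv (p := fun q => ((q.2.1 : G) = 1 ∨ (q.2.1 : G) = t)) fun q => ?_).symm.trans ?_
      · exact ((hbad _ (f q).2 (q.1 : ℕ) q.1.2 _ q.2.1.2 _ q.2.2.2 rfl).1).symm
      · exact ⟨fun q => (q.1.1, ⟨q.1.2.1, q.2⟩, q.1.2.2), fun q => ⟨(q.1, q.2.1.1, q.2.2), q.2.1.2⟩,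
          fun q => rfl, fun q => rfl⟩
    rw [Nat.card_congr e2, Nat.card_prod, Nat.card_prod, Nat.card_fin]
    have : Nat.card {s : (S : Subgroup G) // (s : G) = 1 ∨ (s : G) = t} = 2 := by
      refine Eq.trans (Eq.symm ?_) (Nat.card_fin 2)
      refine Nat.card_congr (Equiv.ofBijective
        (![⟨⟨1, one_mem _⟩, Or.inl rfl⟩, ⟨⟨t, htS⟩, Or.inr rfl⟩]) ⟨?_, ?_⟩)
      · have ht1 : t ≠ 1 := fun h => by rw [h, orderOf_one] at ht; omega
        intro p q hpq
        fin_cases p <;> fin_cases q <;> simp_all [Subtype.ext_iff, Ne.symm ht1]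
      · rintro ⟨⟨y, hy⟩, h | h⟩
        exacts [⟨0, Subtype.ext (Subtype.ext (Eq.symm h))⟩, ⟨1, Subtype.ext (Subtype.ext (Eq.symm h))⟩]
    rw [this, ← mul_assoc]
    norm_num
  refine false_of_two_A4_centralizer hG S hS8 ht hone hvC hvodd hv3 h24 h6 hvO fun x hx => ?_
  obtain ⟨i, hi, s, hs, o, ho, e⟩ := hdec x hx
  exact (hbad x hx i hi s hs o ho e).2

/-- Let G be a non-abelian finite simple group whose Sylow 2-subgroup S is elementary abelian of order 8, and suppose the centralizer of every involution of G is solvable. Then the normalizer of S modulo the centralizer of S has order 7. -/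
theorem result {G : Type*} [Group G] [Finite G]
    [IsSimpleGroup G] (hG : ¬ IsMulCommutative G) (S : Sylow 2 G)
    (hS : Cfsg.IsElementaryAbelian 2 (S : Subgroup G)) (hS8 : Nat.card ↥(S : Subgroup G) = 8)
    (hC : ∀ t : G, orderOf t = 2 → Group.IsSolvable ↥(Subgroup.centralizer ({t} : Set G))) :
    (Subgroup.centralizer ((S : Subgroup G) : Set G)).relIndex (Subgroup.normalizer ((S : Subgroup G) : Set G)) = 7 := by
    classical
    haveI : Fact (Nat.Prime 2) := ⟨Nat.prime_two⟩
    haveI : IsMulCommutative ↥(S : Subgroup G) := hS.1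
    set N := Subgroup.normalizer ((S : Subgroup G) : Set G) with hN
    let φ := Subgroup.normalizerMonoidHom (S : Subgroup G)
    have hker : φ.ker = (Subgroup.centralizer ((S : Subgroup G) : Set G)).subgroupOf N :=
      Subgroup.normalizerMonoidHom_ker _
    set m := (Subgroup.centralizer ((S : Subgroup G) : Set G)).relIndex N with hm
    let R := φ.range
    have hR : Nat.card R = m := by
      rw [← Subgroup.index_ker, hker]; rfl
    -- odd order
    have hmodd : ¬ 2 ∣ m := by
      have hSC : (S : Subgroup G) ≤ Subgroup.centralizer ((S : Subgroup G) : Set G) := fun s hs =>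
        Subgroup.mem_centralizer_iff.2 fun y hy =>
          congrArg Subtype.val (mul_comm' (⟨y, hy⟩ : (S : Subgroup G)) ⟨s, hs⟩)
      intro h2
      refine S.not_dvd_index (h2.trans ((Subgroup.relIndex_dvd_of_le_left N hSC).trans ?_))
      exact Subgroup.relIndex_dvd_index_of_le Subgroup.le_normalizer
    -- divides `|GL₃(2)|`
    have h168 : m ∣ 168 := by
      have hfr : (frattini (S : Subgroup G)).index = 2 ^ 3 := by
        rw [(CfsgLib.PGroups.frattini_eq_bot_iff (p := 2) S.isPGroup').2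
          ⟨fun a b => mul_comm' a b, fun a => Subtype.ext (hS.2 _ a.2)⟩, Subgroup.index_bot, hS8]
        norm_num
      have := CfsgLib.NormalComplements.AutCount.card_mulAut_dvd (n := 3) (r := 3)
        (by rw [hS8]; norm_num) hfr
      rw [← hR]
      refine (Subgroup.card_subgroup_dvd_card R).trans (this.trans (dvd_of_eq ?_))
      simp [Finset.prod_range_succ]
    -- orbits of the normalizer on the involutions of `S`
    let X := {s : (S : Subgroup G) // s ≠ 1}
    letI : MulAction R X :=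
      { smul := fun a s => ⟨(a : MulAut (S : Subgroup G)) s.1, fun h => s.2 (by simpa using h)⟩
        one_smul := fun s => rfl
        mul_smul := fun a b s => rfl }
    have hX : Nat.card X = 7 := by
      haveI := Fintype.ofFinite (S : Subgroup G)
      rw [Nat.card_eq_fintype_card, Fintype.card_subtype_compl, Fintype.card_subtype_eq,
        ← Nat.card_eq_fintype_card, hS8]
    have hfixed : ∀ x : X, ∃ a : R, a • x ≠ x := by
      intro x
      by_contra h
      push Not at h
      refine x.2 (Subtype.ext (CfsgLib.SmallGroups.eq_one_of_centralized_by_normalizer hG S x.1.2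
        fun n hn => ?_))
      have := congrArg (fun y : X => ((y.1 : (S : Subgroup G)) : G))
        (h ⟨φ ⟨n, hn⟩, ⟨n, hn⟩, rfl⟩)
      exact mul_inv_eq_iff_eq_mul.1 (this : n * (x.1 : G) * n⁻¹ = x.1)
    have horb : ∀ x : X, Nat.card (MulAction.orbit R x) = 7 := by
      intro x
      have hd : ∀ y : X, Nat.card (MulAction.orbit R y) ∣ m := fun y => by
        rw [← hR, Nat.card_coe_set_eq, ← MulAction.index_stabilizer]
        exact Subgroup.index_dvd_card _
      have hne1 : ∀ y : X, Nat.card (MulAction.orbit R y) ≠ 1 := fun y h => by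
        obtain ⟨a, ha⟩ := hfixed y
        haveI := (Nat.card_eq_one_iff_unique.1 h).1
        exact ha (congrArg Subtype.val (Subsingleton.elim
          (⟨a • y, MulAction.mem_orbit y a⟩ : MulAction.orbit R y) ⟨y, MulAction.mem_orbit_self y⟩))
      have h3 : ∀ y : X, 3 ≤ Nat.card (MulAction.orbit R y) := fun y => by
        have h0 : 0 < Nat.card (MulAction.orbit R y) := by
          haveI : Nonempty (MulAction.orbit R y) := ⟨⟨y, MulAction.mem_orbit_self y⟩⟩
          exact Nat.card_pos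
        have h2 : ¬ 2 ∣ Nat.card (MulAction.orbit R y) := fun h => hmodd (h.trans (hd y))
        have := hne1 y
        omega
      have hle : Nat.card (MulAction.orbit R x) ≤ 7 := hX ▸ Finite.card_subtype_le _
      by_contra hne
      -- a second orbit and a third cannot all fit
      have hsplit : Nat.card (MulAction.orbit R x) + Nat.card ((MulAction.orbit R x)ᶜ : Set X) = 7 := by
        rw [← hX, ← Nat.card_sum]
        exact Nat.card_congr (Equiv.Set.sumCompl _)
      have horbd : ∀ y : X, y ∉ MulAction.orbit R x →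
          MulAction.orbit R y ⊆ (MulAction.orbit R x)ᶜ := fun y hy z hz hzx =>
        hy ((MulAction.orbit_eq_iff.2 hzx : _ = MulAction.orbit R x) ▸
          (MulAction.orbit_eq_iff.2 hz : _ = MulAction.orbit R y) ▸ MulAction.mem_orbit_self y)
      obtain ⟨y, hy⟩ : ∃ y, y ∉ MulAction.orbit R x := by
        by_contra hall
        push Not at hall
        have : IsEmpty ((MulAction.orbit R x)ᶜ : Set X) := ⟨fun z => z.2 (hall z.1)⟩
        rw [Nat.card_of_isEmpty (α := ((MulAction.orbit R x)ᶜ : Set X)), add_zero] at hsplit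
        exact hne hsplit
      have h1 := Nat.card_mono (Set.toFinite _) (horbd y hy)
      obtain ⟨z, hz, hz'⟩ : ∃ z, z ∉ MulAction.orbit R x ∧ z ∉ MulAction.orbit R y := by
        by_contra hall
        push Not at hall
        have h2 : Nat.card ((MulAction.orbit R x)ᶜ : Set X) ≤ Nat.card (MulAction.orbit R y) :=
          Nat.card_mono (Set.toFinite _) fun z hz => hall z hz
        have e1 : ¬ 2 ∣ Nat.card (MulAction.orbit R x) := fun h => hmodd (h.trans (hd x))
        have e2 : ¬ 2 ∣ Nat.card (MulAction.orbit R y) := fun h => hmodd (h.trans (hd y))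
        omega
      have hdis : Disjoint (MulAction.orbit R y) (MulAction.orbit R z) :=
        Set.disjoint_left.2 fun w hwy hwz => hz'
          ((MulAction.orbit_eq_iff.2 hwy : _ = MulAction.orbit R y) ▸
            (MulAction.orbit_eq_iff.2 hwz : _ = MulAction.orbit R z) ▸ MulAction.mem_orbit_self z)
      have h4 := Nat.card_mono (Set.toFinite _) (Set.union_subset (horbd y hy) (horbd z hz))
      rw [Nat.card_coe_set_eq, Set.ncard_union_eq hdis (Set.toFinite _) (Set.toFinite _),
        ← Nat.card_coe_set_eq, ← Nat.card_coe_set_eq] at h4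
      have := h3 x; have := h3 y; have := h3 z
      omega
    -- pick an involution
    obtain ⟨x₀⟩ : Nonempty X := by
      by_contra h; rw [not_nonempty_iff] at h; rw [Nat.card_of_isEmpty] at hX; omega
    have h7 : 7 ∣ m := by
      rw [← hR, ← horb x₀, Nat.card_coe_set_eq, ← MulAction.index_stabilizer]
      exact Subgroup.index_dvd_card _
    have h21 : m ∣ 21 := by
      have hco : Nat.Coprime m 8 :=
        ((Nat.prime_two.coprime_iff_not_dvd.2 hmodd).pow_left 3).symm
      exact hco.dvd_of_dvd_mul_left (show m ∣ 8 * 21 by norm_num; exact h168)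
    by_contra hne
    have hm21 : m = 21 := by
      obtain ⟨k, hk⟩ := h7
      have hle := Nat.le_of_dvd (by norm_num) h21
      have : k ≤ 3 := by omega
      interval_cases k <;> omega
    -- the point stabilizer has order three
    set K := MulAction.stabilizer R x₀ with hK
    have hK3 : Nat.card K = 3 := by
      have := K.card_mul_index
      rw [hK, MulAction.index_stabilizer, ← Nat.card_coe_set_eq, horb x₀, hR, hm21] at this
      rw [hK]
      omega
    obtain ⟨a, ha⟩ : ∃ a : K, a ≠ 1 := by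
      haveI : Nontrivial K := Finite.one_lt_card_iff_nontrivial.1 (by omega)
      exact exists_ne 1
    have hao : orderOf a = 3 := by
      refine ((Nat.dvd_prime Nat.prime_three).1 (hK3 ▸ orderOf_dvd_natCard a)).resolve_left ?_
      rwa [orderOf_eq_one_iff]
    obtain ⟨⟨g, hgN⟩, hg⟩ := (a : R).2
    set t : G := ((x₀.1 : (S : Subgroup G)) : G) with ht
    have htS : t ∈ (S : Subgroup G) := x₀.1.2
    have ht2 : orderOf t = 2 := orderOf_eq_prime (hS.2 t htS) fun h => x₀.2 (Subtype.ext h)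
    have hact : ∀ (b : R) (n : G) (hn : n ∈ N), φ ⟨n, hn⟩ = b →
        (n ∈ Subgroup.centralizer ({t} : Set G) ↔ b • x₀ = x₀) := by
      intro b n hn hb
      rw [Subgroup.mem_centralizer_singleton_iff, ← mul_inv_eq_iff_eq_mul]
      constructor
      · intro h
        refine Subtype.ext (Subtype.ext ?_)
        show (((b : MulAut (S : Subgroup G)) x₀.1 : (S : Subgroup G)) : G) = t
        rw [← hb]; exact h
      · intro h
        have := congrArg (fun y : X => ((y.1 : (S : Subgroup G)) : G)) h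
        change (((b : MulAut (S : Subgroup G)) x₀.1 : (S : Subgroup G)) : G) = t at this
        rw [← hb] at this; exact this
    have hkerm : ∀ (n : G) (hn : n ∈ N), φ ⟨n, hn⟩ = 1 ↔
        n ∈ Subgroup.centralizer ((S : Subgroup G) : Set G) := fun n hn => by
      rw [← MonoidHom.mem_ker, hker, Subgroup.mem_subgroupOf]
    refine not_twenty_one hG S hS8 hS.1 hC htS ht2 (fun e he he1 => ?_) hgN
      ((hact a.1 g hgN hg).2 a.2) ?_ ?_ ?_
    · obtain ⟨⟨b, ⟨n, hn⟩, rfl⟩, hb⟩ : (⟨⟨e, he⟩, fun h => he1 (congrArg Subtype.val h)⟩ : X) ∈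
          MulAction.orbit R x₀ := by
        have : MulAction.orbit R x₀ = Set.univ := Set.eq_of_subset_of_ncard_le (Set.subset_univ _)
          (by rw [Set.ncard_univ, hX, ← Nat.card_coe_set_eq, horb x₀]) (Set.toFinite _)
        rw [this]; trivial
      exact isConj_iff.2 ⟨n, congrArg (fun y : X => ((y.1 : (S : Subgroup G)) : G)) hb⟩
    · rw [← hkerm (g ^ 3) (pow_mem hgN 3)]
      have := pow_orderOf_eq_one a
      rw [hao] at this
      have h' := congrArg (fun z : K => ((z : R) : MulAut (S : Subgroup G))) this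
      simp only [SubmonoidClass.coe_pow, OneMemClass.coe_one] at h'
      rw [← h', ← hg, ← map_pow]
      rfl
    · intro h
      rw [← hkerm g hgN, hg] at h
      exact ha (Subtype.ext (Subtype.ext h))
    · intro x hxN hxt
      have hb : (⟨φ ⟨x, hxN⟩, ⟨x, hxN⟩, rfl⟩ : R) ∈ K := (hact _ x hxN rfl).1 hxt
      haveI : Fact (Nat.Prime 3) := ⟨Nat.prime_three⟩
      have htop : Subgroup.zpowers a = ⊤ := zpowers_eq_top_of_prime_card hK3 ha
      have hmem : (⟨_, hb⟩ : K) ∈ Subgroup.zpowers a := by rw [htop]; trivial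
      obtain ⟨i, hi⟩ := (mem_powers_iff_mem_zpowers (x := a)).2 hmem
      refine ⟨i, ?_⟩
      rw [← hkerm _ (Subgroup.mul_mem _ (inv_mem (pow_mem hgN i)) hxN)]
      have h' := congrArg (fun z : K => ((z : R) : MulAut (S : Subgroup G))) hi
      simp only [SubmonoidClass.coe_pow] at h'
      rw [← hg, ← map_pow] at h'
      rw [show (⟨(g ^ i)⁻¹ * x, _⟩ : N) = (⟨g, hgN⟩ ^ i)⁻¹ * ⟨x, hxN⟩ from rfl, map_mul, map_inv, h']
      exact inv_mul_cancel _

end Cfsg.Agent.S3189
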