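import Cfsg.Statements.S0224
import Cfsg.Agent.Lib.Involutions.StronglyEmbedded

set_option autoImplicit false
open Cfsg

namespace Cfsg.Agent.S0224

/-- Let H be a proper subgroup of even order of the finite group G. Then H is strongly embedded if and only if each involution of H fixes exactly one point (namely the coset H) in the action of G on the cosets of H. -/
theorem result {G : Type*} [Group G] [Finite G] (H : Subgroup G) (hH : H ≠ ⊤) (heven : Even (Nat.card H)) : Cfsg.IsStronglyEmbedded H ↔ ∀ t ∈ H, orderOf t = 2 → Nat.card {c : G ⧸ H // t • c = c} = 1 := by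
  have hfix : ∀ t a : G, t • (QuotientGroup.mk a : G ⧸ H) = QuotientGroup.mk a ↔ a⁻¹ * t * a ∈ H := by
    intro t a
    rw [show t • (QuotientGroup.mk a : G ⧸ H) = QuotientGroup.mk (t * a) from rfl, eq_comm,
      QuotientGroup.eq, mul_assoc]
  rw [CfsgLib.Involutions.isStronglyEmbedded_iff_conj hH heven]
  constructor
  · intro h t ht ht2
    have hone : t • (QuotientGroup.mk (1 : G) : G ⧸ H) = QuotientGroup.mk 1 := (hfix t 1).2 (by simpa using ht)
    rw [Nat.card_eq_one_iff_unique]
    refine ⟨⟨?_⟩, ⟨⟨_, hone⟩⟩⟩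
    rintro ⟨c, hc⟩ ⟨d, hd⟩
    induction c using QuotientGroup.induction_on with | H a => ?_
    induction d using QuotientGroup.induction_on with | H b => ?_
    have ha : a⁻¹ ∈ H := h t ht ht2 a⁻¹ (by rw [inv_inv]; exact (hfix t a).1 hc)
    have hb : b⁻¹ ∈ H := h t ht ht2 b⁻¹ (by rw [inv_inv]; exact (hfix t b).1 hd)
    refine Subtype.ext (QuotientGroup.eq.2 (H.mul_mem ha ?_))
    simpa using hb
  · intro h t ht ht2 g hg
    obtain ⟨hs, -⟩ := Nat.card_eq_one_iff_unique.1 (h t ht ht2)
    have h1 : t • (QuotientGroup.mk (1 : G) : G ⧸ H) = QuotientGroup.mk 1 := (hfix t 1).2 (by simpa using ht)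
    have h2 : t • (QuotientGroup.mk g⁻¹ : G ⧸ H) = QuotientGroup.mk g⁻¹ := (hfix t g⁻¹).2 (by rwa [inv_inv])
    have := QuotientGroup.eq.1 (congrArg Subtype.val (hs.elim ⟨_, h2⟩ ⟨_, h1⟩))
    simpa using this

end Cfsg.Agent.S0224
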