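import Cfsg.Statements.S0182
import Cfsg.Agent.Lib.Frobenius.CA.Group
import Cfsg.Agent.Lib.Frobenius.CA.Main

set_option autoImplicit false
open Cfsg

namespace Cfsg.Agent.S0182

open scoped Pointwise
open CfsgLib.Frobenius.CA

universe u

variable {G : Type u} [Group G]

/-- Conjugate to an element with the same centralizer. -/
def rel (a b : {x : G // x ≠ 1}) : Prop :=
  ∃ g : G, g * (a : G) * g⁻¹ ∈ Subgroup.centralizer ({(b : G)} : Set G)

theorem rel_equivalence (hCA : IsCA G) : Equivalence (rel (G := G)) where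
  refl a := ⟨1, by simp [Subgroup.mem_centralizer_singleton_iff]⟩
  symm := by
    rintro a b ⟨g, hg⟩
    rw [Subgroup.mem_centralizer_singleton_iff] at hg
    refine ⟨g⁻¹, Subgroup.mem_centralizer_singleton_iff.2 ?_⟩
    calc g⁻¹ * (b : G) * g⁻¹⁻¹ * a = g⁻¹ * ((b : G) * (g * a * g⁻¹)) * g := by group
      _ = g⁻¹ * (g * a * g⁻¹ * b) * g := by rw [hg]
      _ = (a : G) * (g⁻¹ * b * g⁻¹⁻¹) := by group
  trans := by
    rintro a b c ⟨g, hg⟩ ⟨h, hh⟩
    have hb : h * (b : G) * h⁻¹ ≠ 1 := fun e => b.2 (conj_eq_one_iff.1 e)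
    refine ⟨h * g, ?_⟩
    rw [← centralizer_eq_of_mem hCA c.2 hb hh, Subgroup.mem_centralizer_singleton_iff]
    rw [Subgroup.mem_centralizer_singleton_iff] at hg
    calc h * g * (a : G) * (h * g)⁻¹ * (h * b * h⁻¹) = h * (g * a * g⁻¹ * b) * h⁻¹ := by group
      _ = h * ((b : G) * (g * a * g⁻¹)) * h⁻¹ := by rw [hg]
      _ = h * b * h⁻¹ * (h * g * a * (h * g)⁻¹) := by group

theorem false_of_simple [Finite G] (hodd : Odd (Nat.card G)) (hCA : IsCA G) [IsSimpleGroup G]
    (hne : ∃ a b : G, a * b ≠ b * a) : False := by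
  classical
  have : Fintype G := Fintype.ofFinite _
  have : Nontrivial G := IsSimpleGroup.toNontrivial
  let sd : Setoid {x : G // x ≠ 1} := ⟨rel, rel_equivalence hCA⟩
  have : Finite (Quotient sd) := Quotient.finite _
  have : Fintype (Quotient sd) := Fintype.ofFinite _
  let A : Quotient sd → Subgroup G := fun k => Subgroup.centralizer ({(k.out : G)} : Set G)
  have hC : ∀ k, ∀ a ∈ A k, a ≠ 1 → Subgroup.centralizer ({a} : Set G) = A k :=
    fun k a ha ha1 => centralizer_eq_of_mem hCA k.out.2 ha1 ha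
  have uniq : ∀ k l, ∀ a ∈ A k, a ≠ 1 → ∀ h : G, h⁻¹ * a * h ∈ A l → k = l := by
    intro k l a ha ha1 h hh
    have e1 : sd.r ⟨a, ha1⟩ k.out := ⟨1, by simpa using ha⟩
    have e2 : sd.r ⟨a, ha1⟩ l.out := ⟨h⁻¹, by simpa using hh⟩
    rw [← Quotient.out_eq k, ← Quotient.out_eq l]
    exact Quotient.sound (sd.iseqv.trans (sd.iseqv.symm e1) e2)
  have htop : ∀ k, A k ≠ ⊤ := fun k h => by
    obtain ⟨a, b, hab⟩ := hne
    exact hab (hCA _ k.out.2 a (show a ∈ A k from h.symm ▸ Subgroup.mem_top a) b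
      (show b ∈ A k from h.symm ▸ Subgroup.mem_top b))
  refine false_of_system (G := G)
    { A := A, hC := hC, ne_bot := ?_, cover := ?_, uniq := uniq, coprime := ?_, one_lt := ?_ } hodd
  · intro k h
    have hm : (k.out : G) ∈ A k := Subgroup.mem_centralizer_singleton_iff.2 rfl
    rw [h, Subgroup.mem_bot] at hm
    exact k.out.2 hm
  · intro g hg
    have hr : sd.r ⟨g, hg⟩ (Quotient.mk sd ⟨g, hg⟩).out :=
      sd.iseqv.symm (Quotient.exact (Quotient.out_eq (Quotient.mk sd ⟨g, hg⟩)))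
    obtain ⟨h, hh⟩ := hr
    exact ⟨_, h⁻¹, by simpa using hh⟩
  · intro k l hkl
    refine Nat.coprime_of_dvd fun p hp hk hl => hkl ?_
    have := Fact.mk hp
    obtain ⟨P, hP, a, haP, ha1⟩ := exists_sylow_le hCA k.out.2 hk
    obtain ⟨Q, hQ, -⟩ := exists_sylow_le hCA l.out.2 hl
    obtain ⟨g, hg⟩ := MulAction.exists_smul_eq G P Q
    refine uniq k l a (hP haP) ha1 g⁻¹ (hQ ?_)
    rw [← hg, inv_inv, Sylow.coe_subgroup_smul, Subgroup.mem_pointwise_smul_iff_inv_smul_mem]
    rw [← map_inv, MulAut.smul_def, MulAut.conj_apply,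
      show g⁻¹ * (g * a * g⁻¹) * g⁻¹⁻¹ = a by group]
    exact haP
  · intro k
    rcases Nat.lt_or_ge 1 (nIndex (A k)) with h | h
    · exact h
    refine absurd (le_antisymm ?_ Subgroup.le_normalizer) (normalizer_ne hCA k.out.2 (htop k))
    rw [← Subgroup.subgroupOf_eq_top, ← Subgroup.index_eq_one]
    have := nIndex_pos (A k)
    exact le_antisymm h this

theorem main : ∀ (n : ℕ) (G : Type u) [Group G] [Finite G], Nat.card G = n →
    Odd (Nat.card G) → IsCA G → Group.IsSolvable G := by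
  intro n
  induction n using Nat.strong_induction_on with
  | _ n ih =>
    intro G _ _ hn hodd hCA
    by_cases hc : ∀ a b : G, a * b = b * a
    · exact Group.isSolvable_of_comm hc
    push Not at hc
    have IH : ∀ E : Subgroup G, E ≠ ⊤ → Group.IsSolvable E := fun E hE =>
      ih _ (hn ▸ lt_of_le_of_ne E.card_le_card_group fun h => hE (E.eq_top_of_card_eq h)) E rfl
        (hodd.of_dvd_nat E.card_subgroup_dvd_card) (hCA.subgroup E)
    by_cases hN : ∃ N : Subgroup G, N.Normal ∧ N ≠ ⊥ ∧ N ≠ ⊤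
    · obtain ⟨N, hNn, h1, h2⟩ := hN
      exact isSolvable_of_normal hCA IH N h1 h2
    · have : Nontrivial G := by
        obtain ⟨a, b, hab⟩ := hc
        exact ⟨a, 1, fun h => hab (by simp [h])⟩
      have : IsSimpleGroup G := ⟨fun H hH => by
        by_contra h
        push Not at h
        exact hN ⟨H, hH, h.1, h.2⟩⟩
      exact (false_of_simple hodd hCA hc).elim


/-- The CA-Theorem for odd order: a finite group of odd order in which every non-identity element has an abelian centralizer is solvable. -/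
theorem result {G : Type*} [Group G] [Finite G] (hodd : Odd (Nat.card G)) (hCA : ∀ x : G, x ≠ 1 → ∀ a ∈ Subgroup.centralizer ({x} : Set G), ∀ b ∈ Subgroup.centralizer ({x} : Set G), a * b = b * a) : Group.IsSolvable G := by
  exact main _ G rfl hodd hCA

end Cfsg.Agent.S0182
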