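import Cfsg.Statements.S0214
import Cfsg.Agent.Lib.Involutions.StronglyEmbedded

set_option autoImplicit false
open Cfsg

namespace Cfsg.Agent.S0214

/-- Let H be a proper subgroup of the finite group G and P a nontrivial Sylow 2-subgroup of H. Then H is strongly embedded in G if and only if N_G(X) ≤ H for every nontrivial subgroup X of P. -/
theorem result {G : Type*} [Group G] [Finite G] (H : Subgroup G) (hH : H ≠ ⊤) (P : Sylow 2 ↥H) (hP : (P : Subgroup ↥H) ≠ ⊥) : Cfsg.IsStronglyEmbedded H ↔ (∀ X : Subgroup ↥H, X ≤ (P : Subgroup ↥H) → X ≠ ⊥ → Subgroup.normalizer ((X.map H.subtype : Subgroup G) : Set G) ≤ H) := by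
  constructor
  · intro hSE X hXP hX
    refine CfsgLib.Involutions.normalizer_le_of_stronglyEmbedded hSE (Subgroup.map_subtype_le _)
      ((P.isPGroup'.to_le hXP).map _) ?_
    rwa [Ne, Subgroup.map_eq_bot_iff_of_injective _ H.subtype_injective]
  · intro hN
    have heven : Even (Nat.card H) := by
      obtain ⟨k, hk⟩ := P.isPGroup'.exists_card_eq
      rcases k with _ | k
      · exact absurd (Subgroup.card_eq_one.1 (by simpa using hk)) hP
      · exact even_iff_two_dvd.2 ((hk ▸ dvd_pow_self 2 (Nat.succ_ne_zero k)).trans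
          (Subgroup.card_subgroup_dvd_card _))
    rw [CfsgLib.Involutions.isStronglyEmbedded_iff_conj hH heven]
    exact fun t ht ht2 g hg => CfsgLib.Involutions.mem_of_normalizer_le P hN ht ht2 hg

end Cfsg.Agent.S0214
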