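import Cfsg.Statements.S0223
import Cfsg.Agent.Lib.Involutions.StronglyEmbedded

set_option autoImplicit false
open Cfsg

namespace Cfsg.Agent.S0223

/-- Let H be a proper subgroup of even order of the finite group G. Then H is strongly embedded if and only if (i) C_G(t) ≤ H for every involution t of H and (ii) H controls fusion of its involutions: involutions of H conjugate in G are conjugate in H. -/
theorem result {G : Type*} [Group G] [Finite G] (H : Subgroup G) (hH : H ≠ ⊤) (heven : Even (Nat.card H)) : Cfsg.IsStronglyEmbedded H ↔ ((∀ t ∈ H, orderOf t = 2 → Subgroup.centralizer ({t} : Set G) ≤ H) ∧ (∀ t ∈ H, ∀ s ∈ H, orderOf t = 2 → orderOf s = 2 → IsConj t s → ∃ h ∈ H, h * t * h⁻¹ = s)) := by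
  constructor
  · refine fun hSE => ⟨fun t ht ht2 => CfsgLib.Involutions.centralizer_le_of_stronglyEmbedded hSE ht ht2,
      fun t ht s hs ht2 _ hc => ?_⟩
    obtain ⟨g, rfl⟩ := isConj_iff.1 hc
    exact ⟨g, CfsgLib.Involutions.mem_of_conj_mem_of_stronglyEmbedded hSE ht ht2 hs, rfl⟩
  · rintro ⟨h1, h2⟩
    rw [CfsgLib.Involutions.isStronglyEmbedded_iff_conj hH heven]
    intro t ht ht2 g hg
    obtain ⟨h, hh, he⟩ := h2 t ht _ hg ht2 ((CfsgLib.Involutions.orderOf_conj g t).trans ht2)
      (isConj_iff.2 ⟨g, rfl⟩)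
    have hmem : h⁻¹ * g ∈ H := by
      refine h1 t ht ht2 (CfsgLib.Involutions.mem_centralizer_singleton.2 ?_)
      calc h⁻¹ * g * t = h⁻¹ * (g * t * g⁻¹) * g := by group
        _ = h⁻¹ * (h * t * h⁻¹) * g := by rw [he]
        _ = t * (h⁻¹ * g) := by group
    have := H.mul_mem hh hmem
    rwa [mul_inv_cancel_left] at this

end Cfsg.Agent.S0223
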