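import Cfsg.Statements.S0493
import Cfsg.Agent.Lib.SmallGroups.Basic
import Cfsg.Agent.S0499
import Cfsg.Agent.S0988

set_option autoImplicit false
open Cfsg

namespace Cfsg.Agent.S0493

/-- The test at the prime `p`: every possible number of Sylow `p`-subgroups other than 1 is too
small for a simple group of order `n` to act on. -/
def killedAt (n p : ℕ) : Bool :=
  (List.range (n + 1)).all fun d =>
    !(d % p == 1 && n % (d * p) == 0 && !(d == 1)) || !(d.factorial % (2 * n) == 0)

theorem not_simple_of_killedAt {G : Type*} [Group G] [Finite G] [IsSimpleGroup G]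
    (hG : ¬ IsMulCommutative G) {p : ℕ} (hp : p.Prime) (hd : p ∣ Nat.card G)
    (hk : killedAt (Nat.card G) p = true) : False := by
  have : Fact p.Prime := ⟨hp⟩
  obtain ⟨P⟩ := (inferInstance : Nonempty (Sylow p G))
  set d := Nat.card (Sylow p G) with hdd
  have h1 := CfsgLib.SmallGroups.one_lt_card_sylow hG hd
  have h2 := CfsgLib.SmallGroups.two_mul_card_dvd_factorial_card_sylow hG hd
  have hmod : d % p = 1 := by
    have := card_sylow_modEq_one p G
    rw [Nat.ModEq, Nat.one_mod_eq_one.2 hp.ne_one] at this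
    exact this
  obtain ⟨j, hj⟩ := IsPGroup.iff_card.1 P.2
  have hne : j ≠ 0 := fun h => CfsgLib.SmallGroups.sylow_ne_bot hd P
    (Subgroup.eq_bot_of_card_eq _ (by rw [hj, h, pow_zero]))
  have hdiv : d * p ∣ Nat.card G := by
    rw [← CfsgLib.SmallGroups.card_sylow_mul_card_normalizer P]
    exact Nat.mul_dvd_mul_left _ ((hj ▸ dvd_pow_self p hne : p ∣ Nat.card (P : Subgroup G)).trans
      (Subgroup.card_dvd_of_le Subgroup.le_normalizer))
  have hdle : d ∈ List.range (Nat.card G + 1) := List.mem_range.2 (Nat.lt_succ_of_le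
    (Nat.le_of_dvd Nat.card_pos ((dvd_mul_right d p).trans hdiv)))
  have hd1 : (d == 1) = false := by simpa using (show d ≠ 1 by omega)
  have := List.all_eq_true.1 hk d hdle
  simp [hmod, Nat.mod_eq_zero_of_dvd hdiv, hd1] at this
  exact this (Nat.mod_eq_zero_of_dvd h2)

/-- Primes up to 100. -/
def smallPrimes : List ℕ :=
  [2, 3, 5, 7, 11, 13, 17, 19, 23, 29, 31, 37, 41, 43, 47, 53, 59, 61, 67, 71, 73, 79, 83, 89, 97]

/-- The orders up to 100 that the tests leave open. -/
theorem killed_table : (List.range 101).all (fun n =>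
    n ≤ 1 || n == 30 || n == 56 || n == 60 || n == 90 ||
      smallPrimes.any (fun q => n % q == 0 && (q ^ 7 % n == 0 || killedAt n q))) = true := by
  decide +kernel

theorem smallPrimes_prime : ∀ q ∈ smallPrimes, q.Prime := by
  simp only [smallPrimes, List.forall_mem_cons, List.forall_mem_nil]
  norm_num

/-- A finite simple group of order at most 100 that is not cyclic has order 60. -/
theorem result {G : Type*} [Group G] [Finite G] [IsSimpleGroup G]
    (hG : ¬ IsCyclic G) (h : Nat.card G ≤ 100) : Nat.card G = 60 := by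
  have hnc : ¬ IsMulCommutative G := fun hc => by
    have := Group.is_simple_iff_prime_card.mp ‹IsSimpleGroup G›
    have : Fact (Nat.card G).Prime := ⟨this⟩
    exact hG (isCyclic_of_prime_card rfl)
  have hpos : 1 < Nat.card G := Finite.one_lt_card
  have ht := List.all_eq_true.1 killed_table (Nat.card G) (List.mem_range.2 (by omega))
  simp only [Bool.or_eq_true, decide_eq_true_eq, beq_iff_eq, List.any_eq_true, Bool.and_eq_true]
    at ht
  rcases ht with ((((h1 | h1) | h1) | h1) | h1) | ⟨q, hq, hqd, h1⟩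
  · omega
  · rcases Cfsg.Agent.S0499.result hnc ⟨15, by omega⟩ with ⟨c, hc⟩ | ⟨c, hc⟩ | ⟨c, hc⟩ <;> omega
  · have : Fact (Nat.Prime 2) := ⟨Nat.prime_two⟩
    have : Fact (Nat.Prime 7) := ⟨by norm_num⟩
    exact (Cfsg.Agent.S0988.p3r 2 7 (by norm_num) (by rw [h1]; norm_num)).elim
  · exact h1
  · rcases Cfsg.Agent.S0499.result hnc ⟨45, by omega⟩ with ⟨c, hc⟩ | ⟨c, hc⟩ | ⟨c, hc⟩ <;> omega
  · exfalso
    have hp := smallPrimes_prime q hq
    have : Fact q.Prime := ⟨hp⟩
    rcases h1 with h1 | h1
    · exact CfsgLib.SmallGroups.not_isPGroup hnc q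
        (IsPGroup.of_card_dvd_pow (Nat.dvd_of_mod_eq_zero h1))
    · exact not_simple_of_killedAt hnc hp (Nat.dvd_of_mod_eq_zero hqd) h1

end Cfsg.Agent.S0493
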