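import Cfsg.Statements.S0647
import Mathlib

set_option autoImplicit false
open Cfsg

namespace Cfsg.Agent.S0647

/-- For a nonempty family of maximal abelian subgroups of a finite group, the intersection of the family is the centre of the subgroup it generates, which is also the full centralizer of that subgroup. -/
theorem result {S : Type*} [Group S] [Finite S] (𝒜 : Set (Subgroup S)) (hne : 𝒜.Nonempty) (hab : ∀ A ∈ 𝒜, IsMulCommutative A) (hmax : ∀ A ∈ 𝒜, ∀ B : Subgroup S, IsMulCommutative B → A ≤ B → B = A) : sInf 𝒜 = sSup 𝒜 ⊓ Subgroup.centralizer ((sSup 𝒜 : Subgroup S) : Set S) ∧ sInf 𝒜 = Subgroup.centralizer ((sSup 𝒜 : Subgroup S) : Set S) := by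
  have key : sInf 𝒜 = Subgroup.centralizer ((sSup 𝒜 : Subgroup S) : Set S) := by
    refine le_antisymm ?_ (le_sInf fun A hA => ?_)
    · rw [Subgroup.le_centralizer_iff]
      refine sSup_le fun A hA => ?_
      rw [Subgroup.le_centralizer_iff]
      exact (sInf_le hA).trans' le_rfl |>.trans (by
        intro x hx
        have := hab A hA
        exact Subgroup.mem_centralizer_iff.2 fun y hy =>
          congrArg Subtype.val (mul_comm' (⟨y, hy⟩ : A) ⟨x, hx⟩))
    · intro x hx
      have hgen : ∀ u ∈ (A : Set S) ∪ {x}, ∀ v ∈ (A : Set S) ∪ {x}, u * v = v * u := by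
        have := hab A hA
        have hxA : ∀ y ∈ A, y * x = x * y := fun y hy =>
          Subgroup.mem_centralizer_iff.1 hx y (le_sSup hA hy)
        rintro u (hu | hu) v (hv | hv)
        · exact congrArg Subtype.val (mul_comm' (⟨u, hu⟩ : A) ⟨v, hv⟩)
        · rw [Set.mem_singleton_iff] at hv; exact hv ▸ hxA u hu
        · rw [Set.mem_singleton_iff] at hu; exact hu ▸ (hxA v hv).symm
        · rw [Set.mem_singleton_iff] at hu hv; rw [hu, hv]
      have h := hmax A hA _ (Subgroup.isMulCommutative_closure hgen)
        (fun a ha => Subgroup.subset_closure (Set.mem_union_left _ ha))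
      rw [← h]
      exact Subgroup.subset_closure (Set.mem_union_right _ rfl)
  refine ⟨?_, key⟩
  rw [← key, eq_comm, inf_eq_right]
  obtain ⟨A, hA⟩ := hne
  exact (sInf_le hA).trans (le_sSup hA)

end Cfsg.Agent.S0647
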