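import Cfsg.Statements.S0648
import Cfsg.Agent.Lib.NormalPComplement.Replacement

set_option autoImplicit false
open Cfsg

namespace Cfsg.Agent.S0648

open scoped commutatorElement


/-- If A acts on B centralizing [B, B], then [B, A] has derived subgroup central in B, and for abelian A and b ∈ B with [[b, A], A, A] = 1 the derived subgroup of the subgroup [b, A] generated by the commutators of b with A has exponent dividing 2. -/
theorem result {G : Type*} [Group G] [Finite G] (A B : Subgroup G) (hAB : A ≤ Subgroup.normalizer (B : Set G)) (hc : ⁅⁅B, B⁆, A⁆ = ⊥) : ⁅⁅B, A⁆, ⁅B, A⁆⁆ ≤ B ⊓ Subgroup.centralizer (B : Set G) ∧ (IsMulCommutative A → ∀ b ∈ B, ⁅⁅(Subgroup.closure {g : G | ∃ a ∈ A, g = b⁻¹ * a * b * a⁻¹}), A⁆, A⁆ = ⊥ → ∀ w ∈ ⁅(Subgroup.closure {g : G | ∃ a ∈ A, g = b⁻¹ * a * b * a⁻¹}), (Subgroup.closure {g : G | ∃ a ∈ A, g = b⁻¹ * a * b * a⁻¹})⁆, w ^ 2 = 1) := by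
  refine ⟨CfsgLib.NormalPComplement.commutator_commutator_le hAB hc, fun hA b hb h2 w hw => ?_⟩
  have hb' : b⁻¹ ∈ B := B.inv_mem hb
  have hK := CfsgLib.NormalPComplement.commutator_commutator_le hAB hc
  have hle : ⁅B, A⁆ ≤ B := CfsgLib.CoprimeAction.commutator_le_left hAB
  have hgen : ∀ g ∈ {g : G | ∃ a ∈ A, g = b⁻¹ * a * b * a⁻¹}, ∃ a ∈ A, g = ⁅b⁻¹, a⁆ := by
    rintro _ ⟨a, ha, rfl⟩
    exact ⟨a, ha, by simp [commutatorElement_def]⟩
  have hfixed : ∀ a ∈ A, ∀ a' ∈ A, ⁅⁅b⁻¹, a⁆, a'⁆ ∈ Subgroup.centralizer (A : Set G) := by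
    intro a ha a' ha'
    refine Subgroup.commutator_eq_bot_iff_le_centralizer.1 h2
      (Subgroup.commutator_mem_commutator (Subgroup.subset_closure ⟨a, ha, ?_⟩) ha')
    simp [commutatorElement_def]
  refine CfsgLib.NormalPComplement.sq_eq_one_of_mem_commutator_closure
    (Z := B ⊓ Subgroup.centralizer (B : Set G)) ?_ ?_ ?_ hw
  · exact inf_le_right.trans (Subgroup.centralizer_le inf_le_left)
  · intro z hz t ht
    obtain ⟨a, ha, rfl⟩ := hgen t ht
    exact (Subgroup.mem_centralizer_iff.1 hz.2 _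
      (hle (Subgroup.commutator_mem_commutator hb' ha))).symm
  · intro s hs t ht
    obtain ⟨a, ha, rfl⟩ := hgen s hs
    obtain ⟨a', ha', rfl⟩ := hgen t ht
    exact ⟨hK (Subgroup.commutator_mem_commutator (Subgroup.commutator_mem_commutator hb' ha)
      (Subgroup.commutator_mem_commutator hb' ha')),
      CfsgLib.NormalPComplement.sq_commutator_eq_one hAB hc hA hb' hfixed ha ha'⟩

end Cfsg.Agent.S0648
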