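import Cfsg.Statements.S0650
import Cfsg.Agent.Lib.NormalPComplement.Replacement

set_option autoImplicit false
open Cfsg

namespace Cfsg.Agent.S0650

open scoped commutatorElement


/-- The Glauberman replacement Theorem: from an abelian A ⊇ [B, B] not normalized by the normal subgroup B and a suitable b ∈ B one gets the abelian subgroup A* = (A ∩ b⁻¹Ab)[A, b] of the same order, containing [B, B], meeting B strictly more than A does but not containing B, mutually normalizing with A, with strictly larger normalizer containing b, and (p odd) of no larger exponent. -/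
theorem result {S : Type*} [Group S] [Finite S] {p : ℕ} [Fact p.Prime] (hS : IsPGroup p S) (B : Subgroup S) [B.Normal] (hB2 : p = 2 → IsMulCommutative B) (A : Subgroup S) (hA : IsMulCommutative A) (hBA : ⁅B, B⁆ ≤ A) (hnot : ¬ B ≤ Subgroup.normalizer (A : Set S)) (b : S) (hb : b ∈ B) (hbN : b ∈ Subgroup.normalizer ((Subgroup.normalizer (A : Set S)) : Set S)) (hbA : b ∉ Subgroup.normalizer (A : Set S)) : Nat.card ↥((A ⊓ A.map (MulAut.conj (b⁻¹)).toMonoidHom) ⊔ Subgroup.closure {g : S | ∃ a ∈ A, g = a * b⁻¹ * a⁻¹ * b}) = Nat.card A ∧ IsMulCommutative ↥((A ⊓ A.map (MulAut.conj (b⁻¹)).toMonoidHom) ⊔ Subgroup.closure {g : S | ∃ a ∈ A, g = a * b⁻¹ * a⁻¹ * b}) ∧ ⁅B, B⁆ ≤ ((A ⊓ A.map (MulAut.conj (b⁻¹)).toMonoidHom) ⊔ Subgroup.closure {g : S | ∃ a ∈ A, g = a * b⁻¹ * a⁻¹ * b}) ∧ A ⊓ B < ((A ⊓ A.map (MulAut.conj (b⁻¹)).toMonoidHom) ⊔ Subgroup.closure {g : S | ∃ a ∈ A, g = a * b⁻¹ * a⁻¹ * b}) ⊓ B ∧ ((A ⊓ A.map (MulAut.conj (b⁻¹)).toMonoidHom)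 ⊔ Subgroup.closure {g : S | ∃ a ∈ A, g = a * b⁻¹ * a⁻¹ * b}) ⊓ B < B ∧ A ≤ Subgroup.normalizer (((A ⊓ A.map (MulAut.conj (b⁻¹)).toMonoidHom) ⊔ Subgroup.closure {g : S | ∃ a ∈ A, g = a * b⁻¹ * a⁻¹ * b} : Subgroup S) : Set S) ∧ ((A ⊓ A.map (MulAut.conj (b⁻¹)).toMonoidHom) ⊔ Subgroup.closure {g : S | ∃ a ∈ A, g = a * b⁻¹ * a⁻¹ * b}) ≤ Subgroup.normalizer (A : Set S) ∧ b ∈ Subgroup.normalizer (((A ⊓ A.map (MulAut.conj (b⁻¹)).toMonoidHom) ⊔ Subgroup.closure {g : S | ∃ a ∈ A, g = a * b⁻¹ * a⁻¹ * b} : Subgroup S) : Set S) ∧ Subgroup.normalizer (A : Set S) < Subgroup.normalizer (((A ⊓ A.map (MulAut.conj (b⁻¹)).toMonoidHom) ⊔ Subgroup.closure {g : S | ∃ a ∈ A, g = a * b⁻¹ * a⁻¹ * b} : Subgroup S) : Set S) ∧ (p ≠ 2 → Monoid.exponent ↥((A ⊓ A.map (MulAut.conj (b⁻¹)).toMonoidHom) ⊔ Subgroup.closure {g : S | ∃ a ∈ A, g = a * b⁻¹ * a⁻¹ * b}) ∣ Monoid.exponent A) := by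
  obtain ⟨c, hc⟩ : ∃ c, c = b⁻¹ := ⟨_, rfl⟩
  have hset : ({g : S | ∃ a ∈ A, g = a * b⁻¹ * a⁻¹ * b} : Set S) =
      {g : S | ∃ a ∈ A, g = ⁅a, c⁆} := by
    ext g
    simp [commutatorElement_def, hc]
  have hrep : (A ⊓ A.map (MulAut.conj (b⁻¹)).toMonoidHom) ⊔
      Subgroup.closure {g : S | ∃ a ∈ A, g = a * b⁻¹ * a⁻¹ * b} =
      CfsgLib.NormalPComplement.replacement A c := by
    rw [hset, CfsgLib.NormalPComplement.replacement, hc]
  rw [hrep]
  have hcN : c ∈ Subgroup.normalizer ((Subgroup.normalizer (A : Set S)) : Set S) :=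
    hc ▸ Subgroup.inv_mem _ hbN
  have hcA : c ∉ Subgroup.normalizer (A : Set S) := fun h => hbA (by
    simpa [hc] using Subgroup.inv_mem _ h)
  have hBn : (⊤ : Subgroup S) ≤ Subgroup.normalizer (B : Set S) :=
    fun x _ => Subgroup.le_normalizer_of_normal (Subgroup.mem_top x)
  have hcomm : ⁅⁅B, B⁆, A⁆ = ⊥ := le_bot_iff.1 (le_trans (Subgroup.commutator_mono hBA le_rfl)
    (Subgroup.commutator_eq_bot_iff_le_centralizer.2
      (CfsgLib.NormalPComplement.isMulCommutative_iff_le_centralizer.1 hA)).le)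
  have h : CfsgLib.NormalPComplement.ReplacementSetup A B c :=
    ⟨hA, fun x _ => hBn (Subgroup.mem_top x), hc ▸ B.inv_mem hb,
      fun a ha => (Subgroup.mem_normalizer_iff.1 hcN a).1 (Subgroup.le_normalizer ha),
      fun a ha => (Subgroup.mem_normalizer_iff''.1 hcN a).1 (Subgroup.le_normalizer ha), hcomm⟩
  have hp' : Odd p ∨ IsMulCommutative B := (Classical.em (p = 2)).symm.imp
    (fun h2 => (Nat.Prime.odd_of_ne_two Fact.out h2)) hB2
  have hBp : IsPGroup p B := hS.to_subgroup B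
  have hab := h.isMulCommutative_replacement hBp hp'
  have hbn : b ∈ Subgroup.normalizer (CfsgLib.NormalPComplement.replacement A c : Set S) := by
    simpa [hc] using Subgroup.inv_mem _ (h.mem_normalizer_replacement hBA)
  refine ⟨h.card_replacement hBA hab, hab, h.commutator_le_replacement hBA,
    h.inf_lt_replacement_inf hBA hcA, ?_, h.le_normalizer_replacement,
    h.replacement_le_normalizer, hbn, ?_, ?_⟩
  · refine lt_of_le_not_ge inf_le_right fun hle => hnot ?_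
    exact (le_inf_iff.1 hle).1.trans h.replacement_le_normalizer
  · refine lt_of_le_not_ge ?_ fun hle => hbA (hle hbn)
    intro g hg
    refine CfsgLib.CoprimeAction.mem_normalizer_of_conj_mem fun x hx => ?_
    suffices h' : CfsgLib.NormalPComplement.replacement A c ≤
        (CfsgLib.NormalPComplement.replacement A c).comap (MulAut.conj g).toMonoidHom from h' hx
    obtain ⟨y, hy⟩ : ∃ y, y = c⁻¹ * (g * c * g⁻¹) := ⟨_, rfl⟩
    have hyB : y ∈ B := hy ▸ B.mul_mem (B.inv_mem h.mem)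
      (Subgroup.Normal.conj_mem inferInstance _ h.mem g)
    have hyA : y ∈ Subgroup.normalizer (A : Set S) := by
      have e : y = (c⁻¹ * g * c) * g⁻¹ := by simp [hy, mul_assoc]
      rw [e]
      exact Subgroup.mul_mem _ ((Subgroup.mem_normalizer_iff''.1 hcN g).1 hg)
        (Subgroup.inv_mem _ hg)
    refine sup_le (fun d hd => ?_) ((Subgroup.closure_le _).2 ?_)
    · show g * d * g⁻¹ ∈ CfsgLib.NormalPComplement.replacement A c
      refine Subgroup.mem_sup_left ⟨(Subgroup.mem_normalizer_iff.1 hg d).1 hd.1,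
        CfsgLib.NormalPComplement.mem_map_conj.2 ?_⟩
      have e : c⁻¹ * (g * d * g⁻¹) * c = y * (g * (c⁻¹ * d * c) * g⁻¹) * y⁻¹ := by
        simp [hy, mul_assoc]
      rw [e]
      exact (Subgroup.mem_normalizer_iff.1 hyA _).1 ((Subgroup.mem_normalizer_iff.1 hg _).1
        (CfsgLib.NormalPComplement.mem_map_conj.1 hd.2))
    · rintro _ ⟨a, ha, rfl⟩
      show g * ⁅a, c⁆ * g⁻¹ ∈ CfsgLib.NormalPComplement.replacement A c
      have ha' : g * a * g⁻¹ ∈ A := (Subgroup.mem_normalizer_iff.1 hg a).1 ha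
      have e : g * ⁅a, c⁆ * g⁻¹ =
          ⁅g * a * g⁻¹, c⁆ * (c * ⁅g * a * g⁻¹, y⁆ * c⁻¹) := by
        simp [hy, commutatorElement_def, mul_assoc]
      rw [e]
      refine mul_mem (CfsgLib.NormalPComplement.commutator_mem_replacement ha')
        ((Subgroup.mem_normalizer_iff.1 (h.mem_normalizer_replacement hBA) _).1
          (Subgroup.mem_sup_left (h.mem_inter_of_mem hBA ?_ ?_)))
      · rw [commutatorElement_def, mul_assoc (g * a * g⁻¹) y, mul_assoc (g * a * g⁻¹)]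
        exact A.mul_mem ha' ((Subgroup.mem_normalizer_iff.1 hyA _).1 (A.inv_mem ha'))
      · exact Subgroup.commutator_le_right A B
          (Subgroup.commutator_mem_commutator ha' hyB)
  · intro hp2
    obtain ⟨k, hk⟩ := IsPGroup.iff_card.1 (hS.to_subgroup A)
    have hodd : Odd (Monoid.exponent A) := by
      obtain ⟨j, _, hj⟩ := (Nat.dvd_prime_pow Fact.out).1 (hk ▸ Group.exponent_dvd_nat_card)
      rw [hj]
      exact (Nat.Prime.odd_of_ne_two Fact.out hp2).pow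
    refine Monoid.exponent_dvd_of_forall_pow_eq_one fun x => Subtype.ext ?_
    rw [SubgroupClass.coe_pow, OneMemClass.coe_one]
    exact h.pow_eq_one_of_mem hBp hp' hodd
      (fun a ha => congrArg Subtype.val (Monoid.pow_exponent_eq_one (⟨a, ha⟩ : A))) x.2

end Cfsg.Agent.S0650
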