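import Cfsg.Statements.S0651
import Cfsg.Agent.Lib.NormalPComplement.Replacement

set_option autoImplicit false
open Cfsg

namespace Cfsg.Agent.S0651

open scoped commutatorElement

theorem exists_normalized_aux {S : Type*} [Group S] [Finite S] {p : ℕ} [Fact p.Prime]
    (hS : IsPGroup p S) (D B : Subgroup S) [D.Normal] [B.Normal]
    (F : Subgroup S → Prop) (hFab : ∀ A, F A → IsMulCommutative A) (hFD : ∀ A, F A → A ≤ D)
    (hF : ∀ A, F A → ∀ c, CfsgLib.NormalPComplement.ReplacementSetup A B c → ⁅B, B⁆ ≤ A →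
      CfsgLib.NormalPComplement.replacement A c ≤ D →
        F (CfsgLib.NormalPComplement.replacement A c))
    (hex : ∃ U, F U ∧ ⁅B, B⁆ ≤ U ∧ ¬ B ≤ U) :
    ∃ A, F A ∧ ⁅B, B⁆ ≤ A ∧ ¬ B ≤ A ∧ B ≤ Subgroup.normalizer (A : Set S) := by
  obtain ⟨A, ⟨hA, hBA, hnot⟩, hmax⟩ := Set.exists_max_image
    {A : Subgroup S | F A ∧ ⁅B, B⁆ ≤ A ∧ ¬ B ≤ A} (fun A => Nat.card ↥(A ⊓ B))
    (Set.toFinite _) hex
  refine ⟨A, hA, hBA, hnot, ?_⟩
  by_contra hn
  have hcomm : ⁅⁅B, B⁆, A⁆ = ⊥ := le_bot_iff.1 (le_trans (Subgroup.commutator_mono hBA le_rfl)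
    (Subgroup.commutator_eq_bot_iff_le_centralizer.2
      (CfsgLib.NormalPComplement.isMulCommutative_iff_le_centralizer.1 (hFab A hA))).le)
  obtain ⟨c, h, hc⟩ := CfsgLib.NormalPComplement.exists_replacementSetup
    (A := A) (B := B) (P := (⊤ : Subgroup S)) (hS.of_equiv Subgroup.topEquiv.symm) le_top le_top
    (fun x _ => Subgroup.le_normalizer_of_normal (Subgroup.mem_top x)) (hFab A hA) hcomm hn
  have hD : CfsgLib.NormalPComplement.replacement A c ≤ D := by
    refine sup_le (inf_le_left.trans (hFD A hA)) ((Subgroup.closure_le _).2 ?_)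
    rintro _ ⟨a, ha, rfl⟩
    exact Subgroup.commutator_le_left D ⊤
      (Subgroup.commutator_mem_commutator (hFD A hA ha) (Subgroup.mem_top c))
  have hlt : Nat.card ↥(A ⊓ B) < Nat.card ↥(CfsgLib.NormalPComplement.replacement A c ⊓ B) :=
    Set.Finite.card_lt_card (Set.toFinite _) (h.inf_lt_replacement_inf hBA hc)
  exact absurd (hmax _ ⟨hF A hA c h hBA hD, h.commutator_le_replacement hBA,
    fun hle => hn (hle.trans h.replacement_le_normalizer)⟩) (not_le.2 hlt)


/-- For odd p and D normal in the p-group S, the abelian subgroups of D of largest order satisfy the replacement property: a class-2 normal subgroup B of S with a member containing [B, B] but not B normalizes some such member. -/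
theorem result {S : Type*} [Group S] [Finite S] {p : ℕ} [Fact p.Prime] (hS : IsPGroup p S) (hp : p ≠ 2) (D : Subgroup S) [D.Normal] : ∀ (B : Subgroup S) [B.Normal], ⁅⁅B, B⁆, B⁆ = ⊥ → (∃ U ∈ (Set.image (fun A : Subgroup ↥D => A.map D.subtype) (Cfsg.maxAbelianSubgroups ↥D)), ⁅B, B⁆ ≤ U ∧ ¬ B ≤ U) → ∃ A ∈ (Set.image (fun A : Subgroup ↥D => A.map D.subtype) (Cfsg.maxAbelianSubgroups ↥D)), ⁅B, B⁆ ≤ A ∧ ¬ B ≤ A ∧ B ≤ Subgroup.normalizer (A : Set S) := by
  intro B _ hcl ⟨U, hU, hUB⟩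
  refine exists_normalized_aux hS D B
    (fun A => A ∈ Set.image (fun A : Subgroup ↥D => A.map D.subtype) (Cfsg.maxAbelianSubgroups ↥D))
    ?_ ?_ ?_ ⟨U, hU, hUB⟩ |>.imp fun A h => h
  · rintro _ ⟨A, hA, rfl⟩
    exact CfsgLib.NormalPComplement.isMulCommutative_map hA.1 _
  · rintro _ ⟨A, _, rfl⟩
    exact Subgroup.map_subtype_le A
  · rintro _ ⟨A, hA, rfl⟩ c h hBA hD
    have hab := h.isMulCommutative_replacement (hS.to_subgroup B)
      (Or.inl (Nat.Prime.odd_of_ne_two Fact.out hp))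
    refine ⟨(CfsgLib.NormalPComplement.replacement (A.map D.subtype) c).subgroupOf D,
      ⟨?_, fun C hC => ?_⟩, Subgroup.map_subgroupOf_eq_of_le hD⟩
    · rw [← CfsgLib.NormalPComplement.isMulCommutative_map_iff D.subtype_injective,
        Subgroup.map_subgroupOf_eq_of_le hD]
      exact hab
    · refine (hA.2 C hC).trans ?_
      rw [Nat.card_congr (Subgroup.subgroupOfEquivOfLe hD).toEquiv, h.card_replacement hBA hab,
        Subgroup.card_map_of_injective D.subtype_injective]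

end Cfsg.Agent.S0651
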