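import Cfsg.Statements.S0653
import Cfsg.Agent.Lib.Replacement.ZJ

set_option autoImplicit false
open Cfsg

namespace Cfsg.Agent.S0653

theorem characteristic_zcore {G : Type*} [Group G] [Finite G] {p : ℕ} [Fact p.Prime] {e : ℕ}
    (S : Sylow p G) (hn : (CfsgLib.Replacement.zcore e (S : Subgroup G)).Normal) :
    (CfsgLib.Replacement.zcore e (S : Subgroup G)).Characteristic := by
  rw [Subgroup.characteristic_iff_map_eq]
  intro φ
  rw [CfsgLib.Replacement.map_zcore_equiv]
  obtain ⟨g, hg⟩ := MulAction.exists_smul_eq G S (S.mapSurjective (f := φ.toMonoidHom) φ.surjective)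
  have hg' : (S : Subgroup G).map (MulAut.conj g).toMonoidHom = (S : Subgroup G).map φ.toMonoidHom :=
    congrArg Sylow.toSubgroup hg
  rw [← hg', ← CfsgLib.Replacement.map_zcore_equiv]
  ext x
  rw [Subgroup.mem_map_equiv, MulAut.conj_symm_apply]
  constructor
  · intro h
    simpa [mul_assoc] using hn.conj_mem _ h g
  · intro h
    simpa [mul_assoc] using hn.conj_mem _ h g⁻¹

theorem isStronglyClosed_self {G : Type*} [Group G] (S : Subgroup G) : Cfsg.IsStronglyClosed S S :=
  ⟨le_rfl, fun _ _ _ h => h⟩



/-- Glauberman's ZJ-Theorem: for odd p, if the largest normal p-subgroup of G contains its centralizer and G acts p-stably on every normal p-subgroup, then the centre of the abelian-version Thompson subgroup of a Sylow p-subgroup is a characteristic subgroup of G. -/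
theorem result {G : Type*} [Group G] [Finite G] {p : ℕ} [Fact p.Prime] (hp : p ≠ 2) (hc : Subgroup.centralizer (Cfsg.pCore p G : Set G) ≤ Cfsg.pCore p G) (hst : ∀ (P : Subgroup G) [P.Normal], IsPGroup p P → Cfsg.IsPStableOn p P) (S : Sylow p G) : (Cfsg.centerThompsonAOf ((S : Subgroup G))).Characteristic := by
  rw [CfsgLib.Replacement.centerThompsonAOf_eq_zcore]
  exact characteristic_zcore S (CfsgLib.Replacement.zcore_normal hp S
    (isStronglyClosed_self (S : Subgroup G)) hc hst (Or.inl rfl))

end Cfsg.Agent.S0653
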