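import Cfsg.Statements.S0655
import Cfsg.Agent.Lib.ThompsonJ.Basic
-- import your own Cfsg.Agent.* helpers here

set_option autoImplicit false
open Cfsg

namespace Cfsg.Agent.S0655

/-- In a p-group the intersection of all elementary abelian subgroups of largest order is the subgroup generated by the elements of order dividing p in the centre (equivalently the centralizer) of the elementary-version Thompson subgroup. -/
theorem result {S : Type*} [Group S] [Finite S] {p : ℕ} [Fact p.Prime] (hS : IsPGroup p S) : sInf (Cfsg.maxElementaryAbelianSubgroups p S) = Cfsg.omegaCenterThompson p S ∧ Cfsg.omegaCenterThompson p S = Cfsg.omegaOne p (Subgroup.centralizer (Cfsg.thompsonSubgroup p S : Set S)) := by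
  open CfsgLib.ThompsonJ in
  have h1 : Cfsg.omegaOne p (Subgroup.centralizer (Cfsg.thompsonSubgroup p S : Set S)) ≤
      Cfsg.omegaCenterThompson p S := by
    rw [omegaCenterThompson_eq, ← thompsonSubgroupOf_top]
    simpa [centerThompsonOf_def] using (omegaOne_inf_centralizer_le_thompsonSubgroupOf (p := p) (⊤ : Subgroup S))
  have h2 : Cfsg.omegaCenterThompson p S ≤ sInf (Cfsg.maxElementaryAbelianSubgroups p S) := by
    refine le_sInf fun A hA => ?_
    rw [CfsgLib.ThompsonJ.omegaCenterThompson_eq]
    exact CfsgLib.ThompsonJ.omegaOne_centerThompsonOf_le (CfsgLib.ThompsonJ.mem_max_iff.1 hA)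
  have h3 : sInf (Cfsg.maxElementaryAbelianSubgroups p S) ≤
      Cfsg.omegaOne p (Subgroup.centralizer (Cfsg.thompsonSubgroup p S : Set S)) := by
    intro x hx
    obtain ⟨A, hA⟩ := CfsgLib.ThompsonJ.exists_isMaxEA p (⊤ : Subgroup S)
    have hxA := Subgroup.mem_sInf.1 hx A (CfsgLib.ThompsonJ.mem_max_iff.2 hA)
    refine CfsgLib.ThompsonJ.mem_omegaOne ?_ (hA.elem.2 x hxA)
    have : Cfsg.thompsonSubgroup p S ≤ Subgroup.centralizer ({x} : Set S) := by
      refine sSup_le fun B hB => ?_
      intro b hb y hy
      rw [Set.mem_singleton_iff] at hy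
      subst hy
      exact CfsgLib.ThompsonJ.isElementaryAbelian_comm hB.1 (Subgroup.mem_sInf.1 hx B hB) hb
    intro j hj
    exact ((this hj) x rfl).symm
  exact ⟨le_antisymm (h3.trans h1) h2, le_antisymm (h2.trans h3) h1⟩

end Cfsg.Agent.S0655
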