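import Cfsg.Statements.S0994
import Cfsg.Agent.Lib.SmallGroups.Basic
-- import your own Cfsg.Agent.* helpers here

set_option autoImplicit false
open Cfsg

namespace Cfsg.Agent.S0994

open CfsgLib.SmallGroups in
theorem key {G : Type*} [Group G] [Finite G] [IsSimpleGroup G] (h : Nat.card G = 1188) : False := by
  have hG := not_isMulCommutative_of_card_eq h (by norm_num)
  have : Fact (Nat.Prime 11) := ⟨by norm_num⟩
  have hn := card_sylow_mem (p := 11) (a := 1) (m := 108) (by rw [h]; norm_num) (by norm_num)
  rw [show (Nat.divisors 108).filter (fun d => d % 11 = 1) = {1, 12} by decide] at hn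
  simp only [Finset.mem_insert, Finset.mem_singleton] at hn
  have h1 := one_lt_card_sylow hG (p := 11) (h ▸ by norm_num)
  obtain ⟨P⟩ := (inferInstance : Nonempty (Sylow 11 G))
  obtain ⟨c, e, -, -, he, hed, hprod⟩ := sylow_prime_data hG (m := 108) (by rw [h]) (by norm_num) P
  rw [show Nat.card (Sylow 11 G) = 12 by omega] at hprod
  have h9 : e ∣ 9 := ⟨c, by linarith⟩
  have := Nat.le_of_dvd one_pos ((show Nat.gcd 9 10 = 1 by rfl) ▸ Nat.dvd_gcd h9 hed)
  omega

/-- No finite simple group has order 1188 = 2^2 * 3^3 * 11. -/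
theorem result {G : Type*} [Group G] [Finite G] [IsSimpleGroup G] : Nat.card G ≠ 1188 := by
  exact fun h => key h

end Cfsg.Agent.S0994
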