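import Cfsg.Statements.S1249

set_option autoImplicit false
open Cfsg

namespace Cfsg.Agent.S1249

/-- Let P and Q be Sylow p-subgroups of the finite group G both containing the subgroup A. If A is strongly closed in P, then A is strongly closed in Q. -/
theorem result {G : Type*} [Group G] [Finite G] {p : ℕ} [Fact p.Prime] (P Q : Sylow p G) (A : Subgroup G) (hAQ : A ≤ Q) (hA : Cfsg.IsStronglyClosed A (P : Subgroup G)) : Cfsg.IsStronglyClosed A (Q : Subgroup G) := by
  obtain ⟨hAP, hcl⟩ := hA
  obtain ⟨g, rfl⟩ := MulAction.exists_smul_eq G P Q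
  have hmem : ∀ y : G, y ∈ ((g • P : Sylow p G) : Subgroup G) ↔ g⁻¹ * y * g ∈ (P : Subgroup G) := by
    intro y
    rw [Sylow.coe_subgroup_smul, Subgroup.mem_pointwise_smul_iff_inv_smul_mem]
    simp [MulAut.smul_def, MulAut.conj_symm_apply]
  have hin : ∀ a ∈ A, g⁻¹ * a * g ∈ A := by
    intro a ha
    have := hcl a ha g⁻¹ (by simpa using (hmem a).mp (hAQ ha))
    simpa using this
  have hle : A.map (MulAut.conj g⁻¹).toMonoidHom ≤ A := by
    rintro _ ⟨a, ha, rfl⟩
    simpa using hin a ha
  have heq : A.map (MulAut.conj g⁻¹).toMonoidHom = A :=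
    Subgroup.eq_of_le_of_card_ge hle
      (le_of_eq (Subgroup.card_map_of_injective (MulAut.conj g⁻¹).injective).symm)
  refine ⟨hAQ, fun x hx h hxh => ?_⟩
  have h1 : g⁻¹ * (h * x * h⁻¹) * g ∈ A := by
    have := hcl x hx (g⁻¹ * h) (by
      have := (hmem _).mp hxh
      simpa [mul_assoc] using this)
    simpa [mul_assoc] using this
  rw [← heq] at h1
  obtain ⟨a, ha, ha'⟩ := h1
  have : a = h * x * h⁻¹ := by
    apply (MulAut.conj g⁻¹).injective
    refine ha'.trans ?_
    simp [mul_assoc]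
  exact this ▸ ha

end Cfsg.Agent.S1249
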