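import Cfsg.Statements.S1250

set_option autoImplicit false
open Cfsg

namespace Cfsg.Agent.S1250

/-- Let S be a Sylow p-subgroup of the finite group G, A ≤ S strongly closed in S, and N a normal subgroup. Then the image of A in G ⧸ N is strongly closed in the image of S (which is a Sylow p-subgroup of G ⧸ N). -/
theorem result {G : Type*} [Group G] [Finite G] {p : ℕ} [Fact p.Prime] (S : Sylow p G) (A : Subgroup G) (hA : Cfsg.IsStronglyClosed A (S : Subgroup G)) (N : Subgroup G) [N.Normal] : Cfsg.IsStronglyClosed (A.map (QuotientGroup.mk' N)) ((S : Subgroup G).map (QuotientGroup.mk' N)) := by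
  obtain ⟨hAS, hcl⟩ := hA
  refine ⟨Subgroup.map_mono hAS, ?_⟩
  rintro _ ⟨x, hx, rfl⟩ gb hgb
  obtain ⟨g, rfl⟩ := QuotientGroup.mk'_surjective N gb
  rw [← map_inv, ← map_mul, ← map_mul] at hgb ⊢
  set y := g * x * g⁻¹ with hy
  have hyL : y ∈ (S : Subgroup G) ⊔ N := by
    have := Subgroup.mem_comap.mpr hgb
    rwa [Subgroup.comap_map_eq, QuotientGroup.ker_mk'] at this
  set L := (S : Subgroup G) ⊔ N
  have hSp : IsPGroup p (S : Subgroup G) := S.2
  have hyp : IsPGroup p (Subgroup.zpowers (⟨y, hyL⟩ : L)) := by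
    obtain ⟨k, hk⟩ := IsPGroup.iff_orderOf.mp hSp ⟨x, hAS hx⟩
    apply IsPGroup.of_card (n := k)
    rw [Nat.card_zpowers, Subgroup.orderOf_mk, hy, ← hk, Subgroup.orderOf_mk]
    exact (orderOf_injective (MulAut.conj g).toMonoidHom (MulAut.conj g).injective x)
  obtain ⟨Q, hQ⟩ := hyp.exists_le_sylow
  let SL : Sylow p L := S.subtype le_sup_left
  obtain ⟨l, hl⟩ := MulAction.exists_smul_eq L Q SL
  have h1 : (l : G) * y * (l : G)⁻¹ ∈ (S : Subgroup G) := by
    have := Subgroup.smul_mem_pointwise_smul _ (MulAut.conj l) _ (hQ (Subgroup.mem_zpowers _))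
    have h2 : l * ⟨y, hyL⟩ * l⁻¹ ∈ (SL : Subgroup L) := by
      rw [← hl]
      simpa [Sylow.coe_subgroup_smul, MulAut.smul_def] using this
    exact h2
  obtain ⟨s, hs, n, hn, hsn⟩ := Subgroup.mem_sup_of_normal_right.mp l.2
  have h2 : (n * g) * x * (n * g)⁻¹ ∈ (S : Subgroup G) := by
    have := mul_mem (mul_mem (inv_mem hs) h1) hs
    rw [← hsn] at this
    simpa [hy, mul_assoc] using this
  refine ⟨_, hcl x hx (n * g) h2, ?_⟩
  have hn1 : QuotientGroup.mk' N n = 1 := (QuotientGroup.eq_one_iff n).mpr hn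
  simp only [hy, map_mul, map_inv, hn1, one_mul]

end Cfsg.Agent.S1250
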