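import Cfsg.Statements.S1292
import Cfsg.Agent.Lib.Balance.Local

set_option autoImplicit false
open Cfsg

namespace Cfsg.Agent.S1292

theorem comap_inclusion_ne {G : Type*} [Group G] {A B : Subgroup G} (hAB : A ≤ B)
    {L : Subgroup B} (hL : L.map B.subtype ≤ A) :
    (L.comap (Subgroup.inclusion hAB)).map (Subgroup.inclusion hAB) = L := by
  rw [Subgroup.map_comap_eq, inf_eq_right]
  intro x hx
  exact ⟨⟨x, hL ⟨x, hx, rfl⟩⟩, rfl⟩


/-- Let G be a finite group such that F*(C_G(t)) = O_2(C_G(t)) for every involution t. Then F*(N_G(T)) = O_2(N_G(T)) for every nontrivial 2-subgroup T of G. -/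
theorem result {G : Type*} [Group G] [Finite G] (h : ∀ t : G, orderOf t = 2 → Cfsg.generalizedFittingSubgroup ↥(Subgroup.centralizer ({t} : Set G)) = Cfsg.pCore 2 ↥(Subgroup.centralizer ({t} : Set G))) (T : Subgroup G) (hT : IsPGroup 2 ↥T) (hT1 : T ≠ ⊥) : Cfsg.generalizedFittingSubgroup ↥(Subgroup.normalizer (T : Set G)) = Cfsg.pCore 2 ↥(Subgroup.normalizer (T : Set G)) := by
  classical
  haveI : Nontrivial ↥T := (Subgroup.nontrivial_iff_ne_bot T).2 hT1
  haveI : Nontrivial ↥(Subgroup.center ↥T) := hT.center_nontrivial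
  obtain ⟨⟨z, hz⟩, hzo⟩ := exists_prime_orderOf_dvd_card' (G := ↥(Subgroup.center ↥T)) 2
    (((hT.to_subgroup _).card_eq_or_dvd).resolve_left Finite.one_lt_card.ne')
  set t : G := (z : G) with htdef
  have ht : orderOf t = 2 := by
    exact ((Subgroup.orderOf_coe z).trans (Subgroup.orderOf_coe (⟨z, hz⟩ : ↥(Subgroup.center ↥T)))).trans hzo
  set C := Subgroup.centralizer ({t} : Set G)
  have hTC : T ≤ C := fun x hx => Subgroup.mem_centralizer_iff.2 (by
    rintro w rfl
    exact (congrArg Subtype.val (Subgroup.mem_center_iff.1 hz ⟨x, hx⟩)).symm)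
  set T' := T.subgroupOf C
  have hT' : IsPGroup 2 ↥T' := hT.of_equiv (Subgroup.subgroupOfEquivOfLe hTC).symm
  obtain ⟨hcore, hlayer⟩ := CfsgLib.Balance.local_pCharacteristic
    (CfsgLib.Balance.centralizer_pCore_le_of_generalizedFitting_eq (h t ht)) hT'
  set N := Subgroup.normalizer (T : Set G)
  set A : Subgroup G := (Subgroup.normalizer (T' : Set ↥C)).map C.subtype
  have hAN : A ≤ N := by
    rintro _ ⟨g, hg, rfl⟩
    refine CfsgLib.CoprimeAction.mem_normalizer_of_conj_mem fun x hx => ?_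
    exact (Subgroup.mem_normalizer_iff.1 hg ⟨x, hTC hx⟩).1 hx
  have hNC : N ⊓ C ≤ A := fun g hg => ⟨⟨g, hg.2⟩, Subgroup.mem_normalizer_iff.2 fun x =>
    Subgroup.mem_normalizer_iff.1 hg.1 (x : G), rfl⟩
  have hA : CfsgLib.Balance.localPreimage 2 T ≤ A := le_trans
    (le_inf (CfsgLib.Balance.localPreimage_le_normalizer 2 T)
      ((CfsgLib.Balance.localPreimage_le_centralizer hT).trans (fun x hx =>
        Subgroup.mem_centralizer_iff.2 (by
          rintro w rfl
          exact hx t z.2)))) hNC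
  let ι : ↥A →* ↥N := Subgroup.inclusion hAN
  let e : ↥(Subgroup.normalizer (T' : Set ↥C)) ≃* ↥A :=
    Subgroup.equivMapOfInjective _ C.subtype C.subtype_injective
  have hιinj : Function.Injective ι := Subgroup.inclusion_injective hAN
  have hcoreA : Cfsg.pPrimeCore 2 ↥A = ⊥ := by
    rw [← CfsgLib.Cores.map_pPrimeCore_equiv e, hcore, Subgroup.map_bot]
  have hlayerA : Cfsg.layer ↥A = ⊥ := by
    rw [← CfsgLib.Cores.map_layer_equiv e, hlayer, Subgroup.map_bot]
  refine CfsgLib.Balance.generalizedFittingSubgroup_eq_pCore ?_ ?_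
  · have hle : (Cfsg.pPrimeCore 2 ↥N).map N.subtype ≤ A :=
      (CfsgLib.Balance.localCore_le_localPreimage 2 T).trans hA
    have hmap := comap_inclusion_ne hAN hle
    have hcard : Nat.card ↥((Cfsg.pPrimeCore 2 ↥N).comap ι) = Nat.card ↥(Cfsg.pPrimeCore 2 ↥N) := by
      conv_rhs => rw [← hmap]
      exact (Subgroup.card_map_of_injective hιinj).symm
    haveI : ((Cfsg.pPrimeCore 2 ↥N).comap ι).Normal := Subgroup.Normal.comap inferInstance ι
    have hb : (Cfsg.pPrimeCore 2 ↥N).comap ι = ⊥ := le_bot_iff.1 (hcoreA ▸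
      CfsgLib.Cores.le_pPrimeCore (hcard ▸ CfsgLib.Cores.card_pPrimeCore_coprime 2))
    rw [← hmap, hb, Subgroup.map_bot]
  · refine CfsgLib.Cores.layer_eq_bot_iff.2 fun L hL => ?_
    have hmap := comap_inclusion_ne hAN ((CfsgLib.Balance.component_le_localPreimage hL).trans hA)
    refine CfsgLib.Cores.layer_eq_bot_iff.1 hlayerA (L.comap ι) ⟨hL.1.comap ι, ?_⟩
    rw [CfsgLib.Cores.isQuasisimple_congr ((L.comap ι).equivMapOfInjective ι hιinj), hmap]
    exact hL.2

end Cfsg.Agent.S1292
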