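import Cfsg.Statements.S1323
import Cfsg.Agent.Lib.Cores.Quasisimple
import Mathlib.GroupTheory.SpecificGroups.Alternating.Simple
import Mathlib.GroupTheory.Perm.Cycle.Type

set_option autoImplicit false
set_option linter.style.haveILetI false
open Cfsg

namespace Cfsg.Agent.S1323

open Equiv Equiv.Perm

variable {n : ℕ}

/-- The even permutations fixing every point with the property `P`. -/
def fixSub (P : Fin n → Prop) : Subgroup ↥(alternatingGroup (Fin n)) where
  carrier := {σ | ∀ x, P x → (σ : Perm (Fin n)) x = x}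
  one_mem' := fun x _ => rfl
  mul_mem' := by
    intro a b ha hb x hx
    show (a : Perm (Fin n)) ((b : Perm (Fin n)) x) = x
    rw [hb x hx, ha x hx]
  inv_mem' := by
    intro a ha x hx
    show (a : Perm (Fin n))⁻¹ x = x
    rw [Equiv.Perm.inv_eq_iff_eq]
    exact (ha x hx).symm

theorem exists_three_cycle (Q : Finset (Fin n)) (hQ : 4 ≤ Q.card) {x : Fin n} (hx : x ∈ Q)
    (w : Fin n) (hw : w ≠ x) : ∃ σ : ↥(alternatingGroup (Fin n)),
      (∀ y, y ∉ Q → (σ : Perm (Fin n)) y = y) ∧ (σ : Perm (Fin n)) w = w ∧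
        (σ : Perm (Fin n)) x ≠ x := by
  have h2 : 1 < ((Q.erase x).erase w).card := by
    have := Finset.pred_card_le_card_erase (s := Q.erase x) (a := w)
    have := Finset.card_erase_of_mem hx
    omega
  obtain ⟨y, hy, z, hz, hyz⟩ := Finset.one_lt_card.mp h2
  simp only [Finset.mem_erase] at hy hz
  refine ⟨⟨swap x y * swap x z, ?_⟩, fun u hu => ?_, ?_, ?_⟩
  · rw [mem_alternatingGroup, map_mul, sign_swap hy.2.1.symm, sign_swap hz.2.1.symm]
    rfl
  · have h1 : u ≠ x := fun h => hu (h ▸ hx)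
    have h2 : u ≠ y := fun h => hu (h ▸ hy.2.2)
    have h3 : u ≠ z := fun h => hu (h ▸ hz.2.2)
    show swap x y (swap x z u) = u
    rw [swap_apply_of_ne_of_ne h1 h3, swap_apply_of_ne_of_ne h1 h2]
  · show swap x y (swap x z w) = w
    rw [swap_apply_of_ne_of_ne hw hz.1.symm, swap_apply_of_ne_of_ne hw hy.1.symm]
  · show swap x y (swap x z x) ≠ x
    rw [swap_apply_left, swap_apply_of_ne_of_ne hz.2.1 hyz.symm]
    exact hz.2.1

theorem map_conj_fixSub (g : ↥(alternatingGroup (Fin n))) (P : Fin n → Prop) :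
    (fixSub P).map (MulAut.conj g).toMonoidHom =
      fixSub (fun x => P ((g : Perm (Fin n))⁻¹ x)) := by
  ext σ
  rw [Subgroup.mem_map_equiv]
  show (∀ x, P x → ((g⁻¹ * σ * g : ↥(alternatingGroup (Fin n))) : Perm (Fin n)) x = x) ↔ _
  constructor
  · intro h x hx
    have h1 := h _ hx
    simpa using h1
  · intro h x hx
    have h1 := h ((g : Perm (Fin n)) x) (by simpa using hx)
    simp [h1]

/-- The points above `3`. -/
def high (n : ℕ) : Finset (Fin n) := Finset.univ.filter fun x => ¬ (x : ℕ) < 4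

theorem mem_high {x : Fin n} : x ∈ high n ↔ ¬ (x : ℕ) < 4 := by simp [high]

theorem card_low (h4 : 4 ≤ n) : (Finset.univ.filter fun x : Fin n => (x : ℕ) < 4).card = 4 := by
  have : (Finset.univ.filter fun x : Fin n => (x : ℕ) < 4) =
      Finset.univ.map (Fin.castLEEmb h4) := by
    ext x
    simp only [Finset.mem_filter, Finset.mem_univ, true_and, Finset.mem_map]
    exact ⟨fun h => ⟨⟨x, h⟩, rfl⟩, by rintro ⟨i, rfl⟩; exact i.2⟩
  rw [this, Finset.card_map, Finset.card_univ, Fintype.card_fin]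

theorem card_high (h4 : 4 ≤ n) : (high n).card = n - 4 := by
  have := Finset.card_filter_add_card_filter_not (s := (Finset.univ : Finset (Fin n)))
    (fun x : Fin n => (x : ℕ) < 4)
  rw [Finset.card_univ, Fintype.card_fin, card_low h4] at this
  simp only [high]
  omega

abbrev L0 (n : ℕ) : Subgroup ↥(alternatingGroup (Fin n)) := fixSub fun x : Fin n => (x : ℕ) < 4
abbrev C0 (n : ℕ) : Subgroup ↥(alternatingGroup (Fin n)) := fixSub fun x : Fin n => ¬ (x : ℕ) < 4

theorem stabilizer_eq (h4 : 4 ≤ n) : (⨅ i : Fin 4,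
    MulAction.stabilizer ↥(alternatingGroup (Fin n)) (Fin.castLE h4 i : Fin n)) = L0 n := by
  ext σ
  simp only [Subgroup.mem_iInf, MulAction.mem_stabilizer_iff]
  refine ⟨fun h x hx => ?_, fun h i => h _ (by simp)⟩
  exact h ⟨x, hx⟩

/-- For a moved point outside, and a point to be kept. -/
theorem exists_mem_L0 (h4 : 4 ≤ n) (hn : 9 ≤ n) {x w : Fin n} (hx : ¬ (x : ℕ) < 4) (hw : w ≠ x) :
    ∃ σ ∈ L0 n, (σ : Perm (Fin n)) w = w ∧ (σ : Perm (Fin n)) x ≠ x := by
  obtain ⟨σ, h1, h2, h3⟩ := exists_three_cycle (high n) (by rw [card_high h4]; omega)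
    (mem_high.mpr hx) w hw
  exact ⟨σ, fun y hy => h1 y fun h => mem_high.mp h hy, h2, h3⟩

theorem centralizer_L0 (h4 : 4 ≤ n) (hn : 9 ≤ n) :
    Subgroup.centralizer (L0 n : Set ↥(alternatingGroup (Fin n))) = C0 n := by
  ext σ
  rw [Subgroup.mem_centralizer_iff]
  constructor
  · intro h x hx
    have hmove : ∀ τ ∈ L0 n, (τ : Perm (Fin n)) ((σ : Perm (Fin n)) x) =
        (σ : Perm (Fin n)) ((τ : Perm (Fin n)) x) := fun τ hτ =>
      congrArg (fun π : ↥(alternatingGroup (Fin n)) => (π : Perm (Fin n)) x) (h τ hτ)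
    by_contra hne
    by_cases hσx : ((σ : Perm (Fin n)) x : ℕ) < 4
    · obtain ⟨w, hw⟩ : ∃ w : Fin n, w ≠ x := ⟨(σ : Perm (Fin n)) x, hne⟩
      obtain ⟨τ, hτ, -, hτx⟩ := exists_mem_L0 h4 hn hx hw
      have h1 := hmove τ hτ
      rw [hτ _ hσx] at h1
      exact hτx ((σ : Perm (Fin n)).injective h1).symm
    · obtain ⟨τ, hτ, hτw, hτx⟩ := exists_mem_L0 h4 hn hσx (w := x) (Ne.symm hne)
      have h1 := hmove τ hτ
      rw [hτw] at h1
      exact hτx h1
  · intro h τ hτ
    apply Subtype.ext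
    refine Equiv.ext fun x => ?_
    show (τ : Perm (Fin n)) ((σ : Perm (Fin n)) x) = (σ : Perm (Fin n)) ((τ : Perm (Fin n)) x)
    by_cases hx : (x : ℕ) < 4
    · rw [hτ x hx]
      refine hτ _ ?_
      by_contra hσ
      exact hσ (by rw [(σ : Perm (Fin n)).injective (h _ hσ)]; exact hx)
    · rw [h x hx]
      refine (h _ ?_).symm
      intro hτx
      exact hx ((τ : Perm (Fin n)).injective (hτ _ hτx) ▸ hτx)

/-- The setwise stabiliser condition. -/
def Keeps (g : ↥(alternatingGroup (Fin n))) : Prop :=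
  ∀ x : Fin n, ((((g : Perm (Fin n))⁻¹) x : Fin n) : ℕ) < 4 ↔ (x : ℕ) < 4

theorem mem_normalizer_L0_iff (h4 : 4 ≤ n) (hn : 9 ≤ n) (g : ↥(alternatingGroup (Fin n))) :
    g ∈ Subgroup.normalizer (L0 n : Set ↥(alternatingGroup (Fin n))) ↔ Keeps g := by
  rw [Subgroup.mem_normalizer_iff_map_conj_eq]
  show (L0 n).map (MulAut.conj g).toMonoidHom = L0 n ↔ _
  rw [map_conj_fixSub]
  constructor
  · intro h x
    constructor
    · intro hgx
      by_contra hx
      obtain ⟨w, hw⟩ : ∃ w : Fin n, w ≠ x := by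
        refine ⟨Fin.castLE h4 0, fun e => hx ?_⟩
        rw [← e]; simp
      obtain ⟨τ, hτ, -, hτx⟩ := exists_mem_L0 h4 hn hx hw
      exact hτx ((h.ge hτ : τ ∈ fixSub _) x hgx)
    · intro hx
      by_contra hgx
      obtain ⟨w, hw⟩ : ∃ w : Fin n, w ≠ (g : Perm (Fin n))⁻¹ x := by
        refine ⟨Fin.castLE h4 0, fun e => hgx ?_⟩
        rw [← e]; simp
      obtain ⟨τ, hτ, -, hτx⟩ := exists_mem_L0 h4 hn hgx hw
      have hmem : g * τ * g⁻¹ ∈ fixSub (fun y => (((g : Perm (Fin n))⁻¹ y : Fin n) : ℕ) < 4) := by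
        rw [← map_conj_fixSub g (fun y : Fin n => (y : ℕ) < 4)]
        exact ⟨τ, hτ, rfl⟩
      have := (h.le hmem : g * τ * g⁻¹ ∈ L0 n) x hx
      apply hτx
      have h2 := congrArg ((g : Perm (Fin n))⁻¹ : Perm (Fin n)) this
      simpa using h2
  · intro h
    ext σ
    exact ⟨fun hσ x hx => hσ x ((h x).mpr hx), fun hσ x hx => hσ x ((h x).mp hx)⟩

theorem exists_mem_C0 (h4 : 4 ≤ n) {x : Fin n} (hx : (x : ℕ) < 4) :
    ∃ σ ∈ C0 n, (σ : Perm (Fin n)) x ≠ x := by
  obtain ⟨w, hw⟩ : ∃ w : Fin n, w ≠ x := by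
    by_cases h : x = Fin.castLE h4 0
    · exact ⟨Fin.castLE h4 1, fun e => by simpa using Fin.ext_iff.mp (e.trans h)⟩
    · exact ⟨Fin.castLE h4 0, Ne.symm h⟩
  obtain ⟨σ, h1, -, h3⟩ := exists_three_cycle (Finset.univ.filter fun y : Fin n => (y : ℕ) < 4)
    (card_low h4).ge (by simpa using hx) w hw
  exact ⟨σ, fun y hy => h1 y (by simpa using hy), h3⟩

theorem mem_normalizer_C0_iff (h4 : 4 ≤ n) (g : ↥(alternatingGroup (Fin n))) :
    g ∈ Subgroup.normalizer (C0 n : Set ↥(alternatingGroup (Fin n))) ↔ Keeps g := by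
  rw [Subgroup.mem_normalizer_iff_map_conj_eq]
  show (C0 n).map (MulAut.conj g).toMonoidHom = C0 n ↔ _
  rw [map_conj_fixSub]
  constructor
  · intro h x
    constructor
    · intro hgx
      by_contra hx
      obtain ⟨τ, hτ, hτx⟩ := exists_mem_C0 h4 hgx
      have hmem : g * τ * g⁻¹ ∈ fixSub (fun y => ¬ (((g : Perm (Fin n))⁻¹ y : Fin n) : ℕ) < 4) := by
        rw [← map_conj_fixSub g (fun y : Fin n => ¬ (y : ℕ) < 4)]
        exact ⟨τ, hτ, rfl⟩
      have := (h.le hmem : g * τ * g⁻¹ ∈ C0 n) x hx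
      apply hτx
      have h2 := congrArg ((g : Perm (Fin n))⁻¹ : Perm (Fin n)) this
      simpa using h2
    · intro hx
      by_contra hgx
      obtain ⟨τ, hτ, hτx⟩ := exists_mem_C0 h4 hx
      exact hτx ((h.ge hτ : τ ∈ fixSub _) x hgx)
  · intro h
    ext σ
    exact ⟨fun hσ x hx => hσ x (fun e => hx ((h x).mp e)),
      fun hσ x hx => hσ x (fun e => hx ((h x).mpr e))⟩

theorem even_card_C0 (h4 : 4 ≤ n) : Even (Nat.card ↥(C0 n)) := by
  set a : Fin n := Fin.castLE h4 0
  set b : Fin n := Fin.castLE h4 1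
  set c : Fin n := Fin.castLE h4 2
  set d : Fin n := Fin.castLE h4 3
  have hab : a ≠ b := by simp [a, b, Fin.ext_iff]
  have hcd : c ≠ d := by simp [c, d, Fin.ext_iff]
  let v : ↥(alternatingGroup (Fin n)) := ⟨swap a b * swap c d, by
    rw [mem_alternatingGroup, map_mul, sign_swap hab, sign_swap hcd]; rfl⟩
  have hv : v ∈ C0 n := by
    intro x hx
    show swap a b (swap c d x) = x
    have h : ∀ i : Fin 4, x ≠ Fin.castLE h4 i := fun i e => hx (e ▸ i.2)
    rw [swap_apply_of_ne_of_ne (h 2) (h 3), swap_apply_of_ne_of_ne (h 0) (h 1)]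
  have hac : a ≠ c := by simp [a, c, Fin.ext_iff]
  have had : a ≠ d := by simp [a, d, Fin.ext_iff]
  have hbc : b ≠ c := by simp [b, c, Fin.ext_iff]
  have hbd : b ≠ d := by simp [b, d, Fin.ext_iff]
  have hv1 : v ≠ 1 := by
    intro e
    have h := congrArg (fun π : ↥(alternatingGroup (Fin n)) => (π : Perm (Fin n)) a) e
    simp only [v, Equiv.Perm.mul_apply, swap_apply_of_ne_of_ne hac had, swap_apply_left,
      OneMemClass.coe_one, Equiv.Perm.one_apply] at h
    exact hab h.symm
  have hv2 : v ^ 2 = 1 := by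
    have hcm : Commute (swap a b) (swap c d) := by
      refine Equiv.Perm.Disjoint.commute fun x => ?_
      by_cases hxa : x = a
      · exact Or.inr (by rw [hxa, swap_apply_of_ne_of_ne hac had])
      by_cases hxb : x = b
      · exact Or.inr (by rw [hxb, swap_apply_of_ne_of_ne hbc hbd])
      exact Or.inl (swap_apply_of_ne_of_ne hxa hxb)
    apply Subtype.ext
    show (swap a b * swap c d) ^ 2 = 1
    rw [hcm.mul_pow, pow_two, pow_two, swap_mul_self, swap_mul_self, one_mul]
  rw [even_iff_two_dvd, ← orderOf_eq_prime hv2 hv1]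
  exact Subgroup.orderOf_dvd_natCard _ hv

theorem eq_one_of_few (σ : ↥(alternatingGroup (Fin n))) (h2 : σ ^ 2 = 1)
    (h3 : (σ : Perm (Fin n)).support.card ≤ 3) : σ = 1 := by
  apply Subtype.ext
  show (σ : Perm (Fin n)) = 1
  have hsign : sign (σ : Perm (Fin n)) = 1 := mem_alternatingGroup.mp σ.2
  have h2' : (σ : Perm (Fin n)) ^ 2 = 1 := by simpa using congrArg Subtype.val h2
  rcases Nat.lt_or_ge (σ : Perm (Fin n)).support.card 3 with h | h
  · rcases Nat.lt_or_ge (σ : Perm (Fin n)).support.card 2 with h' | h'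
    · have := card_support_ne_one (f := (σ : Perm (Fin n)))
      exact card_support_eq_zero.mp (by omega)
    · have hs := card_support_eq_two.mp (show (σ : Perm (Fin n)).support.card = 2 by omega)
      rw [hs.sign_eq] at hsign
      exact absurd hsign (by decide)
  · have hc := card_support_eq_three_iff.mp (show (σ : Perm (Fin n)).support.card = 3 by omega)
    have := orderOf_dvd_of_pow_eq_one h2'
    rw [hc.orderOf] at this
    norm_num at this

theorem isSimple_L0 (h4 : 4 ≤ n) (hn : 9 ≤ n) : IsSimpleGroup ↥(L0 n) := by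
  classical
  haveI : IsSimpleGroup ↥(alternatingGroup {x : Fin n // ¬ (x : ℕ) < 4}) := by
    refine alternatingGroup.isSimpleGroup ?_
    rw [Nat.card_eq_fintype_card, Fintype.card_subtype]
    have := card_high h4
    simp only [high] at this
    omega
  let f : ↥(alternatingGroup {x : Fin n // ¬ (x : ℕ) < 4}) →* ↥(L0 n) :=
    { toFun := fun π => ⟨⟨ofSubtype (π : Perm _), by
        rw [mem_alternatingGroup, sign_ofSubtype, mem_alternatingGroup.mp π.2]⟩,
        fun x hx => ofSubtype_apply_of_not_mem (p := fun y : Fin n => ¬ (y : ℕ) < 4) _ (not_not.mpr hx)⟩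
      map_one' := by
        apply Subtype.ext; apply Subtype.ext; exact map_one _
      map_mul' := fun a b => by
        apply Subtype.ext; apply Subtype.ext; exact map_mul ofSubtype _ _ }
  have hinj : Function.Injective f := fun a b hab => by
    apply Subtype.ext
    exact ofSubtype_injective (congrArg (fun u : ↥(L0 n) => ((u : ↥(alternatingGroup (Fin n))) : Perm (Fin n))) hab)
  have hsurj : Function.Surjective f := by
    rintro ⟨⟨σ, hσ⟩, hfix⟩
    have h1 : ∀ x, ¬ ((σ x : Fin n) : ℕ) < 4 ↔ ¬ (x : ℕ) < 4 := by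
      intro x
      refine not_congr ⟨fun h => ?_, fun h => ?_⟩
      · have := hfix _ h
        rw [← σ.injective this]; exact h
      · rw [show σ x = x from hfix x h]; exact h
    have h2 : ∀ x, σ x ≠ x → ¬ (x : ℕ) < 4 := fun x hx h => hx (hfix x h)
    refine ⟨⟨subtypePerm σ h1, ?_⟩, ?_⟩
    · rw [mem_alternatingGroup, sign_subtypePerm σ h1 h2]
      exact mem_alternatingGroup.mp hσ
    · apply Subtype.ext; apply Subtype.ext
      exact ofSubtype_subtypePerm h1 h2
  haveI : Nontrivial ↥(L0 n) := hinj.nontrivial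
  exact IsSimpleGroup.isSimpleGroup_of_surjective f hsurj

/-- For n ≥ 9, the subgroup of the alternating group on Fin n fixing each of the points 0, 1, 2, 3 is a standard subgroup. -/
theorem result (n : ℕ) (h4 : 4 ≤ n) (hn : 9 ≤ n) : Cfsg.IsStandardSubgroup (⨅ i : Fin 4, MulAction.stabilizer ↥(alternatingGroup (Fin n)) (Fin.castLE h4 i : Fin n)) := by
  rw [stabilizer_eq h4]
  have hC := centralizer_L0 h4 hn
  refine ⟨?_, ⟨?_, ?_⟩, ?_, ?_⟩
  · haveI := isSimple_L0 h4 hn
    refine CfsgLib.Cores.isQuasisimple_of_isSimpleGroup fun hcomm => ?_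
    obtain ⟨τ, hτ, -, hτx⟩ := exists_mem_L0 h4 hn (x := (⟨4, by omega⟩ : Fin n)) (by simp)
      (w := Fin.castLE h4 0) (by simp [Fin.ext_iff])
    have hle : L0 n ≤ C0 n := by
      rw [← hC]
      exact Subgroup.le_centralizer_iff_isMulCommutative.mpr hcomm
    exact hτx (hle hτ _ (by simp))
  · rw [hC]; exact even_card_C0 h4
  · intro g hg
    rw [hC] at hg ⊢
    rw [mem_normalizer_C0_iff h4] at hg
    by_contra hodd
    rw [Nat.not_odd_iff_even, even_iff_two_dvd] at hodd
    haveI : Fact (Nat.Prime 2) := ⟨Nat.prime_two⟩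
    obtain ⟨⟨σ, hσ⟩, hσo⟩ := exists_prime_orderOf_dvd_card' 2 hodd
    rw [Subgroup.orderOf_mk] at hσo
    obtain ⟨hσ1, hσ2⟩ := Subgroup.mem_inf.mp hσ
    rw [map_conj_fixSub] at hσ2
    -- a low point outside the image
    obtain ⟨x, hx, hgx⟩ : ∃ x : Fin n, (x : ℕ) < 4 ∧ ¬ (((g : Perm (Fin n))⁻¹ x : Fin n) : ℕ) < 4 := by
      by_contra h
      push Not at h
      have hsub : (Finset.univ.filter fun x : Fin n => (x : ℕ) < 4).map
          ((g : Perm (Fin n))⁻¹).toEmbedding ⊆ Finset.univ.filter fun x : Fin n => (x : ℕ) < 4 := by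
        intro y hy
        simp only [Finset.mem_map, Finset.mem_filter, Finset.mem_univ, true_and] at hy ⊢
        obtain ⟨x, hx, rfl⟩ := hy
        exact h x hx
      have heq := Finset.eq_of_subset_of_card_le hsub (by rw [Finset.card_map])
      apply hg
      intro x
      refine ⟨fun hgx => ?_, h x⟩
      have : (g : Perm (Fin n))⁻¹ x ∈ Finset.univ.filter fun x : Fin n => (x : ℕ) < 4 := by
        simpa using hgx
      rw [← heq, Finset.mem_map] at this
      obtain ⟨x', hx', hxx⟩ := this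
      have := ((g : Perm (Fin n))⁻¹).injective hxx
      subst this
      simpa using hx'
    have hsupp : (σ : Perm (Fin n)).support.card ≤ 3 := by
      have h1 : (σ : Perm (Fin n)).support ⊆
          (Finset.univ.filter fun x : Fin n => (x : ℕ) < 4).erase x := by
        intro y hy
        rw [mem_support] at hy
        simp only [Finset.mem_erase, Finset.mem_filter, Finset.mem_univ, true_and]
        exact ⟨fun e => hy (e ▸ hσ2 x hgx), by_contra fun h => hy (hσ1 y h)⟩
      have h2 := Finset.card_le_card h1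
      rw [Finset.card_erase_of_mem (by simpa using hx), card_low h4] at h2
      omega
    have h1 : σ = 1 := eq_one_of_few σ (hσo ▸ pow_orderOf_eq_one σ) hsupp
    rw [h1, orderOf_one] at hσo
    omega
  · intro g hg hbot
    rw [Subgroup.commutator_comm, Subgroup.commutator_eq_bot_iff_le_centralizer, hC] at hbot
    rw [map_conj_fixSub] at hbot
    -- a point moved by both
    obtain ⟨x, hx, hgx⟩ : ∃ x : Fin n, ¬ (x : ℕ) < 4 ∧ ¬ (((g : Perm (Fin n))⁻¹ x : Fin n) : ℕ) < 4 := by
      by_contra h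
      push Not at h
      have hsub : (high n).map ((g : Perm (Fin n))⁻¹).toEmbedding ⊆
          Finset.univ.filter fun x : Fin n => (x : ℕ) < 4 := by
        intro y hy
        simp only [Finset.mem_map, Finset.mem_filter, Finset.mem_univ, true_and, mem_high] at hy ⊢
        obtain ⟨x, hx, rfl⟩ := hy
        exact h x (not_lt.mp hx)
      have := Finset.card_le_card hsub
      rw [Finset.card_map, card_high h4, card_low h4] at this
      omega
    obtain ⟨τ, hτ, -, hτx⟩ := exists_mem_L0 h4 hn hgx (w := Fin.castLE h4 0)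
      (fun e => hgx (by rw [← e]; simp))
    have hmem : g * τ * g⁻¹ ∈ fixSub (fun y => (((g : Perm (Fin n))⁻¹ y : Fin n) : ℕ) < 4) := by
      rw [← map_conj_fixSub g (fun y : Fin n => (y : ℕ) < 4)]
      exact ⟨τ, hτ, rfl⟩
    have := (hbot hmem : g * τ * g⁻¹ ∈ C0 n) x hx
    apply hτx
    have h2 := congrArg ((g : Perm (Fin n))⁻¹ : Perm (Fin n)) this
    simpa using h2
  · ext g
    rw [hC, mem_normalizer_L0_iff h4 hn, mem_normalizer_C0_iff h4]

end Cfsg.Agent.S1323
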