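import Cfsg.Statements.S1339
import Cfsg.Agent.Lib.Balance.Local
import Mathlib.LinearAlgebra.Matrix.Transvection
import Mathlib.Algebra.CharP.Two

set_option autoImplicit false
set_option linter.style.haveILetI false
set_option linter.unusedSectionVars false
set_option linter.unusedSimpArgs false
open Cfsg

namespace Cfsg.Agent.S1339

variable {F : Type*} [Field F] {n : ℕ} {i j : Fin n}

/-- The shape of a matrix commuting with `1 + E_ij`, over a field with two elements. -/
theorem commute_shape [Fintype F] (hF : Fintype.card F = 2) {g : Matrix (Fin n) (Fin n) F}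
    (hdet : g.det ≠ 0) (h : g * Matrix.transvection i j 1 = Matrix.transvection i j 1 * g) :
    g i i = g j j ∧ (∀ k, k ≠ i → g k i = 0) ∧ (∀ l, l ≠ j → g j l = 0) ∧ g i i = 1 := by
  classical
  rw [Matrix.transvection, mul_add, add_mul, mul_one, one_mul, add_right_inj] at h
  have hk : ∀ k, k ≠ i → g k i = 0 := fun k hk => by
    have := congrFun (congrFun h k) j
    simpa [Matrix.mul_single_apply_same, Matrix.single_mul_apply_of_ne, hk] using this
  have hl : ∀ l, l ≠ j → g j l = 0 := fun l hl => by
    have := congrFun (congrFun h i) l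
    simpa [Matrix.mul_single_apply_of_ne, Matrix.single_mul_apply_same, hl] using this.symm
  have hii : g i i = g j j := by
    have := congrFun (congrFun h i) j
    simpa [Matrix.mul_single_apply_same, Matrix.single_mul_apply_same] using this
  refine ⟨hii, hk, hl, ?_⟩
  have hne : g i i ≠ 0 := by
    intro h0
    refine hdet (Matrix.det_eq_zero_of_column_eq_zero i fun k => ?_)
    by_cases hki : k = i
    · rw [hki]; exact h0
    · exact hk k hki
  have hpow := FiniteField.pow_card_sub_one_eq_one (g i i) hne
  simpa [hF] using hpow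

variable [Fintype F] [DecidableEq F]

/-- The transvection as an element of `SL`. -/
def tv (k l : Fin n) (h : k ≠ l) : Matrix.SpecialLinearGroup (Fin n) F :=
  ⟨Matrix.transvection k l 1, Matrix.det_transvection_of_ne k l h 1⟩

/-- The action on the middle of the flag. -/
def midHom (hF : Fintype.card F = 2) (hij : i ≠ j) {C : Subgroup (Matrix.SpecialLinearGroup (Fin n) F)}
    (hC : ∀ g ∈ C, (g : Matrix (Fin n) (Fin n) F) * Matrix.transvection i j 1 =
      Matrix.transvection i j 1 * (g : Matrix (Fin n) (Fin n) F)) :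
    ↥C →* Matrix {k : Fin n // k ≠ i ∧ k ≠ j} {k : Fin n // k ≠ i ∧ k ≠ j} F where
  toFun g := ((g : Matrix.SpecialLinearGroup (Fin n) F) : Matrix (Fin n) (Fin n) F).submatrix
    Subtype.val Subtype.val
  map_one' := by
    ext k l
    simp [Matrix.one_apply, Subtype.ext_iff]
  map_mul' a b := by
    ext k l
    have ha := commute_shape (i := i) (j := j) hF
      (by rw [(a : Matrix.SpecialLinearGroup (Fin n) F).2]; exact one_ne_zero) (hC a a.2)
    have hb := commute_shape (i := i) (j := j) hF
      (by rw [(b : Matrix.SpecialLinearGroup (Fin n) F).2]; exact one_ne_zero) (hC b b.2)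
    simp only [Subgroup.coe_mul, Matrix.SpecialLinearGroup.coe_mul, Matrix.submatrix_apply,
      Matrix.mul_apply]
    rw [← Finset.sum_subtype (Finset.univ.filter fun m : Fin n => m ≠ i ∧ m ≠ j) (by simp)
      (fun m => (a : Matrix.SpecialLinearGroup (Fin n) F).1 k m *
        (b : Matrix.SpecialLinearGroup (Fin n) F).1 m l)]
    refine (Finset.sum_subset (Finset.subset_univ _) fun m _ hm => ?_).symm
    simp only [Finset.mem_filter, Finset.mem_univ, true_and, not_and_or, not_not] at hm
    rcases hm with rfl | rfl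
    · rw [ha.2.1 _ k.2.1, zero_mul]
    · rw [hb.2.2.1 _ l.2.2, mul_zero]

theorem gfs_eq_of_constrained {H : Type*} [Group H] [Finite H] (p : ℕ) [Fact p.Prime]
    (h : Subgroup.centralizer (pCore p H : Set H) ≤ pCore p H) :
    generalizedFittingSubgroup H = pCore p H := by
  haveI := pCore_normal p H
  haveI := pPrimeCore_normal p H
  refine CfsgLib.Balance.generalizedFittingSubgroup_eq_pCore ?_ ?_
  · have hd : Disjoint (pPrimeCore p H) (pCore p H) := by
      obtain ⟨k, hk⟩ := (CfsgLib.Cores.isPGroup_pCore p H).exists_card_eq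
      refine Subgroup.disjoint_of_coprime_natCard (H := pPrimeCore p H) (K := pCore p H) ?_
      rw [hk]; exact (CfsgLib.Cores.card_pPrimeCore_coprime p).pow_right k
    have hc : pPrimeCore p H ≤ Subgroup.centralizer (pCore p H : Set H) := fun x hx =>
      Subgroup.mem_centralizer_iff.mpr fun y hy =>
        (Subgroup.commute_of_normal_of_disjoint _ _ inferInstance inferInstance hd x y hx hy).eq.symm
    exact hd.eq_bot_of_le (hc.trans h)
  · refine CfsgLib.Cores.layer_eq_bot_iff.mpr fun L hL => ?_
    haveI : Group.IsNilpotent ↥(pCore p H) := (CfsgLib.Cores.isPGroup_pCore p H).isNilpotent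
    exact CfsgLib.Cores.not_le_of_isSolvable (S := pCore p H) hL (((CfsgLib.Cores.le_layer hL).trans
      (CfsgLib.Cores.layer_le_centralizer_of_isSolvable (pCore_normal p H).isSubnormal)).trans h)

/-- Let F be a field with 2 elements, n ≥ 3, and t ∈ SL(n, F) a transvection (t = 1 + E_{ij}, i ≠ j). Then the generalized Fitting subgroup of C(t) is O_2(C(t)). -/
theorem result {F : Type*} [Field F] [Fintype F] [DecidableEq F] (hF : Fintype.card F = 2) (n : ℕ) (hn : 3 ≤ n) (i j : Fin n) (hij : i ≠ j) (t : Matrix.SpecialLinearGroup (Fin n) F) (ht : (t : Matrix (Fin n) (Fin n) F) = Matrix.transvection i j 1) : Cfsg.generalizedFittingSubgroup ↥(Subgroup.centralizer ({t} : Set (Matrix.SpecialLinearGroup (Fin n) F))) = Cfsg.pCore 2 ↥(Subgroup.centralizer ({t} : Set (Matrix.SpecialLinearGroup (Fin n) F))) := by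
  classical
  haveI : Fact (Nat.Prime 2) := ⟨Nat.prime_two⟩
  haveI : CharP F 2 := by
    obtain ⟨q, hq⟩ := CharP.exists F
    haveI := hq
    have h2 : ((2 : ℕ) : F) = 0 := by
      have := Nat.cast_card_eq_zero F
      rwa [hF] at this
    have := (CharP.cast_eq_zero_iff F q 2).mp h2
    rcases (Nat.dvd_prime Nat.prime_two).mp this with h | h
    · subst h; exact absurd rfl (CharP.char_ne_one F 1)
    · subst h; exact hq
  set C := Subgroup.centralizer ({t} : Set (Matrix.SpecialLinearGroup (Fin n) F))
  have hC : ∀ g ∈ C, (g : Matrix (Fin n) (Fin n) F) * Matrix.transvection i j 1 =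
      Matrix.transvection i j 1 * (g : Matrix (Fin n) (Fin n) F) := by
    intro g hg
    have := congrArg (fun u : Matrix.SpecialLinearGroup (Fin n) F => (u : Matrix (Fin n) (Fin n) F))
      (Subgroup.mem_centralizer_singleton_iff.mp hg)
    simpa [ht] using this
  have hsh : ∀ g : ↥C, _ := fun g => commute_shape (i := i) (j := j) hF
    (by rw [(g : Matrix.SpecialLinearGroup (Fin n) F).2]; exact one_ne_zero) (hC g g.2)
  set φ := midHom hF hij hC with hφ
  set Q := φ.ker with hQ
  have hQmem : ∀ g : ↥C, g ∈ Q ↔ ∀ k l : Fin n, k ≠ i → k ≠ j → l ≠ i → l ≠ j →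
      (g : Matrix.SpecialLinearGroup (Fin n) F).1 k l = (1 : Matrix (Fin n) (Fin n) F) k l := by
    intro g
    rw [hQ, MonoidHom.mem_ker]
    constructor
    · intro h k l h1 h2 h3 h4
      have := congrFun (congrFun h ⟨k, h1, h2⟩) ⟨l, h3, h4⟩
      simpa [hφ, midHom, Matrix.one_apply, Subtype.ext_iff] using this
    · intro h
      ext k l
      have := h k l k.2.1 k.2.2 l.2.1 l.2.2
      simpa [hφ, midHom, Matrix.one_apply, Subtype.ext_iff] using this
  have hQp : IsPGroup 2 ↥Q := by
    rintro ⟨g, hg⟩
    refine ⟨2, Subtype.ext (Subtype.ext (Subtype.ext ?_))⟩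
    show ((g : Matrix.SpecialLinearGroup (Fin n) F) : Matrix (Fin n) (Fin n) F) ^ 2 ^ 2 = 1
    set M := ((g : Matrix.SpecialLinearGroup (Fin n) F) : Matrix (Fin n) (Fin n) F) with hM
    obtain ⟨hii, hcol, hrow, h1⟩ := hsh g
    set N := M - 1 with hN
    have hNi : ∀ k, N k i = 0 := by
      intro k
      by_cases hk : k = i
      · subst hk; simp [hN, hM, h1]
      · simp [hN, hM, hcol k hk, Matrix.one_apply, hk]
    have hNj : ∀ l, N j l = 0 := by
      intro l
      by_cases hl : l = j
      · subst hl; simp [hN, hM, ← hii, h1]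
      · simp [hN, hM, hrow l hl, Matrix.one_apply, Ne.symm hl]
    have hNm : ∀ k l, k ≠ i → l ≠ j → N k l = 0 := by
      intro k l hk hl
      by_cases hl' : l = i
      · subst hl'; exact hNi k
      by_cases hk' : k = j
      · subst hk'; exact hNj l
      simp [hN, hM, (hQmem g).mp hg k l hk hk' hl' hl]
    have hN2 : ∀ k l, k ≠ i → (N * N) k l = 0 := by
      intro k l hk
      rw [Matrix.mul_apply]
      refine Finset.sum_eq_zero fun m _ => ?_
      by_cases hm : m = j
      · rw [hm, hNj, mul_zero]
      · rw [hNm k m hk hm, zero_mul]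
    have hN3 : N * (N * N) = 0 := by
      ext k l
      rw [Matrix.mul_apply, Matrix.zero_apply]
      refine Finset.sum_eq_zero fun m _ => ?_
      by_cases hm : m = i
      · rw [hm, hNi, zero_mul]
      · rw [hN2 m l hm, mul_zero]
    have htwo : ∀ A : Matrix (Fin n) (Fin n) F, A + A = 0 := fun A => by
      ext k l
      rw [Matrix.add_apply, Matrix.zero_apply]
      exact CharTwo.add_self_eq_zero _
    have hsq : ∀ A : Matrix (Fin n) (Fin n) F, (1 + A) ^ 2 = 1 + A ^ 2 := fun A => by
      have : (1 + A) ^ 2 = 1 + (A + A) + A ^ 2 := by rw [pow_two, pow_two]; noncomm_ring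
      rw [this, htwo, add_zero]
    rw [show M = 1 + N by rw [hN]; abel, show (2 : ℕ) ^ 2 = 2 * 2 from rfl, pow_mul, hsq, hsq,
      ← pow_mul, show (2 : ℕ) * 2 = 3 + 1 from rfl, pow_succ, pow_succ', pow_two, hN3, zero_mul,
      add_zero]
  have hQle : Q ≤ pCore 2 ↥C := CfsgLib.Cores.le_pCore hQp
  refine gfs_eq_of_constrained 2 ?_
  refine le_trans (fun g hg => ?_) hQle
  rw [hQmem]
  intro k l hk hk' hl hl'
  have htC : ∀ m, m ≠ j → ∀ hm : i ≠ m, tv i m hm ∈ C := by
    intro m hm him
    rw [Subgroup.mem_centralizer_singleton_iff]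
    apply Subtype.ext
    show Matrix.transvection i m 1 * (t : Matrix (Fin n) (Fin n) F) =
      (t : Matrix (Fin n) (Fin n) F) * Matrix.transvection i m 1
    rw [ht, Matrix.transvection, Matrix.transvection]
    have e1 : Matrix.single i m (1 : F) * Matrix.single i j (1 : F) = 0 := by
      simp [him.symm]
    have e2 : Matrix.single i j (1 : F) * Matrix.single i m (1 : F) = 0 := by
      simp [hij.symm]
    simp only [mul_add, add_mul, mul_one, one_mul, e1, e2]
    abel
  have hTQ : ∀ hm : i ≠ k, (⟨tv i k hm, htC k hk' hm⟩ : ↥C) ∈ Q := by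
    intro hm
    rw [hQmem]
    intro a b ha _ _ _
    show (Matrix.transvection i k (1 : F)) a b = _
    simp [Matrix.transvection, Matrix.single_apply, Ne.symm ha]
  have hcomm : (Matrix.transvection i k (1 : F) * (g : Matrix.SpecialLinearGroup (Fin n) F).1) i l =
      ((g : Matrix.SpecialLinearGroup (Fin n) F).1 * Matrix.transvection i k (1 : F)) i l := congrArg
    (fun u : ↥C => ((u : Matrix.SpecialLinearGroup (Fin n) F) : Matrix (Fin n) (Fin n) F) i l)
    (Subgroup.mem_centralizer_iff.mp hg _ (hQle (hTQ (Ne.symm hk))))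
  obtain ⟨hii, hcol, hrow, h1⟩ := hsh g
  simp only [Matrix.transvection, mul_add,
    add_mul, mul_one, one_mul, Matrix.add_apply, add_right_inj] at hcomm
  by_cases hlk : l = k
  · subst hlk
    rw [Matrix.single_mul_apply_same, Matrix.mul_single_apply_same, one_mul, mul_one, h1] at hcomm
    rw [hcomm, Matrix.one_apply_eq]
  · rw [Matrix.single_mul_apply_same, Matrix.mul_single_apply_of_ne (hbj := hlk), one_mul] at hcomm
    rw [hcomm, Matrix.one_apply_ne (Ne.symm hlk)]

end Cfsg.Agent.S1339
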