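import Cfsg.Statements.S1340
import Cfsg.Agent.Lib.Signalizer.LinearBlock
import Mathlib.LinearAlgebra.Matrix.GeneralLinearGroup.Defs

set_option autoImplicit false
set_option linter.style.haveILetI false
open Cfsg

namespace Cfsg.Agent.S1340

/-- Let F be a finite field of odd order and n ≥ 3 with (n, |F|) ≠ (3, 3). Then GL(n, F) has a non-central involution t such that C(t) / O(C(t)) has a component. -/
theorem result {F : Type*} [Field F] [Fintype F] [DecidableEq F] (hF : Odd (Fintype.card F)) (n : ℕ) (hn : 3 ≤ n) (h33 : ¬ (n = 3 ∧ Fintype.card F = 3)) : ∃ t : Matrix.GeneralLinearGroup (Fin n) F, orderOf t = 2 ∧ t ∉ Subgroup.center (Matrix.GeneralLinearGroup (Fin n) F) ∧ Cfsg.HasComponent (↥(Subgroup.centralizer ({t} : Set (Matrix.GeneralLinearGroup (Fin n) F))) ⧸ Cfsg.oddCore ↥(Subgroup.centralizer ({t} : Set (Matrix.GeneralLinearGroup (Fin n) F)))) := by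
  classical
  haveI : Fact (Nat.Prime 2) := ⟨Nat.prime_two⟩
  have hne := CfsgLib.Signalizer.neg_one_ne_one hF
  set q : Fin n := ⟨0, by omega⟩ with hq
  set d : Fin n → F := fun i => if i = q then -1 else 1 with hd
  have hdd : Matrix.diagonal d * Matrix.diagonal d = 1 := by
    rw [Matrix.diagonal_mul_diagonal, ← Matrix.diagonal_one]
    exact congrArg _ (funext fun i => by simp only [hd]; split_ifs <;> simp)
  obtain ⟨t, ht⟩ : ∃ t : Matrix.GeneralLinearGroup (Fin n) F,
      (t : Matrix (Fin n) (Fin n) F) = Matrix.diagonal d :=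
    ⟨⟨Matrix.diagonal d, Matrix.diagonal d, hdd, hdd⟩, rfl⟩
  have hsplit : ∀ g : (Matrix.GeneralLinearGroup (Fin n) F), g * t = t * g →
      CfsgLib.Signalizer.Split q (g : Matrix (Fin n) (Fin n) F) := fun g hg =>
    CfsgLib.Signalizer.split_of_commute_diagonal (d := d)
      (fun i hi => by simp only [hd, hi, if_false, if_true]; exact hne.symm)
      (by
        have h := congrArg (fun u : (Matrix.GeneralLinearGroup (Fin n) F) => (u : Matrix (Fin n) (Fin n) F)) hg
        simpa [ht] using h)
  obtain ⟨j, hj⟩ : ∃ j : Fin n, j ≠ q := ⟨⟨1, by omega⟩, by simp [hq, Fin.ext_iff]⟩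
  refine ⟨t, orderOf_eq_prime ?_ ?_, ?_, ?_⟩
  · rw [pow_two]
    apply Units.ext
    rw [Units.val_mul, Units.val_one, ht]
    exact hdd
  · intro e
    have := congrFun (congrFun (congrArg (fun u : (Matrix.GeneralLinearGroup (Fin n) F) => (u : Matrix (Fin n) (Fin n) F)) e) q) q
    simp [ht, hd] at this
    exact hne this
  · intro hc
    have hdet : (Matrix.transvection q j (1 : F)).det ≠ 0 := by
      rw [Matrix.det_transvection_of_ne q j hj.symm]; exact one_ne_zero
    have h := hsplit (Matrix.GeneralLinearGroup.mkOfDetNeZero _ hdet)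
      (Subgroup.mem_center_iff.mp hc _) j hj
    have h2 : Matrix.transvection q j (1 : F) q j = 0 := h.2
    simp [Matrix.transvection, Ne.symm hj] at h2
  · set C := Subgroup.centralizer ({t} : Set (Matrix.GeneralLinearGroup (Fin n) F)) with hC
    set f : Matrix.SpecialLinearGroup {i : Fin n // i ≠ q} F →* (Matrix.GeneralLinearGroup (Fin n) F) :=
      Matrix.SpecialLinearGroup.toGL.comp (CfsgLib.Signalizer.blockSL q) with hf
    have hfinj : Function.Injective f := fun a b h => CfsgLib.Signalizer.blockSL_injective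
      (Subtype.ext (congrArg (fun u : (Matrix.GeneralLinearGroup (Fin n) F) => (u : Matrix (Fin n) (Fin n) F)) h))
    have hLC : f.range ≤ C := by
      rintro _ ⟨A, rfl⟩
      rw [Subgroup.mem_centralizer_singleton_iff]
      apply Units.ext
      rw [Units.val_mul, Units.val_mul, ht]
      exact CfsgLib.Signalizer.blockMat_commute_diagonal (c := 1)
        (fun i hi => if_neg hi) A.1
    have hCL : C ≤ Subgroup.normalizer (f.range : Set (Matrix.GeneralLinearGroup (Fin n) F)) := by
      have key : ∀ g ∈ C, ∀ x ∈ f.range, g * x * g⁻¹ ∈ f.range := by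
        rintro g hg _ ⟨A, rfl⟩
        obtain ⟨A', hA'⟩ := CfsgLib.Signalizer.exists_blockSL_conj
          (hsplit g (Subgroup.mem_centralizer_singleton_iff.mp hg))
          (hsplit g⁻¹ (Subgroup.mem_centralizer_singleton_iff.mp (inv_mem hg)))
          (congrArg (fun u : (Matrix.GeneralLinearGroup (Fin n) F) => (u : Matrix (Fin n) (Fin n) F)) (mul_inv_cancel g)) A
        exact ⟨A', Units.ext hA'⟩
      intro g hg
      refine Subgroup.mem_normalizer_iff.mpr fun x => ⟨key g hg x, fun h => ?_⟩
      simpa [mul_assoc] using key g⁻¹ (inv_mem hg) _ h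
    have hcard : Fintype.card {i : Fin n // i ≠ q} = n - 1 := by
      rw [Fintype.card_subtype_compl, Fintype.card_fin, Fintype.card_subtype_eq]
    haveI : Nontrivial {i : Fin n // i ≠ q} := Fintype.one_lt_card_iff_nontrivial.mp (by omega)
    have hLq : Cfsg.IsQuasisimple ↥(f.range) := by
      refine CfsgLib.Signalizer.isQuasisimple_map_injective
        (CfsgLib.Signalizer.isQuasisimple_sl ?_) hfinj
      by_cases h4 : 4 ≤ n
      · exact Or.inl (by omega)
      · refine Or.inr (CfsgLib.ClassicalLinear.exists_sq_ne_one_of_four_le_card ?_)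
        rw [Nat.card_eq_fintype_card]
        have h3 : Fintype.card F ≠ 3 := fun h => h33 ⟨by omega, h⟩
        have h1 := Fintype.one_lt_card (α := F)
        obtain ⟨k, hk⟩ := hF
        omega
    have hsn : (f.range.subgroupOf C).Normal :=
      (Subgroup.normal_subgroupOf_iff_le_normalizer hLC).mpr hCL
    refine CfsgLib.Signalizer.hasComponent_quotient_oddCore
      ⟨hsn.isSubnormal, (CfsgLib.Cores.isQuasisimple_subgroupOf hLC).2 hLq⟩ ?_
    rw [Nat.card_congr (Subgroup.subgroupOfEquivOfLe hLC).toEquiv,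
      ← Nat.card_congr (MonoidHom.ofInjective hfinj).toEquiv]
    exact CfsgLib.Signalizer.even_card_sl hne

end Cfsg.Agent.S1340
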