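import Cfsg.Statements.S1693
import Cfsg.Agent.Lib.SporRecognition.ONSub.Projective
import Cfsg.Agent.Lib.ClassicalLinear.Card
import Cfsg.Agent.Lib.SporRecognition.Cert.ON122760.Main
import Cfsg.Agent.S1699

set_option autoImplicit false
open Cfsg

namespace Cfsg.Agent.S1693

open CfsgLib.SporRecognition.CosetCert
open CfsgLib.SporRecognition.Cert
open CfsgLib.SporRecognition.ONSub
open Cfsg.Spor.ON (Gen)

abbrev RON : Set (FreeGroup Gen) := Cfsg.Spor.coxRelators Cfsg.Spor.ON.edges ∪ {r | r ∈ Cfsg.Spor.ON.extra}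

abbrev P6 : Type := PresentedGroup R6

theorem lift_one_of_W6 {A : Type*} [Group A] (f : Gen → A) (h : ∀ w ∈ W6, evalW f w = 1) :
    ∀ r ∈ R6, FreeGroup.lift f r = 1 := by
  intro r hr
  obtain ⟨w, hw, rfl⟩ := List.mem_map.mp hr
  exact h w hw

theorem rels_chk : allBelow 7 114 (fun u => W6.all fun w => Nat.beq (trace (wordTabs ONL37.tabs w) u) u) = true := by
  decide +kernel

/-- The action on points and lines. -/
noncomputable def θ : P6 →* Equiv.Perm (Fin 114) :=
  PresentedGroup.toGroup (lift_one_of_W6 (tabPerm ONL37.tablesOK) fun w hw => evalW_tabPerm_eq_one _ fun u hu =>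
    Nat.eq_of_beq_eq_true (List.all_eq_true.mp (allBelow_spec rels_chk u hu) w hw))

def sgnG : Gen → ℤˣ
  | .g => 1
  | _ => -1

theorem sgn_rels : (W6.all fun w => decide ((w.map fun x => cond x.2 (sgnG x.1) (sgnG x.1)⁻¹).prod = 1)) = true := by
  decide +kernel

/-- The parity. -/
def χ : P6 →* ℤˣ :=
  PresentedGroup.toGroup (lift_one_of_W6 sgnG fun w hw => by
    rw [evalW_eq_prod]
    exact of_decide_eq_true (List.all_eq_true.mp sgn_rels w hw))

theorem θ_evalW (w : List (Gen × Bool)) (u : Fin 114) :
    ((θ (evalW (PresentedGroup.of (rels := R6)) w) u : Fin 114) : Nat) = trace (wordTabs ONL37.tabs w) u := by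
  have h : θ (evalW (PresentedGroup.of (rels := R6)) w) = evalW (tabPerm ONL37.tablesOK) w := by
    simp only [evalW_eq_prod, map_list_prod, List.map_map]
    congr 1
    refine List.map_congr_left fun x _ => ?_
    rcases x with ⟨a, _ | _⟩ <;> simp [θ]
  rw [h, evalW_tabPerm]

theorem card_P6 : Finite P6 ∧ Nat.card P6 = 3753792 ∧ Function.Injective θ := by
  obtain ⟨hfin, hup⟩ := upper
  change Nat.card P6 ≤ 3753792 at hup
  haveI := hfin
  have hlow : 3753792 ≤ Nat.card θ.range := by
    refine ONL37.lower _ fun t ht => ?_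
    obtain ⟨j, hj, rfl⟩ := List.getElem_of_mem ht
    have hj' : j < ONL37.seedW.length := hj
    refine ⟨_, ⟨evalW PresentedGroup.of ONL37.seedW[j], rfl⟩, fun u => ?_⟩
    rw [θ_evalW, ← (ONL37.seed_ok j hj' u u.2).1, sel_eq, List.getElem?_eq_getElem hj]
    rfl
  have hle : Nat.card θ.range ≤ Nat.card P6 := Nat.le_of_dvd Nat.card_pos (Subgroup.card_range_dvd θ)
  refine ⟨hfin, le_antisymm hup (hlow.trans hle), ?_⟩
  have hb : Function.Bijective θ.rangeRestrict :=
    (Nat.bijective_iff_surjective_and_card _).mpr ⟨θ.rangeRestrict_surjective, by omega⟩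
  intro x y h
  exact hb.injective (Subtype.ext h)

theorem exists_induces (x : P6) : ∃ A, Induces (decide (χ x = -1)) A (θ x) := by
  haveI := card_P6.1
  have hx : x ∈ Subgroup.closure (Set.range (PresentedGroup.of (rels := R6))) := by
    rw [PresentedGroup.closure_range_of]; trivial
  have hdec : ∀ a b : ℤˣ, decide (a * b = -1) = xor (decide (b = -1)) (decide (a = -1)) := by decide
  have hmul : ∀ y z : P6, (∃ A, Induces (decide (χ y = -1)) A (θ y)) → (∃ A, Induces (decide (χ z = -1)) A (θ z)) →
      ∃ A, Induces (decide (χ (y * z) = -1)) A (θ (y * z)) := by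
    rintro y z ⟨A, hA⟩ ⟨B, hB⟩
    refine ⟨onSide (decide (χ z = -1)) A * B, ?_⟩
    rw [map_mul, map_mul, hdec]
    exact hA.mul hB
  have h1 : ∃ A, Induces (decide (χ 1 = -1)) A (θ 1) := ⟨1, by
    rw [map_one, map_one, show decide ((1 : ℤˣ) = -1) = false by decide]
    exact induces_one⟩
  induction hx using Subgroup.closure_induction with
  | mem y hy =>
    obtain ⟨a, rfl⟩ := hy
    rw [show θ (PresentedGroup.of a) = tabPerm ONL37.tablesOK a from PresentedGroup.toGroup.of _,
      show χ (PresentedGroup.of a) = sgnG a from PresentedGroup.toGroup.of _]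
    by_cases ha : a = .g
    · subst ha
      refine ⟨1, ?_⟩
      rw [show decide (sgnG .g = -1) = false by decide, show tabPerm ONL37.tablesOK Gen.g = 1 from
        Equiv.ext fun u => Fin.ext rfl]
      exact induces_one
    · rw [show decide (sgnG a = -1) = true by cases a <;> first | exact absurd rfl ha | decide]
      exact ⟨_, induces_gen a ha⟩
  | one => exact h1
  | mul y z _ _ hy hz => exact hmul y z hy hz
  | inv y _ hy =>
    have hpow : ∀ k : ℕ, ∃ A, Induces (decide (χ (y ^ k) = -1)) A (θ (y ^ k)) := by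
      intro k
      induction k with
      | zero => rw [pow_zero]; exact h1
      | succ k ih => rw [pow_succ]; exact hmul _ _ ih hy
    rw [inv_eq_of_mul_eq_one_right (b := y ^ (orderOf y - 1))
      (by rw [← pow_succ', Nat.sub_add_cancel (orderOf_pos y), pow_orderOf_eq_one])]
    exact hpow _

abbrev K : Subgroup P6 := χ.ker

theorem exists_K (n : K) : ∃ A, Induces false A (θ n) := by
  obtain ⟨A, hA⟩ := exists_induces (n : P6)
  rw [MonoidHom.mem_ker.mp n.2] at hA
  exact ⟨A, hA⟩

abbrev PSL7 : Type := Matrix.ProjectiveSpecialLinearGroup (Fin 3) (ZMod 7)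

theorem class_unique {n : K} {A B : SL} (hA : Induces false A (θ n)) (hB : Induces false B (θ n)) :
    (QuotientGroup.mk A : PSL7) = QuotientGroup.mk B := by
  obtain ⟨C, hC⟩ := exists_K n⁻¹
  have key : ∀ D, Induces false D (θ n) → (QuotientGroup.mk C : PSL7) * QuotientGroup.mk D = 1 := by
    intro D hD
    rw [← QuotientGroup.mk_mul, QuotientGroup.eq_one_iff]
    have h := hC.mul hD
    rw [show θ ((n⁻¹ : K) : P6) * θ n = 1 by rw [← map_mul, InvMemClass.coe_inv, inv_mul_cancel, map_one]] at h
    exact central_of_fix h fun u _ => rfl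
  exact mul_left_cancel ((key A hA).trans (key B hB).symm)

/-- The map onto `PSL(3,7)`. -/
noncomputable def Ψ : K →* PSL7 where
  toFun n := QuotientGroup.mk (exists_K n).choose
  map_one' := class_unique (n := 1) (exists_K 1).choose_spec
    (show Induces false 1 (θ ((1 : K) : P6)) by rw [OneMemClass.coe_one, map_one]; exact induces_one)
  map_mul' x y := by
    show (QuotientGroup.mk (exists_K (x * y)).choose : PSL7) =
      QuotientGroup.mk (exists_K x).choose * QuotientGroup.mk (exists_K y).choose
    rw [← QuotientGroup.mk_mul]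
    refine class_unique (exists_K (x * y)).choose_spec ?_
    rw [Subgroup.coe_mul, map_mul]
    exact (exists_K x).choose_spec.mul (exists_K y).choose_spec

theorem Ψ_injective : Function.Injective Ψ := by
  rw [← MonoidHom.ker_eq_bot_iff, eq_bot_iff]
  intro n hn
  have hc : (exists_K n).choose ∈ Subgroup.center SL := (QuotientGroup.eq_one_iff _).mp (MonoidHom.mem_ker.mp hn)
  have := eq_one_of_central (exists_K n).choose_spec hc
  rw [Subgroup.mem_bot]
  exact Subtype.ext (card_P6.2.2 (this.trans (map_one θ).symm))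

theorem card_PSL7 : Nat.card PSL7 = 1876896 := by
  have h := CfsgLib.ClassicalLinear.card_PSL (ι := Fin 3) (F := ZMod 7)
  rw [ZMod.card, Fintype.card_fin, Fin.prod_univ_three, show Nat.gcd 3 (7 - 1) = 3 by decide] at h
  norm_num at h
  simp only [PSL7, Nat.card_eq_fintype_card]
  omega

theorem K_index : K.index = 2 := by
  haveI := card_P6.1
  rw [Subgroup.index_ker, show χ.range = ⊤ by
    rw [eq_top_iff]
    rintro x -
    rcases Int.units_eq_one_or x with rfl | rfl
    · exact one_mem _
    · exact ⟨PresentedGroup.of .a, PresentedGroup.toGroup.of _⟩, Subgroup.card_top, Nat.card_eq_fintype_card,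
    Fintype.card_units_int]

theorem K_equiv : Nonempty (K ≃* PSL7) := by
  obtain ⟨hfin, hc, -⟩ := card_P6
  haveI := hfin
  refine ⟨MulEquiv.ofBijective Ψ ((Nat.bijective_iff_injective_and_card _).mpr ⟨Ψ_injective, ?_⟩)⟩
  have h := K.card_mul_index
  rw [K_index, hc] at h
  rw [card_PSL7]
  omega

/-- The subgroup of O'N on `a, …, f`. -/
abbrev H : Subgroup (PresentedGroup RON) := wordSubgroup RON ON122760.subW

theorem subW_eq : ON122760.subW = ([.a, .b, .c, .d, .e, .f] : List Gen).map fun a => [(a, true)] := by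
  decide +kernel

theorem gen_mem (a : Gen) (ha : a ≠ .g) : PresentedGroup.of (rels := RON) a ∈ H := by
  refine Subgroup.subset_closure (List.mem_map.mpr ⟨[(a, true)], ?_, by simp [evalW_eq_prod]⟩)
  rw [subW_eq]
  exact List.mem_map.mpr ⟨a, by cases a <;> first | exact absurd rfl ha | decide, rfl⟩

/-- The generators inside `H`. -/
def gh (a : Gen) : H := if ha : a = .g then 1 else ⟨PresentedGroup.of a, gen_mem a ha⟩

theorem coe_evalW_gh (w : List (Gen × Bool)) (hw : (w.all fun x => decide (x.1 ≠ Gen.g)) = true) :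
    ((evalW gh w : H) : PresentedGroup RON) = evalW PresentedGroup.of w := by
  simp only [List.all_eq_true, decide_eq_true_eq] at hw
  rw [evalW_eq_prod, evalW_eq_prod, ← Subgroup.coe_subtype, map_list_prod, List.map_map]
  congr 1
  refine List.map_congr_left fun x hx => ?_
  have h := hw x hx
  rcases x with ⟨a, _ | _⟩ <;> simp [gh, show a ≠ Gen.g from h]

theorem gh_rels : ∀ w ∈ W6, evalW gh w = 1 := by
  intro w hw
  rcases List.mem_append.mp hw with hw | hw
  · obtain ⟨h1, h2⟩ := List.mem_filter.mp hw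
    refine Subtype.ext ?_
    rw [coe_evalW_gh w h2, ON26068.relW_one w h1]
    rfl
  · simp only [List.mem_cons, List.not_mem_nil, or_false] at hw
    subst hw
    simp [evalW_eq_prod, gh]

/-- The map onto `H`. -/
def toH : P6 →* H := PresentedGroup.toGroup (lift_one_of_W6 gh gh_rels)

theorem toH_surjective : Function.Surjective toH := by
  rw [← MonoidHom.range_eq_top]
  apply Subgroup.map_injective H.subtype_injective
  rw [← MonoidHom.range_eq_map, Subgroup.range_subtype]
  refine le_antisymm (Subgroup.map_subtype_le _) ?_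
  show Subgroup.closure _ ≤ _
  rw [Subgroup.closure_le]
  intro y hy
  obtain ⟨w, hw, rfl⟩ := List.mem_map.mp hy
  rw [subW_eq] at hw
  obtain ⟨a, ha, rfl⟩ := List.mem_map.mp hw
  have ha' : a ≠ Gen.g := by rintro rfl; exact absurd ha (by decide)
  refine ⟨toH (PresentedGroup.of a), ⟨_, rfl⟩, ?_⟩
  rw [show toH (PresentedGroup.of a) = gh a from PresentedGroup.toGroup.of _]
  simp [gh, ha', evalW_eq_prod]

theorem card_H : Nat.card H = 3753792 := by
  have h1 := H.card_mul_index
  have hi : H.index = 122760 := ON122760.certified.index_eq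
  rw [hi, (Cfsg.Agent.S1699.result).2, show (460815505920 : ℕ) = 3753792 * 122760 by norm_num] at h1
  exact Nat.eq_of_mul_eq_mul_right (by norm_num) h1

/-- In the presented O'Nan group, the subgroup H generated by the images of a, …, f has a normal subgroup of index 2 isomorphic to PSL(3, 7). -/
theorem result : ∃ N : Subgroup (((Subgroup.closure ({Cfsg.Spor.ON.a, Cfsg.Spor.ON.b, Cfsg.Spor.ON.c, Cfsg.Spor.ON.d, Cfsg.Spor.ON.e, Cfsg.Spor.ON.f} : Set (FreeGroup Cfsg.Spor.ON.Gen))).map (PresentedGroup.mk (Cfsg.Spor.coxRelators Cfsg.Spor.ON.edges ∪ {r | r ∈ Cfsg.Spor.ON.extra})))), N.Normal ∧ N.index = 2 ∧ Nonempty (N ≃* Matrix.ProjectiveSpecialLinearGroup (Fin 3) (ZMod 7)) := by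
  rw [map_closure_eq_wordSubgroup _ ON122760.subW
    (by ext r; simp only [ON122760.subW, List.map_cons, List.map_nil, List.mem_cons, List.not_mem_nil,
          Set.mem_insert_iff, Set.mem_singleton_iff, Set.mem_ofPred_eq, or_false]; rfl)]
  obtain ⟨hfin, hc, -⟩ := card_P6
  haveI := hfin
  obtain ⟨ψ⟩ := K_equiv
  have hb : Function.Bijective toH :=
    (Nat.bijective_iff_surjective_and_card _).mpr ⟨toH_surjective, by rw [hc, card_H]⟩
  refine ⟨K.map toH, Subgroup.Normal.map (MonoidHom.normal_ker χ) toH hb.surjective, ?_,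
    ⟨(K.equivMapOfInjective toH hb.injective).symm.trans ψ⟩⟩
  rw [Subgroup.index_map_of_bijective hb]
  exact K_index

end Cfsg.Agent.S1693
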