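import Cfsg.Statements.S1895
import Cfsg.Agent.Lib.RankTwoP.ChiefFactor
import Cfsg.Agent.Lib.BGUniqueness.Tools
-- import your own Cfsg.Agent.* helpers here

set_option autoImplicit false
open Cfsg

namespace Cfsg.Agent.S1895

/-- Let p be an odd prime and G a finite p-solvable group with no elementary abelian subgroup of order p³. Then every chief factor H/K of G (H, K normal in G with no normal subgroup of G strictly between them) whose order is a power of p has order p or p². -/
theorem result {G : Type*} [Group G] [Finite G] {p : ℕ} [Fact p.Prime] (hp : p ≠ 2)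
    (hG : Cfsg.IsPSolvable p G) (hr : Cfsg.PRankLE p 2 G)
    (H K : Subgroup G) [H.Normal] [K.Normal] (hKH : K < H) (hpow : ∃ n : ℕ, K.relIndex H = p ^ n)
    (hchief : ∀ L : Subgroup G, L.Normal → K ≤ L → L ≤ H → L = K ∨ L = H) :
    K.relIndex H = p ∨ K.relIndex H = p ^ 2 := by
  classical
  have hp' : p.Prime := Fact.out
  obtain ⟨n, hn⟩ := hpow
  -- a Sylow subgroup of `H` covers `H / K`
  obtain ⟨S⟩ : Nonempty (Sylow p H) := inferInstance
  set R := (S : Subgroup H).map H.subtype with hR
  have hRH : R ≤ H := Subgroup.map_subtype_le _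
  have hcov : R ⊔ K = H := by
    refine le_antisymm (sup_le hRH hKH.le) ?_
    have h1 : ((R ⊔ K).relIndex H) ∣ p ^ n := hn ▸ Subgroup.relIndex_dvd_of_le_left H le_sup_right
    have h2 : ((R ⊔ K).relIndex H) ∣ R.relIndex H := Subgroup.relIndex_dvd_of_le_left H le_sup_left
    have h3 : ¬ p ∣ R.relIndex H := by
      rw [hR, Subgroup.relIndex, Subgroup.subgroupOf,
        Subgroup.comap_map_eq_self_of_injective H.subtype_injective]
      exact S.not_dvd_index
    exact Subgroup.relIndex_eq_one.1 (Nat.eq_one_of_dvd_coprimes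
      ((hp'.coprime_iff_not_dvd.2 h3).pow_left n) h1 h2)
  set N := Subgroup.normalizer (R : Set G) with hN
  have hfrat : N ⊔ H = ⊤ := Sylow.normalizer_sup_eq_top S
  -- a minimal `N`-invariant subgroup of `R` outside `K`
  obtain ⟨T, ⟨hTR, hNT, hTK⟩, hmin⟩ :=
    (Set.toFinite {W : Subgroup G | W ≤ R ∧ N ≤ Subgroup.normalizer (W : Set G) ∧ ¬ W ≤ K}).exists_minimal
      ⟨R, le_rfl, le_rfl, fun h => hKH.ne (le_antisymm hKH.le (hcov ▸ sup_le h le_rfl))⟩
  have hTH : T ≤ H := hTR.trans hRH
  have hTn : (T ⊔ K).Normal := by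
    have hn : ∀ g ∈ N, g ∈ Subgroup.normalizer ((T ⊔ K : Subgroup G) : Set G) := fun g hg => by
      rw [Subgroup.mem_normalizer_iff_map_conj_eq, Subgroup.map_sup,
        Subgroup.mem_normalizer_iff_map_conj_eq.1 (hNT hg),
        Subgroup.mem_normalizer_iff_map_conj_eq.1
          ((Subgroup.normalizer_eq_top K).symm ▸ Subgroup.mem_top g)]
    rw [← Subgroup.normalizer_eq_top_iff, eq_top_iff, ← hfrat, ← hcov]
    exact sup_le hn (sup_le (Subgroup.le_normalizer.trans hn)
      (le_sup_right.trans Subgroup.le_normalizer))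
  have hTKH : T ⊔ K = H := (hchief _ hTn le_sup_right (sup_le hTH hKH.le)).resolve_left
    fun h => hTK (h ▸ le_sup_left)
  have hTp : IsPGroup p T := (S.2.map _).to_le hTR
  have hidx : K.relIndex H = K.relIndex T := by
    rw [← hTKH, Subgroup.relIndex_sup_right]
  have hchar : ∀ W : Subgroup T, W.Characteristic → W ≤ K.subgroupOf T ∨ W = ⊤ := by
    intro W hW
    refine or_iff_not_imp_left.2 fun hWK => ?_
    have h1 : T ≤ W.map T.subtype := by
      refine hmin ⟨(Subgroup.map_subtype_le W).trans hTR,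
        hNT.trans (CfsgLib.Cores.normalizer_le_normalizer_map_subtype T W),
        fun h => hWK fun w hw => h ⟨w, hw, rfl⟩⟩ (Subgroup.map_subtype_le W)
    refine top_le_iff.1 fun t _ => ?_
    obtain ⟨w, hw, hwt⟩ := h1 t.2
    exact Subtype.ext hwt ▸ hw
  have hne : K.subgroupOf T ≠ ⊤ := fun h => hTK (Subgroup.subgroupOf_eq_top.1 h)
  haveI : Nontrivial T := (Subgroup.nontrivial_iff_ne_bot T).2 fun h => hTK (h ▸ bot_le)
  have hΦ : frattini T ≤ K.subgroupOf T := (hchar _ inferInstance).resolve_right fun h =>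
    bot_ne_top (α := Subgroup T) (frattini_nongenerating (K := ⊥) (by rw [bot_sup_eq, h]))
  have hΩc : (Subgroup.closure {w : T | w ^ p = 1}).Characteristic := by
    rw [Subgroup.characteristic_iff_map_le]
    intro φ
    rw [MonoidHom.map_closure]
    refine Subgroup.closure_mono ?_
    rintro _ ⟨w, hw, rfl⟩
    show (φ w) ^ p = 1
    rw [← map_pow, show w ^ p = 1 from hw, map_one]
  have hle : K.relIndex T ≤ p ^ 2 :=
    CfsgLib.RankTwoP.index_le_of_irreducible hp hTp
      (CfsgLib.BGUniqueness.pRankLE_of_injective (f := T.subtype) T.subtype_injective hr)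
      (K.subgroupOf T) hΦ (hchar _ hΩc)
  rw [← hidx, hn, Nat.pow_le_pow_iff_right hp'.one_lt] at hle
  have hn0 : n ≠ 0 := fun h => hKH.not_ge (Subgroup.relIndex_eq_one.1 (by rw [hn, h, pow_zero]))
  rcases (show n = 1 ∨ n = 2 by omega) with h | h <;> simp [hn, h]

end Cfsg.Agent.S1895
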