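import Cfsg.Statements.S1896
import Cfsg.Agent.Lib.TwoGroups.MetacyclicAut
-- import your own Cfsg.Agent.* helpers here

set_option autoImplicit false
open Cfsg
open scoped commutatorElement

namespace Cfsg.Agent.S1896

/-- A finite metacyclic 2-group whose automorphism group is not a 2-group is isomorphic to the quaternion group of order 8 or to a homocyclic abelian group Z_{2^n} × Z_{2^n}. -/
theorem result {X : Type*} [Group X] [Finite X] (hX : IsPGroup 2 X)
    (hm : Cfsg.IsMetacyclic X) (hA : ¬ IsPGroup 2 (MulAut X)) :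
    Nonempty (X ≃* QuaternionGroup 2) ∨
      ∃ n : ℕ, Nonempty (X ≃* Multiplicative (ZMod (2 ^ n)) × Multiplicative (ZMod (2 ^ n))) := by
  classical
  have : Fact (Nat.Prime 2) := ⟨Nat.prime_two⟩
  obtain ⟨φ, k, hk, hφk, hφ1⟩ : ∃ (φ : MulAut X) (k : ℕ), Odd k ∧ φ ^ k = 1 ∧ φ ≠ 1 := by
    by_contra! h
    exact hA (CfsgLib.TwoGroups.isPGroup_two_of_odd fun a k hk ha => h a k hk ha)
  have hno : ∀ M : Subgroup X, M.index = 2 → M.map φ.toMonoidHom ≠ M := fun M hM he =>
    hφ1 (CfsgLib.TwoGroups.eq_one_of_fix_index_two hX hm hk hφk hM he)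
  obtain ⟨a, b, hab⟩ := CfsgLib.TwoGroups.exists_two_gen hm
  by_cases hc : IsMulCommutative X
  · right
    have hcc : ∀ x y : X, x * y = y * x := isMulCommutative_iff.1 hc
    obtain ⟨m, ha, hb, hdis, -⟩ := CfsgLib.TwoGroups.homocyclic_of_moved hX hcc hab φ hno
    refine ⟨m, ?_⟩
    let P : ↥(Subgroup.zpowers a) × ↥(Subgroup.zpowers b) →* X :=
      (Subgroup.zpowers a).subtype.noncommCoprod (Subgroup.zpowers b).subtype fun x y => hcc x y
    have hP : Function.Bijective P := by
      refine ⟨(injective_iff_map_eq_one P).2 fun ⟨x, y⟩ h => ?_, fun z => ?_⟩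
      · have h' : (x : X) * y = 1 := h
        have hxy : (x : X) ∈ Subgroup.zpowers a ⊓ Subgroup.zpowers b :=
          ⟨x.2, by rw [eq_inv_of_mul_eq_one_left h']; exact Subgroup.inv_mem _ y.2⟩
        rw [hdis, Subgroup.mem_bot] at hxy
        refine Prod.ext (Subtype.ext hxy) (Subtype.ext ?_)
        rw [hxy, one_mul] at h'
        exact h'
      · haveI : (Subgroup.zpowers a).Normal := ⟨fun w hw g => by rwa [hcc g w, mul_inv_cancel_right]⟩
        obtain ⟨u, hu, v, hv, rfl⟩ := Subgroup.mem_sup_of_normal_left.1 (hab ▸ Subgroup.mem_top z)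
        exact ⟨(⟨u, hu⟩, ⟨v, hv⟩), rfl⟩
    have ea : Multiplicative (ZMod (2 ^ m)) ≃* ↥(Subgroup.zpowers a) := by
      have e := zmodCyclicMulEquiv (G := ↥(Subgroup.zpowers a)) inferInstance
      rwa [Nat.card_zpowers, ha] at e
    have eb : Multiplicative (ZMod (2 ^ m)) ≃* ↥(Subgroup.zpowers b) := by
      have e := zmodCyclicMulEquiv (G := ↥(Subgroup.zpowers b)) inferInstance
      rwa [Nat.card_zpowers, hb] at e
    exact ⟨(MulEquiv.ofBijective P hP).symm.trans (ea.prodCongr eb).symm⟩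
  left
  -- the quotient by the subgroup of index two of the derived group
  have hmem := hm
  obtain ⟨N, hN, hNc, hQc⟩ := hmem
  have hDN : commutator X ≤ N := by
    rw [commutator_def, Subgroup.commutator_le]
    intro x _ y _
    letI := IsCyclic.commGroup (α := X ⧸ N)
    refine (QuotientGroup.eq_one_iff _).1 ?_
    show QuotientGroup.mk' N ⁅x, y⁆ = 1
    rw [map_commutatorElement, commutatorElement_eq_one_iff_mul_comm, mul_comm]
  have hDcyc : IsCyclic (commutator X) :=
    isCyclic_of_injective (Subgroup.inclusion hDN) (Subgroup.inclusion_injective hDN)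
  obtain ⟨c, hc'⟩ := hDcyc.exists_generator
  have hgen : commutator X = Subgroup.zpowers (c : X) := by
    refine le_antisymm (fun x hx => ?_) (Subgroup.zpowers_le.2 c.2)
    obtain ⟨i, hi⟩ := Subgroup.mem_zpowers_iff.1 (hc' ⟨x, hx⟩)
    exact Subgroup.mem_zpowers_iff.2 ⟨i, by simpa using congrArg Subtype.val hi⟩
  set X1 := Subgroup.zpowers ((c : X) ^ 2) with hX1
  have hX1D : X1 ≤ commutator X := Subgroup.zpowers_le.2 (pow_mem c.2 2)
  have hsq : ∀ z ∈ commutator X, z ^ 2 ∈ X1 := by
    intro z hz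
    rw [hgen] at hz
    obtain ⟨i, rfl⟩ := Subgroup.mem_zpowers_iff.1 hz
    refine Subgroup.mem_zpowers_iff.2 ⟨i, ?_⟩
    rw [← zpow_natCast, ← zpow_mul, ← zpow_natCast, ← zpow_mul, mul_comm]
  haveI hX1n : X1.Normal := by
    refine ⟨fun w hw g => ?_⟩
    obtain ⟨i, rfl⟩ := Subgroup.mem_zpowers_iff.1 hw
    rw [← zpow_natCast, ← zpow_mul, mul_comm, zpow_mul, zpow_natCast, ← conj_pow]
    exact hsq _ ((inferInstance : (commutator X).Normal).conj_mem _ (zpow_mem c.2 i) g)
  have hXne : commutator X ≠ ⊥ := by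
    intro h
    refine hc (isMulCommutative_iff.2 fun x y => commutatorElement_eq_one_iff_mul_comm.1 ?_)
    exact Subgroup.mem_bot.1 (h ▸ Subgroup.commutator_mem_commutator (Subgroup.mem_top x) (Subgroup.mem_top y))
  have hcX1 : (c : X) ∉ X1 := by
    intro h
    obtain ⟨i, hi⟩ := Subgroup.mem_zpowers_iff.1 h
    have h1 : (c : X) ^ (2 * i - 1) = 1 := by
      rw [zpow_sub_one, mul_inv_eq_one, zpow_mul]
      exact_mod_cast hi
    rw [← orderOf_dvd_iff_zpow_eq_one] at h1
    obtain ⟨l, hl⟩ := IsPGroup.iff_orderOf.1 hX (c : X)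
    rw [hl] at h1
    rcases l with _ | l
    · exact hXne (by rw [hgen, (orderOf_eq_one_iff (x := (c : X))).1 (by simpa using hl), Subgroup.zpowers_one_eq_bot])
    · have h2 : (2 : ℤ) ∣ 2 * i - 1 := dvd_trans ⟨2 ^ l, by push_cast; ring⟩ h1
      omega
  set q := QuotientGroup.mk' X1 with hq
  have hqD : commutator (X ⧸ X1) = (commutator X).map q := by
    rw [commutator_def, commutator_def, Subgroup.map_commutator,
      Subgroup.map_top_of_surjective _ (QuotientGroup.mk'_surjective X1)]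
  have hcard2 : Nat.card (commutator (X ⧸ X1)) = 2 := by
    rw [hqD, hgen, MonoidHom.map_zpowers, Nat.card_zpowers]
    refine orderOf_eq_prime ?_ fun h => hcX1 ((QuotientGroup.eq_one_iff _).1 h)
    rw [← map_pow]
    exact (QuotientGroup.eq_one_iff _).2 (hsq _ c.2)
  have hX1φ : X1.map φ.toMonoidHom = X1 := by
    refine Subgroup.eq_of_le_of_card_ge ?_ (Subgroup.card_map_of_injective φ.injective).ge
    rw [hX1, MonoidHom.map_zpowers, Subgroup.zpowers_le, map_pow]
    refine hsq _ ?_
    exact (Subgroup.characteristic_iff_map_eq.1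
      (inferInstance : (commutator X).Characteristic) φ).le ⟨c, c.2, rfl⟩
  let ψ : MulAut (X ⧸ X1) := QuotientGroup.congr X1 X1 φ hX1φ
  have hnoq : ∀ M : Subgroup (X ⧸ X1), M.index = 2 → M.map ψ.toMonoidHom ≠ M := by
    intro M hM he
    refine hno (M.comap q)
      (by rw [Subgroup.index_comap_of_surjective _ (QuotientGroup.mk'_surjective X1), hM])
      (Subgroup.eq_of_le_of_card_ge ?_ (Subgroup.card_map_of_injective φ.injective).ge)
    rintro _ ⟨x, hx, rfl⟩
    show q (φ x) ∈ M
    rw [← he]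
    exact ⟨q x, hx, rfl⟩
  have h4 := CfsgLib.TwoGroups.index_commutator_eq_four (hX.to_quotient X1)
    (CfsgLib.BGAppendix.isMetacyclic_quotient hm X1) ψ hnoq hcard2
  have hidx : (commutator X).index = 4 := by
    rw [← h4, hqD, Subgroup.index_map_eq _ (QuotientGroup.mk'_surjective X1)
      (by rw [QuotientGroup.ker_mk']; exact hX1D)]
  rcases CfsgLib.TwoGroups.taussky hX hidx with h | h | ⟨n, hn, ⟨e⟩⟩ | ⟨n, hn, ⟨e⟩⟩ | h
  · haveI := h
    exact absurd (IsPGroup.isMulCommutative_of_card_eq_prime_sq (p := 2)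
      (IsKleinFour.card_four.trans (by norm_num))) hc
  · haveI := h
    exact absurd (isMulCommutative_iff.2 fun a b => by
      letI := IsCyclic.commGroup (α := X)
      exact mul_comm a b) hc
  · exact absurd (CfsgLib.TwoGroups.isPGroup_mulAut_congr e.symm
      (CfsgLib.TwoGroups.isPGroup_mulAut_dihedral hn)) hA
  · rcases eq_or_lt_of_le hn with rfl | hn2
    · exact ⟨e⟩
    · exact absurd (CfsgLib.TwoGroups.isPGroup_mulAut_congr e.symm
        (CfsgLib.TwoGroups.isPGroup_mulAut_quaternion hn2)) hA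
  · exact absurd (CfsgLib.TwoGroups.isPGroup_mulAut_quasiDihedral h) hA

end Cfsg.Agent.S1896
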