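import Cfsg.Statements.S1910
import Cfsg.Agent.Lib.ConjFunctor.Basic
import Cfsg.Agent.Lib.PushUp.ConjFunctor
import Cfsg.Agent.Lib.FusionBasics.Aut

set_option autoImplicit false
open Cfsg

namespace Cfsg.Agent.S1910

open Subgroup CfsgLib.ConjFunctor

variable {G : Type*} [Group G] [Finite G]

/-- Elements of `2`-power order of an odd order subgroup are trivial. -/
theorem eq_one_of_odd {H : Subgroup G} (hH : Odd (Nat.card H)) {T : Subgroup G} (hT : IsPGroup 2 T)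
    {x : G} (hxH : x ∈ H) (hxT : x ∈ T) : x = 1 := by
  obtain ⟨k, hk⟩ := hT ⟨x, hxT⟩
  have hk' : x ^ 2 ^ k = 1 := congrArg Subtype.val hk
  exact orderOf_eq_one_iff.1 (Nat.eq_one_of_dvd_coprimes
    ((Nat.coprime_two_left.2 hH).pow_left k) (orderOf_dvd_of_pow_eq_one hk')
    (Subgroup.orderOf_dvd_natCard H hxH))

/-- `K` meets its other conjugates in groups of odd order. -/
def OddTI (K : Subgroup G) : Prop :=
  ∀ x : G, x ∉ normalizer (K : Set G) → Odd (Nat.card ↥(K ⊓ cj x K))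

theorem mem_normalizer_of_two {K T : Subgroup G} (hK : OddTI K) (hT : IsPGroup 2 T) {t : G}
    (htT : t ∈ T) (ht : t ≠ 1) (htK : t ∈ K) {x : G} (hx : x⁻¹ * t * x ∈ K) :
    x ∈ normalizer (K : Set G) := by
  by_contra hxn
  exact ht (eq_one_of_odd (hK x hxn) hT ⟨htK, mem_cj.2 hx⟩ htT)

theorem cj_eq_of_mem {K : Subgroup G} {x : G} (hx : x ∈ normalizer (K : Set G)) : cj x K = K := by
  ext y
  rw [mem_cj]
  have := Subgroup.mem_normalizer_iff.1 (inv_mem hx) y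
  simpa [mul_assoc] using this.symm

/-- The structure of `N_S(T)`: `C := S ∩ N(T) ∩ Q` centralises `T`, `N_S(T) = TC`, and either
`T` embeds in `C` or `C` is a Sylow subgroup of `Q`. -/
theorem core {Q Q' T S : Subgroup G} (hodd : Odd (Nat.card ↥(Q ⊓ Q'))) (hQ'ti : OddTI Q')
    (hT1 : T ≠ ⊥) (hTQ' : T ≤ Q') (hTN : T ≤ normalizer (Q : Set G))
    (hTS : T ≤ S) (hS : S ≤ Q ⊔ T) (hS2 : IsPGroup 2 S) (hSsyl : ¬ 2 ∣ S.relIndex (Q ⊔ T)) :
    T ⊓ Q = ⊥ ∧ (∀ u ∈ S ⊓ normalizer (T : Set G) ⊓ Q, ∀ t ∈ T, Commute t u) ∧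
      (S ⊓ normalizer (T : Set G) ≤ T ⊔ (S ⊓ normalizer (T : Set G) ⊓ Q)) ∧
      ((∃ f : T →* ↥(S ⊓ normalizer (T : Set G) ⊓ Q), Function.Injective f) ∨
        ¬ 2 ∣ (S ⊓ normalizer (T : Set G) ⊓ Q).relIndex Q) := by
  classical
  haveI : Fact (Nat.Prime 2) := ⟨Nat.prime_two⟩
  set C := S ⊓ normalizer (T : Set G) ⊓ Q with hC
  have hT2 : IsPGroup 2 T := hS2.to_le hTS
  have hTQ : T ⊓ Q = ⊥ := (Subgroup.eq_bot_iff_forall _).2 fun x hx =>
    eq_one_of_odd hodd hT2 ⟨hx.2, hTQ' hx.1⟩ hx.1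
  have hcomm : ∀ u ∈ C, ∀ t ∈ T, Commute t u := by
    intro u hu t ht
    have h1 : t * u * t⁻¹ * u⁻¹ ∈ T := by
      rw [mul_assoc, mul_assoc, ← mul_assoc u]
      exact T.mul_mem ht ((Subgroup.mem_normalizer_iff.1 hu.1.2 t⁻¹).1 (T.inv_mem ht))
    have h2 : t * u * t⁻¹ * u⁻¹ ∈ Q :=
      Q.mul_mem ((Subgroup.mem_normalizer_iff.1 (hTN ht) u).1 hu.2) (Q.inv_mem hu.2)
    have h3 : t * u * t⁻¹ * u⁻¹ ∈ T ⊓ Q := ⟨h1, h2⟩
    rw [hTQ, Subgroup.mem_bot, mul_inv_eq_one, mul_inv_eq_iff_eq_mul] at h3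
    exact h3
  have hdec : ∀ s ∈ S, ∃ q ∈ Q, q ∈ S ∧ ∃ t ∈ T, s = q * t := by
    intro s hs
    have h1 := hS hs
    rw [← SetLike.mem_coe, Subgroup.coe_mul_of_right_le_normalizer_left Q T hTN] at h1
    obtain ⟨q, hq, t, ht, rfl⟩ := h1
    refine ⟨q, hq, ?_, t, ht, rfl⟩
    have := S.mul_mem hs (S.inv_mem (hTS ht))
    simpa [mul_assoc] using this
  have hprod : S ⊓ normalizer (T : Set G) ≤ T ⊔ C := by
    intro s hs
    obtain ⟨q, hq, hqS, t, ht, rfl⟩ := hdec s hs.1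
    have hqN : q ∈ normalizer (T : Set G) := by
      have := (normalizer (T : Set G)).mul_mem hs.2 (inv_mem (Subgroup.le_normalizer ht))
      simpa [mul_assoc] using this
    exact mul_mem (Subgroup.mem_sup_right (⟨⟨hqS, hqN⟩, hq⟩ : q ∈ C)) (Subgroup.mem_sup_left ht)
  refine ⟨hTQ, hcomm, hprod, ?_⟩
  by_cases hSN : S ≤ normalizer (T : Set G)
  · right
    have hCS : C = S ⊓ Q := by rw [hC, inf_eq_left.2 hSN]
    rw [hCS, Subgroup.inf_relIndex_right]
    intro hd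
    refine hSsyl (hd.trans ?_)
    have h := CfsgLib.FusionBasics.relIndex_sup_of_le_normalizer (N := S) (C := Q)
      (hS.trans (sup_le Subgroup.le_normalizer hTN))
    rw [show S ⊔ Q = Q ⊔ T from le_antisymm (sup_le hS le_sup_left)
      (sup_le le_sup_right (hTS.trans le_sup_left))] at h
    rw [h]
  · left
    set M := S ⊓ normalizer (T : Set G) with hM
    have hMS : M < S := lt_of_le_of_ne inf_le_left fun h => hSN (h ▸ inf_le_right)
    obtain ⟨s, hs, hsM⟩ := SetLike.exists_of_lt (lt_inf_normalizer hS2 hMS)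
    have hsT : s ∉ normalizer (T : Set G) := fun h => hsM ⟨hs.1, h⟩
    have hTM : T ≤ M := le_inf hTS Subgroup.le_normalizer
    have hMdec : ∀ m ∈ M, ∃ c ∈ C, ∃ t ∈ T, m = c * t := by
      intro m hm
      obtain ⟨q, hq, hqS, t, ht, rfl⟩ := hdec m hm.1
      refine ⟨q, ⟨⟨hqS, ?_⟩, hq⟩, t, ht, rfl⟩
      have := (normalizer (T : Set G)).mul_mem hm.2 (inv_mem (Subgroup.le_normalizer ht))
      simpa [mul_assoc] using this
    have hsTM : ∀ t ∈ T, s * t * s⁻¹ ∈ M := fun t ht =>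
      (Subgroup.mem_normalizer_iff.1 hs.2 t).1 (hTM ht)
    -- `T ∩ T^s = 1`
    have htriv : ∀ t ∈ T, s * t * s⁻¹ ∈ T → t = 1 := by
      intro t ht hst
      by_contra hne
      refine hsT (Subgroup.mem_normalizer_iff_map_conj_eq.2 ?_)
      refine Subgroup.eq_of_le_of_card_ge ?_ (card_cj s T).ge
      rintro _ ⟨t', ht', rfl⟩
      show s * t' * s⁻¹ ∈ T
      have hsQ' : s ∈ normalizer (Q' : Set G) :=
        mem_normalizer_of_two hQ'ti hT2 hst
          (fun h => hne (conj_eq_one_iff.1 h)) (hTQ' hst)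
          (by simpa [mul_assoc] using hTQ' ht)
      have h1 : s * t' * s⁻¹ ∈ Q' := (Subgroup.mem_normalizer_iff.1 hsQ' t').1 (hTQ' ht')
      obtain ⟨c, hc, t'', ht'', he⟩ := hMdec _ (hsTM t' ht')
      have hcQ' : c ∈ Q' := by
        have := Q'.mul_mem h1 (Q'.inv_mem (hTQ' ht''))
        rw [he, mul_inv_cancel_right] at this
        exact this
      rw [eq_one_of_odd hodd hS2 ⟨hc.2, hcQ'⟩ hc.1.1, one_mul] at he
      rw [he]; exact ht''
    have hf : ∀ t : T, ∃ c : C, ∃ t' ∈ T, s * (t : G) * s⁻¹ = c * t' := fun t => by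
      obtain ⟨c, hc, t', ht', he⟩ := hMdec _ (hsTM t t.2)
      exact ⟨⟨c, hc⟩, t', ht', he⟩
    choose f t' ht' he using hf
    have huniq : ∀ (c c' : C) (a a' : G), a ∈ T → a' ∈ T → (c : G) * a = c' * a' → c = c' := by
      intro c c' a a' ha ha' h
      have h1 : (c' : G)⁻¹ * c ∈ T ⊓ Q := by
        refine ⟨?_, Q.mul_mem (Q.inv_mem c'.2.2) c.2.2⟩
        have : (c' : G)⁻¹ * c = a' * a⁻¹ := by
          rw [inv_mul_eq_iff_eq_mul, ← mul_assoc, ← h, mul_inv_cancel_right]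
        rw [SetLike.mem_coe, this]
        exact T.mul_mem ha' (T.inv_mem ha)
      rw [hTQ, Subgroup.mem_bot, inv_mul_eq_one] at h1
      exact Subtype.ext h1.symm
    refine ⟨MonoidHom.mk' f fun a b => ?_, (injective_iff_map_eq_one _).2 fun a ha => ?_⟩
    · refine huniq _ _ (t' (a * b)) (t' a * t' b) (ht' _) (T.mul_mem (ht' a) (ht' b)) ?_
      rw [← he, Subgroup.coe_mul, Subgroup.coe_mul]
      calc s * ((a : G) * b) * s⁻¹ = (s * a * s⁻¹) * (s * b * s⁻¹) := by group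
        _ = (f a : G) * (t' a * f b) * t' b := by rw [he a, he b]; group
        _ = (f a : G) * f b * (t' a * t' b) := by
            rw [(hcomm (f b) (f b).2 (t' a) (ht' a)).eq]; group
    · refine Subtype.ext (htriv a a.2 ?_)
      have ha' : f a = 1 := ha
      rw [he a, ha', OneMemClass.coe_one, one_mul]
      exact ht' a

theorem oddTI_cj {K : Subgroup G} (h : OddTI K) (g : G) : OddTI (cj g K) := by
  intro x hx
  have hn : g⁻¹ * x * g ∉ normalizer (K : Set G) := by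
    intro hh
    refine hx ?_
    have h1 : g * (g⁻¹ * x * g) * g⁻¹ ∈ cj g (normalizer (K : Set G)) := ⟨_, hh, rfl⟩
    rw [cj, Subgroup.map_normalizer_eq_of_bijective _ (f := (MulAut.conj g).toMonoidHom)
      (MulAut.conj g).bijective] at h1
    simpa [mul_assoc] using h1
  have e : cj g K ⊓ cj x (cj g K) = cj g (K ⊓ cj (g⁻¹ * x * g) K) := by
    ext y
    rw [Subgroup.mem_inf, mem_cj, mem_cj, mem_cj, mem_cj, Subgroup.mem_inf, mem_cj]
    simp [mul_assoc]
  rw [e, card_cj]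
  exact h _ hn

/-- A `2`-subgroup of odd index is maximal. -/
theorem eq_of_not_dvd {T X Y : Subgroup G} (hX : IsPGroup 2 X) (hT : T ≤ X) (hXY : X ≤ Y)
    (hi : ¬ 2 ∣ T.relIndex Y) : X = T := by
  haveI : Fact (Nat.Prime 2) := ⟨Nat.prime_two⟩
  obtain ⟨n, hn⟩ := IsPGroup.iff_card.1 hX
  have h1 : T.relIndex X ∣ 2 ^ n := hn ▸ Subgroup.relIndex_dvd_card T X
  obtain ⟨i, -, hi'⟩ := (Nat.dvd_prime_pow Nat.prime_two).1 h1
  rcases i with _ | i
  · exact le_antisymm (Subgroup.relIndex_eq_one.1 (by rwa [pow_zero] at hi')) hT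
  · exact absurd ((hi'.symm ▸ dvd_pow_self 2 i.succ_ne_zero : 2 ∣ T.relIndex X).trans
      (Dvd.intro _ (Subgroup.relIndex_mul_relIndex T X Y hT hXY))) hi


/-- Let Q be a tightly embedded subgroup of a finite group G, g an element outside N_G(Q), T a nontrivial Sylow 2-subgroup of Q^g ∩ N_G(Q), and S a Sylow 2-subgroup of QT containing T. Then T ∩ Q = 1, and N_S(T) is the direct product of T and N_S(T) ∩ Q, with N_S(T) ∩ Q isomorphic to T. -/
theorem result {G : Type*} [Group G] [Finite G] (Q : Subgroup G) (hQ : Cfsg.IsTightlyEmbedded Q)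
    (g : G) (hg : g ∉ Subgroup.normalizer (Q : Set G))
    (T : Subgroup G) (hT1 : T ≠ ⊥) (hT : T ≤ Q.map (MulAut.conj g).toMonoidHom ⊓ Subgroup.normalizer (Q : Set G))
    (hTsyl : IsPGroup 2 T ∧ ¬ 2 ∣ T.relIndex (Q.map (MulAut.conj g).toMonoidHom ⊓ Subgroup.normalizer (Q : Set G)))
    (S : Subgroup G) (hTS : T ≤ S) (hS : S ≤ Q ⊔ T) (hSsyl : IsPGroup 2 S ∧ ¬ 2 ∣ S.relIndex (Q ⊔ T)) :
    T ⊓ Q = ⊥ ∧
      T ⊓ (S ⊓ Subgroup.normalizer (T : Set G) ⊓ Q) = ⊥ ∧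
      ⁅T, S ⊓ Subgroup.normalizer (T : Set G) ⊓ Q⁆ = ⊥ ∧
      T ⊔ (S ⊓ Subgroup.normalizer (T : Set G) ⊓ Q) = S ⊓ Subgroup.normalizer (T : Set G) ∧
      Nonempty (↥(S ⊓ Subgroup.normalizer (T : Set G) ⊓ Q) ≃* T) := by
  classical
  haveI : Fact (Nat.Prime 2) := ⟨Nat.prime_two⟩
  set Q' := Q.map (MulAut.conj g).toMonoidHom with hQ'
  have hti : OddTI Q := hQ.2
  have hti' : OddTI Q' := oddTI_cj hti g
  have hodd : Odd (Nat.card ↥(Q ⊓ Q')) := hQ.2 g hg
  have hmax : ∀ X : Subgroup G, IsPGroup 2 X → T ≤ X → X ≤ Q' ⊓ normalizer (Q : Set G) → X = T :=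
    fun X hX hTX hXY => eq_of_not_dvd hX hTX hXY hTsyl.2
  obtain ⟨hTQ, hcomm, hprod, hcase⟩ := core hodd hti' hT1 (hT.trans inf_le_left)
    (hT.trans inf_le_right) hTS hS hSsyl.1 hSsyl.2
  set C := S ⊓ normalizer (T : Set G) ⊓ Q with hC
  refine ⟨hTQ, le_bot_iff.1 (le_trans (inf_le_inf_left T inf_le_right) hTQ.le), ?_, ?_, ?_⟩
  · rw [Subgroup.commutator_eq_bot_iff_le_centralizer]
    intro t ht u hu
    exact (hcomm u hu t ht).eq.symm
  · exact le_antisymm (sup_le (le_inf hTS Subgroup.le_normalizer) inf_le_left) hprod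
  -- the symmetric configuration
  have hC2 : IsPGroup 2 C := hSsyl.1.to_le (inf_le_left.trans inf_le_left)
  have hcard' : ∀ (K : Subgroup G) (X : Subgroup G), IsPGroup 2 X → X ≤ K → ¬ 2 ∣ X.relIndex K →
      ∀ Y : Subgroup G, IsPGroup 2 Y → Y ≤ K → Nat.card Y ≤ Nat.card X := by
    intro K X hX hXK hXi Y hY hYK
    obtain ⟨k, -, hk⟩ := CfsgLib.PushUp.exists_cmap_le hYK hY hXK hX hXi
    exact (CfsgLib.PushUp.card_cmap k Y).symm.le.trans (Subgroup.card_le_of_le hk)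
  have hback : ∀ Y : Subgroup G, Y ≤ Q → cj g Y ≤ Q' := fun Y h => Subgroup.map_mono h
  have hge : Nat.card T ≤ Nat.card C := by
    rcases hcase with ⟨f, hf⟩ | hi
    · exact Nat.card_le_card_of_injective f hf
    · have h1 := hcard' Q C hC2 inf_le_right hi (cj g⁻¹ T) (hTsyl.1.map _) (by
        intro y hy
        rw [mem_cj, inv_inv] at hy
        have h2 : g * y * g⁻¹ ∈ Q' := (hT.trans inf_le_left) hy
        obtain ⟨z, hz, hze⟩ := h2
        have : z = y := (MulAut.conj g).injective (hze.trans rfl)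
        exact this ▸ hz)
      rwa [card_cj] at h1
  obtain ⟨t₀, ht₀, ht₀1⟩ := T.bot_or_exists_ne_one.resolve_left hT1
  have hCN : C ≤ normalizer (Q' : Set G) := fun u hu =>
    mem_normalizer_of_two hti' hTsyl.1 ht₀ ht₀1 ((hT.trans inf_le_left) ht₀) (by
      rw [mul_assoc, (hcomm u hu t₀ ht₀).eq, inv_mul_cancel_left]
      exact (hT.trans inf_le_left) ht₀)
  have hCne : C ≠ ⊥ := fun h => by
    have hTsub : T ≤ C := by
      intro t ht
      have h1 : Nat.card T ≤ 1 := by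
        have := hge
        rwa [h, Subgroup.card_bot] at this
      exact absurd (Subgroup.card_eq_one.1 (le_antisymm h1 Nat.card_pos)) hT1
    exact hT1 (le_bot_iff.1 (h ▸ hTsub))
  have hTC : T ⊔ C ≤ Q' ⊔ C := sup_le_sup_right (hT.trans inf_le_left) C
  have hTUp : IsPGroup 2 (T ⊔ C : Subgroup G) := hSsyl.1.to_le
    (sup_le hTS (inf_le_left.trans inf_le_left))
  obtain ⟨S', hS'⟩ := (hTUp.of_equiv (Subgroup.subgroupOfEquivOfLe hTC).symm).exists_le_sylow
  set S'' : Subgroup G := (S' : Subgroup ↥(Q' ⊔ C)).map (Q' ⊔ C).subtype with hS''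
  have hS''le : T ⊔ C ≤ S'' := fun x hx => ⟨⟨x, hTC hx⟩, hS' hx, rfl⟩
  have hS''i : ¬ 2 ∣ S''.relIndex (Q' ⊔ C) := by
    rw [Subgroup.relIndex, Subgroup.subgroupOf, hS'',
      Subgroup.comap_map_eq_self_of_injective (Q' ⊔ C).subtype_injective]
    exact S'.not_dvd_index
  obtain ⟨-, hcomm', -, hcase'⟩ := core (Q := Q') (Q' := Q) (T := C) (S := S'')
    (by rwa [inf_comm]) hti hCne inf_le_right hCN
    (le_sup_right.trans hS''le) (Subgroup.map_subtype_le _) (S'.2.map _) hS''i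
  obtain ⟨u₀, hu₀, hu₀1⟩ := C.bot_or_exists_ne_one.resolve_left hCne
  have hC'' : S'' ⊓ normalizer (C : Set G) ⊓ Q' = T := by
    refine hmax _ ((S'.2.map _).to_le (inf_le_left.trans inf_le_left)) ?_ ?_
    · refine le_inf (le_inf (le_sup_left.trans hS''le) ?_) (hT.trans inf_le_left)
      intro t ht
      refine Subgroup.centralizer_le_normalizer _ (Subgroup.mem_centralizer_iff.2 fun u hu => ?_)
      exact (hcomm u hu t ht).eq.symm
    · refine le_inf inf_le_right fun v hv => ?_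
      refine mem_normalizer_of_two hti hC2 hu₀ hu₀1 hu₀.2 ?_
      rw [mul_assoc, (hcomm' v hv u₀ hu₀).eq, inv_mul_cancel_left]
      exact hu₀.2
  rw [hC''] at hcase'
  rcases hcase' with ⟨f, hf⟩ | hi
  · exact ⟨MulEquiv.ofBijective f ((Nat.bijective_iff_injective_and_card f).2
      ⟨hf, le_antisymm (Nat.card_le_card_of_injective f hf) hge⟩)⟩
  · have h1 : cj g C ≤ Q' := hback C inf_le_right
    obtain ⟨k, -, hk⟩ := CfsgLib.PushUp.exists_cmap_le h1 (hC2.map _)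
      (hT.trans inf_le_left) hTsyl.1 hi
    have heq : CfsgLib.PushUp.cmap k (cj g C) = T := Subgroup.eq_of_le_of_card_ge hk
      (by rw [CfsgLib.PushUp.card_cmap, card_cj]; exact hge)
    exact ⟨((Subgroup.equivMapOfInjective C _ (MulAut.conj g).injective).trans
      (Subgroup.equivMapOfInjective _ _ (MulAut.conj k).injective)).trans
      (MulEquiv.subgroupCongr heq)⟩

end Cfsg.Agent.S1910
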