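import Cfsg.Statements.S1914
import Cfsg.Agent.Lib.CyclicFourFix.Main
import Cfsg.Agent.Lib.Cores.Components

set_option autoImplicit false
open Cfsg
open scoped Pointwise

namespace Cfsg.Agent.S1914

/-- Let A be a semisimple subgroup (a central product of quasisimple groups, A = E(A)) of a finite group and t an involution normalizing A such that the Sylow 2-subgroups of C_A(t) are cyclic of order 4. Then A has 2-rank exactly 1. -/
theorem result {G : Type*} [Group G] [Finite G] (A : Subgroup G) (hA : Cfsg.layer ↥A = ⊤)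
    (t : G) (ht : orderOf t = 2) (htA : t ∈ Subgroup.normalizer (A : Set G))
    (hC : ∀ R : Sylow 2 ↥(A ⊓ Subgroup.centralizer ({t} : Set G)), IsCyclic R ∧ Nat.card R = 4) :
    Cfsg.PRankLE 2 1 A ∧ ¬ Cfsg.PRankLE 2 0 A := by
  haveI : Fact (Nat.Prime 2) := ⟨Nat.prime_two⟩
  set H := A ⊔ Subgroup.zpowers t with hH
  have hAH : A ≤ H := le_sup_left
  have htH : t ∈ H := le_sup_right (α := Subgroup G) (Subgroup.mem_zpowers t)
  haveI hAn : (A.subgroupOf H).Normal := Subgroup.normal_subgroupOf_of_le_normalizer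
    (sup_le Subgroup.le_normalizer (Subgroup.zpowers_le.2 htA))
  have htt : t * t = 1 := by rw [← pow_two, ← ht, pow_orderOf_eq_one]
  have hperfA : commutator ↥A = ⊤ := by
    have := CfsgLib.Cores.commutator_layer_self ↥A
    rwa [hA, ← commutator_def] at this
  have hsolA : ∀ N : Subgroup ↥A, N.Normal → Group.IsSolvable N → N ≤ Subgroup.center ↥A := by
    intro N hN hNs
    have h1 := CfsgLib.Cores.layer_le_centralizer_of_isSolvable (G := ↥A) hN.isSubnormal
    rw [hA] at h1
    intro x hx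
    refine Subgroup.mem_center_iff.2 fun g => ?_
    exact (Subgroup.mem_centralizer_iff.1 (h1 (Subgroup.mem_top g)) x hx).symm
  let e : ↥(A.subgroupOf H) ≃* ↥A := Subgroup.subgroupOfEquivOfLe hAH
  have hperf : commutator ↥(A.subgroupOf H) = ⊤ := by
    rw [eq_top_iff]
    intro x _
    have h1 : e x ∈ (commutator ↥(A.subgroupOf H)).map e.toMonoidHom := by
      rw [commutator_def, Subgroup.map_commutator,
        Subgroup.map_top_of_surjective _ e.surjective, ← commutator_def, hperfA]
      exact Subgroup.mem_top _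
    obtain ⟨y, hy, hye⟩ := h1
    exact e.injective hye ▸ hy
  have hsol : ∀ N : Subgroup ↥(A.subgroupOf H), N.Normal → Group.IsSolvable N →
      N ≤ Subgroup.center ↥(A.subgroupOf H) := by
    intro N hN hNs
    haveI := hN.map e.toMonoidHom e.surjective
    haveI : Group.IsSolvable ↥(N.map e.toMonoidHom) :=
      Group.isSolvable_of_surjective (e.toMonoidHom.subgroupMap_surjective N)
    intro x hx
    refine Subgroup.mem_center_iff.2 fun g => e.injective ?_
    rw [map_mul, map_mul]
    exact Subgroup.mem_center_iff.1 (hsolA _ inferInstance inferInstance (Subgroup.mem_map_of_mem e.toMonoidHom hx)) (e g)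
  set t' : ↥H := ⟨t, htH⟩ with ht'
  have hgen : ∀ g : ↥H, g ∈ A.subgroupOf H ∨ t' * g ∈ A.subgroupOf H := by
    intro g
    have hmem : (g : G) ∈ ((A : Set G) * (Subgroup.zpowers t : Set G)) := by
      rw [← Subgroup.coe_mul_of_right_le_normalizer_left A (Subgroup.zpowers t)
        (Subgroup.zpowers_le.2 htA)]
      exact g.2
    obtain ⟨a, ha, b, ⟨i, rfl⟩, hab⟩ := hmem
    simp only at hab
    rcases Int.even_or_odd i with ⟨j, rfl⟩ | ⟨j, rfl⟩
    · left
      show (g : G) ∈ A
      rw [← hab, ← two_mul, zpow_mul, zpow_two, htt, one_zpow, mul_one]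
      exact ha
    · right
      show t * (g : G) ∈ A
      rw [← hab, zpow_add, zpow_mul, zpow_two, htt, one_zpow, one_mul, zpow_one]
      have := (Subgroup.mem_normalizer_iff.1 htA a).1 ha
      rwa [inv_eq_of_mul_eq_one_right htt, mul_assoc] at this
  set Ct := A ⊓ Subgroup.centralizer ({t} : Set G) with hCt
  have hRcyc : ∀ R : Subgroup G, IsPGroup 2 R → R ≤ A → (∀ x ∈ R, Commute t x) →
      ∃ r ∈ A, r ^ 4 = 1 ∧ R ≤ Subgroup.zpowers r := by
    intro R hR hRA hRc
    have hle : R ≤ Ct := le_inf hRA fun x hx =>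
      Subgroup.mem_centralizer_singleton_iff.2 (hRc x hx).eq.symm
    obtain ⟨Q, hQ⟩ := (hR.comap_of_injective Ct.subtype Ct.subtype_injective).exists_le_sylow
    obtain ⟨hcyc, hcard⟩ := hC Q
    obtain ⟨r, hr⟩ := (Subgroup.isCyclic_iff_exists_zpowers_eq_top (Q : Subgroup ↥Ct)).1 hcyc
    refine ⟨(r : G), (r : ↥Ct).2.1, ?_, fun x hx => ?_⟩
    · have h1 : r ^ 4 = 1 := by
        apply orderOf_dvd_iff_pow_eq_one.1
        rw [← Nat.card_zpowers, hr, hcard]
      rw [← Subgroup.coe_pow, h1]; rfl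
    · have h1 : (⟨x, hle hx⟩ : ↥Ct) ∈ Subgroup.zpowers r := by rw [hr]; exact hQ hx
      obtain ⟨i, hi⟩ := h1
      exact ⟨i, congrArg Subtype.val hi⟩
  obtain ⟨Q⟩ : Nonempty (Sylow 2 ↥Ct) := inferInstance
  obtain ⟨hcyc, hcard⟩ := hC Q
  obtain ⟨s₀, hs₀⟩ := (Subgroup.isCyclic_iff_exists_zpowers_eq_top (Q : Subgroup ↥Ct)).1 hcyc
  have hord : orderOf (s₀ : G) = 4 := by
    rw [Subgroup.orderOf_coe, ← Nat.card_zpowers, hs₀, hcard]
  have hs2 : (s₀ : G) ^ 2 ≠ 1 := fun h => by
    have := orderOf_le_of_pow_eq_one (by norm_num) h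
    omega
  have hs4 : (s₀ : G) ^ 4 = 1 := by rw [← hord, pow_orderOf_eq_one]
  refine ⟨?_, ?_⟩
  · intro E hE hE2
    set j : ↥A →* ↥(A.subgroupOf H) := e.symm.toMonoidHom with hj
    have hjinj : Function.Injective j := e.symm.injective
    classical
    have hinj : Function.Injective fun x : E => decide (x = 1) := by
      intro a b hab
      simp only [decide_eq_decide] at hab
      by_cases ha : a = 1
      · rw [ha, hab.1 ha]
      · have hb : b ≠ 1 := fun h => ha (hab.2 h)
        refine Subtype.ext (hjinj ?_)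
        refine CfsgLib.CyclicFourFix.eq_of_commuting_involutions hperf hsol (t := t')
          (Subtype.ext htt) hgen ?_ ?_ (a := j (a : ↥A)) (b := j (b : ↥A))
          (by rw [← map_pow, hE2 _ a.2, map_one]) (by rw [← map_pow, hE2 _ b.2, map_one])
          (fun h => ha (Subtype.ext (hjinj (h.trans (map_one j).symm))))
          (fun h => hb (Subtype.ext (hjinj (h.trans (map_one j).symm)))) ?_
        · intro R hR hRA hRc
          obtain ⟨r, hrA, hr4, hr⟩ := hRcyc (R.map H.subtype) (hR.map _)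
            (by rintro _ ⟨x, hx, rfl⟩; exact hRA hx)
            (by rintro _ ⟨x, hx, rfl⟩; exact congrArg Subtype.val (hRc x hx).eq)
          refine ⟨⟨r, hAH hrA⟩, Subtype.ext hr4, fun x hx => ?_⟩
          obtain ⟨i, hi⟩ := hr ⟨x, hx, rfl⟩
          exact ⟨i, Subtype.ext hi⟩
        · refine ⟨⟨(s₀ : G), hAH (s₀ : ↥Ct).2.1⟩, (s₀ : ↥Ct).2.1, Subtype.ext ?_, Subtype.ext hs4,
            fun h => hs2 (congrArg Subtype.val h)⟩
          exact (Subgroup.mem_centralizer_singleton_iff.1 (s₀ : ↥Ct).2.2).symm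
        · show j (a : ↥A) * j (b : ↥A) = j (b : ↥A) * j (a : ↥A)
          rw [← map_mul, ← map_mul]
          exact congrArg (fun x => j x) (congrArg Subtype.val (hE.is_comm.comm a b))
    simpa using Nat.card_le_card_of_injective _ hinj
  · intro h
    set z : ↥A := ⟨(s₀ : G) ^ 2, pow_mem (s₀ : ↥Ct).2.1 2⟩ with hz
    have hz2 : z ^ 2 = 1 := Subtype.ext (by
      show ((s₀ : G) ^ 2) ^ 2 = 1
      rw [← pow_mul]; exact hs4)
    have hz1 : z ≠ 1 := fun h => hs2 (congrArg Subtype.val h)
    have hle := h (Subgroup.zpowers z) inferInstance (by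
      rintro a ⟨i, rfl⟩
      simp only
      rw [← zpow_natCast, ← zpow_mul, mul_comm, zpow_mul, zpow_natCast, hz2, one_zpow])
    rw [Nat.card_zpowers, orderOf_eq_prime hz2 hz1] at hle
    norm_num at hle

end Cfsg.Agent.S1914
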