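import Cfsg.Statements.S1915
import Cfsg.Agent.Lib.ClassTech.FourGroupRank
import Cfsg.Agent.Lib.Cores.Components
-- import your own Cfsg.Agent.* helpers here

set_option autoImplicit false
open Cfsg

namespace Cfsg.Agent.S1915

/-- Let A be a semisimple subgroup (A = E(A)) of a finite group and U a Klein four-group normalizing A. If the subgroup of A generated by the normalizers N_A(V) of the nontrivial subgroups V of U has 2-rank exactly 1, then A has 2-rank exactly 1. -/
theorem result {G : Type*} [Group G] [Finite G] (A : Subgroup G) (hA : Cfsg.layer ↥A = ⊤)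
    (U : Subgroup G) (hU : IsKleinFour U) (hUA : U ≤ Subgroup.normalizer (A : Set G))
    (hΓ : Cfsg.PRankLE 2 1 ↥(⨆ V : {V : Subgroup G // V ≤ U ∧ V ≠ ⊥}, A ⊓ Subgroup.normalizer ((V : Subgroup G) : Set G)) ∧
      ¬ Cfsg.PRankLE 2 0 ↥(⨆ V : {V : Subgroup G // V ≤ U ∧ V ≠ ⊥}, A ⊓ Subgroup.normalizer ((V : Subgroup G) : Set G))) :
    Cfsg.PRankLE 2 1 A ∧ ¬ Cfsg.PRankLE 2 0 A := by
  have hle : (⨆ V : {V : Subgroup G // V ≤ U ∧ V ≠ ⊥}, A ⊓ Subgroup.normalizer ((V : Subgroup G) : Set G)) ≤ A :=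
    iSup_le fun V => inf_le_left
  obtain ⟨hΓ1, hΓ0⟩ := hΓ
  set Γ := ⨆ V : {V : Subgroup G // V ≤ U ∧ V ≠ ⊥}, A ⊓ Subgroup.normalizer ((V : Subgroup G) : Set G)
    with hΓdef
  refine ⟨?_, fun h0 => hΓ0 fun B hBc hB2 => ?_⟩
  · intro B hBc hB2
    by_contra hcard
    obtain ⟨e, he⟩ : ∃ e : B, e ≠ 1 := by
      haveI : Nontrivial B := Finite.one_lt_card_iff_nontrivial.1 (by omega)
      exact exists_ne 1
    obtain ⟨f, hf⟩ : ∃ f : B, f ∉ ({1, e} : Set B) := by
      by_contra! h
      have h1 : Nat.card B ≤ ({1, e} : Set B).ncard := by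
        rw [← Set.ncard_univ]; exact Set.ncard_le_ncard (fun x _ => h x)
      have h2 := Set.ncard_pair he.symm
      omega
    simp only [Set.mem_insert_iff, Set.mem_singleton_iff, not_or] at hf
    have hsq : ∀ x : B, (x : G) * (x : G) = 1 := fun x => by
      have := congrArg Subtype.val (hB2 x x.2)
      simpa [pow_two] using this
    have hperf : ⁅A, A⁆ = A := by
      have h := CfsgLib.Cores.commutator_layer_self ↥A
      rw [hA] at h
      have h' := congrArg (Subgroup.map A.subtype) h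
      rwa [Subgroup.map_commutator, ← MonoidHom.range_eq_map, Subgroup.range_subtype] at h'
    obtain ⟨u, hu, hu1, a, b, ha, hb, ha2, hb2, ha1, hb1, hab, hcomm, hua, hub⟩ :=
      CfsgLib.ClassTech.FourGroupRank.good_of_perfect hperf hU hUA (e := ((e : A) : G))
        (f := ((f : A) : G)) (e : A).2 (f : A).2 (hsq e) (hsq f)
        (fun h => he (Subtype.ext (Subtype.ext h))) (fun h => hf.1 (Subtype.ext (Subtype.ext h)))
        (fun h => hf.2 (Subtype.ext (Subtype.ext h.symm)))
        (congrArg (fun x : B => ((x : A) : G)) (hBc.is_comm.comm e f))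
    have hV : Subgroup.zpowers u ≤ U ∧ Subgroup.zpowers u ≠ ⊥ :=
      ⟨Subgroup.zpowers_le.2 hu, fun h => hu1 (Subgroup.zpowers_eq_bot.1 h)⟩
    have hmem : ∀ x ∈ A, u * x = x * u → x ∈ Γ := fun x hx hc => by
      refine le_iSup (fun V : {V : Subgroup G // V ≤ U ∧ V ≠ ⊥} =>
        A ⊓ Subgroup.normalizer ((V : Subgroup G) : Set G)) ⟨_, hV⟩ ⟨hx, ?_⟩
      refine Subgroup.mem_normalizer_iff.2 fun y => ?_
      constructor <;> intro hy
      · obtain ⟨i, rfl⟩ := Subgroup.mem_zpowers_iff.1 hy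
        rw [← ((show Commute u x from hc).zpow_left i).eq, mul_inv_cancel_right]
        exact Subgroup.mem_zpowers_iff.2 ⟨i, rfl⟩
      · obtain ⟨i, hi⟩ := Subgroup.mem_zpowers_iff.1 hy
        refine Subgroup.mem_zpowers_iff.2 ⟨i, ?_⟩
        calc u ^ i = x⁻¹ * (x * u ^ i) := by group
          _ = x⁻¹ * (u ^ i * x) := by rw [((show Commute u x from hc).zpow_left i).eq]
          _ = y := by rw [hi]; group
    have h4 := CfsgLib.Minimal.SmallTwo.isFour_fourOf ha2 hb2 hcomm ha1 hb1 hab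
    have hFle := CfsgLib.Minimal.SmallTwo.fourOf_le ha2 hb2 hcomm (hmem a ha hua) (hmem b hb hub)
    have hle2 := hΓ1 ((CfsgLib.Minimal.SmallTwo.fourOf ha2 hb2 hcomm).subgroupOf Γ)
      (isMulCommutative_iff.2 fun x y => Subtype.ext (Subtype.ext (h4.comm x.2 y.2)))
      (fun x hx => Subtype.ext (by rw [SubmonoidClass.coe_pow, pow_two]; exact h4.sq _ hx))
    rw [Nat.card_congr (Subgroup.subgroupOfEquivOfLe hFle).toEquiv, h4.card] at hle2
    omega
  · have := h0 (B.map (Subgroup.inclusion hle)) inferInstance (by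
      rintro _ ⟨x, hx, rfl⟩
      rw [← map_pow, hB2 x hx, map_one])
    rwa [Subgroup.card_map_of_injective (Subgroup.inclusion_injective hle)] at this

end Cfsg.Agent.S1915
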