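import Cfsg.Statements.S1921
import Cfsg.Agent.Lib.Cores.Components

set_option autoImplicit false
open Cfsg

namespace Cfsg.Agent.S1921

/-- Let a be an involution of a finite group H and L a component of H with a L a⁻¹ ≠ L; put M = ⟨L, aLa⁻¹⟩ and let J be the subgroup generated by the elements x · a x a⁻¹ with x ∈ L (the diagonal). Then every element of M outside J·Z(M) generates M together with J. -/
theorem result {H : Type*} [Group H] [Finite H] (a : H) (ha : orderOf a = 2) (L : Subgroup H) (hL : Cfsg.IsComponent L)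
    (hLa : L.map (MulAut.conj a).toMonoidHom ≠ L) (x : H) (hxM : x ∈ L ⊔ L.map (MulAut.conj a).toMonoidHom)
    (hxJ : x ∉ Subgroup.closure {y : H | ∃ l ∈ L, y = l * (a * l * a⁻¹)} ⊔
      ((L ⊔ L.map (MulAut.conj a).toMonoidHom) ⊓ Subgroup.centralizer ((L ⊔ L.map (MulAut.conj a).toMonoidHom : Subgroup H) : Set H))) :
    Subgroup.closure {y : H | ∃ l ∈ L, y = l * (a * l * a⁻¹)} ⊔ Subgroup.zpowers x = L ⊔ L.map (MulAut.conj a).toMonoidHom := by
  set L' := L.map (MulAut.conj a).toMonoidHom with hL'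
  have hL'c : Cfsg.IsComponent L' := CfsgLib.Cores.isComponent_map_equiv hL (MulAut.conj a)
  have hcomm : ∀ u ∈ L, ∀ v ∈ L', u * v = v * u := fun u hu v hv =>
    ((Subgroup.mem_centralizer_iff.mp
      (CfsgLib.Cores.le_centralizer_of_isComponent_ne hL hL'c (Ne.symm hLa) hu)) v hv).symm
  have ha' : ∀ u ∈ L, a * u * a⁻¹ ∈ L' := fun u hu => ⟨u, hu, rfl⟩
  have hnorm : L' ≤ Subgroup.normalizer (L : Set H) := fun v hv =>
    Subgroup.mem_normalizer_iff.mpr fun u => by
      constructor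
      · intro hu; rwa [← hcomm u hu v hv, mul_inv_cancel_right]
      · intro hu
        have := hcomm _ hu v⁻¹ (inv_mem hv)
        have h2 : u = v * u * v⁻¹ := by
          calc u = v⁻¹ * (v * u * v⁻¹) * v := by group
            _ = (v * u * v⁻¹) * v⁻¹ * v := by rw [this]
            _ = v * u * v⁻¹ := by group
        exact h2 ▸ hu
  set J : Subgroup H := Subgroup.closure {y : H | ∃ l ∈ L, y = l * (a * l * a⁻¹)}
  have hJ : ∀ u ∈ L, u * (a * u * a⁻¹) ∈ J := fun u hu => Subgroup.subset_closure ⟨u, hu, rfl⟩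
  have hJM : J ≤ L ⊔ L' := by
    rw [Subgroup.closure_le]
    rintro _ ⟨u, hu, rfl⟩
    exact mul_mem (Subgroup.mem_sup_left hu) (Subgroup.mem_sup_right (ha' u hu))
  set K := J ⊔ Subgroup.zpowers x
  refine le_antisymm (sup_le hJM (Subgroup.zpowers_le.mpr hxM)) ?_
  obtain ⟨l1, hl1, _, ⟨m, hm, rfl⟩, rfl⟩ : ∃ u ∈ L, ∃ v ∈ L', u * v = x := by
    have := Subgroup.coe_mul_of_right_le_normalizer_left L L' hnorm
    have hx' : x ∈ ((L ⊔ L' : Subgroup H) : Set H) := hxM
    rw [this] at hx'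
    simpa [Set.mem_mul] using hx'
  simp only [MulEquiv.coe_toMonoidHom, MulAut.conj_apply] at hxJ hxM ⊢
  have hl : l1 * m⁻¹ ∈ K := by
    have h1 : (l1 * (a * m * a⁻¹)) * (m * (a * m * a⁻¹))⁻¹ ∈ K :=
      mul_mem (Subgroup.mem_sup_right (Subgroup.mem_zpowers _)) (inv_mem (Subgroup.mem_sup_left (hJ m hm)))
    convert h1 using 1; group
  have hlL : l1 * m⁻¹ ∈ L := mul_mem hl1 (inv_mem hm)
  have hN : ((K ⊓ L).subgroupOf L).Normal := by
    constructor
    intro k hk u
    have hk' : (k : H) ∈ K ∧ (k : H) ∈ L := Subgroup.mem_subgroupOf.mp hk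
    refine Subgroup.mem_subgroupOf.mpr ⟨?_, (u * k * u⁻¹).2⟩
    have hj := hJ u u.2
    have h1 : (u : H) * (a * u * a⁻¹) * k * ((u : H) * (a * u * a⁻¹))⁻¹ ∈ K :=
      mul_mem (mul_mem (Subgroup.mem_sup_left hj) hk'.1) (inv_mem (Subgroup.mem_sup_left hj))
    suffices e : ((u * k * u⁻¹ : L) : H) = (u : H) * (a * u * a⁻¹) * k * ((u : H) * (a * u * a⁻¹))⁻¹ from e ▸ h1
    have h2 := hcomm _ hk'.2 _ (ha' u u.2)
    simp only [Subgroup.coe_mul, Subgroup.coe_inv]
    calc (u : H) * k * (u : H)⁻¹ = u * ((k : H) * (a * u * a⁻¹)) * (a * u * a⁻¹)⁻¹ * (u : H)⁻¹ := by group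
      _ = _ := by rw [h2]; group
  haveI := hN
  rcases CfsgLib.Cores.normal_eq_top_or_le_center hL.2 ((K ⊓ L).subgroupOf L) with h | h
  · have hLK : L ≤ K := fun u hu => by
      have : (⟨u, hu⟩ : L) ∈ (K ⊓ L).subgroupOf L := h ▸ Subgroup.mem_top _
      exact (Subgroup.mem_subgroupOf.mp this).1
    refine sup_le hLK ?_
    rintro _ ⟨u, hu, rfl⟩
    have := mul_mem (inv_mem (hLK hu)) ((Subgroup.mem_sup_left (hJ u hu) : _ ∈ K))
    simpa using this
  · exfalso
    apply hxJ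
    have hc := h (x := ⟨_, hlL⟩) (Subgroup.mem_subgroupOf.mpr ⟨hl, hlL⟩)
    have hz : l1 * m⁻¹ ∈ (L ⊔ L') ⊓ Subgroup.centralizer ((L ⊔ L' : Subgroup H) : Set H) := by
      refine ⟨Subgroup.mem_sup_left hlL, ?_⟩
      have : L ⊔ L' ≤ Subgroup.centralizer ({l1 * m⁻¹} : Set H) := by
        refine sup_le (fun u hu => ?_) (fun v hv => ?_)
        · have := congrArg (Subtype.val) (Subgroup.mem_center_iff.mp hc ⟨u, hu⟩)
          exact Subgroup.mem_centralizer_singleton_iff.mpr (by simpa using this)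
        · exact Subgroup.mem_centralizer_singleton_iff.mpr (hcomm _ hlL v hv).symm
      refine Subgroup.mem_centralizer_iff.mpr fun y hy => ?_
      exact Subgroup.mem_centralizer_singleton_iff.mp (this hy)
    have e : l1 * (a * m * a⁻¹) = (m * (a * m * a⁻¹)) * (l1 * m⁻¹) := by
      have h2 := hcomm _ hlL _ (ha' m hm)
      have h3 := congrArg Subtype.val (Subgroup.mem_center_iff.mp hc ⟨m, hm⟩)
      simp only [Subgroup.coe_mul] at h3
      calc l1 * (a * m * a⁻¹) = (l1 * m⁻¹) * m * (a * m * a⁻¹) := by group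
        _ = m * ((l1 * m⁻¹) * (a * m * a⁻¹)) := by rw [← h3]; group
        _ = _ := by rw [h2]; group
    rw [e]
    exact Subgroup.mul_mem_sup (hJ m hm) hz

end Cfsg.Agent.S1921
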