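import Cfsg.Statements.S1922

set_option autoImplicit false
open Cfsg

namespace Cfsg.Agent.S1922

open Subgroup Pointwise

variable {G : Type*} [Group G]

theorem mem_map_conj {H : Subgroup G} {g x : G} :
    x ∈ H.map (MulAut.conj g).toMonoidHom ↔ g⁻¹ * x * g ∈ H := by
  constructor
  · rintro ⟨y, hy, rfl⟩
    simpa [mul_assoc] using hy
  · intro h
    exact ⟨_, h, by simp [mul_assoc]⟩

theorem dihedral_conj {a b : G} (ha : a * a = 1) (hb : b * b = 1) (n : ℕ) :
    a * (a * b) ^ n * a = ((a * b) ^ n)⁻¹ := by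
  have h : a * (a * b) * a⁻¹ = (a * b)⁻¹ := by
    rw [mul_inv_rev, inv_eq_of_mul_eq_one_right ha, inv_eq_of_mul_eq_one_right hb, ← mul_assoc a a b,
      ha, one_mul]
  have := (conj_pow (a := a) (b := a * b) (i := n)).symm
  rw [h, inv_pow, inv_eq_of_mul_eq_one_right ha] at this
  exact this

theorem isConj_mul_pow {a b : G} (ha : a * a = 1) (hb : b * b = 1) (n : ℕ) :
    IsConj a (a * (a * b) ^ n) ∨ IsConj b (a * (a * b) ^ n) := by
  obtain ⟨j, rfl | rfl⟩ := Nat.even_or_odd' n
  · refine Or.inl (isConj_iff.2 ⟨((a * b) ^ j)⁻¹, ?_⟩)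
    have hd := dihedral_conj ha hb j
    rw [inv_inv, ← hd, two_mul, pow_add]
    calc a * (a * b) ^ j * a * a * (a * b) ^ j = a * (a * b) ^ j * (a * a) * (a * b) ^ j := by group
      _ = a * ((a * b) ^ j * (a * b) ^ j) := by rw [ha]; group
  · refine Or.inr (isConj_iff.2 ⟨((a * b) ^ j)⁻¹, ?_⟩)
    have hd := dihedral_conj ha hb j
    rw [inv_inv, ← hd, pow_succ', two_mul, pow_add]
    have hc : Commute (a * b) ((a * b) ^ j) := Commute.self_pow _ _
    calc a * (a * b) ^ j * a * b * (a * b) ^ j = a * ((a * b) ^ j * (a * b)) * (a * b) ^ j := by group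
      _ = a * ((a * b) * ((a * b) ^ j * (a * b) ^ j)) := by rw [← hc.eq]; group

theorem isPGroup_zpowers_two {z : G} (h : z * z = 1) : IsPGroup 2 (Subgroup.zpowers z) := by
  rintro ⟨x, k, rfl⟩
  refine ⟨1, Subtype.ext ?_⟩
  show (z ^ k) ^ (2 ^ 1) = 1
  rw [pow_one, ← zpow_natCast, ← zpow_mul, mul_comm, zpow_mul, zpow_natCast, pow_two, h, one_zpow]

theorem odd_card_of_pow_two_free [Finite G] {z : G} {H : Subgroup G} (hz2 : z * z = 1)
    (h0 : ∀ g : G, g⁻¹ * z * g ∈ H ↔ g ∈ H) : ¬ 2 ∣ H.index := by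
  haveI : Fact (Nat.Prime 2) := ⟨Nat.prime_two⟩
  have hp : IsPGroup 2 (Subgroup.zpowers z) := isPGroup_zpowers_two hz2
  have h := hp.card_modEq_card_fixedPoints (G ⧸ H)
  have hfix : MulAction.fixedPoints (Subgroup.zpowers z) (G ⧸ H) = {(QuotientGroup.mk 1 : G ⧸ H)} := by
    ext q
    induction q using QuotientGroup.induction_on with
    | _ g =>
      rw [MulAction.mem_fixedPoints, Set.mem_singleton_iff]
      constructor
      · intro hq
        have h1 : (QuotientGroup.mk (z * g) : G ⧸ H) = QuotientGroup.mk g :=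
          hq ⟨z, Subgroup.mem_zpowers z⟩
        have h2 := QuotientGroup.eq.1 h1.symm
        rw [← mul_assoc, h0] at h2
        exact QuotientGroup.eq.2 (by simpa using inv_mem h2)
      · intro hq
        have hg : g ∈ H := by simpa using inv_mem (QuotientGroup.eq.1 hq)
        rintro ⟨x, k, rfl⟩
        rw [QuotientGroup.eq.2 (show g⁻¹ * 1 ∈ H by simpa using inv_mem hg)]
        refine QuotientGroup.eq.2 ?_
        have hzH : z ∈ H := by simpa using (h0 1).2 (one_mem H)
        simpa using zpow_mem hzH k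
  rw [hfix, Nat.card_eq_fintype_card (α := ({(QuotientGroup.mk 1 : G ⧸ H)} : Set (G ⧸ H)))] at h
  simp only [Fintype.card_unique] at h
  rw [Subgroup.index_eq_card]
  intro hd
  have h' : Nat.card (G ⧸ H) % 2 = 1 := h
  omega

/-- The points of the conjugation action. -/
@[ext] structure ConjPt (G : Type*) where
  val : G

instance {G : Type*} [Group G] : SMul G (ConjPt G) := ⟨fun g x => ⟨g * x.val * g⁻¹⟩⟩

theorem conjPt_smul {G : Type*} [Group G] (g : G) (x : ConjPt G) : (g • x).val = g * x.val * g⁻¹ := rfl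

instance {G : Type*} [Group G] : MulAction G (ConjPt G) where
  one_smul x := ConjPt.ext (by simp [conjPt_smul])
  mul_smul a b x := ConjPt.ext (by simp [conjPt_smul, mul_assoc])

instance {G : Type*} [Finite G] : Finite (ConjPt G) :=
  Finite.of_injective ConjPt.val fun _ _ h => ConjPt.ext h


/-- Let z be an involution of a finite group G and H a proper subgroup such that z lies in gHg⁻¹ exactly when g ∈ H. Then the following are equivalent: (1) for every conjugate t ≠ z of z commuting with z, the product zt lies in gHg⁻¹ exactly when g ∈ H; (2) z lies in the centre of some Sylow 2-subgroup of G, and for every conjugate t ≠ z of z commuting with z, the centralizer of zt is contained in H. -/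
theorem result {G : Type*} [Group G] [Finite G] (z : G) (hz : orderOf z = 2) (H : Subgroup G) (hH : H ≠ ⊤)
    (h0 : ∀ g : G, z ∈ H.map (MulAut.conj g).toMonoidHom ↔ g ∈ H) :
    (∀ t : G, IsConj z t → t ≠ z → t * z = z * t → ∀ g : G, z * t ∈ H.map (MulAut.conj g).toMonoidHom ↔ g ∈ H) ↔
      ((∃ P : Sylow 2 G, z ∈ (Subgroup.center ↥(P : Subgroup G)).map (P : Subgroup G).subtype) ∧
        ∀ t : G, IsConj z t → t ≠ z → t * z = z * t → Subgroup.centralizer ({z * t} : Set G) ≤ H) := by
  classical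
  haveI : Fact (Nat.Prime 2) := ⟨Nat.prime_two⟩
  have hz2 : z * z = 1 := by rw [← pow_two, ← hz, pow_orderOf_eq_one]
  have h0' : ∀ g : G, g⁻¹ * z * g ∈ H ↔ g ∈ H := fun g => mem_map_conj.symm.trans (h0 g)
  have hzH : z ∈ H := by simpa using (h0' 1).2 (one_mem H)
  have hCz : ∀ g : G, g * z = z * g → g ∈ H := fun g hg =>
    (h0' g).1 (by rwa [mul_assoc, ← hg, inv_mul_cancel_left])
  constructor
  · intro h1
    refine ⟨?_, fun t ht htz htc g hg => ?_⟩
    swap
    · refine (h1 t ht htz htc g).1 (mem_map_conj.2 ?_)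
      have hg' : g * (z * t) = z * t * g := (Subgroup.mem_centralizer_singleton_iff.1 hg)
      rw [mul_assoc, ← hg', inv_mul_cancel_left]
      exact mul_mem hzH (hCz t htc)
    -- conjugates of `z` at distinct points have product of odd order
    have hodd : ∀ g : G, g ∉ H → ¬ 2 ∣ orderOf (z * (g * z * g⁻¹)) := by
      rintro g hg ⟨k, hk⟩
      set z2 := g * z * g⁻¹ with hz2d
      have hb : z2 * z2 = 1 := by
        rw [hz2d, show g * z * g⁻¹ * (g * z * g⁻¹) = g * (z * z) * g⁻¹ by group, hz2]; group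
      set e := (z * z2) ^ k with he
      have hpos := orderOf_pos (z * z2)
      have he1 : e ≠ 1 := pow_ne_one_of_lt_orderOf (by omega) (by omega)
      have hee : e⁻¹ = e := inv_eq_of_mul_eq_one_right (by
        rw [he, ← pow_add, ← two_mul, ← hk, pow_orderOf_eq_one])
      have hze : z * e = e * z := by
        have := dihedral_conj hz2 hb k
        rw [← he, hee] at this
        calc z * e = z * e * (z * z) := by rw [hz2, mul_one]
          _ = z * e * z * z := by group
          _ = e * z := by rw [this]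
      have hz2e : z2 * e = e * z2 := by
        have hc : Commute (z * z2) e := Commute.self_pow _ _
        calc z2 * e = z * (z * z2 * e) := by rw [← mul_assoc z, ← mul_assoc z, hz2, one_mul]
          _ = z * (e * (z * z2)) := by rw [hc.eq]
          _ = z * e * z * z2 := by group
          _ = e * z2 := by rw [hze, mul_assoc e z z, hz2, mul_one]
      have hconjt : IsConj z (z * e) := by
        rcases isConj_mul_pow hz2 hb k with h | h
        · exact h
        · exact (isConj_iff.2 ⟨g, hz2d.symm⟩).trans h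
      have ht : z * (z * e) = e := by rw [← mul_assoc, hz2, one_mul]
      refine hg ((h1 (z * e) hconjt (fun h => he1 (by simpa using h)) ?_ g).1 ?_)
      · rw [mul_assoc, ← hze]
      · rw [ht, mem_map_conj]
        refine hCz _ ?_
        calc g⁻¹ * e * g * z = g⁻¹ * (e * z2) * g := by rw [hz2d]; group
          _ = g⁻¹ * (z2 * e) * g := by rw [hz2e]
          _ = z * (g⁻¹ * e * g) := by rw [hz2d]; group
    -- an involution interchanging two points
    have hswap : ∀ g : G, g ∉ H → ∃ i, IsConj z i ∧ i * i = 1 ∧ g⁻¹ * i ∈ H ∧ i * z * i⁻¹ = g * z * g⁻¹ := by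
      intro g hg
      set z2 := g * z * g⁻¹ with hz2d
      have hb : z2 * z2 = 1 := by
        rw [hz2d, show g * z * g⁻¹ * (g * z * g⁻¹) = g * (z * z) * g⁻¹ by group, hz2]; group
      obtain ⟨k, hk⟩ : ∃ k, orderOf (z * z2) = 2 * k + 1 := ⟨orderOf (z * z2) / 2, by
        have h2 := hodd g hg; rw [← hz2d] at h2; omega⟩
      set y := (z * z2) ^ k with hy
      set y' := (z * z2) ^ (k * (k + 1)) with hy'
      have hd := dihedral_conj hz2 hb k
      have hd' := dihedral_conj hz2 hb (k * (k + 1))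
      rw [← hy] at hd
      rw [← hy'] at hd'
      have hy2 : y' * y' = y := by
        rw [hy', hy, ← pow_add, show k * (k + 1) + k * (k + 1) = (2 * k + 1) * k + k by ring,
          pow_add, pow_mul, ← hk, pow_orderOf_eq_one, one_pow, one_mul]
      have hzy : y * z = z * y⁻¹ := by
        rw [← hd, ← mul_assoc, ← mul_assoc, hz2, one_mul]
      have hi2 : y * z * (y * z) = 1 := by
        calc y * z * (y * z) = y * (z * y * z) := by group
          _ = 1 := by rw [hd, mul_inv_cancel]
      have hiz : y * z * z * (y * z)⁻¹ = z2 := by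
        have e1 : y * (y * (z * z2)) = 1 := by
          rw [hy, ← pow_succ, ← pow_add, show k + (k + 1) = 2 * k + 1 by ring, ← hk, pow_orderOf_eq_one]
        calc y * z * z * (y * z)⁻¹ = y * z * y⁻¹ := by
              rw [mul_assoc y z z, hz2, mul_one, mul_inv_rev, inv_eq_of_mul_eq_one_right hz2]; group
          _ = z * (y⁻¹ * y⁻¹) := by rw [hzy]; group
          _ = z * (z * z2) := by
              congr 1
              calc y⁻¹ * y⁻¹ = y⁻¹ * y⁻¹ * (y * (y * (z * z2))) := by rw [e1, mul_one]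
                _ = z * z2 := by group
          _ = z2 := by rw [← mul_assoc, hz2, one_mul]
      refine ⟨y * z, isConj_iff.2 ⟨y', ?_⟩, hi2, hCz _ ?_, hiz⟩
      · rw [← hy2, ← hd']
        calc y' * z * (z * y' * z) = y' * (z * z) * y' * z := by group
          _ = y' * y' * z := by rw [hz2, mul_one]
      · calc g⁻¹ * (y * z) * z = g⁻¹ * (y * z * z * (y * z)⁻¹) * (y * z) := by group
          _ = z * (g⁻¹ * (y * z)) := by rw [hiz, hz2d]; group
    -- two-point stabilisers
    let D : G → Subgroup G := fun g => H ⊓ H.map (MulAut.conj g).toMonoidHom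
    have hDmem : ∀ g x, x ∈ D g ↔ x ∈ H ∧ g⁻¹ * x * g ∈ H := fun g x =>
      and_congr Iff.rfl mem_map_conj
    have htrans : ∀ g : G, g ∉ H → ∀ h ∈ H, ∃ d ∈ D g, d * (g * z * g⁻¹) * d⁻¹ = g * h * z * h⁻¹ * g⁻¹ := by
      intro g hg h hh
      obtain ⟨i, -, hi, hiH, hiz⟩ := hswap g hg
      have hgh : g * h ∉ H := fun hc => hg ((H.mul_mem_cancel_right hh).1 hc)
      obtain ⟨j, -, hj, hjH, hjz⟩ := hswap (g * h) hgh
      have hjH' : g⁻¹ * j ∈ H := by
        have := mul_mem hh hjH
        simpa [mul_assoc] using this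
      refine ⟨j * i, (hDmem _ _).2 ⟨?_, ?_⟩, ?_⟩
      · have := mul_mem (inv_mem hjH') hiH
        rw [show (g⁻¹ * j)⁻¹ * (g⁻¹ * i) = j⁻¹ * i by group, inv_eq_of_mul_eq_one_right hj] at this
        exact this
      · have := mul_mem hjH' (inv_mem hiH)
        rw [show g⁻¹ * j * (g⁻¹ * i)⁻¹ = g⁻¹ * j * i⁻¹ * g by group, inv_eq_of_mul_eq_one_right hi] at this
        rwa [← mul_assoc g⁻¹]
      · rw [← hiz, show g * h * z * h⁻¹ * g⁻¹ = g * h * z * (g * h)⁻¹ by group, ← hjz]
        calc j * i * (i * z * i⁻¹) * (j * i)⁻¹ = j * (i * i) * z * (i * i)⁻¹ * j⁻¹ := by group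
          _ = j * z * j⁻¹ := by rw [hi]; group
    by_contra hcent
    have hHodd : ¬ 2 ∣ H.index := odd_card_of_pow_two_free hz2 h0'
    have hCle : Subgroup.centralizer ({z} : Set G) ≤ H := fun x hx =>
      hCz x (Subgroup.mem_centralizer_singleton_iff.1 hx)
    have heven : 2 ∣ (Subgroup.centralizer ({z} : Set G)).relIndex H := by
      by_contra hne
      refine hcent ?_
      have hci : ¬ 2 ∣ (Subgroup.centralizer ({z} : Set G)).index := by
        rw [← Subgroup.relIndex_mul_index hCle]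
        exact fun hd => (Nat.prime_two.dvd_mul.1 hd).elim hne hHodd
      obtain ⟨Q⟩ := (inferInstance : Nonempty (Sylow 2 (Subgroup.centralizer ({z} : Set G))))
      set P0 := (Q : Subgroup _).map (Subgroup.centralizer ({z} : Set G)).subtype with hP0
      have hP0i : ¬ 2 ∣ P0.index := by
        rw [hP0, Subgroup.index_map_subtype]
        exact fun hd => (Nat.prime_two.dvd_mul.1 hd).elim Q.not_dvd_index hci
      let P : Sylow 2 G := (Q.2.map _ : IsPGroup 2 P0).toSylow hP0i
      have hPc : ∀ x ∈ (P : Subgroup G), x * z = z * x := by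
        intro x hx
        exact Subgroup.mem_centralizer_singleton_iff.1 (Subgroup.map_subtype_le _ hx)
      have hzP : z ∈ (P : Subgroup G) := by
        have hn : z ∈ Subgroup.normalizer ((P : Subgroup G) : Set G) := by
          rw [Subgroup.mem_normalizer_iff]
          intro x
          constructor
          · intro hx
            rw [← hPc x hx, mul_inv_cancel_right]; exact hx
          · intro hx
            have := hPc _ hx
            rw [mul_assoc, inv_mul_cancel, mul_one] at this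
            have hcomm : x * z = z * x := by
              calc x * z = z⁻¹ * (z * x) * z := by group
                _ = z⁻¹ * (z * (z * x * z⁻¹)) * z := by rw [← this]
                _ = z * x := by group
            rwa [← hcomm, mul_inv_cancel_right] at hx
        have hp : IsPGroup 2 ↥((P : Subgroup G) ⊔ Subgroup.zpowers z) := by
          exact P.2.to_sup_of_normal_left' (isPGroup_zpowers_two hz2) (Subgroup.zpowers_le.2 hn)
        rw [← P.3 hp le_sup_left]
        exact Subgroup.mem_sup_right (Subgroup.mem_zpowers z)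
      exact ⟨P, ⟨⟨z, hzP⟩, Subgroup.mem_center_iff.2 fun x => Subtype.ext (hPc x x.2), rfl⟩⟩
    obtain ⟨g0, hg0⟩ : ∃ g, g ∉ H := by
      by_contra hall
      push_neg at hall
      exact hH ((Subgroup.eq_top_iff' H).2 hall)
    obtain ⟨R0, ⟨hR0p, g, hg, hR0D⟩, hmax⟩ := Set.Finite.exists_maximalFor (fun R : Subgroup G => Nat.card R)
      {R : Subgroup G | IsPGroup 2 R ∧ ∃ g, g ∉ H ∧ R ≤ D g} (Set.toFinite _)
      ⟨⊥, IsPGroup.of_bot, g0, hg0, bot_le⟩
    obtain ⟨i, hiconj, hi, hiH, -⟩ := hswap g hg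
    have hiDg : ∀ x ∈ D g, i * x * i⁻¹ ∈ D g := by
      intro x hx
      rw [hDmem] at hx ⊢
      constructor
      · have h := mul_mem (mul_mem (inv_mem hiH) hx.2) hiH
        rw [show (g⁻¹ * i)⁻¹ * (g⁻¹ * x * g) * (g⁻¹ * i) = i⁻¹ * x * i by group,
          inv_eq_of_mul_eq_one_right hi] at h
        rwa [inv_eq_of_mul_eq_one_right hi]
      · have := mul_mem (mul_mem hiH hx.1) (inv_mem hiH)
        rwa [show g⁻¹ * i * x * (g⁻¹ * i)⁻¹ = g⁻¹ * (i * x * i⁻¹) * g by group] at this
    -- an `i`-invariant Sylow subgroup of the two-point stabiliser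
    set N := Subgroup.normalizer ((D g : Subgroup G) : Set G) with hN
    have hiN : i ∈ N := by
      rw [hN, Subgroup.mem_normalizer_iff]
      refine fun x => ⟨hiDg x, fun hx => ?_⟩
      have := hiDg _ hx
      rwa [show i * (i * x * i⁻¹) * i⁻¹ = (i * i) * x * (i * i)⁻¹ by group, hi, one_mul, inv_one,
        mul_one] at this
    obtain ⟨R, hRp, hRD, hRi, hRinv⟩ : ∃ R : Subgroup G, IsPGroup 2 R ∧ R ≤ D g ∧
        ¬ 2 ∣ R.relIndex (D g) ∧ ∀ x ∈ R, i * x * i⁻¹ ∈ R := by
      haveI hDn : ((D g).subgroupOf N).Normal := Subgroup.normal_in_normalizer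
      obtain ⟨Q, hQ⟩ := IsPGroup.exists_le_sylow (p := 2)
        (isPGroup_zpowers_two (show (⟨i, hiN⟩ : N) * ⟨i, hiN⟩ = 1 from Subtype.ext hi))
      refine ⟨((Q : Subgroup N) ⊓ (D g).subgroupOf N).map N.subtype,
        (Q.2.to_le inf_le_left).map _, ?_, ?_, ?_⟩
      · rintro _ ⟨x, hx, rfl⟩; exact hx.2
      · have hle : (D g) ≤ N := Subgroup.le_normalizer
        have e : ((Q : Subgroup N) ⊓ (D g).subgroupOf N).relIndex ((D g).subgroupOf N) =
            (((Q : Subgroup N) ⊓ (D g).subgroupOf N).map N.subtype).relIndex (D g) := by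
          have h5 := Subgroup.relIndex_map_map_of_injective ((Q : Subgroup N) ⊓ (D g).subgroupOf N)
            ((D g).subgroupOf N) (Subgroup.subtype_injective N)
          rw [Subgroup.map_subgroupOf_eq_of_le hle] at h5
          exact h5.symm
        rw [← e, Subgroup.inf_relIndex_right]
        intro hd
        set D' := (D g).subgroupOf N
        have f1 : D'.relIndex ((Q : Subgroup N) ⊔ D') = D'.relIndex (Q : Subgroup N) := Subgroup.relIndex_sup_right _ _
        have f2 := Subgroup.relIndex_mul_relIndex ⊥ D' ((Q : Subgroup N) ⊔ D') bot_le le_sup_right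
        have f3 := Subgroup.relIndex_mul_relIndex ⊥ (Q : Subgroup N) ((Q : Subgroup N) ⊔ D') bot_le le_sup_left
        have f4 := Subgroup.relIndex_mul_relIndex ⊥ (D' ⊓ (Q : Subgroup N)) (Q : Subgroup N) bot_le inf_le_right
        have f5 := Subgroup.relIndex_mul_relIndex ⊥ ((Q : Subgroup N) ⊓ D') D' bot_le inf_le_right
        rw [Subgroup.inf_relIndex_right] at f4 f5
        simp only [Subgroup.relIndex_bot_left] at f2 f3 f4 f5
        rw [f1, ← f5] at f2
        rw [← f4, ← f2, inf_comm D'] at f3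
        have hb : (Q : Subgroup N).relIndex ((Q : Subgroup N) ⊔ D') = (Q : Subgroup N).relIndex D' := by
          have hp1 : 0 < Nat.card ↥((Q : Subgroup N) ⊓ D') * D'.relIndex (Q : Subgroup N) :=
            Nat.mul_pos Nat.card_pos (Nat.pos_of_ne_zero Subgroup.index_ne_zero_of_finite)
          refine Nat.eq_of_mul_eq_mul_left hp1 ?_
          rw [f3]; ring
        refine Q.not_dvd_index (hd.trans ?_)
        rw [← hb, ← Subgroup.relIndex_mul_index (le_sup_left : (Q : Subgroup N) ≤ (Q : Subgroup N) ⊔ D')]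
        exact Dvd.intro _ rfl
      · rintro _ ⟨x, hx, rfl⟩
        exact ⟨⟨i, hiN⟩ * x * ⟨i, hiN⟩⁻¹, ⟨Subgroup.mul_mem _ (Subgroup.mul_mem _ (hQ (Subgroup.mem_zpowers _)) hx.1)
          (Subgroup.inv_mem _ (hQ (Subgroup.mem_zpowers _))), hDn.conj_mem _ hx.2 _⟩, rfl⟩
    have hcard : ∀ g' , g' ∉ H → ∀ S : Subgroup G, IsPGroup 2 S → S ≤ D g' → Nat.card S ≤ Nat.card R := by
      intro g' hg' S hS hSD
      have hRR : Nat.card R0 ≤ Nat.card R := by
        let Q : Sylow 2 (D g) := (hRp.of_equiv (Subgroup.subgroupOfEquivOfLe hRD).symm).toSylow hRi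
        obtain ⟨Q', hQ'⟩ := (hR0p.of_equiv (Subgroup.subgroupOfEquivOfLe hR0D).symm).exists_le_sylow
        calc Nat.card R0 = Nat.card (R0.subgroupOf (D g)) :=
              (Nat.card_congr (Subgroup.subgroupOfEquivOfLe hR0D).toEquiv).symm
          _ ≤ Nat.card Q' := Subgroup.card_le_of_le hQ'
          _ = Nat.card Q := by rw [Q'.card_eq_multiplicity, Q.card_eq_multiplicity]
          _ = Nat.card R := Nat.card_congr (Subgroup.subgroupOfEquivOfLe hRD).toEquiv
      by_contra hlt
      push_neg at hlt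
      have := hmax ⟨hS, g', hg', hSD⟩ (by show Nat.card R0 ≤ Nat.card S; omega)
      simp only at this
      omega
    obtain ⟨g1, hg1i⟩ := isConj_iff.1 hiconj
    have hiH' : i ∉ H := fun hc => hg (by
      have := mul_mem hiH (inv_mem hc)
      simpa [mul_assoc] using inv_mem this)
    have hg1 : g1 ∉ H := fun hc => hiH' (hg1i ▸ mul_mem (mul_mem hc hzH) (inv_mem hc))
    have hRc : ∃ r ∈ R, r * i * r⁻¹ ≠ i := by
      by_contra hall
      push_neg at hall
      have hRD1 : R ≤ D g1 := fun r hr => (hDmem _ _).2 ⟨((hDmem _ _).1 (hRD hr)).1, hCz _ (by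
        have h := hall r hr
        rw [← hg1i] at h
        calc g1⁻¹ * r * g1 * z = g1⁻¹ * (r * (g1 * z * g1⁻¹) * r⁻¹) * r * g1 := by group
          _ = z * (g1⁻¹ * r * g1) := by rw [h]; group)⟩
      obtain ⟨S, hS⟩ := IsPGroup.exists_le_sylow (hRp.of_equiv (Subgroup.subgroupOfEquivOfLe hRD1).symm)
      have hSR : Nat.card (S : Subgroup (D g1)) ≤ Nat.card (R.subgroupOf (D g1)) := by
        rw [Nat.card_congr (Subgroup.subgroupOfEquivOfLe hRD1).toEquiv,
          ← Subgroup.card_map_of_injective (f := (D g1).subtype) Subtype.val_injective]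
        exact hcard g1 hg1 _ (S.2.map _) (Subgroup.map_subtype_le _)
      have hSeq := Subgroup.eq_of_le_of_card_ge hS hSR
      have hstab : R.subgroupOf (D g1) ≤ MulAction.stabilizer (D g1) (ConjPt.mk i) := fun r hr => by
        rw [MulAction.mem_stabilizer_iff]
        exact ConjPt.ext (hall r (Subgroup.mem_subgroupOf.1 hr))
      have hodd' : ¬ 2 ∣ (MulAction.stabilizer (D g1) (ConjPt.mk i)).index := fun hd =>
        S.not_dvd_index (hSeq ▸ hd.trans (Subgroup.index_dvd_of_le hstab))
      rw [MulAction.index_stabilizer] at hodd'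
      have horb : MulAction.orbit (D g1) (ConjPt.mk i) =
          (fun x : ConjPt G => g1 • x) '' MulAction.orbit H (ConjPt.mk z) := by
        ext x
        constructor
        · rintro ⟨d, rfl⟩
          refine ⟨(⟨g1⁻¹ * d * g1, ((hDmem _ _).1 d.2).2⟩ : H) • ConjPt.mk z, MulAction.mem_orbit _ _,
            ConjPt.ext ?_⟩
          show g1 * (g1⁻¹ * d * g1 * z * (g1⁻¹ * d * g1)⁻¹) * g1⁻¹ = d * i * (d : G)⁻¹
          rw [← hg1i]; group
        · rintro ⟨_, ⟨h, rfl⟩, rfl⟩
          obtain ⟨d, hd, hd'⟩ := htrans g1 hg1 h h.2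
          refine ⟨⟨d, hd⟩, ConjPt.ext ?_⟩
          show d * i * d⁻¹ = g1 * ((h : G) * z * (h : G)⁻¹) * g1⁻¹
          rw [← hg1i, hd']; group
      rw [horb, Set.ncard_image_of_injective _ (MulAction.injective g1), ← MulAction.index_stabilizer] at hodd'
      refine hodd' ?_
      have : MulAction.stabilizer H (ConjPt.mk z) = (Subgroup.centralizer ({z} : Set G)).subgroupOf H := by
        ext h
        rw [MulAction.mem_stabilizer_iff, Subgroup.mem_subgroupOf, Subgroup.mem_centralizer_singleton_iff,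
          ConjPt.ext_iff]
        show (h : G) * z * (h : G)⁻¹ = z ↔ _
        rw [mul_inv_eq_iff_eq_mul]
      rw [this]; exact heven
    obtain ⟨r0, hr0, hr0i⟩ := hRc
    haveI : Fintype (MulAction.orbit R (ConjPt.mk i)) := Fintype.ofFinite _
    let σ : MulAction.orbit R (ConjPt.mk i) → MulAction.orbit R (ConjPt.mk i) := fun q => ⟨i • q.1, by
      obtain ⟨r, hr⟩ := q.2
      refine ⟨⟨i * r * i⁻¹, hRinv r r.2⟩, ConjPt.ext ?_⟩
      rw [← hr]
      show i * r * i⁻¹ * i * (i * r * i⁻¹)⁻¹ = i * ((r : G) * i * (r : G)⁻¹) * i⁻¹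
      group⟩
    obtain ⟨n, hn⟩ := hRp.card_orbit (ConjPt.mk i)
    have hn0 : n ≠ 0 := by
      intro h
      rw [h, pow_zero, Nat.card_eq_one_iff_unique] at hn
      exact hr0i (congrArg (fun q => q.1.val) (hn.1.elim
        ⟨(⟨r0, hr0⟩ : R) • ConjPt.mk i, MulAction.mem_orbit _ _⟩ ⟨_, MulAction.mem_orbit_self (ConjPt.mk i)⟩))
    obtain ⟨q', hqfix, hqne⟩ : ∃ q, σ q = q ∧ q.1.val ≠ i := by
      have hinv : Function.Involutive σ := fun q => Subtype.ext (by
        show i • i • q.1 = q.1
        rw [← mul_smul, hi, one_smul])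
      let e : Equiv.Perm (MulAction.orbit R (ConjPt.mk i)) := hinv.toPerm σ
      have he : e ⟨_, MulAction.mem_orbit_self (ConjPt.mk i)⟩ = ⟨_, MulAction.mem_orbit_self (ConjPt.mk i)⟩ :=
        Subtype.ext (ConjPt.ext (by show i * i * i⁻¹ = i; group))
      obtain ⟨q, hq, hqne⟩ := Equiv.Perm.exists_fixed_point_of_prime' (p := 2) (n := 1) (σ := e)
        (by rw [← Nat.card_eq_fintype_card, hn]; exact dvd_pow_self 2 hn0)
        (by rw [pow_one, pow_two]; exact Equiv.ext fun x => hinv x) he
      exact ⟨q, hq, fun h => hqne (Subtype.ext (ConjPt.ext h))⟩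
    obtain ⟨r, hr⟩ := q'.2
    obtain ⟨q, hqq⟩ : ∃ q, q = q'.1.val := ⟨_, rfl⟩
    rw [← hqq] at hqne
    have hr : (r : G) * i * (r : G)⁻¹ = q := hqq ▸ congrArg ConjPt.val hr
    have hqi : i * q = q * i := by
      have := congrArg (fun q => q.1.val) hqfix
      change i * q'.1.val * i⁻¹ = q'.1.val at this
      rw [← hqq] at this
      exact mul_inv_eq_iff_eq_mul.1 this
    have hqR : i * (q : G) ∈ R := by
      have h := R.mul_mem (hRinv r r.2) (R.inv_mem r.2)
      rw [inv_eq_of_mul_eq_one_right hi] at h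
      rw [← hr]
      simpa [mul_assoc] using h
    have hqc : IsConj z (g1⁻¹ * q * g1) := by
      refine isConj_iff.2 ⟨g1⁻¹ * r * g1, ?_⟩
      rw [← hr]
      rw [← hg1i]; group
    refine hg1 (inv_mem_iff.1 ((h1 _ hqc ?_ ?_ g1⁻¹).1 ?_))
    · intro h
      refine hqne ?_
      rw [← hg1i]
      calc (q : G) = g1 * (g1⁻¹ * q * g1) * g1⁻¹ := by group
        _ = _ := by rw [h]
    · calc g1⁻¹ * q * g1 * z = g1⁻¹ * (q * i) * g1 := by rw [← hg1i]; group
        _ = z * (g1⁻¹ * q * g1) := by rw [← hqi, ← hg1i]; group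
    · rw [mem_map_conj, inv_inv]
      have e : g1 * (z * (g1⁻¹ * q * g1)) * g1⁻¹ = i * q := by rw [← hg1i]; group
      rw [e]
      exact ((hDmem _ _).1 (hRD hqR)).1
  · rintro ⟨⟨P, ⟨⟨z', hz'⟩, hzc, hzz⟩⟩, hC⟩ t ht htz htc g
    change z' = z at hzz
    subst hzz
    have hzt : z' * t ∈ H := mul_mem hzH (hCz t htc)
    constructor
    swap
    · intro hg
      rw [mem_map_conj]
      exact mul_mem (mul_mem (inv_mem hg) hzt) hg
    intro hmem
    rw [mem_map_conj] at hmem
    set u := g⁻¹ * (z' * t) * g with hu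
    have ht2 : t * t = 1 := by
      obtain ⟨c, rfl⟩ := isConj_iff.1 ht
      calc c * z' * c⁻¹ * (c * z' * c⁻¹) = c * (z' * z') * c⁻¹ := by group
        _ = 1 := by
          have : z' * z' = 1 := hz2
          rw [this]; group
    have hu2 : u * u = 1 := by
      have hw : z' * t * (z' * t) = 1 := by
        calc z' * t * (z' * t) = z' * (t * z') * t := by group
          _ = 1 := by
            rw [show t * z' = z' * t from htc, ← mul_assoc z', show z' * z' = 1 from hz2, one_mul, ht2]
      calc u * u = g⁻¹ * (z' * t * (z' * t)) * g := by rw [hu]; group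
        _ = 1 := by rw [hw]; group
    have hPH : (P : Subgroup G) ≤ H := fun x hx => hCz x
      (congrArg Subtype.val (Subgroup.mem_center_iff.1 hzc ⟨x, hx⟩))
    obtain ⟨Q, hQ⟩ := IsPGroup.exists_le_sylow (p := 2)
      (isPGroup_zpowers_two (show (⟨u, hmem⟩ : H) * ⟨u, hmem⟩ = 1 from Subtype.ext hu2))
    obtain ⟨h, hh⟩ := MulAction.exists_smul_eq H (P.subtype hPH) Q
    have huQ := hQ (Subgroup.mem_zpowers (⟨u, hmem⟩ : H))
    rw [← hh] at huQ
    change (⟨u, hmem⟩ : H) ∈ MulAut.conj h • (P.subtype hPH : Subgroup H) at huQ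
    rw [Subgroup.mem_pointwise_smul_iff_inv_smul_mem] at huQ
    have huP : (h : G)⁻¹ * u * h ∈ (P : Subgroup G) := by
      simpa [Sylow.coe_subtype, Subgroup.mem_subgroupOf, mul_assoc] using huQ
    have hcomm : z' * ((h : G)⁻¹ * u * h) = (h : G)⁻¹ * u * h * z' :=
      (congrArg Subtype.val (Subgroup.mem_center_iff.1 hzc ⟨_, huP⟩)).symm
    have hC' : g * ((h : G) * z' * (h : G)⁻¹) * g⁻¹ ∈ H := by
      refine hC t ht htz htc (Subgroup.mem_centralizer_singleton_iff.2 ?_)
      have e : z' * t = g * (h : G) * ((h : G)⁻¹ * u * h) * (h : G)⁻¹ * g⁻¹ := by rw [hu]; group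
      rw [e]
      calc g * ((h : G) * z' * (h : G)⁻¹) * g⁻¹ * (g * (h : G) * ((h : G)⁻¹ * u * h) * (h : G)⁻¹ * g⁻¹)
          = g * (h : G) * (z' * ((h : G)⁻¹ * u * h)) * (h : G)⁻¹ * g⁻¹ := by group
        _ = _ := by rw [hcomm]; group
    have := (h0' (g * (h : G))⁻¹).1 (by
      rw [inv_inv, show g * (h : G) * z' * (g * (h : G))⁻¹ = g * ((h : G) * z' * (h : G)⁻¹) * g⁻¹ by group]
      exact hC')
    exact (H.mul_mem_cancel_right h.2).1 (inv_mem_iff.1 this)

end Cfsg.Agent.S1922
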