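import Cfsg.Statements.S2061
import Cfsg.Agent.Lib.OutMathieu.Outer
import Cfsg.Agent.Lib.OutMathieu.CertM12

set_option autoImplicit false
open Cfsg CfsgLib.OutMathieu CfsgLib.Golay
open scoped Pointwise
set_option maxRecDepth 100000

namespace Cfsg.Agent.S2061

/-- The outer automorphism group of the Mathieu group M₁₂ (the stabiliser of a dodecad in the automorphism group of the length-24 binary code) has order 2. -/
theorem result : Nat.card (Cfsg.Out ↥Cfsg.Spor.M12) = 2 := by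
  haveI : Fact (Nat.Prime certM12.p) := ⟨show Nat.Prime 11 by norm_num⟩
  have hD : unmask dodMask ∈ dodecads := dodMask_mem
  obtain ⟨n, hn, hn24⟩ : ∃ n, n = dodMask ^^^ fullMask ∧ n < 2 ^ 24 := ⟨_, rfl, by decide +kernel⟩
  have hc : unmask n ∈ dodecads := by
    rw [mem_dodecads_iff]
    exact ⟨n, inCode_iff.1 (by subst hn; decide +kernel), by subst hn; decide +kernel, rfl⟩
  obtain ⟨⟨h, hh⟩, hhD'⟩ := dodecad_transitive hD hc
  have hhD : h • unmask dodMask = unmask n := hhD'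
  have hmem : ∀ x : Equiv.Perm Cfsg.GolayPt, x ∈ Cfsg.Spor.M12 ↔
      x ∈ Cfsg.M24 ∧ x • unmask n = unmask n := by
    intro x
    rw [M12_eq_stabK, mem_stabK, hn, unmask_compl]
    have hcompl : ∀ s : Finset Cfsg.GolayPt, x • sᶜ = (x • s)ᶜ := fun s => by
      ext p
      simp [← Finset.inv_smul_mem_iff]
    simp [hcompl, compl_inj_iff]
  have hmem' : ∀ x : Equiv.Perm Cfsg.GolayPt, x ∈ Cfsg.Spor.M12 ↔
      x ∈ Cfsg.M24 ∧ x • unmask dodMask = unmask dodMask := by
    intro x; rw [M12_eq_stabK, mem_stabK]; simp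
  have h1 : ∀ x ∈ Cfsg.Spor.M12, h * x * h⁻¹ ∈ Cfsg.Spor.M12 := fun x hx => by
    refine (hmem _).2 ⟨mul_mem (mul_mem hh ((hmem' x).1 hx).1) (inv_mem hh), ?_⟩
    rw [← hhD, mul_smul, mul_smul, inv_smul_smul, ((hmem' x).1 hx).2]
  have h2 : ∀ x ∈ Cfsg.Spor.M12, h⁻¹ * x * h ∈ Cfsg.Spor.M12 := fun x hx => by
    refine (hmem' _).2 ⟨mul_mem (mul_mem (inv_mem hh) ((hmem x).1 hx).1) hh, ?_⟩
    rw [mul_smul, mul_smul, hhD, ((hmem x).1 hx).2, ← hhD, inv_smul_smul]
  refine Cert.natCard_out_eq_two certM12_valid M12_eq_stabK ?_ (θ := conjOn _ h h1 h2) ?_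
  · rw [M12_eq_stabK, card_stabK_dodecad]
    decide +kernel
  · refine conjOn_not_inner (S := dodMask) M12_eq_stabK (Or.inr rfl) (by simp) (by simp) hh ?_ h1 h2
    rw [hhD]
    intro e
    have := unmask_injOn hn24 (by decide +kernel) e
    subst hn
    revert this
    decide +kernel

end Cfsg.Agent.S2061
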