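import Cfsg.Statements.S2063
import Cfsg.Agent.Lib.OutMathieu.Outer
import Cfsg.Agent.Lib.OutMathieu.CertM23

set_option autoImplicit false
open Cfsg CfsgLib.OutMathieu CfsgLib.Golay

namespace Cfsg.Agent.S2063

/-- The outer automorphism group of the Mathieu group M₂₃ (the stabiliser of a point in the automorphism group of the length-24 binary code) is trivial: every automorphism is inner. -/
theorem result : Nat.card (Cfsg.Out ↥Cfsg.Spor.M23) = 1 := by
  haveI : Fact (Nat.Prime certM23.p) := ⟨show Nat.Prime 23 by norm_num⟩
  refine Cert.natCard_out_eq_one certM23_valid certM23_noInv M23_eq_stabK ?_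
  rw [M23_eq_stabK, card_stabK_point]
  decide +kernel

end Cfsg.Agent.S2063
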