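import Cfsg.Statements.S2064
import Cfsg.Agent.Lib.OutMathieu.Outer

set_option autoImplicit false
open Cfsg CfsgLib.OutMathieu CfsgLib.Golay

namespace Cfsg.Agent.S2064

/-- The outer automorphism group of the Mathieu group M₂₄ (the automorphism group of the length-24 binary code) is trivial: every automorphism is inner. -/
theorem result : Nat.card (Cfsg.Out ↥Cfsg.M24) = 1 := by
  haveI : Fact (Nat.Prime certM24.p) := ⟨show Nat.Prime 23 by norm_num⟩
  refine Cert.natCard_out_eq_one certM24_valid certM24_noInv stabK_nil.symm ?_
  rw [natCard_M24]
  decide +kernel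

end Cfsg.Agent.S2064
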