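import Cfsg.Statements.S2067
import Cfsg.Agent.Lib.FusionExamples.J3Out
-- import your own Cfsg.Agent.* helpers here

set_option autoImplicit false
open Cfsg

namespace Cfsg.Agent.S2067

/-- For any field with 4 elements and any element ω of it with ω² + ω + 1 = 0, the outer automorphism group of the Janko group J₃ (the group generated by explicit 9 × 9 matrices over that field built from ω, taken modulo its centre) has order 2. -/
theorem result {F : Type*} [Field F] [Fintype F] (hF : Fintype.card F = 4) (ω : F) (hω : ω ^ 2 + ω + 1 = 0) : Nat.card (Cfsg.Out (Cfsg.Spor.J3 F ω)) = 2 := by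
  have := CfsgLib.SporadicB.J3.charP_two_of_card_four F hF
  exact CfsgLib.FusionExamples.J3Out.natCard_out_J3 hω

end Cfsg.Agent.S2067
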