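import Cfsg.Statements.S2080
import Cfsg.Agent.Lib.SporRecognition.Cert.Fi23Conf.Tree
import Cfsg.Agent.Lib.SporRecognition.FischerAut.Fi23Cent
-- import your own Cfsg.Agent.* helpers here

set_option autoImplicit false
open Cfsg

namespace Cfsg.Agent.S2080

open CfsgLib.SporRecognition.CosetCert
open CfsgLib.SporRecognition.FischerAut
open CfsgLib.SporRecognition.Cert
open Cfsg.Spor.Fi23 (Gen)

abbrev R23 : Set (FreeGroup Gen) :=
  Cfsg.Spor.coxRelators Cfsg.Spor.Fi23.edges ∪ {r | r ∈ Cfsg.Spor.Fi23.extra}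

abbrev G23 : Type := PresentedGroup R23

abbrev of23 : Gen → G23 := PresentedGroup.of

theorem z_mem_D (φ : MulAut G23) : ∃ v, φ (evalW of23 Fi23Conf.zw) = tau Fi23X.certified Fi23Conf.zw v := by
  have hc : Commute (evalW of23 Fi23Conf.zw) (evalW of23 F23.y) := by
    rw [← Fi23Conf.base.tau_zero]
    exact (F23.tau_commute 0 (by decide +kernel)).symm
  refine F23.involution13 _ (φ (evalW of23 F23.y))
    (by rw [← map_mul, show evalW of23 Fi23Conf.zw * evalW of23 Fi23Conf.zw = 1 from Cfsg.Agent.S1688.zw_sq,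
      map_one]) ?_ ?_ (hc.map φ)
  · exact fun h => Cfsg.Agent.S1688.zw_ne (φ.injective (h.trans (map_one φ).symm))
  · exact (orderOf_injective φ.toMonoidHom φ.injective _).trans F23.orderOf_y

theorem classify (φ : MulAut G23) :
    ∃ t ∈ Fi23Conf.targets, ∃ g, ∀ x, φ (of23 x) = g * tau Fi23X.certified Fi23Conf.zw (t x) * g⁻¹ := by
  refine Fi23Conf.base.auto_good Fi23Conf.tau_inj Fi23Conf.P Fi23Conf.tau_P Fi23Conf.edge ?_ ?_ Fi23Conf.words ?_
    Fi23Conf.targets Fi23Conf.closed0 φ (z_mem_D φ)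
  · intro x y h
    cases x <;> cases y <;> first | exact absurd rfl h | decide +kernel
  · intro x y h
    cases x <;> cases y <;> first | exact absurd rfl h | decide +kernel
  · intro w hw
    have h1 : ∀ v ∈ Fi23Conf.words, v.map (fun x => (x, true)) ∈ Fi23X.relW := by decide +kernel
    have h2 := Fi23Conf.relW_one _ (h1 w hw)
    rw [evalW_eq_prod, List.map_map] at h2
    exact h2

theorem main : Nat.card (Cfsg.Out G23) = 1 := by
  rw [Nat.card_eq_one_iff_unique]
  refine ⟨⟨fun p q => ?_⟩, ⟨1⟩⟩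
  obtain ⟨φ, rfl⟩ := QuotientGroup.mk_surjective p
  obtain ⟨ψ, rfl⟩ := QuotientGroup.mk_surjective q
  obtain ⟨t, ht, g, hφ⟩ := classify φ
  obtain ⟨t', ht', g', hψ⟩ := classify ψ
  simp only [Fi23Conf.targets, List.mem_cons, List.not_mem_nil, or_false] at ht ht'
  subst ht ht'
  have e := mk_eq_of_same φ ψ of23 (PresentedGroup.closure_range_of _) _ g g' hφ hψ
  rw [← e, QuotientGroup.mk_mul,
    show (QuotientGroup.mk (MulAut.conj (g' * g⁻¹)) : Cfsg.Out G23) = 1 from
      (QuotientGroup.eq_one_iff _).mpr ⟨_, rfl⟩, one_mul]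

/-- The outer automorphism group of the Fischer group Fi₂₃ (the finitely presented group of the definitions) is trivial: every automorphism is inner. -/
theorem result : Nat.card (Cfsg.Out Cfsg.Spor.Fi23) = 1 := by
  exact main

end Cfsg.Agent.S2080
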