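import Cfsg.Statements.S2176
import Cfsg.Agent.Lib.OutAut.InvCheck.Classes
import Cfsg.Agent.Lib.OutAut.InvCheck.CertE8
import Cfsg.Agent.Lib.OutAut.InvCheck.RankE8

set_option autoImplicit false
open Cfsg

namespace Cfsg.Agent.S2176

open Cfsg.Lie CfsgLib.Chevalley CfsgLib.OutAut CfsgLib.OutAut.InvCheck

local instance neZeroRootsS : NeZero Cfsg.Lie.chevE8.nroots := ⟨by decide⟩

/-- The four representatives. -/
def reps : List (List ℕ) := [[239], [232, 233], [218, 222, 228], [213, 216, 220, 226]]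

/-- The rank of `y - 1` on the representatives. -/
def kOf (w : List ℕ) : ℕ :=
  if w = [239] then 58 else if w = [232, 233] then 92 else if w = [218, 222, 228] then 110 else 120

theorem kOf_ne : ∀ w ∈ reps, kOf w ≠ 0 := by decide

theorem kOf_inj : ∀ w₁ ∈ reps, ∀ w₂ ∈ reps, kOf w₁ = kOf w₂ → w₁ = w₂ := by decide

theorem classes_ok : progOK InvCheck.E8.tab InvCheck.E8.simples 20 reps InvCheck.E8.patterns 10 7120
    InvCheck.E8.scales InvCheck.E8.links = true := by decide +kernel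

theorem squares_ok : ∀ w ∈ reps, ((w ++ w).all InvCheck.E8.tab.pos.contains &&
    collect InvCheck.E8.tab 20 (w ++ w) == []) = true := by decide +kernel

theorem order_ok : (collect InvCheck.E8.tab 9 [228, 222, 218] == [218, 222, 228] &&
    collect InvCheck.E8.tab 9 [226, 220, 213, 216] == [213, 216, 220, 226] &&
    collect InvCheck.E8.tab 9 [232, 233] == [232, 233]) = true := by decide +kernel

/-- Conjugacy classes of involutions in the Chevalley group of type E₈ over a finite field F of characteristic two (the matrix group generated by the root elements x_r(t)). In this problem's root numbering for type E₈ (the Chevalley data module; fundamental roots numbered so that p₁–p₃–p₄–p₅–p₆–p₇–p₈ is the long chain of the diagram and p₂ is joined to p₄; roots indexed by their coefficient vectors in increasing order) let r = 239 be the highest root (2,3,4,6,5,4,3,2), α = 232 = (2,2,4,5,4,3,2,1), β = 233 = (2,3,3,5,4,3,2,1),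 γ = 228 = (2,2,3,4,3,2,2,1), δ = 222 = (1,2,3,4,3,3,2,1), ε = 218 = (1,2,2,4,4,3,2,1), φ = 226 = (2,2,3,4,3,2,1,0), ψ = 220 = (1,2,3,4,3,2,1,1), θ = 213 = (1,2,2,3,3,3,2,1), ω = 216 = (1,2,2,4,3,2,2,1) (the roots within each of {α, β}, {γ, δ, ε}, {φ, ψ, θ, ω} pairwise orthogonal); consider x_r(1), x_α(1)x_β(1), x_γ(1)x_δ(1)x_ε(1) and x_φ(1)x_ψ(1)x_θ(1)x_ω(1). Then: each invertible matrix equal to one of these four products lies in the group and has order 2; every element of order 2 of the group is conjugate in the group to one of them; and no two of them are conjugate in the group (so, the four matrices being distinct, the group has exactly four conjugacy classes of involutions). -/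
theorem result {F : Type*} [Field F] [Fintype F] [CharP F 2] :
    (∀ y : GL Cfsg.Lie.chevE8.Idx F, ((y : GL Cfsg.Lie.chevE8.Idx F) : Matrix Cfsg.Lie.chevE8.Idx Cfsg.Lie.chevE8.Idx F) ∈ [Cfsg.Lie.chevE8.x F 239 1, Cfsg.Lie.chevE8.x F 232 1 * Cfsg.Lie.chevE8.x F 233 1, Cfsg.Lie.chevE8.x F 228 1 * Cfsg.Lie.chevE8.x F 222 1 * Cfsg.Lie.chevE8.x F 218 1, Cfsg.Lie.chevE8.x F 226 1 * Cfsg.Lie.chevE8.x F 220 1 * Cfsg.Lie.chevE8.x F 213 1 * Cfsg.Lie.chevE8.x F 216 1] → y ∈ Cfsg.Lie.chevE8.group F ∧ orderOf y = 2) ∧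
    (∀ g ∈ Cfsg.Lie.chevE8.group F, orderOf g = 2 → ∃ y ∈ Cfsg.Lie.chevE8.group F, ((y : GL Cfsg.Lie.chevE8.Idx F) : Matrix Cfsg.Lie.chevE8.Idx Cfsg.Lie.chevE8.Idx F) ∈ [Cfsg.Lie.chevE8.x F 239 1, Cfsg.Lie.chevE8.x F 232 1 * Cfsg.Lie.chevE8.x F 233 1, Cfsg.Lie.chevE8.x F 228 1 * Cfsg.Lie.chevE8.x F 222 1 * Cfsg.Lie.chevE8.x F 218 1, Cfsg.Lie.chevE8.x F 226 1 * Cfsg.Lie.chevE8.x F 220 1 * Cfsg.Lie.chevE8.x F 213 1 * Cfsg.Lie.chevE8.x F 216 1] ∧ ∃ h ∈ Cfsg.Lie.chevE8.group F, h * g * h⁻¹ = y) ∧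
    (∀ y₁ ∈ Cfsg.Lie.chevE8.group F, ∀ y₂ ∈ Cfsg.Lie.chevE8.group F, ((y₁ : GL Cfsg.Lie.chevE8.Idx F) : Matrix Cfsg.Lie.chevE8.Idx Cfsg.Lie.chevE8.Idx F) ∈ [Cfsg.Lie.chevE8.x F 239 1, Cfsg.Lie.chevE8.x F 232 1 * Cfsg.Lie.chevE8.x F 233 1, Cfsg.Lie.chevE8.x F 228 1 * Cfsg.Lie.chevE8.x F 222 1 * Cfsg.Lie.chevE8.x F 218 1, Cfsg.Lie.chevE8.x F 226 1 * Cfsg.Lie.chevE8.x F 220 1 * Cfsg.Lie.chevE8.x F 213 1 * Cfsg.Lie.chevE8.x F 216 1] → ((y₂ : GL Cfsg.Lie.chevE8.Idx F) : Matrix Cfsg.Lie.chevE8.Idx Cfsg.Lie.chevE8.Idx F) ∈ [Cfsg.Lie.chevE8.x F 239 1, Cfsg.Lie.chevE8.x F 232 1 * Cfsg.Lie.chevE8.x F 233 1, Cfsg.Lie.chevE8.x F 228 1 * Cfsg.Lie.chevE8.x F 222 1 * Cfsg.Lie.chevE8.x F 218 1, Cfsg.Lie.chevE8.x F 226 1 * Cfsg.Lie.chevE8.x F 220 1 * Cfsg.Lie.chevE8.x F 213 1 * Cfsg.Lie.chevE8.x F 216 1] →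
      (∃ h ∈ Cfsg.Lie.chevE8.group F, h * y₁ * h⁻¹ = y₂) → ((y₁ : GL Cfsg.Lie.chevE8.Idx F) : Matrix Cfsg.Lie.chevE8.Idx Cfsg.Lie.chevE8.Idx F) = ((y₂ : GL Cfsg.Lie.chevE8.Idx F) : Matrix Cfsg.Lie.chevE8.Idx Cfsg.Lie.chevE8.Idx F)) := by
  let W : List ℕ → GL chevE8.Idx F := fun w => wordU InvCheck.E8.full w
  have hord := order_ok
  simp only [Bool.and_eq_true, beq_iff_eq] at hord
  have hw1 : (W [228, 222, 218] : GL chevE8.Idx F) = W [218, 222, 228] := by
    have hc := (collect_spec (F := F) InvCheck.E8.full InvCheck.E8.valid 9 [228, 222, 218] (by decide +kernel)).2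
    rw [hord.1.1] at hc
    exact hc.symm
  have hw2 : (W [226, 220, 213, 216] : GL chevE8.Idx F) = W [213, 216, 220, 226] := by
    have hc := (collect_spec (F := F) InvCheck.E8.full InvCheck.E8.valid 9 [226, 220, 213, 216] (by decide +kernel)).2
    rw [hord.1.2] at hc
    exact hc.symm
  have key : ∀ y : GL chevE8.Idx F, ((y : GL chevE8.Idx F) : Matrix chevE8.Idx chevE8.Idx F) ∈
      [chevE8.x F 239 1, chevE8.x F 232 1 * chevE8.x F 233 1, chevE8.x F 228 1 * chevE8.x F 222 1 * chevE8.x F 218 1, chevE8.x F 226 1 * chevE8.x F 220 1 * chevE8.x F 213 1 * chevE8.x F 216 1] ↔ ∃ w ∈ reps, y = W w := by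
    intro y
    have e1 : chevE8.x F 239 1 = ((W [239] : GL chevE8.Idx F) : Matrix chevE8.Idx chevE8.Idx F) := by
      simp [W, wordU, prodU]
    have e2 : chevE8.x F 232 1 * chevE8.x F 233 1 =
        ((W [232, 233] : GL chevE8.Idx F) : Matrix chevE8.Idx chevE8.Idx F) := by
      simp [W, wordU, prodU]
    have e3 : chevE8.x F 228 1 * chevE8.x F 222 1 * chevE8.x F 218 1 =
        ((W [218, 222, 228] : GL chevE8.Idx F) : Matrix chevE8.Idx chevE8.Idx F) := by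
      rw [← hw1]; simp [W, wordU, prodU, mul_assoc]
    have e4 : chevE8.x F 226 1 * chevE8.x F 220 1 * chevE8.x F 213 1 * chevE8.x F 216 1 =
        ((W [213, 216, 220, 226] : GL chevE8.Idx F) : Matrix chevE8.Idx chevE8.Idx F) := by
      rw [← hw2]; simp [W, wordU, prodU, mul_assoc]
    rw [e4, e3, e2, e1]
    simp only [List.mem_cons, List.not_mem_nil, or_false, Units.val_inj, reps, exists_eq_or_imp,
      exists_eq_left]
  have hrank : ∀ w ∈ reps,
      (((W w : GL chevE8.Idx F) : Matrix chevE8.Idx chevE8.Idx F) - 1).rank = kOf w := by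
    intro w hw
    simp only [reps, List.mem_cons, List.not_mem_nil, or_false] at hw
    rcases hw with rfl | rfl | rfl | rfl
    exacts [InvCheck.E8.rank_239, InvCheck.E8.rank_232_233, InvCheck.E8.rank_218_222_228,
      InvCheck.E8.rank_213_216_220_226]
  refine ⟨fun y hy => ?_, fun g hg ho => ?_, fun y₁ _ y₂ _ hy₁ hy₂ hc => ?_⟩
  · obtain ⟨w, hw, rfl⟩ := (key y).1 hy
    exact ⟨wordU_mem_group _ w, orderOf_word InvCheck.E8.full InvCheck.E8.valid (squares_ok w hw)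
      (hrank w hw) (kOf_ne w hw)⟩
  · obtain ⟨w, hw, x, hx, e⟩ := exists_rep_prog (F := F) InvCheck.E8.full InvCheck.E8.valid (reps := reps)
      (simples := InvCheck.E8.simples) (by decide +kernel) InvCheck.E8.trees_ok InvCheck.E8.trees_length InvCheck.E8.scales_ok
      classes_ok hg (by rw [← sq, ← ho, pow_orderOf_eq_one]) (fun h1 => by simp [h1] at ho)
    exact ⟨W w, wordU_mem_group _ w, (key _).2 ⟨w, hw, rfl⟩, x, hx, e⟩
  · obtain ⟨w₁, hw₁, rfl⟩ := (key y₁).1 hy₁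
    obtain ⟨w₂, hw₂, rfl⟩ := (key y₂).1 hy₂
    obtain ⟨x, hx, e⟩ := hc
    exact congrArg Units.val (congrArg W
      (kOf_inj w₁ hw₁ w₂ hw₂ (rank_eq_of_conj _ (hrank w₁ hw₁) (hrank w₂ hw₂) e)))

end Cfsg.Agent.S2176
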