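import Cfsg.Statements.S2247
import Cfsg.Agent.Lib.Suzuki.Partition

set_option autoImplicit false
open Cfsg

namespace Cfsg.Agent.S2247

/-- In the Suzuki group with q = 2^(2m+1), m ≥ 1 (realised as the stabiliser in SL₄ of the Suzuki–Tits ovoid), the normalizer of a Sylow 2-subgroup P is a maximal subgroup and is the only maximal subgroup containing P. -/
theorem result {F : Type*} [Field F] [Fintype F] {m : ℕ} (hm : 1 ≤ m) (hF : Fintype.card F = 2 ^ (2 * m + 1)) (P : Sylow 2 ↥(Cfsg.Sz F m)) :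
    IsCoatom (Subgroup.normalizer ((P : Subgroup ↥(Cfsg.Sz F m)) : Set ↥(Cfsg.Sz F m))) ∧
    ∀ M : Subgroup ↥(Cfsg.Sz F m), IsCoatom M → (P : Subgroup ↥(Cfsg.Sz F m)) ≤ M → M = Subgroup.normalizer ((P : Subgroup ↥(Cfsg.Sz F m)) : Set ↥(Cfsg.Sz F m)) := by
  have h := CfsgLib.Suzuki.Hyp.of_fintype hm hF
  obtain ⟨k, hk, hN⟩ := h.sylow_eq_iff_fix P
  rw [hN]
  refine ⟨h.isCoatom_stabilizer _, fun M hM hPM => ?_⟩
  let M' : Subgroup (Cfsg.Sz F m) := M.comap (MulAut.conj k).toMonoidHom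
  have hM' : M' ≠ ⊤ := fun e => hM.1 (eq_top_iff.2 fun x _ => by
    have := Subgroup.mem_comap.1 (e.ge (Subgroup.mem_top (k⁻¹ * x * k)))
    simpa [mul_assoc] using this)
  have hU : h.U ≤ M' := by
    intro x hx
    refine Subgroup.mem_comap.2 (hPM ((hk _).2 ?_))
    simpa [mul_assoc] using hx
  have hle : M ≤ MulAction.stabilizer (Cfsg.Sz F m) (k • CfsgLib.Suzuki.oInf F m) := by
    intro x hx
    have := h.le_stabilizer_of_U_le hM' hU (show k⁻¹ * x * k ∈ M' by
      rw [Subgroup.mem_comap]; simpa [mul_assoc] using hx)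
    rw [MulAction.mem_stabilizer_iff, mul_smul, mul_smul, inv_smul_eq_iff] at this
    exact this
  exact ((hM.le_iff.1 hle).resolve_left (h.isCoatom_stabilizer _).1).symm

end Cfsg.Agent.S2247
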