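import Cfsg.Statements.S2271
import Cfsg.Agent.Lib.AltGroups.MultiTrans

set_option autoImplicit false
open Cfsg

namespace Cfsg.Agent.S2271

open Equiv

variable {n : ℕ}

/-- The fixed points. -/
def fixF (a : Perm (Fin n)) : Finset (Fin n) := Finset.univ.filter fun x => a x = x

theorem mem_fixF {a : Perm (Fin n)} {x : Fin n} : x ∈ fixF a ↔ a x = x := by simp [fixF]

theorem card_fixF_eq (a : Perm (Fin n)) :
    (fixF a).card = Nat.card (Function.fixedPoints (a : Fin n → Fin n)) := by
  rw [← Nat.card_eq_finsetCard]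
  exact Nat.card_congr (Equiv.subtypeEquivRight fun x => mem_fixF)

theorem card_fixF_conj (g a : Perm (Fin n)) : (fixF (g * a * g⁻¹)).card = (fixF a).card := by
  refine Finset.card_bij' (fun x _ => g⁻¹ x) (fun x _ => g x) ?_ ?_ ?_ ?_
  · intro x hx
    rw [mem_fixF] at hx ⊢
    simp only [Perm.mul_apply] at hx
    exact g.injective (by rw [hx, Perm.coe_inv, Equiv.apply_symm_apply])
  · intro x hx
    rw [mem_fixF] at hx ⊢
    simp [hx]
  · intro x _; simp
  · intro x _; simp

theorem fix_le {a : Perm (Fin n)} (ha : a ≠ 1) : (fixF a).card + 2 ≤ n := by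
  obtain ⟨r, hr⟩ : ∃ r, a r ≠ r := by
    by_contra! h
    exact ha (Equiv.ext h)
  have : (fixF a).card + ({r, a r} : Finset (Fin n)).card ≤ n := by
    rw [← Finset.card_union_of_disjoint]
    · exact (Finset.card_le_univ _).trans_eq (Fintype.card_fin n)
    · refine Finset.disjoint_left.2 fun x hx hx' => ?_
      rw [mem_fixF] at hx
      simp only [Finset.mem_insert, Finset.mem_singleton] at hx'
      rcases hx' with rfl | rfl
      · exact hr hx
      · exact hr (a.injective hx)
  rwa [Finset.card_pair hr.symm] at this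

theorem exists_alt_map (s : Finset (Fin n)) (hs : s.card + 2 ≤ n) (f : Fin n → Fin n)
    (hf : Set.InjOn f (s : Set (Fin n))) :
    ∃ g ∈ alternatingGroup (Fin n), ∀ x ∈ s, g x = f x := by
  haveI := alternatingGroup.isMultiplyPretransitive (Fin n)
  obtain ⟨g, hg⟩ := CfsgLib.AltGroups.exists_smul_eqOn (G := alternatingGroup (Fin n))
    (k := Nat.card (Fin n) - 2) (Nat.sub_le _ _) s (by rw [Nat.card_fin]; omega) f hf
  exact ⟨g, g.2, hg⟩

theorem exists_perm_map (s : Finset (Fin n)) (f : Fin n → Fin n)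
    (hf : Set.InjOn f (s : Set (Fin n))) : ∃ g : Perm (Fin n), ∀ x ∈ s, g x = f x := by
  haveI := Equiv.Perm.isMultiplyPretransitive (Fin n) n
  obtain ⟨g, hg⟩ := CfsgLib.AltGroups.exists_smul_eqOn (G := Perm (Fin n))
    (k := n) (by rw [Nat.card_fin]) s ((Finset.card_le_univ _).trans_eq (Fintype.card_fin n)) f hf
  exact ⟨g, hg⟩

theorem apply_conj (g a : Perm (Fin n)) (r : Fin n) : (g * a * g⁻¹) (g r) = g (a r) := by simp

theorem five_invol : ∀ a : Perm (Fin 5), Perm.sign a = 1 →
    (Finset.univ.filter fun x => a x = x).card = 1 → a * a = 1 := by decide +kernel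

/-- The averaged number of fixed points, assuming that it is constant. -/
theorem average (hn : 5 ≤ n) (a b : Perm (Fin n)) (c : ℕ)
    (hc : ∀ g ∈ alternatingGroup (Fin n), (fixF (g * a * g⁻¹ * b)).card = c) :
    (n - 1) * c + (fixF a).card + (fixF b).card = (fixF a).card * (fixF b).card + n := by
  classical
  set α := (fixF a).card
  set β := (fixF b).card
  let A : Finset (Perm (Fin n)) := Finset.univ.filter fun g => g ∈ alternatingGroup (Fin n)
  have hA0 : 0 < A.card := Finset.card_pos.2 ⟨1, by simp [A]⟩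
  let N : Fin n → Fin n → ℕ := fun u v => (A.filter fun g => (g * a * g⁻¹) u = v).card
  have hrow : ∀ u, ∑ v, N u v = A.card := fun u =>
    (Finset.card_eq_sum_card_fiberwise fun _ _ => Finset.mem_coe.2 (Finset.mem_univ _)).symm
  have hdiag : ∑ u, N u u = A.card * α := by
    show (∑ u, (A.filter fun g => (g * a * g⁻¹) u = u).card) = _
    simp only [Finset.card_filter]
    rw [Finset.sum_comm, Finset.sum_congr rfl fun g _ => (show _ = α by
      rw [← Finset.card_filter]; exact card_fixF_conj g a), Finset.sum_const, smul_eq_mul]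
  have hinv : ∀ k ∈ alternatingGroup (Fin n), ∀ u v, N (k u) (k v) = N u v := by
    intro k hk u v
    refine Finset.card_bij' (fun g _ => k⁻¹ * g) (fun g _ => k * g) ?_ ?_ ?_ ?_
    · intro g hg
      simp only [A, Finset.mem_filter, Finset.mem_univ, true_and] at hg ⊢
      refine ⟨mul_mem (inv_mem hk) hg.1, k.injective ?_⟩
      rw [← hg.2]
      simp
    · intro g hg
      simp only [A, Finset.mem_filter, Finset.mem_univ, true_and] at hg ⊢
      refine ⟨mul_mem hk hg.1, ?_⟩
      rw [← hg.2]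
      simp
    · intro g _; simp
    · intro g _; simp
  obtain ⟨p, q, hpq⟩ : ∃ p q : Fin n, p ≠ q :=
    ⟨⟨0, by omega⟩, ⟨1, by omega⟩, by simp [Fin.ext_iff]⟩
  have hd : ∀ u, N u u = N p p := by
    intro u
    obtain ⟨k, hk, hk'⟩ := exists_alt_map {p} (by simp; omega) (fun _ => u) (by simp)
    rw [← hk' p (Finset.mem_singleton_self p)]
    exact hinv k hk p p
  have ho : ∀ u v, u ≠ v → N u v = N p q := by
    intro u v huv
    obtain ⟨k, hk, hk'⟩ := exists_alt_map {p, q} (by rw [Finset.card_pair hpq]; omega)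
      (fun z => if z = p then u else v) (by
        intro x hx y hy h
        simp only [Finset.coe_insert, Finset.coe_singleton, Set.mem_insert_iff,
          Set.mem_singleton_iff] at hx hy
        rcases hx with rfl | rfl <;> rcases hy with rfl | rfl <;>
          simp_all [hpq.symm])
    have h1 := hk' p (by simp)
    have h2 := hk' q (by simp)
    simp only [if_true, if_neg hpq.symm] at h1 h2
    rw [← h1, ← h2]
    exact hinv k hk p q
  set D := N p p
  set B := N p q
  have h1 : n * D = A.card * α := by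
    rw [← hdiag, Finset.sum_congr rfl fun u _ => hd u, Finset.sum_const, smul_eq_mul,
      Finset.card_univ, Fintype.card_fin]
  have h2 : D + (n - 1) * B = A.card := by
    rw [← hrow p, ← Finset.add_sum_erase _ _ (Finset.mem_univ p),
      Finset.sum_congr rfl fun v hv => ho p v (Finset.ne_of_mem_erase hv).symm,
      Finset.sum_const, smul_eq_mul, Finset.card_erase_of_mem (Finset.mem_univ p),
      Finset.card_univ, Fintype.card_fin]
  have h3 : A.card * c = β * D + (n - β) * B := by
    have : A.card * c = ∑ x, N (b x) x := by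
      show _ = ∑ x, (A.filter fun g => (g * a * g⁻¹) (b x) = x).card
      simp only [Finset.card_filter]
      rw [Finset.sum_comm, Finset.sum_congr rfl fun g hg => (show _ = c by
        rw [← Finset.card_filter]
        exact hc g (Finset.mem_filter.1 hg).2), Finset.sum_const, smul_eq_mul]
    rw [this, ← Finset.sum_filter_add_sum_filter_not Finset.univ (fun x => b x = x),
      Finset.sum_congr rfl (g := fun _ => D) fun x hx => by
        rw [(Finset.mem_filter.1 hx).2]; exact hd x,
      Finset.sum_congr rfl (s₁ := Finset.univ.filter fun x => ¬ b x = x) (g := fun _ => B)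
        fun x hx => ho _ _ (Finset.mem_filter.1 hx).2,
      Finset.sum_const, Finset.sum_const, smul_eq_mul, smul_eq_mul]
    congr 2
    have := Finset.card_filter_add_card_filter_not
      (s := (Finset.univ : Finset (Fin n))) (fun x => b x = x)
    rw [Finset.card_univ, Fintype.card_fin] at this
    have hβ : β = (Finset.univ.filter fun x => b x = x).card := rfl
    omega
  have hβn : β ≤ n := (Finset.card_le_univ _).trans_eq (Fintype.card_fin n)
  have e : (n : ℤ) * A.card * ((n - 1 : ℤ) * c + α + β) = (n : ℤ) * A.card * (α * β + n) := by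
    have h1' : (n : ℤ) * D = A.card * α := by exact_mod_cast h1
    have h2' : (D : ℤ) + ((n : ℤ) - 1) * B = A.card := by
      have : ((n - 1 : ℕ) : ℤ) = (n : ℤ) - 1 := by omega
      rw [← this]; exact_mod_cast h2
    have h3' : (A.card : ℤ) * c = β * D + ((n : ℤ) - β) * B := by
      have : ((n - β : ℕ) : ℤ) = (n : ℤ) - β := by omega
      rw [← this]; exact_mod_cast h3
    linear_combination (n : ℤ) * ((n : ℤ) - 1) * h3' + ((n : ℤ) * (β - 1)) * h1' +
      ((n : ℤ) * ((n : ℤ) - β)) * h2'
  have e' := mul_left_cancel₀ (mul_ne_zero (by exact_mod_cast (show n ≠ 0 by omega))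
    (by exact_mod_cast hA0.ne')) e
  have : ((n - 1 : ℕ) : ℤ) = (n : ℤ) - 1 := by omega
  rw [← this] at e'
  exact_mod_cast e'

/-- A configuration with many fixed points. -/
theorem many (hn : 5 ≤ n) {a b : Perm (Fin n)} (ha : a ≠ 1) (hb : b ≠ 1)
    (hle : (fixF b).card ≤ (fixF a).card) :
    (2 ≤ (fixF b).card → ∃ g ∈ alternatingGroup (Fin n),
      (fixF b).card ≤ (fixF (g * a * g⁻¹ * b)).card) ∧
    ((fixF b).card = 1 → ∃ g ∈ alternatingGroup (Fin n), 2 ≤ (fixF (g * a * g⁻¹ * b)).card) ∧
    ((fixF b).card = 0 → (fixF a).card = 1 →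
      ∃ g ∈ alternatingGroup (Fin n), 2 ≤ (fixF (g * a * g⁻¹ * b)).card) := by
  classical
  refine ⟨fun _ => ?_, fun h1 => ?_, fun h0 h1 => ?_⟩
  · obtain ⟨T, hT, hTc⟩ := Finset.exists_subset_card_eq hle
    let π : Perm (Fin n) := (Finset.equivOfCardEq hTc).extendSubtype
    have hπ : ∀ t ∈ T, π t ∈ fixF b := fun t ht =>
      Equiv.extendSubtype_mem (Finset.equivOfCardEq hTc) t ht
    obtain ⟨g, hg, hg'⟩ := exists_alt_map T (by have := fix_le hb; omega) π π.injective.injOn
    refine ⟨g, hg, ?_⟩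
    calc (fixF b).card = (T.image g).card := by
          rw [Finset.card_image_of_injective _ g.injective, hTc]
      _ ≤ _ := Finset.card_le_card fun y hy => by
          obtain ⟨t, ht, rfl⟩ := Finset.mem_image.1 hy
          have hbt : b (g t) = g t := by rw [hg' t ht]; exact mem_fixF.1 (hπ t ht)
          rw [mem_fixF, Perm.mul_apply, hbt, apply_conj, mem_fixF.1 (hT ht)]
  · obtain ⟨p, hp⟩ := Finset.card_pos.1 (show 0 < (fixF b).card by omega)
    obtain ⟨s, hs⟩ := Finset.card_pos.1 (show 0 < (fixF a).card by omega)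
    obtain ⟨x, hx⟩ : ∃ x, b x ≠ x := by
      by_contra! h
      exact hb (Equiv.ext h)
    obtain ⟨r, hr⟩ : ∃ r, a r ≠ r := by
      by_contra! h
      exact ha (Equiv.ext h)
    rw [mem_fixF] at hp hs
    have hxp : x ≠ p := fun e => hx (e ▸ hp)
    have hup : b x ≠ p := fun e => hxp (b.injective (e.trans hp.symm))
    have hrs : r ≠ s := fun e => hr (e ▸ hs)
    have hars : a r ≠ s := fun e => hrs (a.injective (e.trans hs.symm))
    obtain ⟨g, hg, hg'⟩ := exists_alt_map {r, a r, s}
      ((Nat.add_le_add_right Finset.card_le_three 2).trans hn)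
      (fun z => if z = r then b x else if z = a r then x else p) (by
        intro y hy z hz h
        simp only [Finset.coe_insert, Finset.coe_singleton, Set.mem_insert_iff,
          Set.mem_singleton_iff] at hy hz
        rcases hy with rfl | rfl | rfl <;> rcases hz with rfl | rfl | rfl <;>
          simp_all [hr, hrs, hrs.symm, hars, hars.symm, hxp.symm, hup.symm, Ne.symm hr, Ne.symm hx])
    have e1 : g r = b x := by rw [hg' r (by simp)]; simp
    have e2 : g (a r) = x := by rw [hg' (a r) (by simp)]; simp [hr]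
    have e3 : g s = p := by rw [hg' s (by simp)]; simp [hrs.symm, hars.symm]
    refine ⟨g, hg, Finset.one_lt_card.2 ⟨x, ?_, p, ?_, hxp⟩⟩
    · rw [mem_fixF, Perm.mul_apply, ← e1, apply_conj, e2]
    · rw [mem_fixF, Perm.mul_apply, hp, ← e3, apply_conj, hs]
  · obtain ⟨s, hs⟩ := Finset.card_pos.1 (show 0 < (fixF a).card by omega)
    have hsu : ∀ z, a z = z → z = s := fun z hz =>
      Finset.card_le_one.1 (le_of_eq h1) z (mem_fixF.2 hz) s hs
    have hbm : ∀ z, b z ≠ z := fun z hz => by
      rw [Finset.card_eq_zero] at h0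
      exact Finset.notMem_empty z (h0 ▸ mem_fixF.2 hz)
    have hout : ∀ t : Finset (Fin n), t.card < 5 → ∃ z, z ∉ t := by
      intro t ht
      by_contra! h
      have := Finset.card_le_card (fun z (_ : z ∈ Finset.univ) => h z)
      simp at this
      omega
    obtain ⟨r₁, hr₁⟩ := hout {s} (by simp)
    obtain ⟨r₂, hr₂⟩ := hout {s, r₁, a r₁, a⁻¹ r₁}
      (Finset.card_le_four.trans_lt (by norm_num))
    obtain ⟨x₂, hx₂⟩ := hout {r₁, b r₁, b⁻¹ r₁} (Finset.card_le_three.trans_lt (by norm_num))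
    simp only [Finset.mem_insert, Finset.mem_singleton, not_or] at hr₁ hr₂ hx₂
    have ha₁ : a r₁ ≠ r₁ := fun e => hr₁ (hsu _ e)
    have ha₂ : a r₂ ≠ r₂ := fun e => hr₂.1 (hsu _ e)
    have ha₃ : a r₂ ≠ r₁ := fun e => hr₂.2.2.2 (by rw [← e]; simp)
    have ha₄ : a r₂ ≠ a r₁ := fun e => hr₂.2.1 (a.injective e)
    have hb₁ := hbm r₁
    have hb₂ := hbm x₂
    have hb₃ : b x₂ ≠ r₁ := fun e => hx₂.2.2 (by rw [← e]; simp)
    have hb₄ : b x₂ ≠ b r₁ := fun e => hx₂.1 (b.injective e)
    let f : Fin n → Fin n := fun z => if z = r₁ then b r₁ else if z = a r₁ then r₁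
      else if z = r₂ then b x₂ else x₂
    have hf : Set.InjOn f (({r₁, a r₁, r₂, a r₂} : Finset (Fin n)) : Set (Fin n)) := by
      intro y hy z hz h
      simp only [Finset.coe_insert, Finset.coe_singleton, Set.mem_insert_iff,
        Set.mem_singleton_iff] at hy hz
      rcases hy with rfl | rfl | rfl | rfl <;> rcases hz with rfl | rfl | rfl | rfl <;>
        simp_all [f, hr₂.2.1, hr₂.2.2.1, Ne.symm hr₂.2.1, Ne.symm hr₂.2.2.1, ha₁, ha₂, ha₃, ha₄,
          Ne.symm ha₁, Ne.symm ha₂, Ne.symm ha₃, Ne.symm ha₄, hx₂.1, hx₂.2.1, Ne.symm hx₂.1,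
          Ne.symm hx₂.2.1, hb₁, hb₂, hb₃, hb₄, Ne.symm hb₁, Ne.symm hb₂, Ne.symm hb₃, Ne.symm hb₄]
    have key : ∀ g : Perm (Fin n), (∀ z ∈ ({r₁, a r₁, r₂, a r₂} : Finset (Fin n)), g z = f z) →
        2 ≤ (fixF (g * a * g⁻¹ * b)).card := by
      intro g hg
      have e1 : g r₁ = b r₁ := by rw [hg r₁ (by simp)]; simp [f]
      have e2 : g (a r₁) = r₁ := by rw [hg (a r₁) (by simp)]; simp [f, ha₁]
      have e3 : g r₂ = b x₂ := by rw [hg r₂ (by simp)]; simp [f, hr₂.2.1, hr₂.2.2.1]
      have e4 : g (a r₂) = x₂ := by rw [hg (a r₂) (by simp)]; simp [f, ha₂, ha₃, ha₄]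
      refine Finset.one_lt_card.2 ⟨r₁, ?_, x₂, ?_, fun e => hx₂.1 e.symm⟩
      · rw [mem_fixF, Perm.mul_apply, ← e1, apply_conj, e2]
      · rw [mem_fixF, Perm.mul_apply, ← e3, apply_conj, e4]
    rcases Nat.lt_or_ge n 6 with h6 | h6
    · obtain rfl : n = 5 := by omega
      obtain ⟨g, hg⟩ := exists_perm_map _ f hf
      obtain ⟨σ, hσ, hσc⟩ : ∃ σ : Perm (Fin 5), Perm.sign σ = -1 ∧ σ * a * σ⁻¹ = a := by
        rcases Int.units_eq_one_or (Perm.sign a) with hsg | hsg
        · have h2 := five_invol a hsg h1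
          refine ⟨Equiv.swap r₁ (a r₁), Equiv.Perm.sign_swap (Ne.symm ha₁), ?_⟩
          have h3 : a (a r₁) = r₁ := by rw [← Perm.mul_apply, h2]; rfl
          have h4 : a * Equiv.swap r₁ (a r₁) = Equiv.swap r₁ (a r₁) * a := by
            rw [Equiv.mul_swap_eq_swap_mul, h3, Equiv.swap_comm]
          rw [← h4, mul_inv_cancel_right]
        · exact ⟨a, hsg, mul_inv_cancel_right a a⟩
      rcases Int.units_eq_one_or (Perm.sign g) with hsg | hsg
      · exact ⟨g, hsg, key g hg⟩
      · refine ⟨g * σ, Equiv.Perm.mem_alternatingGroup.2 (by rw [map_mul, hsg, hσ]; rfl), ?_⟩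
        rw [show g * σ * a * (g * σ)⁻¹ = g * (σ * a * σ⁻¹) * g⁻¹ by group, hσc]
        exact key g hg
    · obtain ⟨g, hg, hg'⟩ := exists_alt_map _
        ((Nat.add_le_add_right Finset.card_le_four 2).trans h6) f hf
      exact ⟨g, hg, key g hg'⟩

theorem not_constant (hn : 5 ≤ n) {a b : Perm (Fin n)} (ha : a ≠ 1) (hb : b ≠ 1)
    (hle : (fixF b).card ≤ (fixF a).card) (c : ℕ)
    (hc : ∀ g ∈ alternatingGroup (Fin n), (fixF (g * a * g⁻¹ * b)).card = c) : False := by
  have h := average hn a b c hc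
  obtain ⟨k2, k1, k0⟩ := many hn ha hb hle
  have hα := fix_le ha
  obtain ⟨m, rfl⟩ : ∃ m, n = m + 1 := ⟨n - 1, by omega⟩
  rw [Nat.add_sub_cancel] at h
  set α := (fixF a).card
  set β := (fixF b).card
  rcases Nat.lt_or_ge β 2 with hβ | hβ
  · interval_cases hβ' : β
    · rw [Nat.mul_zero, Nat.zero_add, Nat.add_zero] at h
      rcases Nat.lt_or_ge c 1 with hc0 | hc1
      · obtain rfl : c = 0 := by omega
        omega
      rcases Nat.lt_or_ge c 2 with hc2 | hc2
      · obtain rfl : c = 1 := by omega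
        obtain ⟨g, hg, hg'⟩ := k0 rfl (by omega)
        rw [hc g hg] at hg'
        omega
      · have := Nat.mul_le_mul_left m hc2
        omega
    · obtain ⟨g, hg, hg'⟩ := k1 rfl
      rw [hc g hg] at hg'
      have := Nat.mul_le_mul_left m hg'
      omega
  · obtain ⟨g, hg, hg'⟩ := k2 hβ
    rw [hc g hg] at hg'
    have := Nat.mul_le_mul_left m hg'
    nlinarith

/-- Let n ≥ 5 and let a, b be non-identity permutations in the symmetric group S_n. Then the number of fixed points is not constant on the set of products a′b′ with a′ conjugate to a and b′ conjugate to b under the alternating group: there are even permutations g₁, h₁, g₂, h₂ such that (g₁ a g₁⁻¹)(h₁ b h₁⁻¹) and (g₂ a g₂⁻¹)(h₂ b h₂⁻¹) have different numbers of fixed points. -/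
theorem result (n : ℕ) (hn : 5 ≤ n) (a b : Equiv.Perm (Fin n)) (ha : a ≠ 1) (hb : b ≠ 1) :
    ∃ g₁ h₁ g₂ h₂ : Equiv.Perm (Fin n), g₁ ∈ alternatingGroup (Fin n) ∧ h₁ ∈ alternatingGroup (Fin n) ∧ g₂ ∈ alternatingGroup (Fin n) ∧ h₂ ∈ alternatingGroup (Fin n) ∧
      Nat.card (Function.fixedPoints ⇑(g₁ * a * g₁⁻¹ * (h₁ * b * h₁⁻¹))) ≠
        Nat.card (Function.fixedPoints ⇑(g₂ * a * g₂⁻¹ * (h₂ * b * h₂⁻¹))) := by
  by_contra hno
  push Not at hno
  have hall : ∀ g ∈ alternatingGroup (Fin n), ∀ h ∈ alternatingGroup (Fin n),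
      (fixF (g * a * g⁻¹ * (h * b * h⁻¹))).card = (fixF (a * b)).card := by
    intro g hg h hh
    have := hno g h 1 1 hg hh (one_mem _) (one_mem _)
    rw [card_fixF_eq, card_fixF_eq]
    simpa using this
  rcases le_total (fixF b).card (fixF a).card with hle | hle
  · exact not_constant hn ha hb hle _ fun g hg => by simpa using hall g hg 1 (one_mem _)
  · refine not_constant hn hb ha hle (fixF (a * b)).card fun g hg => ?_
    rw [← hall 1 (one_mem _) g hg, ← card_fixF_conj (g * b * g⁻¹) (1 * a * 1⁻¹ * (g * b * g⁻¹))]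
    congr 2
    group

end Cfsg.Agent.S2271
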