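import Cfsg.Statements.S2272
import Mathlib.LinearAlgebra.Transvection.Basic
import Mathlib.LinearAlgebra.Trace

set_option autoImplicit false
open Cfsg

namespace Cfsg.Agent.S2272

section

variable {K V : Type*} [Field K] [AddCommGroup V] [Module K V]

open LinearMap Submodule

theorem tv_mul_cancel (φ : V →ₗ[K] K) (u : V) (hu : φ u = 0) :
    LinearMap.transvection φ u * LinearMap.transvection φ (-u) = 1 := by
  refine LinearMap.ext fun x => ?_
  simp [LinearMap.transvection.apply, hu]

theorem tv_mul_cancel' (φ : V →ₗ[K] K) (u : V) (hu : φ u = 0) :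
    LinearMap.transvection φ (-u) * LinearMap.transvection φ u = 1 := by
  refine LinearMap.ext fun x => ?_
  simp [LinearMap.transvection.apply, hu]

theorem exists_dual {S : Submodule K V} {v : V} (hv : v ∉ S) :
    ∃ φ : V →ₗ[K] K, φ v = 1 ∧ ∀ x ∈ S, φ x = 0 := by
  obtain ⟨f, hf, hS⟩ := S.exists_le_ker_of_notMem hv
  exact ⟨(f v)⁻¹ • f, by simp [hf], fun x hx => by simp [LinearMap.mem_ker.1 (hS hx)]⟩

variable [FiniteDimensional K V]

/-- The conjugate of `B` by a transvection. -/
noncomputable def cj (B : Module.End K V) (φ : V →ₗ[K] K) (u : V) : Module.End K V :=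
  LinearMap.transvection φ u * B * LinearMap.transvection φ (-u)

theorem cj_apply (B : Module.End K V) (φ : V →ₗ[K] K) (u x : V) :
    cj B φ u x = B (x - φ x • u) + φ (B (x - φ x • u)) • u := by
  simp [cj, LinearMap.transvection.apply, sub_eq_add_neg]

/-- A predicate closed under conjugation by transvections containing `B` contains an `X` with
`u, A u, X u` independent for some `u`. -/
theorem exists_indep (hd : 3 ≤ Module.finrank K V) (P : Module.End K V → Prop)
    (hP : ∀ X, P X → ∀ (φ : V →ₗ[K] K) (u : V), φ u = 0 → P (cj X φ u))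
    (A B : Module.End K V) (hB : P B) {x y : V} (hx : A x ∉ span K {x}) (hy : B y ∉ span K {y}) :
    ∃ X, P X ∧ A x ∉ span K {x, X x} ∧ X x ∉ span K {x, A x} := by
  obtain ⟨X, hX, hXx⟩ : ∃ X, P X ∧ X x ∉ span K {x} := by
    by_cases hBx : B x ∈ span K {x}
    · have hxy : x ∉ span K {y} := fun h => by
        obtain ⟨c, rfl⟩ := mem_span_singleton.1 h
        rcases eq_or_ne c 0 with rfl | hc
        · exact hx (by simp)
        · refine hy ?_
          rw [map_smul, span_singleton_smul_eq (isUnit_iff_ne_zero.2 hc)] at hBx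
          exact (smul_mem_iff _ hc).1 hBx
      have hyx : y ∉ span K {x} := fun h => by
        obtain ⟨c, rfl⟩ := mem_span_singleton.1 h
        refine hy ?_
        rcases eq_or_ne c 0 with rfl | hc
        · simp
        · rw [map_smul, span_singleton_smul_eq (isUnit_iff_ne_zero.2 hc)]
          exact smul_mem _ c hBx
      have hxy' : y ∉ span K {x - y} := fun h => by
        obtain ⟨c, hc⟩ := mem_span_singleton.1 h
        refine hyx (mem_span_singleton.2 ?_)
        rcases eq_or_ne c (-1) with rfl | hc1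
        · exact ⟨0, by
            have : x = (0 : V) := by
              rw [neg_smul, one_smul, neg_sub] at hc
              exact sub_eq_self.1 hc
            exact absurd (by simp [this]) hx⟩
        · refine ⟨(1 + c)⁻¹ * c, ?_⟩
          have h1 : c • x = (1 + c) • y := by
            rw [add_smul, one_smul]
            conv_rhs => arg 1; rw [← hc]
            rw [smul_sub]; abel
          rw [mul_smul, h1, smul_smul, inv_mul_cancel₀ (fun h0 => hc1 (by linear_combination h0)),
            one_smul]
      obtain ⟨φ, hφy, hφ⟩ := exists_dual hxy'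
      have h0 : φ (x - y) = 0 := hφ _ (mem_span_singleton_self _)
      refine ⟨cj B φ (x - y), hP B hB φ _ h0, fun h => hy ?_⟩
      obtain ⟨c, hc⟩ := mem_span_singleton.1 h
      have hφx : φ x = 1 := by rwa [map_sub, hφy, sub_eq_zero] at h0
      rw [cj_apply, hφx, one_smul, sub_sub_cancel] at hc
      have hφc : φ (B y) = c := by
        have := congrArg φ hc
        rw [map_add, map_smul, map_smul, h0, hφx] at this
        simpa using this.symm
      rw [hφc] at hc
      refine mem_span_singleton.2 ⟨c, ?_⟩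
      rw [smul_sub, ← sub_eq_zero] at hc
      rw [← sub_eq_zero, ← hc]; abel
    · exact ⟨B, hB, hBx⟩
  have flip : ∀ w : V, w ∉ span K {x, A x} → A x ∉ span K {x, w} := fun w hw h => by
    obtain ⟨a, b, hab⟩ := mem_span_pair.1 h
    rcases eq_or_ne b 0 with rfl | hb
    · exact hx (mem_span_singleton.2 ⟨a, by simpa using hab⟩)
    · refine hw (mem_span_pair.2 ⟨-(b⁻¹ * a), b⁻¹, ?_⟩)
      rw [← hab, smul_add, smul_smul, smul_smul, inv_mul_cancel₀ hb, neg_smul, one_smul]
      abel
  by_cases h : X x ∈ span K {x, A x}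
  · obtain ⟨ψ, hψ, hψS⟩ := exists_dual hXx
    have hψx : ψ x = 0 := hψS _ (mem_span_singleton_self _)
    obtain ⟨v, hv0, hv⟩ : ∃ v, ψ v = 0 ∧ v ∉ span K {x, A x} := by
      by_contra hne
      push Not at hne
      have hle : LinearMap.ker ψ ≤ span K {x, A x} := fun v hv => hne v (LinearMap.mem_ker.1 hv)
      have hlt : LinearMap.ker ψ < span K {x, A x} :=
        lt_of_le_of_ne hle fun he => by
          rw [← he, LinearMap.mem_ker, hψ] at h
          exact one_ne_zero h
      have h1 := Submodule.finrank_lt_finrank_of_lt hlt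
      have h2 : Module.finrank K (span K ({x, A x} : Set V)) ≤ 2 := by
        classical
        refine (finrank_span_le_card _).trans ?_
        simp only [Set.toFinset_insert, Set.toFinset_singleton]
        exact Finset.card_insert_le _ _
      have h3 := ψ.finrank_range_add_finrank_ker
      have h4 := Submodule.finrank_le (LinearMap.range ψ)
      rw [Module.finrank_self] at h4
      omega
    have hw : cj X ψ v x = X x + v := by rw [cj_apply, hψx, zero_smul, sub_zero, hψ, one_smul]
    refine ⟨cj X ψ v, hP X hX ψ v hv0, flip _ ?_, ?_⟩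
    all_goals rw [hw]; exact fun h' => hv (by simpa using sub_mem h' h)
  · exact ⟨X, hX, flip _ h, h⟩

/-- Main lemma: if `tr (A X) = 0` does not depend on the conjugate `X` of a non-scalar `B` by
products of transvections, then `A` or `B` is scalar. -/
theorem false_of_trace_constant (hd : 3 ≤ Module.finrank K V) (P : Module.End K V → Prop)
    (hP : ∀ X, P X → ∀ (φ : V →ₗ[K] K) (u : V), φ u = 0 → P (cj X φ u))
    (A B : Module.End K V) (hB : P B) (Z : Prop)
    (hZ : ∀ X, P X → (LinearMap.trace K V (A * X) = 0 ↔ Z))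
    {x y : V} (hx : A x ∉ span K {x}) (hy : B y ∉ span K {y}) : False := by
  obtain ⟨X, hX, hAx, hXx⟩ := exists_indep hd P hP A B hB hx hy
  have lin : ∀ Y, P Y → ∀ φ : V →ₗ[K] K, φ x = 0 → (φ (Y x) = 0 ∨ φ (A x) = 0) →
      φ (Y (A x) - A (Y x)) = 0 := by
    intro Y hY φ hφ hor
    have htr : ∀ s : K, LinearMap.trace K V (A * cj Y φ (s • x)) =
        LinearMap.trace K V (A * Y) + s * (φ (Y (A x)) - φ (A (Y x))) := by
      intro s
      have hN : ∀ (C D : Module.End K V),
          LinearMap.trace K V (C * (φ.smulRight x) * D) = φ (D (C x)) := by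
        intro C D
        rw [LinearMap.trace_mul_cycle, Module.End.mul_eq_comp (D * C)]
        rw [show (D * C) ∘ₗ φ.smulRight x = φ.smulRight ((D * C) x) from
          LinearMap.ext fun z => by simp]
        exact LinearMap.trace_smulRight _ _
      have he : A * cj Y φ (s • x) = A * Y + s • (A * φ.smulRight x * Y)
          - s • (A * Y * φ.smulRight x * 1) - (s * s) • (A * φ.smulRight x * Y * φ.smulRight x * 1) := by
        refine LinearMap.ext fun z => ?_
        simp [cj_apply, smul_smul]
        module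
      rw [he, map_sub, map_sub, map_add, map_smul, map_smul, map_smul, hN, hN, hN]
      simp only [Module.End.mul_apply, Module.End.one_apply, LinearMap.smulRight_apply,
        map_smul, smul_eq_mul]
      rcases hor with h | h <;> rw [h] <;> ring
    by_contra hne
    rw [map_sub] at hne
    have hu : ∀ s : K, φ (s • x) = 0 := fun s => by simp [hφ]
    have h0 := (hZ _ hY)
    by_cases hc : LinearMap.trace K V (A * Y) = 0
    · have h1 := (hZ _ (hP Y hY φ _ (hu 1))).2 (h0.1 hc)
      rw [htr, hc, zero_add, one_mul] at h1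
      exact hne h1
    · refine hc (h0.2 ((hZ _ (hP Y hY φ _
        (hu (-LinearMap.trace K V (A * Y) / (φ (Y (A x)) - φ (A (Y x))))))).1 ?_))
      rw [htr, div_mul_cancel₀ _ hne, add_neg_cancel]
  have key : ∀ Y, P Y → Y x = X x → Y (A x) - A (X x) ∈ span K {x} := by
    intro Y hY hYx
    have h1 : Y (A x) - A (Y x) ∈ span K {x, Y x} := by
      by_contra hn
      obtain ⟨φ, h1, h2⟩ := exists_dual hn
      rw [lin Y hY φ (h2 _ (subset_span (by simp))) (Or.inl (h2 _ (subset_span (by simp))))] at h1
      exact zero_ne_one h1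
    have h2 : Y (A x) - A (Y x) ∈ span K {x, A x} := by
      by_contra hn
      obtain ⟨φ, h1, h2⟩ := exists_dual hn
      rw [lin Y hY φ (h2 _ (subset_span (by simp))) (Or.inr (h2 _ (subset_span (by simp))))] at h1
      exact zero_ne_one h1
    rw [hYx] at h1 h2
    obtain ⟨a, b, hab⟩ := mem_span_pair.1 h1
    rcases eq_or_ne b 0 with rfl | hb
    · exact mem_span_singleton.2 ⟨a, by simpa using hab⟩
    · exfalso
      refine hXx ?_
      have h3 : b • X x ∈ span K ({x, A x} : Set V) := by
        rw [show b • X x = (Y (A x) - A (X x)) - a • x by rw [← hab]; abel]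
        exact sub_mem h2 (smul_mem _ _ (subset_span (by simp)))
      exact (smul_mem_iff _ hb).1 h3
  obtain ⟨ψ, hψ, hψS⟩ := exists_dual hAx
  have hψx : ψ x = 0 := hψS _ (subset_span (by simp))
  have hψw : ψ (X x) = 0 := hψS _ (subset_span (by simp))
  have h1 := key X hX rfl
  have h2 := key (cj X ψ x) (hP X hX ψ x hψx) (by
    rw [cj_apply, hψx, zero_smul, sub_zero, hψw, zero_smul, add_zero])
  have h3 := sub_mem h1 h2
  rw [cj_apply, hψ, one_smul, map_sub] at h3
  refine hXx ?_
  have hle : span K {x} ≤ span K ({x, A x} : Set V) := span_mono (by simp)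
  refine hle ?_
  have h4 := add_mem h3 (smul_mem _ (ψ (X (A x) - X x)) (mem_span_singleton_self x))
  convert h4 using 1
  abel

end

/-- Let F be a finite field and d ≥ 3, and let a, b be non-identity elements of PSL_d(F). Then the product of the conjugacy classes of a and b is not a single conjugacy class: there are conjugates a′ of a and b′ of b such that a′b′ is not conjugate to ab. -/
theorem result {F : Type*} [Field F] [Fintype F] (d : ℕ) (hd : 3 ≤ d)
    (a b : Matrix.ProjectiveSpecialLinearGroup (Fin d) F) (ha : a ≠ 1) (hb : b ≠ 1) :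
    ∃ g h : Matrix.ProjectiveSpecialLinearGroup (Fin d) F, ¬ IsConj (a * b) (g * a * g⁻¹ * (h * b * h⁻¹)) := by
  classical
  obtain ⟨a', rfl⟩ := QuotientGroup.mk_surjective a
  obtain ⟨b', rfl⟩ := QuotientGroup.mk_surjective b
  have hns : ∀ s : Matrix.SpecialLinearGroup (Fin d) F,
      (QuotientGroup.mk s : Matrix.ProjectiveSpecialLinearGroup (Fin d) F) ≠ 1 →
      ∃ v, Matrix.toLinAlgEquiv' (s : Matrix (Fin d) (Fin d) F) v ∉ Submodule.span F {v} := by
    intro s hs
    by_contra h
    push Not at h
    refine hs ((QuotientGroup.eq_one_iff _).2 (Subgroup.mem_center_iff.2 fun t => ?_))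
    obtain ⟨c, hc⟩ := LinearMap.exists_eq_smul_id_of_forall_notLinearIndependent
      (f := Matrix.toLinAlgEquiv' (s : Matrix (Fin d) (Fin d) F)) (fun v hli => by
        obtain ⟨k, hk⟩ := Submodule.mem_span_singleton.1 (h v)
        rw [LinearIndependent.pair_iff] at hli
        exact one_ne_zero (neg_eq_zero.1 (hli k (-1) (by rw [neg_one_smul, hk, add_neg_cancel])).2))
    refine Subtype.ext ?_
    apply (Matrix.toLinAlgEquiv' (R := F) (n := Fin d)).injective
    change Matrix.toLinAlgEquiv' ((t : Matrix (Fin d) (Fin d) F) * (s : Matrix (Fin d) (Fin d) F)) =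
      Matrix.toLinAlgEquiv' ((s : Matrix (Fin d) (Fin d) F) * (t : Matrix (Fin d) (Fin d) F))
    rw [map_mul, map_mul, hc]
    exact LinearMap.ext fun z => by simp
  obtain ⟨x, hx⟩ := hns a' ha
  obtain ⟨y, hy⟩ := hns b' hb
  by_contra hno
  push Not at hno
  let Φ := (Matrix.toLinAlgEquiv' (R := F) (n := Fin d))
  let P : Module.End F (Fin d → F) → Prop := fun X => ∃ g : Matrix.SpecialLinearGroup (Fin d) F,
    X = Φ ((g * b' * g⁻¹ : Matrix.SpecialLinearGroup (Fin d) F) : Matrix (Fin d) (Fin d) F)
  have htrace : ∀ M : Matrix (Fin d) (Fin d) F,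
      LinearMap.trace F (Fin d → F) (Φ M) = M.trace := fun M => Matrix.trace_toLin'_eq M
  refine false_of_trace_constant (by simpa using hd) P ?_ (Φ (a' : Matrix (Fin d) (Fin d) F))
    (Φ (b' : Matrix (Fin d) (Fin d) F)) ⟨1, by simp⟩
    (((a' * b' : Matrix.SpecialLinearGroup (Fin d) F) : Matrix (Fin d) (Fin d) F).trace = 0)
    ?_ hx hy
  · rintro X ⟨g, rfl⟩ φ u hu
    have hdet : (Φ.symm (LinearMap.transvection φ u)).det = 1 := by
      rw [← LinearMap.det_toLin']
      change LinearMap.det (Φ (Φ.symm (LinearMap.transvection φ u))) = 1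
      rw [AlgEquiv.apply_symm_apply, LinearMap.transvection.det, hu, add_zero]
    let t : Matrix.SpecialLinearGroup (Fin d) F := ⟨Φ.symm (LinearMap.transvection φ u), hdet⟩
    have hdet' : (Φ.symm (LinearMap.transvection φ (-u))).det = 1 := by
      rw [← LinearMap.det_toLin']
      change LinearMap.det (Φ (Φ.symm (LinearMap.transvection φ (-u)))) = 1
      rw [AlgEquiv.apply_symm_apply, LinearMap.transvection.det, map_neg, hu, neg_zero, add_zero]
    let t' : Matrix.SpecialLinearGroup (Fin d) F := ⟨Φ.symm (LinearMap.transvection φ (-u)), hdet'⟩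
    have htt : t * t' = 1 := Subtype.ext (Φ.injective (by
      change Φ (Φ.symm _ * Φ.symm _) = Φ 1
      rw [map_mul, AlgEquiv.apply_symm_apply, AlgEquiv.apply_symm_apply, map_one,
        tv_mul_cancel φ u hu]))
    refine ⟨t * g, ?_⟩
    rw [show t * g * b' * (t * g)⁻¹ = t * (g * b' * g⁻¹) * t' by
      rw [mul_inv_rev, eq_inv_of_mul_eq_one_right htt]; group]
    change cj _ φ u = Φ (Φ.symm (LinearMap.transvection φ u) *
      ((g * b' * g⁻¹ : Matrix.SpecialLinearGroup (Fin d) F) : Matrix (Fin d) (Fin d) F) *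
      Φ.symm (LinearMap.transvection φ (-u)))
    rw [map_mul, map_mul, AlgEquiv.apply_symm_apply, AlgEquiv.apply_symm_apply]
    rfl
  · rintro X ⟨g, rfl⟩
    obtain ⟨c, hc⟩ := isConj_iff.1 (hno 1 (QuotientGroup.mk g))
    obtain ⟨c', rfl⟩ := QuotientGroup.mk_surjective c
    rw [one_mul, inv_one, mul_one, ← QuotientGroup.mk_inv, ← QuotientGroup.mk_inv,
      ← QuotientGroup.mk_mul, ← QuotientGroup.mk_mul, ← QuotientGroup.mk_mul,
      ← QuotientGroup.mk_mul, ← QuotientGroup.mk_mul, ← QuotientGroup.mk_mul, eq_comm,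
      QuotientGroup.eq_iff_div_mem, Matrix.SpecialLinearGroup.mem_center_iff] at hc
    obtain ⟨r, hr, hr'⟩ := hc
    have hr0 : r ≠ 0 := fun h => by rw [h, zero_pow (by simp; omega)] at hr; exact zero_ne_one hr
    have hm : a' * (g * b' * g⁻¹) = (a' * (g * b' * g⁻¹) / (c' * (a' * b') * c'⁻¹)) *
        (c' * (a' * b') * c'⁻¹) := (div_mul_cancel _ _).symm
    have hm' := congrArg (fun z : Matrix.SpecialLinearGroup (Fin d) F =>
      (z : Matrix (Fin d) (Fin d) F).trace) hm
    simp only [Matrix.SpecialLinearGroup.coe_mul _ _] at hm'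
    rw [← map_mul, htrace]
    have hm2 : ((a' : Matrix (Fin d) (Fin d) F) *
        ((g * b' * g⁻¹ : Matrix.SpecialLinearGroup (Fin d) F) : Matrix (Fin d) (Fin d) F)).trace =
        r * ((a' * b' : Matrix.SpecialLinearGroup (Fin d) F) : Matrix (Fin d) (Fin d) F).trace := by
      rw [← Matrix.SpecialLinearGroup.coe_mul, congrArg Subtype.val hm,
        Matrix.SpecialLinearGroup.coe_mul, ← hr', Matrix.scalar_apply, ← Matrix.smul_one_eq_diagonal,
        smul_mul_assoc, one_mul, Matrix.trace_smul, smul_eq_mul,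
        Matrix.SpecialLinearGroup.coe_mul, Matrix.SpecialLinearGroup.coe_mul,
        Matrix.trace_mul_cycle, ← Matrix.SpecialLinearGroup.coe_mul, inv_mul_cancel]
      simp
    rw [hm2]
    simp [hr0]

end Cfsg.Agent.S2272
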