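import Cfsg.Statements.S2299
import Cfsg.Agent.Lib.InvCentralizers.SL2Tables

set_option autoImplicit false
open Cfsg
open CfsgLib.CharDegrees CfsgLib.InvCentralizers.SL2Tables

namespace Cfsg.Agent.S2299

/-- Over a finite field F with q elements, q odd, every irreducible complex character of SL₂ has degree 1, q, q + 1, q − 1, (q + 1)/2 or (q − 1)/2; and when q ≥ 5 (so that these six numbers are distinct) there are exactly one irreducible character of degree 1, one of degree q, (q − 3)/2 of degree q + 1, (q − 1)/2 of degree q − 1, two of degree (q + 1)/2 and two of degree (q − 1)/2. -/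
theorem result {F : Type*} [Field F] [Fintype F] (hodd : Odd (Fintype.card F)) :
    (∀ χ : Matrix.SpecialLinearGroup (Fin 2) F → ℂ, Cfsg.IsIrrCharacter (Matrix.SpecialLinearGroup (Fin 2) F) χ →
      χ 1 = 1 ∨ χ 1 = (Fintype.card F : ℂ) ∨ χ 1 = (Fintype.card F : ℂ) + 1 ∨ χ 1 = (Fintype.card F : ℂ) - 1 ∨
        χ 1 = (((Fintype.card F + 1) / 2 : ℕ) : ℂ) ∨ χ 1 = (((Fintype.card F - 1) / 2 : ℕ) : ℂ)) ∧
    (5 ≤ Fintype.card F →
      Nat.card {χ : Cfsg.IrrCharacter (Matrix.SpecialLinearGroup (Fin 2) F) // (χ : Matrix.SpecialLinearGroup (Fin 2) F → ℂ) 1 = 1} = 1 ∧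
      Nat.card {χ : Cfsg.IrrCharacter (Matrix.SpecialLinearGroup (Fin 2) F) // (χ : Matrix.SpecialLinearGroup (Fin 2) F → ℂ) 1 = (Fintype.card F : ℂ)} = 1 ∧
      Nat.card {χ : Cfsg.IrrCharacter (Matrix.SpecialLinearGroup (Fin 2) F) // (χ : Matrix.SpecialLinearGroup (Fin 2) F → ℂ) 1 = (Fintype.card F : ℂ) + 1} = (Fintype.card F - 3) / 2 ∧
      Nat.card {χ : Cfsg.IrrCharacter (Matrix.SpecialLinearGroup (Fin 2) F) // (χ : Matrix.SpecialLinearGroup (Fin 2) F → ℂ) 1 = (Fintype.card F : ℂ) - 1} = (Fintype.card F - 1) / 2 ∧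
      Nat.card {χ : Cfsg.IrrCharacter (Matrix.SpecialLinearGroup (Fin 2) F) // (χ : Matrix.SpecialLinearGroup (Fin 2) F → ℂ) 1 = (((Fintype.card F + 1) / 2 : ℕ) : ℂ)} = 2 ∧
      Nat.card {χ : Cfsg.IrrCharacter (Matrix.SpecialLinearGroup (Fin 2) F) // (χ : Matrix.SpecialLinearGroup (Fin 2) F → ℂ) 1 = (((Fintype.card F - 1) / 2 : ℕ) : ℂ)} = 2) := by
  classical
  have h2 := two_ne_zero_of_odd_card hodd
  obtain ⟨m, hm⟩ := id hodd
  obtain ⟨hp, hn⟩ := cast_half hodd
  refine ⟨fun χ hχ => ?_, fun h5 => ?_⟩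
  · rcases odd_cases hodd hχ with h | h | ⟨h, -⟩ | ⟨h, -⟩ | ⟨h, -⟩ | ⟨h, -⟩
    · exact Or.inl h
    · exact Or.inr (Or.inl h)
    · exact Or.inr (Or.inr (Or.inl h))
    · exact Or.inr (Or.inr (Or.inr (Or.inl h)))
    · exact Or.inr (Or.inr (Or.inr (Or.inr (Or.inl (mul_left_cancel₀ two_ne_zero (h.trans hp.symm))))))
    · exact Or.inr (Or.inr (Or.inr (Or.inr (Or.inr (mul_left_cancel₀ two_ne_zero (h.trans hn.symm))))))
  have key : ∀ (d : ℕ) (z : ℂ), (d : ℂ) = z →
      ((2 * Nat.card {χ : Cfsg.IrrCharacter (Matrix.SpecialLinearGroup (Fin 2) F) //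
        (χ : Matrix.SpecialLinearGroup (Fin 2) F → ℂ) 1 = z} : ℕ) : ℂ) =
      2 * (if 1 = d then (1 : ℂ) else 0) + 2 * (if Fintype.card F = d then (1 : ℂ) else 0) +
      ((Fintype.card F : ℂ) - 3) * (if Fintype.card F + 1 = d then (1 : ℂ) else 0) +
      ((Fintype.card F : ℂ) - 1) * (if Fintype.card F - 1 = d then (1 : ℂ) else 0) +
      4 * (if (Fintype.card F + 1) / 2 = d then (1 : ℂ) else 0) +
      4 * (if (Fintype.card F - 1) / 2 = d then (1 : ℂ) else 0) := by
    intro d z hz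
    rw [← two_mul_count h2 (fun e => e = d)]
    refine congrArg (fun e : ℕ => ((2 * e : ℕ) : ℂ)) (Nat.card_congr (Equiv.subtypeEquivRight fun χ => ?_))
    rw [← CfsgLib.Correspondences.charDegree_cast (CfsgLib.CharTheory.IsIrrCharacter.isCharacter χ.2),
      ← hz, Nat.cast_inj]
  refine ⟨?_, ?_, ?_, ?_, ?_, ?_⟩
  · have h := key 1 1 Nat.cast_one
    simp (disch := omega) only [if_neg, mul_one, mul_zero, add_zero, if_true] at h
    have := Nat.cast_injective (R := ℂ) (a₂ := 2) (h.trans (by norm_num))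
    omega
  · have h := key _ _ (rfl : (Fintype.card F : ℂ) = _)
    simp (disch := omega) only [if_neg, mul_one, mul_zero, add_zero, zero_add, if_true] at h
    have := Nat.cast_injective (R := ℂ) (a₂ := 2) (h.trans (by norm_num))
    omega
  · have h := key (Fintype.card F + 1) ((Fintype.card F : ℂ) + 1) (Nat.cast_succ _)
    simp (disch := omega) only [if_neg, mul_one, mul_zero, add_zero, zero_add, if_true] at h
    rw [show (Fintype.card F : ℂ) - 3 = ((Fintype.card F - 3 : ℕ) : ℂ) by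
      rw [Nat.cast_sub (by omega)]; norm_num] at h
    have := Nat.cast_injective h
    omega
  · have h := key (Fintype.card F - 1) ((Fintype.card F : ℂ) - 1)
      (by rw [Nat.cast_sub (by omega), Nat.cast_one])
    simp (disch := omega) only [if_neg, mul_one, mul_zero, add_zero, zero_add, if_true] at h
    have := Nat.cast_injective (h.trans (show (Fintype.card F : ℂ) - 1 =
      ((Fintype.card F - 1 : ℕ) : ℂ) by rw [Nat.cast_sub (by omega), Nat.cast_one]))
    omega
  · have h := key ((Fintype.card F + 1) / 2) _ rfl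
    simp (disch := omega) only [if_neg, mul_one, mul_zero, add_zero, zero_add, if_true] at h
    have := Nat.cast_injective (R := ℂ) (a₂ := 4) (h.trans (by norm_num))
    omega
  · have h := key ((Fintype.card F - 1) / 2) _ rfl
    simp (disch := omega) only [if_neg, mul_one, mul_zero, add_zero, zero_add, if_true] at h
    have := Nat.cast_injective (R := ℂ) (a₂ := 4) (h.trans (by norm_num))
    omega

end Cfsg.Agent.S2299
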