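import Cfsg.Statements.S2459
import Cfsg.Agent.Lib.CharDegrees.SourourSL

set_option autoImplicit false
set_option linter.style.haveILetI false
open Cfsg

namespace Cfsg.Agent.S2459

open CfsgLib.CharDegrees Matrix

/-- A `3 × 3` matrix of natural numbers, to be read modulo 3. -/
structure M3 where
  a00 : Nat
  a01 : Nat
  a02 : Nat
  a10 : Nat
  a11 : Nat
  a12 : Nat
  a20 : Nat
  a21 : Nat
  a22 : Nat

def M3.mul (x y : M3) : M3 :=
  ⟨(x.a00 * y.a00 + x.a01 * y.a10 + x.a02 * y.a20) % 3,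
   (x.a00 * y.a01 + x.a01 * y.a11 + x.a02 * y.a21) % 3,
   (x.a00 * y.a02 + x.a01 * y.a12 + x.a02 * y.a22) % 3,
   (x.a10 * y.a00 + x.a11 * y.a10 + x.a12 * y.a20) % 3,
   (x.a10 * y.a01 + x.a11 * y.a11 + x.a12 * y.a21) % 3,
   (x.a10 * y.a02 + x.a11 * y.a12 + x.a12 * y.a22) % 3,
   (x.a20 * y.a00 + x.a21 * y.a10 + x.a22 * y.a20) % 3,
   (x.a20 * y.a01 + x.a21 * y.a11 + x.a22 * y.a21) % 3,
   (x.a20 * y.a02 + x.a21 * y.a12 + x.a22 * y.a22) % 3⟩

def M3.beq (x y : M3) : Bool :=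
  x.a00 == y.a00 && x.a01 == y.a01 && x.a02 == y.a02 && x.a10 == y.a10 && x.a11 == y.a11 &&
    x.a12 == y.a12 && x.a20 == y.a20 && x.a21 == y.a21 && x.a22 == y.a22

/-- the determinant modulo 3, with `2` for `-1` -/
def M3.det (x : M3) : Nat :=
  (x.a00 * (x.a11 * x.a22 + 2 * (x.a12 * x.a21)) + 2 * (x.a01 * (x.a10 * x.a22 + 2 * (x.a12 * x.a20)))
    + x.a02 * (x.a10 * x.a21 + 2 * (x.a11 * x.a20))) % 3

def decode (c : Nat) : M3 :=
  ⟨c % 3, c / 3 % 3, c / 9 % 3, c / 27 % 3, c / 81 % 3, c / 243 % 3, c / 729 % 3, c / 2187 % 3,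
    c / 6561 % 3⟩

def cmat : M3 := ⟨0, 0, 1, 1, 0, 1, 0, 1, 0⟩

def tab : List (List (Nat × Nat)) :=
  [[(0, 0), (0, 0), (0, 0), (0, 0), (0, 0), (0, 0), (0, 0), (0, 0), (0, 0), (0, 0), (0, 0), (0, 0), (0, 0), (0, 0), (0, 0), (0, 0), (0, 0), (0, 0), (0, 0), (0, 0), (0, 0), (0, 0), (0, 0), (0, 0), (0, 0), (0, 0), (0, 0)],
  [(0, 0), (0, 0), (0, 0), (0, 0), (0, 0), (0, 0), (0, 0), (0, 0), (0, 0), (0, 0), (0, 0), (0, 0), (0, 0), (0, 0), (0, 0), (0, 0), (0, 0), (0, 0), (0, 0), (0, 0), (0, 0), (0, 0), (0, 0), (0, 0), (0, 0), (0, 0), (0, 0)],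
  [(0, 0), (0, 0), (0, 0), (0, 0), (0, 0), (0, 0), (0, 0), (0, 0), (0, 0), (0, 0), (0, 0), (0, 0), (0, 0), (0, 0), (0, 0), (0, 0), (0, 0), (0, 0), (0, 0), (0, 0), (0, 0), (0, 0), (0, 0), (0, 0), (0, 0), (0, 0), (0, 0)],
  [(0, 0), (0, 0), (0, 0), (14670, 13268), (14022, 13591), (8352, 13246), (0, 0), (0, 0), (0, 0), (0, 0), (0, 0), (0, 0), (1548, 13223), (16857, 13435), (10296, 13647), (0, 0), (0, 0), (0, 0), (0, 0), (0, 0), (0, 0), (1791, 13472), (8109, 7170), (9648, 7099), (0, 0), (0, 0), (0, 0)],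
  [(0, 0), (0, 0), (0, 0), (14022, 13586), (5922, 7113), (15156, 6960), (0, 0), (0, 0), (0, 0), (0, 0), (0, 0), (0, 0), (11835, 13688), (14670, 13270), (8109, 7156), (0, 0), (0, 0), (0, 0), (0, 0), (0, 0), (0, 0), (19044, 6839), (1548, 13226), (16857, 13694), (0, 0), (0, 0), (0, 0)],
  [(0, 0), (0, 0), (0, 0), (5922, 13246), (19287, 13312), (10539, 13357), (0, 0), (0, 0), (0, 0), (0, 0), (0, 0), (0, 0), (6408, 13528), (2952, 13706), (14670, 13272), (0, 0), (0, 0), (0, 0), (0, 0), (0, 0), (0, 0), (8109, 7178), (19044, 13454), (1548, 13229), (0, 0), (0, 0), (0, 0)],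
  [(0, 0), (0, 0), (0, 0), (0, 0), (0, 0), (0, 0), (900, 13294), (2709, 6872), (10296, 13511), (0, 0), (0, 0), (0, 0), (0, 0), (0, 0), (0, 0), (16857, 13800), (6165, 13688), (10539, 6737), (0, 0), (0, 0), (0, 0), (0, 0), (0, 0), (0, 0), (1548, 6652), (8352, 13520), (8109, 6708)],
  [(0, 0), (0, 0), (0, 0), (0, 0), (0, 0), (0, 0), (8352, 13522), (10296, 6971), (12321, 7123), (0, 0), (0, 0), (0, 0), (0, 0), (0, 0), (0, 0), (17100, 6740), (1548, 6658), (900, 13300), (0, 0), (0, 0), (0, 0), (0, 0), (0, 0), (0, 0), (8109, 6706), (19044, 6901), (5922, 13686)],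
  [(0, 0), (0, 0), (0, 0), (0, 0), (0, 0), (0, 0), (10242, 6872), (8109, 6713), (8352, 13524), (0, 0), (0, 0), (0, 0), (0, 0), (0, 0), (0, 0), (10782, 7232), (5922, 6692), (1548, 6655), (0, 0), (0, 0), (0, 0), (0, 0), (0, 0), (0, 0), (10296, 7090), (3978, 6734), (16857, 7141)],
  [(0, 0), (0, 0), (12726, 7190), (0, 0), (0, 0), (6165, 13715), (0, 0), (0, 0), (1791, 13506), (0, 0), (0, 0), (19287, 7194), (0, 0), (0, 0), (12726, 13319), (0, 0), (0, 0), (6165, 13395), (0, 0), (0, 0), (14913, 7201), (0, 0), (0, 0), (19044, 6856), (0, 0), (0, 0), (4221, 7091)],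
  [(0, 0), (0, 0), (3330, 13498), (0, 0), (0, 0), (16857, 13443), (0, 0), (0, 0), (6408, 13604), (0, 0), (0, 0), (1791, 7185), (0, 0), (0, 0), (1548, 13263), (0, 0), (0, 0), (7461, 13328), (0, 0), (0, 0), (2034, 13749), (0, 0), (0, 0), (5922, 13242), (0, 0), (0, 0), (1548, 6699)],
  [(0, 0), (0, 0), (3978, 13562), (0, 0), (0, 0), (8352, 13460), (0, 0), (0, 0), (14670, 6646), (0, 0), (0, 0), (7704, 7265), (0, 0), (0, 0), (8109, 13220), (0, 0), (0, 0), (16857, 6862), (0, 0), (0, 0), (8352, 7199), (0, 0), (0, 0), (14670, 7165), (0, 0), (0, 0), (18396, 13352)],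
  [(0, 0), (0, 0), (1791, 7190), (8109, 13214), (0, 0), (0, 0), (0, 0), (14265, 13777), (0, 0), (0, 0), (0, 0), (3978, 7194), (14670, 7160), (0, 0), (0, 0), (0, 0), (1548, 6704), (0, 0), (0, 0), (0, 0), (2223, 13656), (5922, 7123), (0, 0), (0, 0), (0, 0), (10296, 7098), (0, 0)],
  [(0, 0), (0, 0), (1143, 7274), (19044, 13469), (0, 0), (0, 0), (0, 0), (14670, 6649), (0, 0), (0, 0), (0, 0), (8352, 7192), (10296, 13639), (0, 0), (0, 0), (0, 0), (19044, 6784), (0, 0), (0, 0), (0, 0), (16452, 13475), (10539, 13789), (0, 0), (0, 0), (0, 0), (1143, 13352), (0, 0)],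
  [(0, 0), (0, 0), (2034, 13745), (16857, 13715), (0, 0), (0, 0), (0, 0), (3087, 13706), (0, 0), (0, 0), (0, 0), (14913, 7203), (2034, 6947), (0, 0), (0, 0), (0, 0), (10539, 6688), (0, 0), (0, 0), (0, 0), (15156, 13758), (1548, 13259), (0, 0), (0, 0), (0, 0), (14022, 13288), (0, 0)],
  [(0, 0), (0, 0), (17100, 7190), (0, 0), (10539, 13272), (0, 0), (16857, 7147), (0, 0), (0, 0), (0, 0), (0, 0), (8352, 7194), (0, 0), (10782, 13640), (0, 0), (14670, 6643), (0, 0), (0, 0), (0, 0), (0, 0), (8595, 13767), (0, 0), (1548, 13261), (0, 0), (10539, 6872), (0, 0), (0, 0)],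
  [(0, 0), (0, 0), (1386, 13843), (0, 0), (6165, 7122), (0, 0), (10296, 13506), (0, 0), (0, 0), (0, 0), (0, 0), (14913, 7208), (0, 0), (8109, 13217), (0, 0), (4221, 6793), (0, 0), (0, 0), (0, 0), (0, 0), (7947, 13839), (0, 0), (14670, 7179), (0, 0), (6165, 6983), (0, 0), (0, 0)],
  [(0, 0), (0, 0), (1791, 7183), (0, 0), (5922, 13783), (0, 0), (10134, 13777), (0, 0), (0, 0), (0, 0), (0, 0), (1143, 7288), (0, 0), (3978, 13786), (0, 0), (1548, 6697), (0, 0), (0, 0), (0, 0), (0, 0), (10539, 13573), (0, 0), (14913, 13242), (0, 0), (1791, 13504), (0, 0), (0, 0)],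
  [(0, 0), (1143, 6999), (0, 0), (0, 0), (16857, 13700), (0, 0), (0, 0), (14022, 7040), (0, 0), (0, 0), (3978, 6931), (0, 0), (0, 0), (17100, 13426), (0, 0), (0, 0), (2034, 6675), (0, 0), (0, 0), (14913, 6917), (0, 0), (0, 0), (1791, 13233), (0, 0), (0, 0), (16803, 13332), (0, 0)],
  [(0, 0), (7704, 7015), (0, 0), (0, 0), (14670, 13208), (0, 0), (0, 0), (19044, 13396), (0, 0), (0, 0), (10539, 13839), (0, 0), (0, 0), (10782, 13246), (0, 0), (0, 0), (5922, 7223), (0, 0), (0, 0), (8352, 6913), (0, 0), (0, 0), (12726, 7036), (0, 0), (0, 0), (8109, 6667), (0, 0)],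
  [(0, 0), (1791, 6918), (0, 0), (0, 0), (8109, 13279), (0, 0), (0, 0), (12726, 6968), (0, 0), (0, 0), (6165, 13825), (0, 0), (0, 0), (19044, 6846), (0, 0), (0, 0), (1548, 13719), (0, 0), (0, 0), (14265, 7004), (0, 0), (0, 0), (1548, 7161), (0, 0), (0, 0), (9648, 13657), (0, 0)],
  [(0, 0), (8352, 6927), (0, 0), (10296, 6958), (0, 0), (0, 0), (0, 0), (0, 0), (1548, 13727), (0, 0), (6165, 6931), (0, 0), (12726, 13288), (0, 0), (0, 0), (0, 0), (0, 0), (10782, 6789), (0, 0), (19287, 6917), (0, 0), (14670, 13205), (0, 0), (0, 0), (0, 0), (0, 0), (12024, 7226)],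
  [(0, 0), (1143, 6995), (0, 0), (1548, 7169), (0, 0), (0, 0), (0, 0), (0, 0), (10296, 7082), (0, 0), (1791, 6926), (0, 0), (8109, 13277), (0, 0), (0, 0), (0, 0), (0, 0), (3195, 6872), (0, 0), (17100, 13843), (0, 0), (900, 6752), (0, 0), (0, 0), (0, 0), (0, 0), (19530, 13677)],
  [(0, 0), (14913, 6922), (0, 0), (10539, 13217), (0, 0), (0, 0), (0, 0), (0, 0), (16857, 13816), (0, 0), (14508, 13573), (0, 0), (16857, 13427), (0, 0), (0, 0), (0, 0), (0, 0), (6165, 13823), (0, 0), (1386, 13562), (0, 0), (12024, 13688), (0, 0), (0, 0), (0, 0), (0, 0), (8109, 6664)],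
  [(0, 0), (2304, 13520), (0, 0), (0, 0), (0, 0), (1548, 7174), (8109, 6661), (0, 0), (0, 0), (0, 0), (1791, 6931), (0, 0), (0, 0), (0, 0), (8109, 13281), (10296, 6977), (0, 0), (0, 0), (0, 0), (17100, 6917), (0, 0), (0, 0), (0, 0), (2304, 13543), (16857, 6881), (0, 0), (0, 0)],
  [(0, 0), (14913, 6936), (0, 0), (0, 0), (0, 0), (10539, 13434), (1548, 13741), (0, 0), (0, 0), (0, 0), (8595, 13475), (0, 0), (0, 0), (0, 0), (10296, 13534), (12726, 13415), (0, 0), (0, 0), (0, 0), (2034, 13498), (0, 0), (0, 0), (0, 0), (17100, 13214), (9513, 13777), (0, 0), (0, 0)],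
  [(0, 0), (8352, 6935), (0, 0), (0, 0), (0, 0), (14670, 13211), (14265, 13348), (0, 0), (0, 0), (0, 0), (1143, 6997), (0, 0), (0, 0), (0, 0), (5517, 13586), (5922, 13669), (0, 0), (0, 0), (0, 0), (9891, 13745), (0, 0), (0, 0), (0, 0), (1791, 13255), (18396, 6847), (0, 0), (0, 0)]]

def wit (i : Nat) : Nat × Nat := (tab.getD (i / 27) []).getD (i % 27) (0, 0)

def good (m : M3) (w : Nat × Nat) : Bool :=
  m.det != 1 ||
    ((decode w.1).det == 1 && (decode w.2).det == 1 &&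
      M3.beq ((m.mul (decode w.1)).mul (decode w.2))
        ((((decode w.1).mul cmat).mul (decode w.2)).mul cmat))

theorem check : ∀ a b c d e f : Fin 3,
    good ⟨0, a, b, 1, c, d, 0, e, f⟩
      (wit ((a : Nat) + 3 * b + 9 * c + 27 * d + 81 * e + 243 * f)) = true := by
  decide +kernel

variable {F : Type*} [Field F] [CharP F 3]

def M3.toMat (F : Type*) [Field F] (x : M3) : Matrix (Fin 3) (Fin 3) F :=
  !![(x.a00 : F), (x.a01 : F), (x.a02 : F); (x.a10 : F), (x.a11 : F), (x.a12 : F);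
    (x.a20 : F), (x.a21 : F), (x.a22 : F)]

theorem cast_mod_three (k : ℕ) : ((k % 3 : ℕ) : F) = (k : F) := by
  rw [← CharP.cast_eq_mod F 3]

theorem toMat_mul (x y : M3) : (x.mul y).toMat F = x.toMat F * y.toMat F := by
  ext i j
  fin_cases i <;> fin_cases j <;>
    simp [M3.toMat, M3.mul, Matrix.mul_apply, Fin.sum_univ_three, cast_mod_three]

theorem toMat_det (x : M3) : (x.toMat F).det = (x.det : F) := by
  have h3 : (3 : F) = 0 := CharP.cast_eq_zero F 3
  rw [Matrix.det_fin_three]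
  simp [M3.toMat, M3.det, cast_mod_three]
  grind

theorem beq_eq {x y : M3} (h : M3.beq x y = true) : x = y := by
  obtain ⟨a, b, c, d, e, f, g, i, j⟩ := x
  obtain ⟨a', b', c', d', e', f', g', i', j'⟩ := y
  simp only [M3.beq, Bool.and_eq_true, beq_iff_eq] at h
  obtain ⟨⟨⟨⟨⟨⟨⟨⟨rfl, rfl⟩, rfl⟩, rfl⟩, rfl⟩, rfl⟩, rfl⟩, rfl⟩, rfl⟩ := h
  rfl

theorem surj [Fintype F] (hF : Fintype.card F = 3) (x : F) : ∃ k : Fin 3, ((k : ℕ) : F) = x := by
  have hinj : Function.Injective fun k : Fin 3 => ((k : ℕ) : F) := by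
    intro a b h
    exact Fin.ext (CharP.natCast_injOn_Iio F 3 a.2 b.2 h)
  exact ((Fintype.bijective_iff_injective_and_card _).mpr ⟨hinj, by simp [hF]⟩).2 x

theorem exists_C [Fintype F] (hF : Fintype.card F = 3) :
    ∃ C : Matrix.SpecialLinearGroup (Fin 3) F, C ^ 13 = 1 ∧ ∀ A : Matrix.SpecialLinearGroup (Fin 3) F,
      (∀ c : F, (A : Matrix (Fin 3) (Fin 3) F) ≠ c • 1) → ∃ u v : Matrix.SpecialLinearGroup (Fin 3) F,
        A = u * C * u⁻¹ * (v * C * v⁻¹) := by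
  have hC : (cmat.toMat F).det = 1 := by
    rw [toMat_det, show cmat.det = 1 from rfl, Nat.cast_one]
  let C : Matrix.SpecialLinearGroup (Fin 3) F := ⟨_, hC⟩
  refine ⟨C, ?_, fun A hA => ?_⟩
  · apply Subtype.ext
    rw [Matrix.SpecialLinearGroup.coe_pow, Matrix.SpecialLinearGroup.coe_one]
    show cmat.toMat F ^ 13 = 1
    simp only [pow_succ, pow_zero, one_mul, ← toMat_mul]
    ext i j
    fin_cases i <;> fin_cases j <;> simp [M3.toMat, M3.mul, cmat]
  obtain ⟨c, D, P, Q, hPQ, hQP, hAM⟩ := exists_sim_first_column (A : Matrix (Fin 3) (Fin 3) F) hA 0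
  obtain ⟨a, ha⟩ := surj hF (c 0)
  obtain ⟨b, hb⟩ := surj hF (c 1)
  obtain ⟨c', hc⟩ := surj hF (D 0 0)
  obtain ⟨d, hd⟩ := surj hF (D 0 1)
  obtain ⟨e, he⟩ := surj hF (D 1 0)
  obtain ⟨f, hf⟩ := surj hF (D 1 1)
  have hk := check a b c' d e f
  generalize wit ((a : Nat) + 3 * b + 9 * c' + 27 * d + 81 * e + 243 * f) = w at hk
  set m : M3 := ⟨0, a, b, 1, c', d, 0, e, f⟩ with hm
  have hmat : blk 0 c (Pi.single 0 1) D = m.toMat F := by
    ext i j
    refine Fin.cases ?_ (fun i => ?_) i <;> refine Fin.cases ?_ (fun j => ?_) j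
    · simp [blk, hm, M3.toMat]
    · fin_cases j <;> (simp [-Fin.succ_one_eq_two, blk, hm, M3.toMat, ha, hb] <;> rfl)
    · fin_cases i <;> (simp [-Fin.succ_one_eq_two, blk, hm, M3.toMat] <;> rfl)
    · fin_cases i <;> fin_cases j <;> (simp [-Fin.succ_one_eq_two, blk, hm, M3.toMat, hc, hd, he, hf] <;> rfl)
  rw [hmat] at hAM
  have hPQd : P.det * Q.det = 1 := by rw [← Matrix.det_mul, hPQ, Matrix.det_one]
  have hmdet : (m.toMat F).det = 1 := by
    have h1 := A.2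
    rw [hAM, Matrix.det_mul, Matrix.det_mul, mul_comm P.det, mul_assoc, hPQd, mul_one] at h1
    exact h1
  have hmd : m.det = 1 := by
    rw [toMat_det, ← Nat.cast_one] at hmdet
    exact CharP.natCast_injOn_Iio F 3 (Nat.mod_lt _ (by norm_num)) (by simp) hmdet
  simp only [good, hmd, bne_self_eq_false, Bool.false_or, Bool.and_eq_true, beq_iff_eq] at hk
  obtain ⟨⟨hq, hs⟩, heq⟩ := hk
  let Qw : Matrix.SpecialLinearGroup (Fin 3) F := ⟨(decode w.1).toMat F, by rw [toMat_det, hq, Nat.cast_one]⟩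
  let Sw : Matrix.SpecialLinearGroup (Fin 3) F := ⟨(decode w.2).toMat F, by rw [toMat_det, hs, Nat.cast_one]⟩
  let M : Matrix.SpecialLinearGroup (Fin 3) F := ⟨_, hmdet⟩
  have hrel : M * Qw * Sw = Qw * C * Sw * C := by
    apply Subtype.ext
    simp only [Matrix.SpecialLinearGroup.coe_mul]
    show m.toMat F * (decode w.1).toMat F * (decode w.2).toMat F =
      (decode w.1).toMat F * cmat.toMat F * (decode w.2).toMat F * cmat.toMat F
    simp only [← toMat_mul]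
    rw [beq_eq heq]
  have hMeq : M = Qw * C * Qw⁻¹ * ((Qw * Sw) * C * (Qw * Sw)⁻¹) := by
    rw [eq_mul_inv_of_mul_eq (eq_mul_inv_of_mul_eq hrel)]
    group
  have hdd : P.det * P.det = 1 := by
    have h0 : P.det ≠ 0 := left_ne_zero_of_mul_eq_one hPQd
    have := FiniteField.pow_card_sub_one_eq_one P.det h0
    rwa [hF, show 3 - 1 = 2 from rfl, sq] at this
  let R : Matrix.SpecialLinearGroup (Fin 3) F := ⟨P.det • P, by
    rw [Matrix.det_smul, Fintype.card_fin]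
    linear_combination (P.det * P.det + 1) * hdd⟩
  have hR : A = R * M * R⁻¹ := by
    rw [eq_mul_inv_iff_mul_eq]
    apply Subtype.ext
    simp only [Matrix.SpecialLinearGroup.coe_mul]
    show (A : Matrix (Fin 3) (Fin 3) F) * (P.det • P) = P.det • P * m.toMat F
    rw [hAM, Matrix.mul_smul, Matrix.smul_mul, mul_assoc (P * m.toMat F) Q P, hQP, mul_one]
  refine ⟨R * Qw, R * (Qw * Sw), ?_⟩
  rw [hR, hMeq]
  group

/-- A form of Thompson's conjecture for PSL(3,q), q > 2 (covering the non-identity elements), with a semisimple class: for F a finite field of characteristic p with more than 2 elements there is an element x of PSL(3,F) of order prime to p such that every non-identity element of PSL(3,F) is a product of two conjugates of x. -/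
theorem result {F : Type*} [Field F] [Fintype F] (p : ℕ) [Fact p.Prime] [CharP F p] (h3 : 3 ≤ Fintype.card F) :
    ∃ x : Matrix.ProjectiveSpecialLinearGroup (Fin 3) F, ¬ p ∣ orderOf x ∧ ∀ g : Matrix.ProjectiveSpecialLinearGroup (Fin 3) F, g ≠ 1 → ∃ u v : Matrix.ProjectiveSpecialLinearGroup (Fin 3) F, g = (u * x * u⁻¹) * (v * x * v⁻¹) := by
  classical
  have hp : p.Prime := Fact.out
  suffices h : ∃ (C : Matrix.SpecialLinearGroup (Fin 3) F) (k : ℕ), ¬ p ∣ k ∧ C ^ k = 1 ∧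
      ∀ A : Matrix.SpecialLinearGroup (Fin 3) F, (∀ c : F, (A : Matrix (Fin 3) (Fin 3) F) ≠ c • 1) →
        ∃ u v : Matrix.SpecialLinearGroup (Fin 3) F, A = u * C * u⁻¹ * (v * C * v⁻¹) by
    obtain ⟨C, k, hk, hCk, hcov⟩ := h
    refine ⟨QuotientGroup.mk' _ C, fun hd => hk (hd.trans ?_), fun g hg => ?_⟩
    · rw [orderOf_dvd_iff_pow_eq_one, ← map_pow, hCk, map_one]
    obtain ⟨A, rfl⟩ := QuotientGroup.mk'_surjective _ g
    obtain ⟨u, v, huv⟩ := hcov A (fun c hc => hg (by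
      rw [← MonoidHom.mem_ker, QuotientGroup.ker_mk', Matrix.SpecialLinearGroup.mem_center_iff]
      refine ⟨c, ?_, ?_⟩
      · have h1 := A.2
        rw [hc, Matrix.det_smul, Matrix.det_one, mul_one] at h1
        exact h1
      · rw [hc, Matrix.scalar_apply, Matrix.smul_one_eq_diagonal]))
    exact ⟨QuotientGroup.mk' _ u, QuotientGroup.mk' _ v, by rw [huv]; rfl⟩
  obtain ⟨e, -, hq⟩ := FiniteField.card F p
  rcases eq_or_lt_of_le h3 with h | h
  · obtain rfl : p = 3 := by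
      have h1 : p ∣ 3 := h ▸ hq ▸ dvd_pow_self p e.pos.ne'
      exact (Nat.prime_dvd_prime_iff_eq hp Nat.prime_three).mp h1
    obtain ⟨C, hC, hcov⟩ := exists_C (F := F) h.symm
    exact ⟨C, 13, by norm_num, hC, hcov⟩
  · obtain ⟨a, ha⟩ := Finset.exists_mem_notMem_of_card_lt_card (s := ({0, 1, -1} : Finset F))
      (t := Finset.univ) (lt_of_le_of_lt Finset.card_le_three (by rw [Finset.card_univ]; omega)) |>.imp
        fun x hx => hx.2
    simp only [Finset.mem_insert, Finset.mem_singleton, not_or] at ha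
    obtain ⟨ha0, ha1, hm1⟩ := ha
    have hai : a⁻¹ ≠ a := by
      intro h'
      have h2 : a * a = 1 := by nth_rewrite 2 [← h']; exact mul_inv_cancel₀ ha0
      rcases mul_self_eq_one_iff.mp h2 with h3 | h3
      · exact ha1 h3
      · exact hm1 h3
    set β : Fin 3 → F := ![1, a, a⁻¹] with hβ
    have hinj : Function.Injective β := by
      intro i j hij
      fin_cases i <;> fin_cases j <;> simp_all [hβ, eq_comm]
    let C : Matrix.SpecialLinearGroup (Fin 3) F := ⟨Matrix.diagonal β, by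
      simp [Matrix.det_diagonal, Fin.prod_univ_three, hβ, ha0]⟩
    refine ⟨C, Fintype.card F - 1, ?_, ?_, fun A hA => exists_conj_mul_conj C C A β β rfl rfl hinj hinj hA⟩
    · intro hd
      have h1 : p ∣ Fintype.card F := hq ▸ dvd_pow_self p e.pos.ne'
      have h2 := Nat.dvd_sub h1 hd
      rw [Nat.sub_sub_self (by omega)] at h2
      exact hp.not_dvd_one h2
    · apply Subtype.ext
      rw [Matrix.SpecialLinearGroup.coe_pow, Matrix.SpecialLinearGroup.coe_one]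
      show Matrix.diagonal β ^ (Fintype.card F - 1) = 1
      rw [Matrix.diagonal_pow, ← Matrix.diagonal_one]
      congr 1
      funext i
      refine FiniteField.pow_card_sub_one_eq_one _ ?_
      fin_cases i <;> simp [hβ, ha0]

end Cfsg.Agent.S2459
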