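import Cfsg.Statements.S2472
import Cfsg.Agent.Lib.SympPrimeAdj.Main

set_option autoImplicit false
open Cfsg

namespace Cfsg.Agent.S2472

/-- Adjacency of a prime and the characteristic in the prime graph of PSp(2n,q): let F be a finite field of characteristic p with q elements, n ≥ 2 with PSp(2n,F) simple, and let r ≠ p be an odd prime dividing the order of PSp(2n,F), with k the multiplicative order of q modulo r and η(k) = k for odd k, k/2 for even k. Then PSp(2n,F) has NO element of order r·p if and only if η(k) > n − 1. -/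
theorem result {F : Type*} [Field F] [Fintype F] (p : ℕ) [Fact p.Prime] [CharP F p] (n : ℕ) (hn : 2 ≤ n) (hsmall : n = 2 → 3 ≤ Fintype.card F)
    (r : ℕ) (hr : r.Prime) (hr2 : r ≠ 2) (hrp : r ≠ p) (hrG : r ∣ Nat.card (Cfsg.PSp n F))
    (k ηk : ℕ) (hk : k = orderOf ((Fintype.card F : ℕ) : ZMod r)) (hηk : (Odd k ∧ ηk = k) ∨ (Even k ∧ 2 * ηk = k)) :
    (r * p ∉ Set.range (orderOf : Cfsg.PSp n F → ℕ)) ↔ n - 1 < ηk := by
  obtain ⟨m, rfl⟩ : ∃ m, n = m + 1 := ⟨n - 1, by omega⟩
  have hp := (Fact.out : p.Prime)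
  have hcop : Nat.Coprime (Nat.card (Subgroup.center ↥(Matrix.symplecticGroup (Fin (m + 1)) F)))
      (r * p) := by
    rw [CfsgLib.ClassicalLinear.card_center_sp (by omega)]
    have hq2 := Fintype.one_lt_card (α := F)
    obtain ⟨f, hf, hqf⟩ := CfsgLib.ClassicalLinear.card_field_eq_pow (F := F) p
    refine Nat.Coprime.mul_right
      ((hr.coprime_iff_not_dvd.2 fun h => hr2 ((Nat.prime_dvd_prime_iff_eq hr Nat.prime_two).1
        (h.trans (Nat.gcd_dvd_left _ _)))).symm)
      ((hp.coprime_iff_not_dvd.2 fun h => ?_).symm)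
    have h1 : p ∣ Fintype.card F - 1 := h.trans (Nat.gcd_dvd_right _ _)
    have h2 : p ∣ Fintype.card F := hqf ▸ dvd_pow_self p hf.ne'
    exact hp.not_dvd_one (by simpa [Nat.sub_sub_self hq2.le] using Nat.dvd_sub h2 h1)
  rw [CfsgLib.SympPrimeAdj.mem_range_orderOf_quotient_iff _ hcop]
  subst hk
  constructor
  · intro h
    by_contra hle
    refine h (CfsgLib.SympPrimeAdj.mem_range_of_le p r hr hrp (η := ηk) ?_ (by omega) ?_)
    · have : Fact r.Prime := ⟨hr⟩
      have h0 : 0 < orderOf ((Fintype.card F : ℕ) : ZMod r) := by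
        rw [orderOf_pos_iff, isOfFinOrder_iff_isUnit, isUnit_iff_ne_zero, Ne,
          ZMod.natCast_eq_zero_iff]
        exact CfsgLib.SympPrimeAdj.not_dvd_card_field p r hr hrp
      rcases hηk with ⟨-, h⟩ | ⟨-, h⟩ <;> omega
    · rcases hηk with ⟨-, h⟩ | ⟨-, h⟩
      · exact h ▸ Dvd.intro_left 2 rfl
      · exact h ▸ dvd_rfl
  · intro h
    exact CfsgLib.SympPrimeAdj.not_mem_range p r hr hr2 hrp (by omega) hηk (by omega)

end Cfsg.Agent.S2472
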