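import Cfsg.Statements.S2477
import Cfsg.Agent.Lib.Fixity.AltTenOrders

set_option autoImplicit false
open Cfsg

namespace Cfsg.Agent.S2477

/-- The set of element orders of the alternating group of degree 10 is {1, 2, 3, 4, 5, 6, 7, 8, 9, 10, 12, 15, 21}. -/
theorem result : Set.range (orderOf : alternatingGroup (Fin 10) → ℕ) = {1, 2, 3, 4, 5, 6, 7, 8, 9, 10, 12, 15, 21} := by
  rw [CfsgLib.Fixity.range_orderOf_altTen]
  have key : ∀ n < 22, (∃ m ∈ CfsgLib.Fixity.altTenMax, n ∣ m) ↔
      n ∈ [1, 2, 3, 4, 5, 6, 7, 8, 9, 10, 12, 15, 21] := by decide +kernel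
  ext n
  simp only [Set.mem_ofPred_eq, Set.mem_insert_iff, Set.mem_singleton_iff]
  by_cases hn : n < 22
  · rw [key n hn]
    simp
  · constructor
    · rintro ⟨m, hm, hd⟩
      have : m ≤ 21 ∧ 0 < m := by
        simp only [CfsgLib.Fixity.altTenMax, List.mem_cons, List.not_mem_nil, or_false] at hm
        omega
      have := Nat.le_of_dvd this.2 hd
      omega
    · intro h
      omega

end Cfsg.Agent.S2477
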