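import Cfsg.Statements.S2507
import Cfsg.Agent.Lib.CharDegrees.PSLTwoClasses

set_option autoImplicit false
open Cfsg Matrix
open scoped MatrixGroups

namespace Cfsg.Agent.S2507

open CfsgLib.SL2 CfsgLib.CharDegrees
open CfsgLib.ClassicalLinear (upS upS_coe upS_add upS_injective)

/-- Let F be a finite field with q = 2^f ≥ 4 elements. The conjugacy class sizes of PSL(2,F) are exactly 1, q(q − 1), q² − 1 and q(q + 1). -/
theorem result {F : Type*} [Field F] [Fintype F]
    (h2 : 2 ∣ Fintype.card F) (h4 : 4 ≤ Fintype.card F) :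
    Set.range (fun g : (Matrix.ProjectiveSpecialLinearGroup (Fin 2) F) => (Subgroup.centralizer ({g} : Set (Matrix.ProjectiveSpecialLinearGroup (Fin 2) F))).index) =
      {1, Fintype.card F * (Fintype.card F - 1), Fintype.card F ^ 2 - 1, Fintype.card F * (Fintype.card F + 1)} := by
  have hz : (2 : F) = 0 := by
    by_contra h
    exact (odd_facts h).2.2 h2
  obtain ⟨hc, -, -⟩ := char_two_facts hz
  have hq : Nat.card F = Fintype.card F := Nat.card_eq_fintype_card
  have hsq : Fintype.card F ^ 2 - 1 = (Fintype.card F + 1) * (Fintype.card F - 1) := by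
    rw [← Nat.sq_sub_sq, one_pow]
  ext m
  simp only [Set.mem_range, Set.mem_insert_iff, Set.mem_singleton_iff]
  constructor
  · rintro ⟨x, rfl⟩
    obtain ⟨g, rfl⟩ := QuotientGroup.mk'_surjective _ x
    rcases class_size_cases g with ⟨h, -⟩ | ⟨h, -, -⟩ | ⟨-, -, ⟨-, h⟩ | ⟨-, h⟩⟩ | ⟨-, h0, -⟩
    · exact Or.inl h
    · refine Or.inr (Or.inr (Or.inl ?_))
      rw [hc, one_mul] at h
      rw [hsq]
      apply Nat.eq_of_mul_eq_mul_right (show 0 < Fintype.card F by omega)
      rw [h]; ring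
    · exact Or.inr (Or.inr (Or.inr h))
    · exact Or.inr (Or.inl h)
    · exact absurd hz h0
  · intro hm
    rcases hm with rfl | rfl | rfl | rfl
    · refine ⟨1, ?_⟩
      rw [Subgroup.index_eq_one, eq_top_iff]
      intro x _
      rw [Subgroup.mem_centralizer_singleton_iff, mul_one, one_mul]
    · obtain ⟨g, ht, -, hcard, -⟩ := exists_orderOf_proj₂ h4 (Or.inr rfl)
      refine ⟨proj₂ g, ?_⟩
      rcases class_size_cases g with ⟨-, h⟩ | ⟨-, h, -⟩ | ⟨-, -, ⟨h', -⟩ | ⟨-, h⟩⟩ | ⟨-, h0, -⟩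
      · exact absurd (tr_sq_eq_four_of_mem_center ((mem_center_iff g).2 ((proj₂_eq_one_iff g).1 h))) ht
      · exact absurd h ht
      · rw [hcard, hq] at h'; omega
      · exact h
      · exact absurd hz h0
    · refine ⟨proj₂ (upS 1), ?_⟩
      rcases class_size_cases (upS (1 : F)) with ⟨-, h⟩ | ⟨h, -, -⟩ | ⟨h, -⟩ | ⟨-, h0, -⟩
      · exact absurd ((upS_mem_center_iff (1 : F)).1 ((mem_center_iff _).2 ((proj₂_eq_one_iff _).1 h))) one_ne_zero
      · rw [hc, one_mul] at h
        rw [hsq]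
        apply Nat.eq_of_mul_eq_mul_right (show 0 < Fintype.card F by omega)
        rw [h]; ring
      · exact absurd (by rw [tr_upS]; ring) h
      · exact absurd hz h0
    · obtain ⟨g, ht, -, hcard, -⟩ := exists_orderOf_proj₂ h4 (Or.inl rfl)
      refine ⟨proj₂ g, ?_⟩
      rcases class_size_cases g with ⟨-, h⟩ | ⟨-, h, -⟩ | ⟨-, -, ⟨-, h⟩ | ⟨h', -⟩⟩ | ⟨-, h0, -⟩
      · exact absurd (tr_sq_eq_four_of_mem_center ((mem_center_iff g).2 ((proj₂_eq_one_iff g).1 h))) ht
      · exact absurd h ht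
      · exact h
      · rw [hcard, hq] at h'; omega
      · exact absurd hz h0

end Cfsg.Agent.S2507
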