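import Cfsg.Statements.S2791
import Cfsg.Agent.Lib.FusionSub.NormalCriterion
import Cfsg.Agent.Lib.FusionBasics.Group
import Cfsg.Agent.Lib.CoprimeAction.Glauberman

set_option autoImplicit false
open Cfsg

namespace Cfsg.Agent.S2791

/-- Let S be a Sylow p-subgroup of the finite group G and A an abelian subgroup of S that is strongly closed in S with respect to G. Then A controls strong fusion in G: for some Sylow p-subgroup T containing A, whenever a subset of T is conjugated into T by an element of G, the same elementwise conjugation is induced by an element of N_G(A). -/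
theorem result {G : Type*} [Group G] [Finite G] {p : ℕ} [Fact p.Prime] (S : Sylow p G) (A : Subgroup G) (hA : IsMulCommutative ↥A) (hsc : Cfsg.IsStronglyClosed A (S : Subgroup G)) : Cfsg.ControlsStrongFusion p A := by
  have hc : ⁅A, A⁆ = ⊥ := by
    rw [Subgroup.commutator_eq_bot_iff_le_centralizer]
    intro a ha b hb
    exact congrArg Subtype.val (mul_comm' (⟨b, hb⟩ : A) ⟨a, ha⟩)
  have hcl : (Cfsg.groupFusionSystem (S : Subgroup G)).StronglyClosed A := by
    refine ⟨hsc.1, ?_⟩
    rintro R hR φ ⟨-, hS, g, hg⟩ x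
    rw [hg x]
    exact hsc.2 x (hR x.2) g (hg x ▸ hS x)
  obtain ⟨-, hN⟩ := CfsgLib.FusionSub.isNormal_of_abelian S.isPGroup'
    (CfsgLib.FusionBasics.group_isSaturated S) hcl hc
  refine ⟨S, hsc.1, fun B hB => ⟨hB, fun g hgB => ?_⟩⟩
  have hP : Subgroup.closure B ≤ (S : Subgroup G) := (Subgroup.closure_le _).2 hB
  have hmem : Cfsg.conjHom (Subgroup.closure B) g ∈
      (Cfsg.groupFusionSystem (S : Subgroup G)).Hom (Subgroup.closure B) := by
    refine CfsgLib.FusionBasics.conjHom_mem_group g hP fun x hx => ?_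
    have hle : Subgroup.closure B ≤
        (S : Subgroup G).comap (MulAut.conj g).toMonoidHom := by
      refine (Subgroup.closure_le _).2 fun b hb => ?_
      exact hgB ⟨b, hb, rfl⟩
    exact hle hx
  obtain ⟨ψ, ⟨hle, -, x, hx⟩, hψ, hψA⟩ := hN _ _ hmem
  refine ⟨x, ?_, fun a ha => ?_⟩
  · refine CfsgLib.CoprimeAction.mem_normalizer_of_conj_mem fun a ha => ?_
    rw [← hψA]
    exact ⟨⟨a, Subgroup.mem_sup_right ha⟩, ha, hx _⟩
  · have h1 := hψ ⟨a, Subgroup.subset_closure ha⟩
    rw [hx] at h1
    exact h1.symm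

end Cfsg.Agent.S2791
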