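import Cfsg.Statements.S2802
import Cfsg.Agent.Lib.FFModules.YL

set_option autoImplicit false
open Cfsg

namespace Cfsg.Agent.S2802

/-- Let L be a finite group and p a prime with C_L(O_p(L)) ≤ O_p(L), T a Sylow p-subgroup of L and R a subgroup with T ≤ R. If X is a p-reduced normal subgroup of R (normal in R, elementary abelian, O_p(R/C_R(X)) = 1), then the normal closure of X in L is a p-reduced normal subgroup of L. -/
theorem result {L : Type*} [Group L] [Finite L] {p : ℕ} [Fact p.Prime] (hchar : Subgroup.centralizer (Cfsg.pCore p L : Set L) ≤ Cfsg.pCore p L) (T : Sylow p L) (R : Subgroup L) (hTR : (T : Subgroup L) ≤ R) (X : Subgroup ↥R) (hX : Cfsg.IsPReducedNormal p X) : Cfsg.IsPReducedNormal p (Subgroup.normalClosure ((X.map R.subtype : Subgroup L) : Set L)) := by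
  open CfsgLib.FFModules in
  have hchar' : (⊤ : Subgroup L) ⊓ Subgroup.centralizer (Cfsg.pCoreOf p (⊤ : Subgroup L) : Set L) ≤
      Cfsg.pCoreOf p (⊤ : Subgroup L) := by rw [top_inf_eq, pCoreOf_top]; exact hchar
  have hi : ((T : Subgroup L).relIndex ⊤).Coprime p :=
    CfsgLib.FFModules.coprime_of_sylow_relIndex T le_top
  have h := (CfsgLib.FFModules.closure_le_largestPReducedOf (T := (T : Subgroup L)) (R := R)
    (X := X.map R.subtype) hTR le_top (Subgroup.map_subtype_le X) T.2 hi hchar'
    (CfsgLib.FFModules.isPReducedNormal_iff_map.1 hX)).2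
  rw [CfsgLib.FFModules.isPReducedNormal_top_iff]
  convert h using 1
  refine le_antisymm ?_ (iSup_le fun l => ?_)
  · have : (⨆ l : (⊤ : Subgroup L), (X.map R.subtype).map (MulAut.conj (l : L)).toMonoidHom).Normal :=
      Subgroup.normalizer_eq_top_iff.1 (top_le_iff.1 h.normalizes)
    refine Subgroup.normalClosure_le_normal ?_
    intro x hx
    exact le_iSup (fun l : (⊤ : Subgroup L) => (X.map R.subtype).map (MulAut.conj (l : L)).toMonoidHom)
      1 ((CfsgLib.FFModules.map_conj_one _).ge hx)
  · rintro _ ⟨x, hx, rfl⟩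
    exact Subgroup.normalClosure_normal.conj_mem x (Subgroup.subset_normalClosure hx) l

end Cfsg.Agent.S2802
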