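import Cfsg.Statements.S2803
import Cfsg.Agent.Lib.FFModules.YL

set_option autoImplicit false
open Cfsg

namespace Cfsg.Agent.S2803

/-- Let L be a finite group and p a prime with C_L(O_p(L)) ≤ O_p(L), T a Sylow p-subgroup, and Y the largest p-reduced normal subgroup of L. Put T_L = C_T(Y) and L_T = N_L(T_L). Then L = L_T · C_L(Y) (elementwise), T_L = O_p(L_T), and Y = Ω₁(Z(T_L)). -/
theorem result {L : Type*} [Group L] [Finite L] {p : ℕ} [Fact p.Prime] (hchar : Subgroup.centralizer (Cfsg.pCore p L : Set L) ≤ Cfsg.pCore p L) (T : Sylow p L) (Y : Subgroup L) (hY : (Cfsg.IsPReducedNormal p Y ∧ ∀ V : Subgroup L, Cfsg.IsPReducedNormal p V → V ≤ Y)) (TL : Subgroup L) (hTL : TL = (T : Subgroup L) ⊓ Subgroup.centralizer (Y : Set L)) : (∀ g : L, ∃ a ∈ Subgroup.normalizer (TL : Set L), ∃ c ∈ Subgroup.centralizer (Y : Set L), g = a * c) ∧ (Cfsg.pCore p ↥(Subgroup.normalizer (TL : Set L))).map (Subgroup.normalizer (TL : Set L)).subtype = TL ∧ Y = Cfsg.omegaOne p (TL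 ⊓ Subgroup.centralizer (TL : Set L)) := by
  open CfsgLib.FFModules in
  have hYe : Y = Cfsg.largestPReducedOf p (⊤ : Subgroup L) := by
    rw [← largestPReduced_eq_of_top]
    exact le_antisymm (le_sSup hY.1) (sSup_le hY.2)
  have hi : ((T : Subgroup L).relIndex ⊤).Coprime p :=
    CfsgLib.FFModules.coprime_of_sylow_relIndex T le_top
  have hYr : CfsgLib.FFModules.ReducedIn p (⊤ : Subgroup L) Y :=
    hYe ▸ CfsgLib.FFModules.reducedIn_largestPReducedOf ⊤
  subst hTL
  refine ⟨fun g => ?_, ?_, ?_⟩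
  · obtain ⟨c, hc, hcg⟩ := CfsgLib.FFModules.exists_centralizer_mul_mem_normalizer le_top T.2
      hYr.normalizes hi g (Subgroup.mem_top g)
    refine ⟨c * g, hcg.2, g⁻¹ * c⁻¹ * g, ?_, by group⟩
    have hn : g⁻¹ ∈ Subgroup.normalizer ((Subgroup.centralizer (Y : Set L) : Subgroup L) : Set L) :=
      (hYr.normalizes.trans (CfsgLib.FFModules.normalizer_le_normalizer_centralizer Y)) (Subgroup.mem_top _)
    simpa using (Subgroup.mem_normalizer_iff.1 hn c⁻¹).1 (inv_mem hc.2)
  · have := CfsgLib.FFModules.pCoreOf_normalizer_eq le_top T.2 hYr hi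
    rw [top_inf_eq] at this
    exact this
  · subst hYe
    exact CfsgLib.FFModules.largestPReducedOf_eq_omegaCenter le_top T.2 hi
      (by rw [top_inf_eq, CfsgLib.FFModules.pCoreOf_top]; exact hchar)

end Cfsg.Agent.S2803
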