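import Cfsg.Statements.S2804
import Cfsg.Agent.Lib.FFModules.Kieler

set_option autoImplicit false
open Cfsg
open scoped commutatorElement

namespace Cfsg.Agent.S2804

/-- Let L be a finite group and p a prime with C_L(O_p(L)) ≤ O_p(L), V a p-reduced normal subgroup of L and K a subnormal subgroup of L. Then [V, O^p(K)] is contained in K and is a p-reduced normal subgroup of K, where O^p(K) is the subgroup of K generated by its elements of order prime to p. -/
theorem result {L : Type*} [Group L] [Finite L] {p : ℕ} [Fact p.Prime] (hchar : Subgroup.centralizer (Cfsg.pCore p L : Set L) ≤ Cfsg.pCore p L) (V : Subgroup L) (hV : Cfsg.IsPReducedNormal p V) (K : Subgroup L) (hK : K.IsSubnormal) : ⁅V, (Cfsg.pResidual p ↥K).map K.subtype⁆ ≤ K ∧ Cfsg.IsPReducedNormal p ((⁅V, (Cfsg.pResidual p ↥K).map K.subtype⁆).subgroupOf K) := by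
  have hVn : V.Normal := hV.1
  have hVr := CfsgLib.FFModules.isPReducedNormal_top_iff.1 hV
  have hVe := hVr.elemAb
  set R := (Cfsg.pResidual p K).map K.subtype with hR
  have hle : ⁅V, R⁆ ≤ K := by
    -- the elements acting trivially on `V / (V ⊓ K)`
    let S : Subgroup L :=
      { carrier := {k | k ∈ K ∧ ∀ v ∈ V, v * k * v⁻¹ ∈ K}
        one_mem' := ⟨one_mem _, fun v _ => by simp⟩
        mul_mem' := fun {a b} ha hb => ⟨mul_mem ha.1 hb.1, fun v hv => by
          simpa [mul_assoc] using mul_mem (ha.2 v hv) (hb.2 v hv)⟩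
        inv_mem' := fun {a} ha => ⟨inv_mem ha.1, fun v hv => by
          simpa [mul_assoc] using inv_mem (ha.2 v hv)⟩ }
    have hRS : R ≤ S := by
      refine CfsgLib.FFModules.pResidualMap_le_iff.2 fun q hq hqp => ⟨hq, fun v hv => ?_⟩
      have h := CfsgLib.FFModules.commutator_zpowers_le_of_isSubnormal hVe hK hq hqp
        (Subgroup.commutator_mem_commutator hv (Subgroup.mem_zpowers q))
      have h' := mul_mem h hq
      simpa [commutatorElement_def, mul_assoc] using h'
    refine Subgroup.commutator_le.2 fun v hv k hk => ?_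
    have h := mul_mem ((hRS hk).2 v hv) (inv_mem (hRS hk).1)
    simpa [commutatorElement_def, mul_assoc] using h
  refine ⟨hle, (CfsgLib.FFModules.isPReducedNormal_subgroupOf_iff hle).2 ?_⟩
  have hWV : ⁅V, R⁆ ≤ V := Subgroup.commutator_le_left V R
  have hKW : K ≤ Subgroup.normalizer ((⁅V, R⁆ : Subgroup L) : Set L) :=
    CfsgLib.FFModules.le_normalizer_commutator'
      (by rw [Subgroup.normalizer_eq_top_iff.2 hVn]; exact le_top)
      (Subgroup.le_normalizer.trans (CfsgLib.FFModules.pResidualMap_le_normalizer K))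
  have hKr : CfsgLib.FFModules.ReducedIn p K V := hVr.of_isSubnormal hK
  -- `C_K([V, O^p K]) = C_K(V)`
  have hC : K ⊓ Subgroup.centralizer ((⁅V, R⁆ : Subgroup L) : Set L) ≤ Subgroup.centralizer (V : Set L) := by
    refine hKr.reduced _ inf_le_left (CfsgLib.FFModules.le_normalizer_inf_of Subgroup.le_normalizer
      (hKW.trans (CfsgLib.FFModules.normalizer_le_normalizer_centralizer _))) fun x hx => ?_
    refine CfsgLib.FFModules.exists_pPow_mem_of_coprime_mem (fun q hq hqp v hv => ?_) hx
    have hqR : q ∈ R := CfsgLib.FFModules.mem_pResidualMap hq.1 hqp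
    have hc : v⁻¹ * (q * v * q⁻¹) ∈ ⁅V, R⁆ := by
      have := Subgroup.commutator_mem_commutator (inv_mem hv) hqR
      simpa [commutatorElement_def, mul_assoc] using this
    exact (CfsgLib.FFModules.commute_of_commutator_mem (CfsgLib.FFModules.isPGroup_of_elemAb hVe)
      hqp (hWV hc) (Commute.symm (hq.2 _ hc))).symm
  refine ⟨hKW, CfsgLib.FFModules.elemAb_mono hVe hWV, fun D hD hDn hpow => ?_⟩
  exact (hKr.reduced D hD hDn fun x hx =>
    (hpow x hx).imp fun k hk => hC ⟨pow_mem (hD hx) _, hk⟩).trans (Subgroup.centralizer_le hWV)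

end Cfsg.Agent.S2804
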