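import Cfsg.Statements.S2809
import Cfsg.Agent.Lib.FFModules.CoreBasic
import Cfsg.Agent.Eqn.PLocal

set_option autoImplicit false
open Cfsg
open scoped commutatorElement

namespace Cfsg.Agent.S2809

/-- Let H be a finite group, p a prime, R a p-subgroup of H with C_H(R) ≤ R, and L a subgroup of N_H(R) acting nilpotently on R (some iterated commutator [R, L, …, L] is trivial). Then L is a p-group. -/
theorem result {H : Type*} [Group H] [Finite H] {p : ℕ} [Fact p.Prime] (R : Subgroup H) (hR : IsPGroup p ↥R) (hC : Subgroup.centralizer (R : Set H) ≤ R) (L : Subgroup H) (hL : L ≤ Subgroup.normalizer (R : Set H)) (hnil : ∃ n : ℕ, Cfsg.iterCommutator R L n = ⊥) : IsPGroup p ↥L := by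
  obtain ⟨n, hn⟩ := hnil
  have hle : ∀ i, Cfsg.iterCommutator R L i ≤ R := by
    intro i
    induction i with
    | zero => rw [Cfsg.iterCommutator]
    | succ j ih =>
      rw [Cfsg.iterCommutator]
      refine Subgroup.commutator_le.2 fun a ha b hb => ?_
      have := (Subgroup.mem_normalizer_iff.1 (hL hb) a⁻¹).1 (inv_mem (ih ha))
      simpa [commutatorElement_def, mul_assoc] using mul_mem (ih ha) this
  refine CfsgLib.FFModules.isPGroup_of_coprime_eq_one L fun q hq hqp => ?_
  have key : ∀ j i, i + j = n → ∀ v ∈ Cfsg.iterCommutator R L i, Commute q v := by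
    intro j
    induction j with
    | zero =>
      intro i hi v hv
      rw [show i = n by omega, hn, Subgroup.mem_bot] at hv
      rw [hv]; exact Commute.one_right q
    | succ j ih =>
      intro i hi v hv
      have hc : v⁻¹ * (q * v * q⁻¹) ∈ Cfsg.iterCommutator R L (i + 1) := by
        rw [Cfsg.iterCommutator]
        have := Subgroup.commutator_mem_commutator (inv_mem hv) hq
        simpa [commutatorElement_def, mul_assoc] using this
      exact CfsgLib.FFModules.commute_of_commutator_mem hR hqp (hle _ hc) (ih (i + 1) (by omega) _ hc)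
  have hqR : q ∈ R := hC fun v hv => (key n 0 (by omega) v (by rw [Cfsg.iterCommutator]; exact hv)).symm
  exact CfsgLib.FFModules.eq_one_of_coprime_of_mem hR hqR hqp

end Cfsg.Agent.S2809
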