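import Cfsg.Statements.S2810
import Cfsg.Agent.Lib.FFModules.CoreBasic

set_option autoImplicit false
open Cfsg
open scoped commutatorElement

namespace Cfsg.Agent.S2810

/-- Let H be a finite group of characteristic p and L a subgroup of H centralizing every factor of some H-invariant chain 1 = A₀ ≤ A₁ ≤ … ≤ Aₙ = O_p(H) of normal subgroups (that is, [A_{i+1}, L] ≤ Aᵢ for each i). Then L ≤ O_p(H). -/
theorem result {H : Type*} [Group H] [Finite H] {p : ℕ} [Fact p.Prime] (hchar : Subgroup.centralizer (Cfsg.pCore p H : Set H) ≤ Cfsg.pCore p H) (L : Subgroup H) (n : ℕ) (A : Fin (n + 1) → Subgroup H) (h0 : A 0 = ⊥) (hn : A (Fin.last n) = Cfsg.pCore p H) (hmono : Monotone A) (hnorm : ∀ i, (A i).Normal) (hcent : ∀ i : Fin n, ⁅A i.succ, L⁆ ≤ A i.castSucc) : L ≤ Cfsg.pCore p H := by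
  have hCn : ∀ i : Fin n, ∃ C : Subgroup H, C.Normal ∧ L ≤ C ∧
      ∀ c ∈ C, ∀ a ∈ A i.succ, a⁻¹ * (c * a * c⁻¹) ∈ A i.castSucc := by
    intro i
    have h1 := hnorm i.castSucc
    have h2 := hnorm i.succ
    set π := QuotientGroup.mk' (A i.castSucc)
    have hX : ((A i.succ).map π).Normal := h2.map _ (QuotientGroup.mk'_surjective _)
    refine ⟨(Subgroup.centralizer (((A i.succ).map π : Subgroup (H ⧸ A i.castSucc)) : Set (H ⧸ A i.castSucc))).comap π,
      inferInstance, fun l hl => ?_, fun c hc a ha => ?_⟩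
    · rintro _ ⟨a, ha, rfl⟩
      have h := hcent i (Subgroup.commutator_mem_commutator ha hl)
      have h' : π ⁅a, l⁆ = 1 := (QuotientGroup.eq_one_iff _).2 h
      rw [commutatorElement_def, map_mul, map_mul, map_mul, map_inv, map_inv] at h'
      exact commutatorElement_eq_one_iff_mul_comm.1 (by rw [commutatorElement_def]; exact h')
    · have h := hc (π a) ⟨a, ha, rfl⟩
      refine (QuotientGroup.eq_one_iff _).1 ?_
      show π (a⁻¹ * (c * a * c⁻¹)) = 1
      rw [map_mul, map_mul, map_mul, map_inv, map_inv, ← h]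
      group
  choose C hC1 hC2 hC3 using hCn
  have hN : (⨅ i, C i).Normal := Subgroup.normal_iInf_normal hC1
  refine (le_iInf hC2).trans (CfsgLib.FFModules.le_pCore hN
    (CfsgLib.FFModules.isPGroup_of_coprime_eq_one _ fun q hq hqp => ?_))
  have key : ∀ j : Fin (n + 1), ∀ a ∈ A j, Commute q a := by
    intro j
    induction j using Fin.induction with
    | zero =>
      intro a ha
      rw [h0, Subgroup.mem_bot] at ha
      rw [ha]; exact Commute.one_right q
    | succ i ih =>
      intro a ha
      have hc := hC3 i q (Subgroup.mem_iInf.1 hq i) a ha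
      refine CfsgLib.FFModules.commute_of_commutator_mem (CfsgLib.FFModules.isPGroup_pCore (G := H)) hqp ?_ (ih _ hc)
      rw [← hn]
      exact hmono (Fin.le_last _) hc
  exact CfsgLib.FFModules.eq_one_of_coprime_of_mem CfsgLib.FFModules.isPGroup_pCore
    (hchar fun a ha => (key (Fin.last n) a (hn ▸ ha)).symm) hqp

end Cfsg.Agent.S2810
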