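import Cfsg.Statements.S2813
import Cfsg.Agent.Lib.FFModules.Subnormal

set_option autoImplicit false
open Cfsg
open scoped commutatorElement

namespace Cfsg.Agent.S2813

/-- Let K be a subgroup of the finite group H with O_p(K) = 1 and Y a p-subgroup of N_H(K) with [K, Y, Y] = 1. Then [K, Y] = 1. -/
theorem result {H : Type*} [Group H] [Finite H] {p : ℕ} [Fact p.Prime] (K : Subgroup H) (hO : Cfsg.pCore p ↥K = ⊥) (Y : Subgroup H) (hY : IsPGroup p ↥Y) (hYK : Y ≤ Subgroup.normalizer (K : Set H)) (hq : ⁅⁅K, Y⁆, Y⁆ = ⊥) : ⁅K, Y⁆ = ⊥ := by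
  set N := ⁅K, Y⁆ with hN
  have hNK : N ≤ K := CfsgLib.CoprimeAction.commutator_le_left hYK
  have hKN : K ≤ Subgroup.normalizer (N : Set H) :=
    le_sup_left.trans (CfsgLib.CoprimeAction.sup_le_normalizer_commutator Y K)
  have hYC : Y ≤ Subgroup.centralizer (N : Set H) :=
    CfsgLib.FFModules.le_centralizer_comm (Subgroup.commutator_eq_bot_iff_le_centralizer.1 hq)
  have hKC : K ≤ Subgroup.normalizer ((Subgroup.centralizer (N : Set H) : Subgroup H) : Set H) :=
    hKN.trans (CfsgLib.FFModules.normalizer_le_normalizer_centralizer N)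
  have hab : N ≤ Subgroup.centralizer (N : Set H) := by
    refine Subgroup.commutator_le.2 fun k hk y hy => ?_
    have := (Subgroup.mem_normalizer_iff.1 (hKC hk) y).1 (hYC hy)
    simpa [commutatorElement_def] using mul_mem this (inv_mem (hYC hy))
  have hp : IsPGroup p N := by
    intro ⟨x, hx⟩
    have key : ∃ k : ℕ, x ^ p ^ k = 1 := by
      rw [hN] at hx
      induction hx using Subgroup.closure_induction with
      | mem z hz =>
        obtain ⟨k, hk, y, hy, rfl⟩ := hz
        obtain ⟨a, ha⟩ := CfsgLib.FFModules.exists_pPow_eq_one hY hy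
        refine ⟨a, ?_⟩
        have hmem : ⁅k, y⁆ ∈ N := Subgroup.commutator_mem_commutator hk hy
        have hcomm : Commute ⁅k, y⁆ y := hYC hy _ hmem
        have e : (k * y * k⁻¹) ^ p ^ a = 1 := by rw [conj_pow, ha]; group
        have e2 : k * y * k⁻¹ = ⁅k, y⁆ * y := by rw [commutatorElement_def]; group
        rwa [e2, hcomm.mul_pow, ha, mul_one] at e
      | one => exact ⟨0, by simp⟩
      | mul u v hu hv ihu ihv =>
        obtain ⟨a, ha⟩ := ihu
        obtain ⟨b, hb⟩ := ihv
        have hc : Commute u v := hab hv u hu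
        exact ⟨a + b, by rw [hc.mul_pow, pow_add, pow_mul, ha, one_pow, mul_comm, pow_mul, hb, one_pow, one_mul]⟩
      | inv u hu ihu =>
        obtain ⟨a, ha⟩ := ihu
        exact ⟨a, by rw [inv_pow, ha, inv_one]⟩
    obtain ⟨k, hk⟩ := key
    exact ⟨k, Subtype.ext (by simpa using hk)⟩
  have h := CfsgLib.FFModules.le_pCoreOf hNK hKN hp
  rw [Cfsg.pCoreOf, hO, Subgroup.map_bot] at h
  exact le_bot_iff.1 h

end Cfsg.Agent.S2813
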