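import Cfsg.Statements.S2814
import Cfsg.Agent.Lib.FFModules.Subnormal

set_option autoImplicit false
open Cfsg
open scoped commutatorElement

namespace Cfsg.Agent.S2814

/-- Let A be a subgroup of the finite group H and K the subnormal closure of A (intersection of the subnormal subgroups containing A). Then K is the normal closure of A inside K and N_H(A) ≤ N_H(K); K = A·O^p(K), O^p(K) being generated by the elements of K of order prime to p; and if A is a p-group, O^p(K) = [O^p(K), A]. -/
theorem result {H : Type*} [Group H] [Finite H] {p : ℕ} [Fact p.Prime] (A : Subgroup H) (K : Subgroup H) (hK : K = Cfsg.subnormalClosure A) : (Subgroup.normalClosure ((A.subgroupOf K : Subgroup ↥K) : Set ↥K)).map K.subtype = K ∧ Subgroup.normalizer (A : Set H) ≤ Subgroup.normalizer (K : Set H) ∧ A ⊔ (Cfsg.pResidual p ↥K).map K.subtype = K ∧ (IsPGroup p ↥A → ⁅(Cfsg.pResidual p ↥K).map K.subtype, A⁆ = (Cfsg.pResidual p ↥K).map K.subtype) := by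
  obtain ⟨hAK, hKs, hmin⟩ := CfsgLib.FFModules.subnormalClosure_spec A
  subst hK
  set K := Cfsg.subnormalClosure A with hK
  set R := (Cfsg.pResidual p K).map K.subtype with hR
  have hgen : ∀ W : Subgroup ↥K, A.subgroupOf K ≤ W → W.IsSubnormal → W = ⊤ := by
    intro W hAW hW
    have h1 : A ≤ W.map K.subtype := by
      conv_lhs => rw [← Subgroup.map_subgroupOf_eq_of_le hAK]
      exact Subgroup.map_mono hAW
    have h2 := hmin _ h1 (hW.trans' hKs)
    exact eq_top_iff.2 fun x _ => by
      obtain ⟨y, hy, hyx⟩ := h2 x.2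
      exact (K.subtype_injective hyx) ▸ hy
  have hA1 := hgen (A.subgroupOf K ⊔ Cfsg.pResidual p K) le_sup_left
    (CfsgLib.FFModules.isSubnormal_of_pResidual_le (p := p) le_sup_right)
  have hKR : A ⊔ R = K := by
    have := congrArg (Subgroup.map K.subtype) hA1
    rwa [Subgroup.map_sup, Subgroup.map_subgroupOf_eq_of_le hAK, ← MonoidHom.range_eq_map,
      Subgroup.range_subtype] at this
  refine ⟨?_, ?_, hKR, fun hAp => ?_⟩
  · rw [hgen _ Subgroup.le_normalClosure Subgroup.normalClosure_normal.isSubnormal,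
      ← MonoidHom.range_eq_map, Subgroup.range_subtype]
  · refine CfsgLib.FFModules.le_normalizer_of_conj_le fun g hg => ?_
    rw [CfsgLib.FFModules.map_conj_le_iff]
    refine hmin _ ?_ (CfsgLib.Subnormal.isSubnormal_map_conj hKs g⁻¹)
    exact (CfsgLib.FFModules.map_conj_eq_self (inv_mem hg)).ge.trans (Subgroup.map_mono hAK)
  · set N := ⁅R, A⁆ with hN
    have hKn : K ≤ Subgroup.normalizer (R : Set H) :=
      Subgroup.le_normalizer.trans (CfsgLib.FFModules.pResidualMap_le_normalizer K)
    have hsup := CfsgLib.CoprimeAction.sup_le_normalizer_commutator A R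
    have hNn : K ≤ Subgroup.normalizer (N : Set H) := by
      conv_lhs => rw [← hKR]
      exact sup_comm R A ▸ hsup
    have hNR : N ≤ R := CfsgLib.CoprimeAction.commutator_le_left (hAK.trans hKn)
    refine le_antisymm hNR ?_
    -- `N ⊔ A` is normal in `K`
    have hNA : K ≤ Subgroup.normalizer ((A ⊔ N : Subgroup H) : Set H) := by
      conv_lhs => rw [← hKR]
      refine sup_le (fun a ha => Subgroup.normalizer_inf_normalizer_le_normalizer_sup A N
        ⟨Subgroup.le_normalizer ha, hNn (hAK ha)⟩) ?_
      refine CfsgLib.FFModules.le_normalizer_of_conj_le fun r hr => ?_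
      rw [Subgroup.map_sup, CfsgLib.FFModules.map_conj_eq_self (hNn (CfsgLib.FFModules.pResidualMap_le K hr))]
      refine sup_le ?_ le_sup_right
      rintro _ ⟨a, ha, rfl⟩
      have h1 : ⁅r, a⁆ ∈ N := Subgroup.commutator_mem_commutator hr ha
      have := mul_mem (Subgroup.mem_sup_right (S := A) h1) (Subgroup.mem_sup_left (T := N) ha)
      simpa [commutatorElement_def] using this
    have hNK : A ⊔ N ≤ K := sup_le hAK (hNR.trans (CfsgLib.FFModules.pResidualMap_le K))
    have hn : ((A ⊔ N).subgroupOf K).Normal := Subgroup.normal_subgroupOf_of_le_normalizer hNA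
    have htop := hgen _ (Subgroup.comap_mono (le_sup_left : A ≤ A ⊔ N)) hn.isSubnormal
    refine CfsgLib.FFModules.pResidualMap_le_iff.2 fun q hq hqp => ?_
    have hq' : q ∈ A ⊔ N := Subgroup.subgroupOf_eq_top.1 htop hq
    obtain ⟨k, hk⟩ := CfsgLib.FFModules.exists_pow_mem_sup (p := p) (C := N) (hAK.trans hNn)
      Subgroup.le_normalizer (fun x hx => by
        obtain ⟨k, hk⟩ := CfsgLib.FFModules.exists_pPow_eq_one hAp hx
        exact ⟨k, by rw [hk]; exact one_mem _⟩) (fun x hx => ⟨0, by simpa using hx⟩) hq'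
    exact CfsgLib.FFModules.mem_of_pow_pPow_mem hqp hk

end Cfsg.Agent.S2814
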