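import Cfsg.Statements.S2815
import Cfsg.Agent.Lib.FFModules.FStar
import Cfsg.Agent.Lib.FFModules.PClosed

set_option autoImplicit false
open Cfsg
open scoped commutatorElement Pointwise

namespace Cfsg.Agent.S2815

/-- Let H be a finite group and p a prime dividing its order with O_p(H) = 1, and suppose K = O^p(H) (generated by the elements of order prime to p) is quasisimple. Then K = F*(H); for every nontrivial p-subgroup Y of H, K = [K, Y] and K lies in the subgroup generated by the K-conjugates of Y; every normal subgroup of H not containing K has order prime to p; and H is p-irreducible. -/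
theorem result {H : Type*} [Group H] [Finite H] {p : ℕ} [Fact p.Prime] (hp : p ∣ Nat.card H) (hO : Cfsg.pCore p H = ⊥) (hq : Cfsg.IsQuasisimple ↥(Cfsg.pResidual p H)) : Cfsg.pResidual p H = Cfsg.generalizedFittingSubgroup H ∧ (∀ Y : Subgroup H, IsPGroup p ↥Y → Y ≠ ⊥ → ⁅Cfsg.pResidual p H, Y⁆ = Cfsg.pResidual p H ∧ Cfsg.pResidual p H ≤ ⨆ k : ↥(Cfsg.pResidual p H), Y.map (MulAut.conj (k : H)).toMonoidHom) ∧ (∀ C : Subgroup H, C.Normal → ¬ Cfsg.pResidual p H ≤ C → (Nat.card ↥C).Coprime p) ∧ Cfsg.IsPIrreducible p H := by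
  set K := Cfsg.pResidual p H with hK
  have hKn : K.Normal := CfsgLib.FFModules.pResidual_normal
  have hKc : Cfsg.IsComponent K := ⟨hKn.isSubnormal, hq⟩
  have hperf := CfsgLib.Cores.commutator_self_eq_of_isComponent hKc
  have hsub : ∀ N : Subgroup H, N ≤ K → K ≤ Subgroup.normalizer (N : Set H) →
      N = K ∨ N ≤ Subgroup.centralizer (K : Set H) := by
    intro N hNK hKN
    have : (N.subgroupOf K).Normal := Subgroup.normal_subgroupOf_of_le_normalizer hKN
    rcases CfsgLib.Cores.normal_eq_top_or_le_center hq (N.subgroupOf K) with h | h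
    · exact Or.inl (le_antisymm hNK (Subgroup.subgroupOf_eq_top.1 h))
    · exact Or.inr fun n hn k hk => congrArg Subtype.val
        (Subgroup.mem_center_iff.1 (h (show (⟨n, hNK hn⟩ : K) ∈ N.subgroupOf K from hn)) ⟨k, hk⟩)
  have hfit : Cfsg.fittingSubgroup H ≤ K := fun x hx => CfsgLib.FFModules.mem_pResidual_of_coprime
    (Nat.Coprime.coprime_dvd_left (Subgroup.orderOf_dvd_natCard _ hx)
      (CfsgLib.FFModules.coprime_card_of_le_fitting hO le_rfl))
  have hcomp : ∀ M : Subgroup H, Cfsg.IsComponent M → M = K := by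
    intro M hM
    refine CfsgLib.Cores.eq_of_le_of_isComponent hM hKc ?_
    by_contra hMK
    have hnil : Group.IsNilpotent (H ⧸ K) :=
      (CfsgLib.FFModules.isPGroup_quotient_pResidual (p := p) (G := H)).isNilpotent
    have hbot : M.map (QuotientGroup.mk' K) = ⊥ := by
      have hp' : ⁅M.map (QuotientGroup.mk' K), M.map (QuotientGroup.mk' K)⁆ = M.map (QuotientGroup.mk' K) := by
        rw [← Subgroup.map_commutator, CfsgLib.Cores.commutator_self_eq_of_isComponent hM]
      by_contra hne
      have : Group.IsPerfect (M.map (QuotientGroup.mk' K)) := Subgroup.isPerfect_iff.2 hp'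
      have : Nontrivial (M.map (QuotientGroup.mk' K)) := (Subgroup.nontrivial_iff_ne_bot _).2 hne
      exact Group.IsPerfect.not_isSolvable ↥(M.map (QuotientGroup.mk' K)) inferInstance
    rw [Subgroup.map_eq_bot_iff, QuotientGroup.ker_mk'] at hbot
    exact hMK hbot
  have hF : K = Cfsg.generalizedFittingSubgroup H := le_antisymm
    ((CfsgLib.Cores.le_layer hKc).trans (CfsgLib.Cores.layer_le_generalizedFittingSubgroup H))
    (sup_le (CfsgLib.Cores.layer_le_iff.2 fun M hM => (hcomp M hM).le) hfit)
  have hcK : ∀ X : Subgroup H, ⁅⁅K, X⁆, K⁆ = ⊥ → X ≤ Subgroup.centralizer (K : Set H) := by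
    intro X h
    have h' : ⁅⁅X, K⁆, K⁆ = ⊥ := by rw [Subgroup.commutator_comm X K]; exact h
    have h3 := Subgroup.commutator_commutator_eq_bot_of_rotate h h'
    rw [hperf] at h3
    exact CfsgLib.FFModules.le_centralizer_comm (Subgroup.commutator_eq_bot_iff_le_centralizer.1 h3)
  refine ⟨hF, fun Y hY hY1 => ?_, ?_, ?_, ?_⟩
  · have hle : ⁅K, Y⁆ ≤ K := Subgroup.commutator_le_left K Y
    rcases hsub _ hle (le_sup_left.trans (CfsgLib.CoprimeAction.sup_le_normalizer_commutator Y K)) with h | h
    · refine ⟨h, ?_⟩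
      conv_lhs => rw [← h]
      refine Subgroup.commutator_le.2 fun k hk y hy => ?_
      rw [commutatorElement_def]
      refine mul_mem ?_ (inv_mem ?_)
      · exact le_iSup (fun k : K => Y.map (MulAut.conj (k : H)).toMonoidHom) ⟨k, hk⟩
          (Subgroup.mem_map_of_mem _ hy)
      · exact le_iSup (fun k : K => Y.map (MulAut.conj (k : H)).toMonoidHom) 1
          ((CfsgLib.FFModules.map_conj_one Y).ge hy)
    · exact absurd (CfsgLib.FFModules.eq_bot_of_le_centralizer_fstar hO hY
        (hF ▸ hcK Y (Subgroup.commutator_eq_bot_iff_le_centralizer.2 h))) hY1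
  · intro C hC hKC
    have hCK : C ⊓ K ≤ Subgroup.centralizer (K : Set H) :=
      (hsub (C ⊓ K) inf_le_right (CfsgLib.FFModules.le_normalizer_inf_of
        (by rw [Subgroup.normalizer_eq_top_iff.2 hC]; exact le_top) Subgroup.le_normalizer)).resolve_left
        fun h => hKC (h.ge.trans inf_le_left)
    have hCc := hcK C (Subgroup.commutator_eq_bot_iff_le_centralizer.2
      (le_trans (le_inf (Subgroup.commutator_le_right K C) (Subgroup.commutator_le_left K C)) hCK))
    rw [hF, CfsgLib.Cores.centralizer_generalizedFittingSubgroup_eq] at hCc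
    exact CfsgLib.FFModules.coprime_card_of_le_fitting hO (hCc.trans (Subgroup.map_subtype_le _))
  · intro h
    obtain ⟨P⟩ := (inferInstance : Nonempty (Sylow p H))
    have hPbot : (P : Subgroup H) = ⊥ := le_bot_iff.1 (hO ▸ CfsgLib.FFModules.le_pCore (h P) P.2)
    have hi := CfsgLib.FFModules.coprime_of_sylow_relIndex P (L := ⊤) le_top
    rw [hPbot, Subgroup.relIndex_bot_left, Subgroup.card_top] at hi
    exact (Fact.out : p.Prime).ne_one (Nat.Coprime.eq_one_of_dvd hi.symm hp)
  · intro N hN hNc
    by_contra hKN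
    refine hNc (CfsgLib.FFModules.isPClosed_subgroup_iff.2 fun P hP hPp => ?_)
    have hco : (Nat.card ↥N).Coprime p := by
      have hNK : N ⊓ K ≤ Subgroup.centralizer (K : Set H) :=
        (hsub (N ⊓ K) inf_le_right (CfsgLib.FFModules.le_normalizer_inf_of
          (by rw [Subgroup.normalizer_eq_top_iff.2 hN]; exact le_top) Subgroup.le_normalizer)).resolve_left
          fun h => hKN (h.ge.trans inf_le_left)
      have hNc' := hcK N (Subgroup.commutator_eq_bot_iff_le_centralizer.2
        (le_trans (le_inf (Subgroup.commutator_le_right K N) (Subgroup.commutator_le_left K N)) hNK))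
      rw [hF, CfsgLib.Cores.centralizer_generalizedFittingSubgroup_eq] at hNc'
      exact CfsgLib.FFModules.coprime_card_of_le_fitting hO (hNc'.trans (Subgroup.map_subtype_le _))
    intro x hx
    rw [CfsgLib.FFModules.eq_one_of_coprime_of_mem hPp hx
      (Nat.Coprime.coprime_dvd_left (Subgroup.orderOf_dvd_natCard _ (hP hx)) hco)]
    exact one_mem _

end Cfsg.Agent.S2815
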