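import Cfsg.Statements.S2816
import Cfsg.Agent.Lib.FFModules.FStar

set_option autoImplicit false
open Cfsg
open scoped commutatorElement Pointwise

namespace Cfsg.Agent.S2816

/-- Let H be a finite group and p a prime with O_p(H) = 1, and Y a p-subgroup of H. Then for every subnormal subgroup K of H containing Y, [F*(H), Y] = [F*(K), Y] = [F*(K), Y, Y]; and if Y₀ ≤ Y with [F*(H), Y, Y₀] = 1 then Y₀ = 1 (in particular [F*(H), Y] = 1 forces Y = 1). -/
theorem result {H : Type*} [Group H] [Finite H] {p : ℕ} [Fact p.Prime] (hO : Cfsg.pCore p H = ⊥) (Y : Subgroup H) (hY : IsPGroup p ↥Y) : (∀ K : Subgroup H, K.IsSubnormal → Y ≤ K → ⁅Cfsg.generalizedFittingSubgroup H, Y⁆ = ⁅(Cfsg.generalizedFittingSubgroup ↥K).map K.subtype, Y⁆ ∧ ⁅(Cfsg.generalizedFittingSubgroup ↥K).map K.subtype, Y⁆ = ⁅⁅(Cfsg.generalizedFittingSubgroup ↥K).map K.subtype, Y⁆, Y⁆) ∧ (∀ Y₀ : Subgroup H, Y₀ ≤ Y → ⁅⁅Cfsg.generalizedFittingSubgroup H, Y⁆, Y₀⁆ = ⊥ → Y₀ = ⊥) := by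
  set F := Cfsg.generalizedFittingSubgroup H with hF
  have hFn : F.Normal := (inferInstance : (Cfsg.generalizedFittingSubgroup H).Normal)
  have hFtop : ∀ X : Subgroup H, X ≤ Subgroup.normalizer (F : Set H) := fun X => by
    rw [Subgroup.normalizer_eq_top_iff.2 hFn]; exact le_top
  refine ⟨fun K hK hYK => ?_, fun Y₀ hY₀ h => ?_⟩
  · obtain ⟨-, h2⟩ := CfsgLib.FFModules.fstar_action_top hO hY le_rfl hFn.isSubnormal (hFtop Y)
    rw [CfsgLib.FFModules.map_fstar_of_isSubnormal hK]
    have hWK : ⁅F, Y⁆ ≤ K := by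
      clear h2
      obtain ⟨-, h2⟩ := CfsgLib.FFModules.fstar_action_top hO hY le_rfl hFn.isSubnormal (hFtop Y)
      induction hK with
      | top => exact le_top
      | step A B hAB _ hN ih =>
        rw [h2]
        refine Subgroup.commutator_le.2 fun w hw y hy => ?_
        have hwB := ih (hYK.trans hAB) hw
        have := (Subgroup.mem_normalizer_iff.1
          ((Subgroup.normal_subgroupOf_iff_le_normalizer hAB).1 hN hwB) y).1 (hYK hy)
        rw [commutatorElement_def]
        exact mul_mem this (inv_mem (hYK hy))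
    have hWF : ⁅F, Y⁆ ≤ F := CfsgLib.CoprimeAction.commutator_le_left (hFtop Y)
    refine ⟨le_antisymm ?_ (Subgroup.commutator_mono inf_le_left le_rfl), ?_⟩
    · rw [h2]
      exact Subgroup.commutator_mono (le_inf hWF hWK) le_rfl
    · exact (CfsgLib.FFModules.fstar_action_top hO hY inf_le_left
        (Subgroup.IsSubnormal.inf hFn.isSubnormal hK)
        (CfsgLib.FFModules.le_normalizer_inf_of (hFtop Y) (hYK.trans Subgroup.le_normalizer))).2
  · have hY₀p := hY.to_le hY₀
    obtain ⟨-, h2⟩ := CfsgLib.FFModules.fstar_action_top hO hY₀p le_rfl hFn.isSubnormal (hFtop Y₀)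
    have h3 : ⁅F, Y₀⁆ = ⊥ := by
      rw [h2, ← le_bot_iff, ← h]
      exact Subgroup.commutator_mono (Subgroup.commutator_mono le_rfl hY₀) le_rfl
    exact CfsgLib.FFModules.eq_bot_of_le_centralizer_fstar hO hY₀p
      (CfsgLib.FFModules.le_centralizer_comm (Subgroup.commutator_eq_bot_iff_le_centralizer.1 h3))

end Cfsg.Agent.S2816
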