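import Cfsg.Statements.S2817
import Cfsg.Agent.Lib.FFModules.FStar
import Cfsg.Agent.Lib.FFModules.PClosed

set_option autoImplicit false
open Cfsg
open scoped commutatorElement Pointwise

namespace Cfsg.Agent.S2817

/-- Let H be a finite group and p a prime with O_p(H) = 1, Q a p-subgroup of H, L = [F*(H), Q], and F the largest normal subgroup of F*(H) centralized by Q (a normal subgroup of F*(H) centralized by Q and containing every such). Then F = C_{F*(H)}(LQ); L = [L, Q]; L ∩ F ≤ Φ(L); every p-subgroup B of N_H(Q) with [L, B] ≤ F satisfies [L, B] = 1; and C_H(FL) has order prime to p. -/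
theorem result {H : Type*} [Group H] [Finite H] {p : ℕ} [Fact p.Prime] (hO : Cfsg.pCore p H = ⊥) (Q : Subgroup H) (hQ : IsPGroup p ↥Q) (L : Subgroup H) (hL : L = ⁅Cfsg.generalizedFittingSubgroup H, Q⁆) (F : Subgroup H) (hF : F ≤ Cfsg.generalizedFittingSubgroup H ∧ Cfsg.generalizedFittingSubgroup H ≤ Subgroup.normalizer (F : Set H) ∧ Q ≤ Subgroup.centralizer (F : Set H) ∧ ∀ N : Subgroup H, N ≤ Cfsg.generalizedFittingSubgroup H → Cfsg.generalizedFittingSubgroup H ≤ Subgroup.normalizer (N : Set H) → Q ≤ Subgroup.centralizer (N : Set H) → N ≤ F) : F = Cfsg.generalizedFittingSubgroup H ⊓ Subgroup.centralizer ((L ⊔ Q : Subgroup H) : Set H) ∧ ⁅L, Q⁆ = L ∧ L ⊓ F ≤ (frattini ↥L).map L.subtype ∧ (∀ B : Subgroup H, IsPGroup p ↥B → B ≤ Subgroup.normalizer (Q : Set H) → ⁅L, B⁆ ≤ F → ⁅L, B⁆ = ⊥) ∧ (Nat.card ↥(Subgroup.centralizer ((F ⊔ L : Subgroup H) : Set H))).Coprime p := by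
  classical
  obtain ⟨hFle, hFn, hQF, hFmax⟩ := hF
  set S := Cfsg.generalizedFittingSubgroup H with hS
  have hSn : S.Normal := (inferInstance : (Cfsg.generalizedFittingSubgroup H).Normal)
  have hStop : ∀ X : Subgroup H, X ≤ Subgroup.normalizer (S : Set H) := fun X => by
    rw [Subgroup.normalizer_eq_top_iff.2 hSn]; exact le_top
  have hn := CfsgLib.CoprimeAction.sup_le_normalizer_commutator Q S
  rw [← hL] at hn
  have hLS : L ≤ S := hL.le.trans (CfsgLib.CoprimeAction.commutator_le_left (hStop Q))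
  have hLsn : L.IsSubnormal := Subgroup.IsSubnormal.step L S hLS hSn.isSubnormal
    (Subgroup.normal_subgroupOf_of_le_normalizer (le_sup_left.trans hn))
  obtain ⟨hdec, hLQ⟩ := CfsgLib.FFModules.fstar_action_top hO hQ le_rfl hSn.isSubnormal (hStop Q)
  rw [← hL] at hdec hLQ
  set CQ := S ⊓ Subgroup.centralizer (Q : Set H) with hCQ
  -- `F` centralises `L`
  have hFL : L ≤ Subgroup.centralizer (F : Set H) := by
    have h1 : ⁅⁅Q, F⁆, S⁆ = ⊥ := by
      rw [Subgroup.commutator_eq_bot_iff_le_centralizer.2 hQF, Subgroup.commutator_bot_left]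
    have h2 : ⁅⁅F, S⁆, Q⁆ = ⊥ := by
      rw [← le_bot_iff]
      refine (Subgroup.commutator_mono (CfsgLib.CoprimeAction.commutator_le_left hFn) le_rfl).trans ?_
      rw [Subgroup.commutator_comm, Subgroup.commutator_eq_bot_iff_le_centralizer.2 hQF]
    have h3 := Subgroup.commutator_commutator_eq_bot_of_rotate h1 h2
    rw [← hL] at h3
    exact Subgroup.commutator_eq_bot_iff_le_centralizer.1 h3
  have hFeq : F = S ⊓ Subgroup.centralizer ((L ⊔ Q : Subgroup H) : Set H) := by
    refine le_antisymm (le_inf hFle (CfsgLib.FFModules.le_centralizer_comm (sup_le hFL hQF))) ?_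
    refine hFmax _ inf_le_left ?_
      ((le_sup_right : Q ≤ L ⊔ Q).trans (CfsgLib.FFModules.le_centralizer_comm inf_le_right))
    refine hdec.trans (sup_le ?_ ?_)
    · exact ((le_sup_left : L ≤ L ⊔ Q).trans (CfsgLib.FFModules.le_centralizer_comm inf_le_right)).trans
        (Subgroup.centralizer_le_normalizer _)
    · refine CfsgLib.FFModules.le_normalizer_inf_of (hStop _) ?_
      refine le_trans ?_ (CfsgLib.FFModules.normalizer_le_normalizer_centralizer _)
      intro c hc
      exact Subgroup.normalizer_inf_normalizer_le_normalizer_sup L Q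
        ⟨le_sup_left.trans hn hc.1, Subgroup.centralizer_le_normalizer _ hc.2⟩
  set Z := L ⊓ F with hZ
  have hZc : Z ≤ Subgroup.centralizer (L : Set H) := inf_le_right.trans (CfsgLib.FFModules.le_centralizer_comm hFL)
  have hLZ : L ≤ Subgroup.normalizer (Z : Set H) :=
    (CfsgLib.FFModules.le_centralizer_comm hZc).trans (Subgroup.centralizer_le_normalizer _)
  have hQL : Q ≤ Subgroup.normalizer (L : Set H) := le_sup_right.trans hn
  -- `Z` has order prime to `p`
  have hZcop : (Nat.card Z).Coprime p := by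
    have hcom : ∀ a ∈ Z, ∀ b ∈ Z, a * b = b * a := fun a ha b hb => hZc hb a ha.1
    have hnil : Group.IsNilpotent Z := by
      refine CfsgLib.Cores.isNilpotent_of_commutator_le_centralizer ?_
      rw [Subgroup.commutator_eq_bot_iff_le_centralizer.2 (fun b hb a ha => hcom a ha b hb)]
      exact bot_le
    refine CfsgLib.FFModules.coprime_card_of_le_fitting hO (CfsgLib.Cores.le_fittingSubgroup_of_subnormal ?_ hnil)
    exact Subgroup.IsSubnormal.step Z L inf_le_left hLsn (Subgroup.normal_subgroupOf_of_le_normalizer hLZ)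
  -- `Z ≤ L'`
  have hZL' : Z ≤ ⁅L, L⁆ := by
    have := Fintype.ofFinite Q
    let φ : Q →* MulAut L := L.normalizerMonoidHom.comp (Subgroup.inclusion hQL)
    let N : L →* Abelianization L :=
      { toFun := fun l => ∏ q : Q, Abelianization.of (φ q l)
        map_one' := by simp
        map_mul' := fun a b => by simp [Finset.prod_mul_distrib] }
    have hker : L ≤ N.ker.map L.subtype := by
      conv_lhs => rw [hLQ]
      refine Subgroup.commutator_le.2 fun l hl q hq => ?_
      have hl' : l ∈ L := hl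
      have hmem : ⁅l, q⁆ ∈ L := CfsgLib.CoprimeAction.commutator_le_left hQL (Subgroup.commutator_mem_commutator hl' hq)
      refine ⟨⟨⁅l, q⁆, hmem⟩, ?_, rfl⟩
      have e : (⟨⁅l, q⁆, hmem⟩ : L) = ⟨l, hl'⟩ * φ ⟨q, hq⟩ ⟨l, hl'⟩⁻¹ := Subtype.ext (by
        show ⁅l, q⁆ = l * (q * l⁻¹ * q⁻¹)
        rw [commutatorElement_def]; group)
      show N _ = 1
      rw [e, map_mul]
      show (∏ r : Q, Abelianization.of (φ r ⟨l, hl'⟩)) * (∏ r : Q, Abelianization.of (φ r (φ ⟨q, hq⟩ ⟨l, hl'⟩⁻¹))) = 1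
      have e2 : (∏ r : Q, Abelianization.of (φ r (φ ⟨q, hq⟩ ⟨l, hl'⟩⁻¹))) =
          ∏ r : Q, Abelianization.of (φ r ⟨l, hl'⟩⁻¹) :=
        Fintype.prod_equiv (Equiv.mulRight (⟨q, hq⟩ : Q)) _ _ fun r => by
          show _ = Abelianization.of (φ (r * ⟨q, hq⟩) ⟨l, hl'⟩⁻¹)
          rw [map_mul φ]; rfl
      rw [e2, ← Finset.prod_mul_distrib]
      simp
    intro z hz
    obtain ⟨z', hz', e⟩ := hker hz.1
    obtain rfl : z' = ⟨z, hz.1⟩ := Subtype.ext e
    have hfix : ∀ q : Q, φ q ⟨z, hz.1⟩ = ⟨z, hz.1⟩ := fun q => Subtype.ext (by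
      show (q : H) * z * (q : H)⁻¹ = z
      rw [← hQF q.2 z hz.2, mul_inv_cancel_right])
    have hN : N ⟨z, hz.1⟩ = Abelianization.of (⟨z, hz.1⟩ : L) ^ Fintype.card Q := by
      show (∏ q : Q, Abelianization.of (φ q ⟨z, hz.1⟩)) = _
      simp [hfix]
    have h1 : Abelianization.of (⟨z, hz.1⟩ : L) ^ Fintype.card Q = 1 := hN ▸ hz'
    obtain ⟨n, hn'⟩ := IsPGroup.iff_card.1 hQ
    rw [← Nat.card_eq_fintype_card, hn'] at h1
    have hord : (orderOf (⟨z, hz.1⟩ : L)).Coprime p := by
      rw [← Subgroup.orderOf_coe]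
      exact Nat.Coprime.coprime_dvd_left (Subgroup.orderOf_dvd_natCard Z hz) hZcop
    have hmem : (⟨z, hz.1⟩ : L) ∈ commutator L :=
      CfsgLib.FFModules.mem_of_pow_pPow_mem (k := n) hord ((QuotientGroup.eq_one_iff _).1 h1)
    exact (Subgroup.map_subtype_commutator L).le (Subgroup.mem_map_of_mem L.subtype hmem)
  refine ⟨hFeq, hLQ.symm, ?_, fun B hB hBQ hBF => ?_, ?_⟩
  · -- `Z ≤ Φ(L)`
    intro z hz
    refine ⟨⟨z, hz.1⟩, ?_, rfl⟩
    show (⟨z, hz.1⟩ : L) ∈ frattini L
    rw [frattini, Order.radical]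
    simp only [Subgroup.mem_iInf]
    intro M hM
    by_contra hzM
    set W := Z.subgroupOf L with hW
    have hcen : W ≤ Subgroup.center L := fun w hw => Subgroup.mem_center_iff.2 fun l =>
      Subtype.ext (hZc hw l l.2)
    have hWn : W.Normal := Subgroup.normal_subgroupOf_of_le_normalizer hLZ
    have htop : M ⊔ W = ⊤ := hM.2 _ (lt_of_le_of_ne le_sup_left fun h => hzM (h ▸ Subgroup.mem_sup_right hz))
    have hcomm : commutator L ≤ M := by
      rw [commutator_def, Subgroup.commutator_le]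
      intro a _ b _
      obtain ⟨m, hm, w, hw, rfl⟩ := Subgroup.mem_sup_of_normal_right.1 (htop.symm ▸ Subgroup.mem_top a)
      obtain ⟨m', hm', w', hw', rfl⟩ := Subgroup.mem_sup_of_normal_right.1 (htop.symm ▸ Subgroup.mem_top b)
      have c1 := Subgroup.mem_center_iff.1 (hcen hw)
      have c2 := Subgroup.mem_center_iff.1 (hcen hw')
      have e : ⁅m * w, m' * w'⁆ = ⁅m, m'⁆ := by
        simp only [commutatorElement_def, mul_inv_rev]
        calc m * w * (m' * w') * (w⁻¹ * m⁻¹) * (w'⁻¹ * m'⁻¹)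
            = m * (w * (m' * w') * w⁻¹) * m⁻¹ * (w'⁻¹ * m'⁻¹) := by group
          _ = m * m' * (w' * m⁻¹ * w'⁻¹) * m'⁻¹ := by rw [← c1 (m' * w')]; group
          _ = m * m' * m⁻¹ * m'⁻¹ := by rw [← c2 m⁻¹]; group
      rw [e, commutatorElement_def]
      exact mul_mem (mul_mem (mul_mem hm hm') (inv_mem hm)) (inv_mem hm')
    apply hzM
    obtain ⟨z', hz', e⟩ := (Subgroup.map_subtype_commutator L).ge (hZL' hz)
    obtain rfl : z' = ⟨z, hz.1⟩ := Subtype.ext e
    exact hcomm hz'
  · have hBL : B ≤ Subgroup.normalizer (L : Set H) := by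
      rw [hL]; exact CfsgLib.FFModules.le_normalizer_commutator' (hStop B) hBQ
    have hBZ : ⁅L, B⁆ ≤ Z := le_inf (CfsgLib.CoprimeAction.commutator_le_left hBL) hBF
    have h1 : ⁅⁅L, B⁆, L⁆ = ⊥ := Subgroup.commutator_eq_bot_iff_le_centralizer.2 (hBZ.trans hZc)
    have h1' : ⁅⁅B, L⁆, L⁆ = ⊥ := by rw [Subgroup.commutator_comm B L]; exact h1
    have h2 := Subgroup.commutator_commutator_eq_bot_of_rotate h1 h1'
    rw [(CfsgLib.FFModules.fstar_action_top hO hB hLS hLsn hBL).2, ← le_bot_iff, ← h2]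
    exact Subgroup.commutator_mono (hBZ.trans hZL') le_rfl
  · set C := Subgroup.centralizer ((F ⊔ L : Subgroup H) : Set H) with hC
    refine ((Nat.Prime.coprime_iff_not_dvd Fact.out).2 fun hd => ?_).symm
    have hQFn : Q ≤ Subgroup.normalizer (F : Set H) := hQF.trans (Subgroup.centralizer_le_normalizer _)
    have hQC : Q ≤ Subgroup.normalizer (C : Set H) :=
      le_trans (fun q hq => Subgroup.normalizer_inf_normalizer_le_normalizer_sup F L ⟨hQFn hq, hQL hq⟩)
        (CfsgLib.FFModules.normalizer_le_normalizer_centralizer _)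
    -- a `Q`-invariant Sylow subgroup of `C`
    obtain ⟨P, hP⟩ := ((CfsgLib.FFModules.isPGroup_subgroupOf (le_sup_left : Q ≤ Q ⊔ C)).2 hQ).exists_le_sylow
    obtain ⟨h1, h2, h3⟩ := CfsgLib.FFModules.sylow_map_props (Q ⊔ C) P
    set T := (P : Subgroup ↥(Q ⊔ C)).map (Q ⊔ C).subtype with hT
    have hQT : Q ≤ T := (Subgroup.map_subgroupOf_eq_of_le le_sup_left).ge.trans (Subgroup.map_mono hP)
    have hi : ((T ⊓ C).relIndex C).Coprime p := by
      rw [Subgroup.inf_relIndex_right]
      exact CfsgLib.FFModules.coprime_relIndex_of_le_normalizer h3 h1 le_sup_right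
        (h1.trans (sup_le hQC Subgroup.le_normalizer))
    have hTC : T ⊓ C ≠ ⊥ := by
      intro h
      rw [h, Subgroup.relIndex_bot_left] at hi
      exact (Fact.out : p.Prime).ne_one (Nat.Coprime.eq_one_of_dvd hi.symm hd)
    obtain ⟨x, hx, hx1, hxQ⟩ : ∃ x ∈ T ⊓ C, x ≠ 1 ∧ ∀ q ∈ Q, Commute q x := by
      obtain ⟨w, hw, hw1, hfix⟩ := CfsgLib.FFModules.exists_fixed_of_lt (A := Q) (U := ⊥) (h2.to_le inf_le_left)
        (bot_lt_iff_ne_bot.2 hTC) (by rw [Subgroup.normalizer_eq_top_iff.2 Subgroup.normal_bot]; exact le_top)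
        (CfsgLib.FFModules.le_normalizer_inf_of (hQT.trans Subgroup.le_normalizer) hQC)
        (by rw [Subgroup.normalizer_eq_top_iff.2 Subgroup.normal_bot]; exact le_top) fun a ha => by
          obtain ⟨k, hk⟩ := CfsgLib.FFModules.exists_pPow_eq_one hQ ha
          exact ⟨k, by rw [hk]; exact one_mem _⟩
      exact ⟨w, hw, fun h => hw1 (Subgroup.mem_bot.2 h), fun a ha =>
        mul_inv_eq_iff_eq_mul.1 (inv_mul_eq_one.1 (Subgroup.mem_bot.1 (hfix a ha))).symm⟩
    set X := Subgroup.zpowers x with hX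
    have hXp : IsPGroup p X := h2.to_le (Subgroup.zpowers_le.2 hx.1)
    have hXC : X ≤ C := Subgroup.zpowers_le.2 hx.2
    have hSX : ⁅S, X⁆ ≤ F := by
      refine Subgroup.commutator_le.2 fun s hs y hy => ?_
      have hs' : s ∈ (L : Set H) * ((CQ : Subgroup H) : Set H) := by
        rw [← Subgroup.coe_mul_of_right_le_normalizer_left L CQ (inf_le_left.trans (le_sup_left.trans hn))]
        exact hdec hs
      obtain ⟨l, hl, c, hc, rfl⟩ := Set.mem_mul.1 hs'
      have hyL : Commute l y := hXC hy l (Subgroup.mem_sup_right hl)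
      have hyQ : ∀ q ∈ Q, Commute q y := fun q hq => by
        obtain ⟨n, rfl⟩ := Subgroup.mem_zpowers_iff.1 hy
        exact (hxQ q hq).zpow_right n
      have hu : ⁅c, y⁆ ∈ F := by
        rw [hFeq]
        refine ⟨?_, ?_⟩
        · rw [commutatorElement_def, show c * y * c⁻¹ * y⁻¹ = c * (y * c⁻¹ * y⁻¹) by group]
          exact mul_mem hc.1 (hSn.conj_mem _ (inv_mem hc.1) y)
        · refine CfsgLib.FFModules.le_centralizer_comm (B := Subgroup.zpowers ⁅c, y⁆) ?_ (Subgroup.mem_zpowers _)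
          refine sup_le (fun a ha b hb => ?_) (fun q hq b hb => ?_)
          · obtain ⟨n, rfl⟩ := Subgroup.mem_zpowers_iff.1 hb
            have hyC : ∀ a ∈ L, Commute a y := fun a ha => hXC hy a (Subgroup.mem_sup_right ha)
            have hcn : c ∈ Subgroup.normalizer (L : Set H) := le_sup_left.trans hn hc.1
            have e1 : c * y * c⁻¹ * a = a * (c * y * c⁻¹) := by
              have ha' := (Subgroup.mem_normalizer_iff.1 (inv_mem hcn) a).1 ha
              have := (hyC _ ha').eq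
              calc c * y * c⁻¹ * a = c * (y * (c⁻¹ * a * c⁻¹⁻¹)) * c⁻¹ := by group
                _ = c * ((c⁻¹ * a * c⁻¹⁻¹) * y) * c⁻¹ := by rw [this]
                _ = a * (c * y * c⁻¹) := by group
            have e2 : Commute ⁅c, y⁆ a := (show Commute (c * y * c⁻¹) a from e1).mul_left (hyC a ha).symm.inv_left
            exact (e2.zpow_left n).eq
          · obtain ⟨n, rfl⟩ := Subgroup.mem_zpowers_iff.1 hb
            have hcq : Commute q c := hc.2 q hq
            have e2 : Commute q ⁅c, y⁆ :=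
              ((hcq.mul_right (hyQ q hq)).mul_right hcq.inv_right).mul_right (hyQ q hq).inv_right
            exact (e2.symm.zpow_left n).eq
      have e : ⁅l * c, y⁆ = l * ⁅c, y⁆ * l⁻¹ * (l * y * l⁻¹ * y⁻¹) := by
        simp only [commutatorElement_def]; group
      have hlu : Commute l ⁅c, y⁆ := (hFL hl _ hu).symm
      rw [e, hyL.eq, mul_inv_cancel_right, mul_inv_cancel, mul_one, hlu.eq, mul_inv_cancel_right]
      exact hu
    have h4 : ⁅S, X⁆ = ⊥ := by
      rw [(CfsgLib.FFModules.fstar_action_top hO hXp le_rfl hSn.isSubnormal (hStop X)).2]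
      refine Subgroup.commutator_eq_bot_iff_le_centralizer.2 (hSX.trans ?_)
      exact (le_sup_left : F ≤ F ⊔ L).trans (CfsgLib.FFModules.le_centralizer_comm hXC)
    have h5 := CfsgLib.FFModules.eq_bot_of_le_centralizer_fstar hO hXp
      (CfsgLib.FFModules.le_centralizer_comm (Subgroup.commutator_eq_bot_iff_le_centralizer.1 h4))
    exact hx1 (Subgroup.zpowers_eq_bot.1 h5)

end Cfsg.Agent.S2817
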