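import Cfsg.Statements.S2818
import Cfsg.Agent.Lib.FFModules.Reduced
import Cfsg.Agent.Lib.PGroups.Frattini

set_option autoImplicit false
open Cfsg
open scoped commutatorElement

namespace Cfsg.Agent.S2818

/-- Let P be a finite p-subgroup of a group G and H a subgroup of N_G(P) with [P, H] ≤ Ω₁(Z(P)) (the elements of order dividing p in the centre of P). Then H centralizes the Frattini subgroup of P. -/
theorem result {G : Type*} [Group G] [Finite G] {p : ℕ} [Fact p.Prime] (P : Subgroup G) (hP : IsPGroup p ↥P) (H : Subgroup G) (hH : H ≤ Subgroup.normalizer (P : Set G)) (h : ⁅P, H⁆ ≤ Cfsg.omegaOne p (P ⊓ Subgroup.centralizer (P : Set G))) : ⁅(frattini ↥P).map P.subtype, H⁆ = ⊥ := by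
  rw [Subgroup.commutator_eq_bot_iff_le_centralizer]
  rintro _ ⟨f, hf, rfl⟩ x hx
  let φ : ↥P →* G := (MulAut.conj x).toMonoidHom.comp P.subtype
  have hz : ∀ a : P, ∃ z : G, φ a = (a : G) * z ∧ (∀ b ∈ P, Commute b z) ∧ z ^ p = 1 := by
    intro a
    refine ⟨(a : G)⁻¹ * (x * a * x⁻¹), by simp [φ], ?_⟩
    have hc : (a : G)⁻¹ * (x * a * x⁻¹) ∈ ⁅P, H⁆ := by
      have := Subgroup.commutator_mem_commutator (inv_mem a.2) hx
      simpa [commutatorElement_def, mul_assoc] using this
    exact (CfsgLib.FFModules.mem_omegaCenter_iff.1 (h hc)).2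
  have hker : frattini ↥P ≤ φ.eqLocus P.subtype := by
    refine CfsgLib.PGroups.frattini_le_of (p := p) ?_ fun a => ?_
    · rw [commutator_def, Subgroup.commutator_le]
      intro a _ b _
      obtain ⟨z, hz1, hz2, -⟩ := hz a
      obtain ⟨w, hw1, hw2, -⟩ := hz b
      show φ ⁅a, b⁆ = ((⁅a, b⁆ : P) : G)
      rw [map_commutatorElement, hz1, hw1]
      show ⁅(a : G) * z, (b : G) * w⁆ = _
      have hwP : Commute (a : G) w := hw2 _ a.2
      have hzP : Commute (b : G) z := hz2 _ b.2
      have hza : Commute (a : G) z := hz2 _ a.2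
      have hwb : Commute (b : G) w := hw2 _ b.2
      have hzw : Commute z w := by
        have hz' : z ∈ P := by
          have : φ a ∈ P := (Subgroup.mem_normalizer_iff.1 (hH hx) a).1 a.2
          rw [hz1] at this
          simpa using mul_mem (inv_mem a.2) this
        exact hw2 z hz'
      simp only [commutatorElement_def, Subgroup.coe_mul, Subgroup.coe_inv, mul_inv_rev]
      calc (a : G) * z * (b * w) * (z⁻¹ * (a : G)⁻¹) * (w⁻¹ * (b : G)⁻¹)
          = (a : G) * (z * (b * w)) * (z⁻¹ * (a : G)⁻¹) * (w⁻¹ * (b : G)⁻¹) := by group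
        _ = (a : G) * b * (w * (a : G)⁻¹) * (w⁻¹ * (b : G)⁻¹) := by
            rw [(hzP.symm.mul_right hzw).eq]; group
        _ = (a : G) * b * (a : G)⁻¹ * (b : G)⁻¹ := by rw [hwP.symm.inv_right.eq]; group
    · obtain ⟨z, hz1, hz2, hz3⟩ := hz a
      show φ (a ^ p) = ((a ^ p : P) : G)
      rw [map_pow, hz1, (hz2 _ a.2).mul_pow, hz3, mul_one, SubgroupClass.coe_pow]
  have h2 : x * (f : G) * x⁻¹ = f := hker hf
  exact mul_inv_eq_iff_eq_mul.1 h2

end Cfsg.Agent.S2818
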