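import Cfsg.Statements.S2819
import Cfsg.Agent.Lib.FFModules.YL
import Cfsg.Agent.Lib.Cores.Basic
import Cfsg.Agent.Lib.PGroups.Frattini

set_option autoImplicit false
open Cfsg
open scoped commutatorElement

namespace Cfsg.Agent.S2819

/-- Let P be a finite p-subgroup of a group G, H a subgroup of N_G(P), and Y a subgroup of H centralizing the derived subgroup P' such that [P, Y] is elementary abelian. Then O^p(⟨Y^H⟩), the subgroup of the normal closure of Y in H generated by its elements of order prime to p, centralizes the Frattini subgroup of P. -/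
theorem result {G : Type*} [Group G] [Finite G] {p : ℕ} [Fact p.Prime] (P : Subgroup G) (hP : IsPGroup p ↥P) (H : Subgroup G) (hH : H ≤ Subgroup.normalizer (P : Set G)) (Y : Subgroup G) (hYH : Y ≤ H) (hYc : Y ≤ Subgroup.centralizer ((⁅P, P⁆ : Subgroup G) : Set G)) (hel : Cfsg.IsElementaryAbelian p ⁅P, Y⁆) (NY : Subgroup G) (hNY : NY = (Subgroup.normalClosure ((Y.subgroupOf H : Subgroup ↥H) : Set ↥H)).map H.subtype) : (Cfsg.pResidual p ↥NY).map NY.subtype ≤ Subgroup.centralizer (((frattini ↥P).map P.subtype : Subgroup G) : Set G) := by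
  set D := ⁅P, P⁆ with hD
  set F := (frattini ↥P).map P.subtype with hF
  have hDP : D ≤ P := Subgroup.commutator_le.2 fun a ha b hb => by
    rw [commutatorElement_def]; exact mul_mem (mul_mem (mul_mem ha hb) (inv_mem ha)) (inv_mem hb)
  have hDeq : (commutator ↥P).map P.subtype = D := Subgroup.map_subtype_commutator P
  have hPD : P ≤ Subgroup.normalizer (D : Set G) := CfsgLib.FFModules.le_normalizer_of_conj_le fun a ha => by
    rw [hD, Subgroup.map_commutator, CfsgLib.FFModules.map_conj_eq_self (Subgroup.le_normalizer ha)]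
  have hHD : H ≤ Subgroup.normalizer (D : Set G) := CfsgLib.FFModules.le_normalizer_of_conj_le fun a ha => by
    rw [hD, Subgroup.map_commutator, CfsgLib.FFModules.map_conj_eq_self (hH ha)]
  have hFP : F ≤ P := Subgroup.map_subtype_le _
  have hHF : H ≤ Subgroup.normalizer (F : Set G) :=
    hH.trans (CfsgLib.Cores.normalizer_le_normalizer_map_subtype P (frattini ↥P))
  -- the subgroup stabilising `F / D` and centralising `D`
  let S : Subgroup G :=
    { carrier := {h | h ∈ Subgroup.centralizer (D : Set G) ∧ ∀ f ∈ F, f⁻¹ * (h * f * h⁻¹) ∈ D}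
      one_mem' := ⟨one_mem _, fun f _ => by simp⟩
      mul_mem' := fun {a b} ha hb => ⟨mul_mem ha.1 hb.1, fun f hf => by
        have hz := hb.2 f hf
        have : f⁻¹ * (a * b * f * (a * b)⁻¹) = f⁻¹ * (a * f * a⁻¹) * (a * (f⁻¹ * (b * f * b⁻¹)) * a⁻¹) := by group
        rw [this, ← (ha.1 _ hz), mul_inv_cancel_right]
        exact mul_mem (ha.2 f hf) hz⟩
      inv_mem' := fun {a} ha => ⟨inv_mem ha.1, fun f hf => by
        have hz := ha.2 f hf
        have e : a⁻¹ * (f⁻¹ * (a * f * a⁻¹)) * a = f⁻¹ * (a * f * a⁻¹) := by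
          rw [mul_assoc, ha.1 _ hz, inv_mul_cancel_left]
        set z := f⁻¹ * (a * f * a⁻¹) with hzdef
        have e2 : f = (a⁻¹ * f * a) * (a⁻¹ * z * a) := by rw [hzdef]; group
        rw [e] at e2
        have e3 : f⁻¹ * (a⁻¹ * f * (a⁻¹)⁻¹) = z⁻¹ := by
          rw [inv_inv]
          calc f⁻¹ * (a⁻¹ * f * a) = f⁻¹ * ((a⁻¹ * f * a) * z) * z⁻¹ := by group
            _ = z⁻¹ := by rw [← e2]; group
        rw [e3]
        exact inv_mem hz⟩ }
  have hYS : Y ≤ S := by
    intro y hy
    refine ⟨hYc hy, ?_⟩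
    rintro _ ⟨f, hf, rfl⟩
    let K : Subgroup ↥P :=
      { carrier := {a : ↥P | (a : G)⁻¹ * (y * (a : G) * y⁻¹) ∈ D}
        one_mem' := by simp
        mul_mem' := fun {a b} ha hb => by
          have e : ((a * b : P) : G)⁻¹ * (y * ((a * b : P) : G) * y⁻¹) =
              (b : G)⁻¹ * ((a : G)⁻¹ * (y * a * y⁻¹)) * b * ((b : G)⁻¹ * (y * b * y⁻¹)) := by
            rw [Subgroup.coe_mul]; group
          show ((a * b : P) : G)⁻¹ * (y * ((a * b : P) : G) * y⁻¹) ∈ D
          rw [e]
          exact mul_mem (by simpa using (Subgroup.mem_normalizer_iff.1 (hPD (inv_mem b.2)) _).1 ha) hb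
        inv_mem' := fun {a} ha => by
          show ((a⁻¹ : P) : G)⁻¹ * (y * ((a⁻¹ : P) : G) * y⁻¹) ∈ D
          have := inv_mem ((Subgroup.mem_normalizer_iff.1 (hPD a.2) _).1 ha)
          simpa [mul_assoc] using this }
    refine (CfsgLib.PGroups.frattini_le_of (p := p) (N := K) ?_ fun a => ?_) hf
    · intro a ha
      have haD : (a : G) ∈ D := hDeq ▸ Subgroup.mem_map_of_mem P.subtype ha
      show (a : G)⁻¹ * (y * a * y⁻¹) ∈ D
      rw [← (hYc hy _ haD), mul_inv_cancel_right, inv_mul_cancel]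
      exact one_mem _
    · have hya : y * (a : G) * y⁻¹ ∈ P := (Subgroup.mem_normalizer_iff.1 (hH (hYH hy)) a).1 a.2
      set c : ↥P := a⁻¹ * ⟨_, hya⟩ with hc
      have hcv : (c : G) = (a : G)⁻¹ * (y * a * y⁻¹) := rfl
      have hcp : c ^ p = 1 := by
        have hm : (c : G) ∈ ⁅P, Y⁆ := by
          rw [hcv]
          have := Subgroup.commutator_mem_commutator (inv_mem a.2) hy
          simpa [commutatorElement_def, mul_assoc] using this
        exact Subtype.ext (by simpa using hel.2 _ hm)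
      have e : ((a ^ p)⁻¹ * (a * c) ^ p : ↥P) ∈ commutator ↥P := by
        rw [← QuotientGroup.eq]
        show Abelianization.of (a ^ p) = Abelianization.of ((a * c) ^ p)
        rw [map_pow, map_pow, map_mul, mul_pow, ← map_pow Abelianization.of c, hcp, map_one, mul_one]
      have e' := hDeq ▸ Subgroup.mem_map_of_mem P.subtype e
      show ((a ^ p : P) : G)⁻¹ * (y * ((a ^ p : P) : G) * y⁻¹) ∈ D
      have e3 : y * ((a ^ p : P) : G) * y⁻¹ = (((a * c) ^ p : P) : G) := by
        rw [SubgroupClass.coe_pow, SubgroupClass.coe_pow, Subgroup.coe_mul, hcv, ← conj_pow,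
          mul_inv_cancel_left]
      rw [e3]
      simpa using e'
  have hconj : ∀ h ∈ H, ∀ s ∈ S, h * s * h⁻¹ ∈ S := by
    intro h hh s hs
    refine ⟨(Subgroup.mem_normalizer_iff.1
      (CfsgLib.FFModules.normalizer_le_normalizer_centralizer D (hHD hh)) s).1 hs.1, fun f hf => ?_⟩
    have hf' := (Subgroup.mem_normalizer_iff.1 (hHF (inv_mem hh)) f).1 hf
    have := (Subgroup.mem_normalizer_iff.1 (hHD hh) _).1 (hs.2 _ hf')
    simpa [mul_assoc] using this
  have hNS : NY ≤ S := by
    rw [hNY, Subgroup.map_le_iff_le_comap]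
    have hn : (S.comap H.subtype).Normal := ⟨fun s hs h => hconj h h.2 s hs⟩
    exact Subgroup.normalClosure_le_normal fun s hs => hYS hs
  refine CfsgLib.FFModules.pResidualMap_le_iff.2 fun q hq hqp f hf => ?_
  have h1 := hNS hq
  have hc := h1.2 f hf
  exact (CfsgLib.FFModules.commute_of_commutator_mem hP hqp (hDP hc) (Commute.symm (h1.1 _ hc))).symm

end Cfsg.Agent.S2819
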