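import Cfsg.Statements.S2820
import Cfsg.Agent.Lib.FFModules.Subnormal

set_option autoImplicit false
open Cfsg
open scoped commutatorElement

namespace Cfsg.Agent.S2820

/-- Let A and B be subnormal subgroups of the finite group H with A a p-group and B = O^p(B) (B generated by its elements of order prime to p). Then A normalizes B and B = O^p(AB), the subgroup of ⟨A, B⟩ generated by its elements of order prime to p. -/
theorem result {H : Type*} [Group H] [Finite H] {p : ℕ} [Fact p.Prime] (A B : Subgroup H) (hA : A.IsSubnormal) (hB : B.IsSubnormal) (hAp : IsPGroup p ↥A) (hBres : (Cfsg.pResidual p ↥B).map B.subtype = B) : A ≤ Subgroup.normalizer (B : Set H) ∧ (Cfsg.pResidual p ↥(A ⊔ B)).map (A ⊔ B).subtype = B := by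
  have hcn : (Cfsg.pCore p H).Normal := CfsgLib.FFModules.normal_pCore
  have hAC : A ≤ Cfsg.pCore p H := CfsgLib.FFModules.le_pCore_of_isSubnormal hA hAp
  set X := B ⊔ Cfsg.pCore p H with hX
  have hR : (Cfsg.pResidual p X).map X.subtype = B := by
    refine le_antisymm (CfsgLib.FFModules.pResidualMap_le_iff.2 fun q hq hqp =>
      CfsgLib.FFModules.mem_of_isSubnormal_of_mem_sup hB CfsgLib.FFModules.isPGroup_pCore
        (by rw [Subgroup.normalizer_eq_top_iff.2 hcn]; exact le_top) hq hqp) ?_
    conv_lhs => rw [← hBres]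
    exact CfsgLib.FFModules.pResidualMap_mono le_sup_left
  have hAX : A ≤ X := hAC.trans le_sup_right
  have hn := (Subgroup.le_normalizer.trans (CfsgLib.FFModules.pResidualMap_le_normalizer (p := p) X))
  rw [hR] at hn
  refine ⟨hAX.trans hn, le_antisymm ((CfsgLib.FFModules.pResidualMap_mono (sup_le hAX le_sup_left)).trans hR.le) ?_⟩
  conv_lhs => rw [← hBres]
  exact CfsgLib.FFModules.pResidualMap_mono le_sup_right

end Cfsg.Agent.S2820
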