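import Cfsg.Statements.S2821
import Cfsg.Agent.Lib.FFModules.YL

set_option autoImplicit false
open Cfsg

namespace Cfsg.Agent.S2821

/-- Let H be a finite group, p a prime, T a Sylow p-subgroup and L a subgroup of characteristic p containing T; let Y_L be the largest p-reduced normal subgroup of L (the join of the normal elementary abelian p-subgroups V of L with O_p(L/C_L(V)) = 1). Then T₀ := C_T(Y_L) is a Sylow p-subgroup of C_H(Y_L); moreover O_p(L) ≤ T₀ ≤ C_L(Y_L) and Ω₁(Z(T)) ≤ Z_L ≤ Y_L ≤ Ω₁(Z(O_p(L))), where Z_L is generated by the Ω₁(Z(S)) over the Sylow p-subgroups S of L. -/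
theorem result {H : Type*} [Group H] [Finite H] {p : ℕ} [Fact p.Prime] (T : Sylow p H) (L : Subgroup H) (hTL : (T : Subgroup H) ≤ L) (hL : Subgroup.centralizer (Cfsg.pCore p ↥L : Set ↥L) ≤ Cfsg.pCore p ↥L) (T₀ : Subgroup H) (hT₀ : T₀ = (T : Subgroup H) ⊓ Subgroup.centralizer (((Cfsg.largestPReducedOf p L) : Subgroup H) : Set H)) : (∃ P : Sylow p ↥(Subgroup.centralizer (((Cfsg.largestPReducedOf p L) : Subgroup H) : Set H)), (P : Subgroup ↥(Subgroup.centralizer (((Cfsg.largestPReducedOf p L) : Subgroup H) : Set H))) = T₀.subgroupOf (Subgroup.centralizer (((Cfsg.largestPReducedOf p L) : Subgroup H) : Set H))) ∧ (Cfsg.pCoreOf p L) ≤ T₀ ∧ T₀ ≤ L ⊓ Subgroup.centralizer (((Cfsg.largestPReducedOf p L) : Subgroup H) : Set H) ∧ (Cfsg.omegaOne p ((T : Subgroup H) ⊓ Subgroup.centralizer (((T : Subgroup H) : Subgroup H) : Set H))) ≤ Cfsg.sylowCenterClosure p L ∧ Cfsg.sylowCenterClosure p L ≤ (Cfsg.largestPReducedOf p L) ∧ (Cfsg.largestPReducedOf p L) ≤ (Cfsg.omegaOne p ((Cfsg.pCoreOf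 p L) ⊓ Subgroup.centralizer (((Cfsg.pCoreOf p L) : Subgroup H) : Set H))) := by
  have hchar := CfsgLib.FFModules.charP_subgroup_iff.1 hL
  have hi : ((T : Subgroup H).relIndex L).Coprime p :=
    CfsgLib.FFModules.coprime_of_sylow_relIndex T hTL
  set Y := Cfsg.largestPReducedOf p L with hY
  have hYr : CfsgLib.FFModules.ReducedIn p L Y := CfsgLib.FFModules.reducedIn_largestPReducedOf L
  have hTC : (T : Subgroup H) ≤
      Subgroup.normalizer ((Subgroup.centralizer (Y : Set H) : Subgroup H) : Set H) :=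
    (hTL.trans hYr.normalizes).trans (CfsgLib.FFModules.normalizer_le_normalizer_centralizer Y)
  subst hT₀
  refine ⟨?_, ?_, ?_, ?_, ?_, ?_⟩
  · refine CfsgLib.FFModules.exists_sylow_eq inf_le_right (T.2.to_le inf_le_left) ?_
    rw [Subgroup.inf_relIndex_right]
    exact CfsgLib.FFModules.coprime_relIndex_of_le_normalizer
      (CfsgLib.FFModules.coprime_of_sylow_relIndex T le_top) le_top le_top hTC
  · exact le_inf (CfsgLib.FFModules.pCoreOf_le_of_coprime_relIndex hTL T.2 hi)
      (hYr.pGroup_le_centralizer (CfsgLib.FFModules.pCoreOf_le L)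
        (CfsgLib.FFModules.le_normalizer_pCoreOf L) (CfsgLib.FFModules.isPGroup_pCoreOf L))
  · exact inf_le_inf_right _ hTL
  · exact CfsgLib.FFModules.omegaCenter_le_sylowCenterClosure hTL T.2 hi
  · exact CfsgLib.FFModules.sylowCenterClosure_le_largestPReducedOf hchar
  · exact CfsgLib.FFModules.largestPReducedOf_le_omegaCenter L

end Cfsg.Agent.S2821
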