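import Cfsg.Statements.S2823
import Cfsg.Agent.Lib.FFModules.Kieler

set_option autoImplicit false
open Cfsg
open scoped commutatorElement Pointwise

namespace Cfsg.Agent.S2823

/-- Let H be a finite group, p a prime, T a Sylow p-subgroup and L a subgroup of characteristic p containing T; let Z_L be the subgroup generated by the Ω₁(Z(S)) over the Sylow p-subgroups S of L and O^p(L) the subgroup generated by the elements of L of order prime to p. Then Z_L = Ω₁(Z(L))·[Z_L, O^p(L)] and [Z_L, L] = [Z_L, O^p(L)]. -/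
theorem result {H : Type*} [Group H] [Finite H] {p : ℕ} [Fact p.Prime] (T : Sylow p H) (L : Subgroup H) (hTL : (T : Subgroup H) ≤ L) (hL : Subgroup.centralizer (Cfsg.pCore p ↥L : Set ↥L) ≤ Cfsg.pCore p ↥L) : Cfsg.sylowCenterClosure p L = (Cfsg.omegaOne p (L ⊓ Subgroup.centralizer ((L : Subgroup H) : Set H))) ⊔ ⁅Cfsg.sylowCenterClosure p L, (Cfsg.pResidual p ↥L).map L.subtype⁆ ∧ ⁅Cfsg.sylowCenterClosure p L, L⁆ = ⁅Cfsg.sylowCenterClosure p L, (Cfsg.pResidual p ↥L).map L.subtype⁆ := by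
  have hchar := CfsgLib.FFModules.charP_subgroup_iff.1 hL
  set Z := Cfsg.sylowCenterClosure p L with hZ
  set R := (Cfsg.pResidual p L).map L.subtype with hR
  set W := Cfsg.omegaOne p (L ⊓ Subgroup.centralizer (L : Set H)) with hW
  have hZe := CfsgLib.FFModules.elemAb_sylowCenterClosure hchar
  have hLZ := CfsgLib.FFModules.le_normalizer_sylowCenterClosure (p := p) L
  have hRL : R ≤ L := CfsgLib.FFModules.pResidualMap_le L
  have hLR : L ≤ Subgroup.normalizer (R : Set H) :=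
    Subgroup.le_normalizer.trans (CfsgLib.FFModules.pResidualMap_le_normalizer L)
  have hNZ : ⁅Z, R⁆ ≤ Z := by
    refine Subgroup.commutator_le.2 fun a ha b hb => ?_
    have := (Subgroup.mem_normalizer_iff.1 (hLZ (hRL hb)) a⁻¹).1 (inv_mem ha)
    simpa [commutatorElement_def, mul_assoc] using mul_mem ha this
  have hLN := CfsgLib.FFModules.le_normalizer_commutator' hLZ hLR
  have hdec : Z = W ⊔ ⁅Z, R⁆ := by
    refine le_antisymm (iSup_le fun S => ?_) (sup_le ?_ hNZ)
    · intro z hz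
      obtain ⟨h1, h2, h3⟩ := CfsgLib.FFModules.sylow_map_props L S
      have hzZ : z ∈ Z := CfsgLib.FFModules.omegaCenter_le_sylowCenterClosure h1 h2 h3 hz
      obtain ⟨u, d, hud, huZ, -, huM, -, hd, -⟩ := CfsgLib.FFModules.gaschutz_split hZe hLZ h1 h3 hzZ
        (fun t ht => (CfsgLib.FFModules.mem_omegaCenter_iff.1 hz).2.1 t ht)
      rw [← hud]
      refine mul_mem (Subgroup.mem_sup_left ?_) (Subgroup.mem_sup_right hd)
      have huL : u ∈ L := ((CfsgLib.FFModules.sylowCenterClosure_le_omegaCenter_core hchar).trans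
        ((CfsgLib.FFModules.omegaOne_le _).trans (inf_le_left.trans (CfsgLib.FFModules.pCoreOf_le L)))) huZ
      exact CfsgLib.FFModules.mem_omegaOne_of ⟨huL, huM⟩ (hZe.2 u huZ)
    · intro w hw
      obtain ⟨hwL, hwc, hwp⟩ := CfsgLib.FFModules.mem_omegaCenter_iff.1 hw
      refine CfsgLib.FFModules.omegaCenter_le_sylowCenterClosure hTL T.2
        (CfsgLib.FFModules.coprime_of_sylow_relIndex T hTL) ?_
      refine CfsgLib.FFModules.mem_omegaCenter_iff.2 ⟨?_, fun t ht => hwc t (hTL ht), hwp⟩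
      have hle : Subgroup.zpowers w ≤ (T : Subgroup H) := by
        refine CfsgLib.FFModules.le_of_isPGroup_of_le_normalizer hTL (Subgroup.zpowers_le.2 hwL) ?_ T.2
          ((CfsgLib.FFModules.isPGroup_of_elemAb (CfsgLib.FFModules.elemAb_omegaCenter L)).to_le
            (Subgroup.zpowers_le.2 hw)) (CfsgLib.FFModules.coprime_of_sylow_relIndex T hTL)
        refine CfsgLib.FFModules.le_normalizer_of_conj_le fun l hl => ?_
        rintro _ ⟨y, hy, rfl⟩
        obtain ⟨n, rfl⟩ := Subgroup.mem_zpowers_iff.1 hy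
        show l * w ^ n * l⁻¹ ∈ _
        rw [(Commute.zpow_right (hwc l hl) n).eq, mul_inv_cancel_right]
        exact hy
      exact hle (Subgroup.mem_zpowers w)
  refine ⟨hdec, le_antisymm (Subgroup.commutator_le.2 fun z hz l hl => ?_)
    (Subgroup.commutator_mono le_rfl hRL)⟩
  have hWN : W ≤ Subgroup.normalizer ((⁅Z, R⁆ : Subgroup H) : Set H) :=
    ((CfsgLib.FFModules.omegaOne_le _).trans inf_le_left).trans hLN
  rw [hdec] at hz
  have hz' : z ∈ (W : Set H) * ((⁅Z, R⁆ : Subgroup H) : Set H) := by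
    rw [← Subgroup.coe_mul_of_left_le_normalizer_right W ⁅Z, R⁆ hWN]; exact hz
  obtain ⟨u, hu, d, hd, rfl⟩ := Set.mem_mul.1 hz'
  have h1 : d * l * d⁻¹ * l⁻¹ ∈ ⁅Z, R⁆ := by
    have := (Subgroup.mem_normalizer_iff.1 (hLN hl) d⁻¹).1 (inv_mem hd)
    simpa [mul_assoc] using mul_mem hd this
  have hul : u * l * u⁻¹ * l⁻¹ = 1 := by
    rw [((CfsgLib.FFModules.mem_omegaCenter_iff.1 hu).2.1 l hl).symm.eq]; group
  have e : ⁅u * d, l⁆ = u * (d * l * d⁻¹ * l⁻¹) * u⁻¹ * (u * l * u⁻¹ * l⁻¹) := by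
    rw [commutatorElement_def]; group
  rw [e, hul, mul_one]
  exact (Subgroup.mem_normalizer_iff.1 (hWN hu) _).1 h1

end Cfsg.Agent.S2823
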