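import Cfsg.Statements.S2824
import Cfsg.Agent.Lib.FFModules.YL

set_option autoImplicit false
open Cfsg

namespace Cfsg.Agent.S2824

/-- Let H be a finite group, p a prime, T a Sylow p-subgroup, L and M subgroups of characteristic p containing T, Y_L the largest p-reduced normal subgroup of L and T₀ = C_T(Y_L). If M·C_H(Y_L) = L·C_H(Y_L), then L* := N_M(T₀) has Y_{L*} = Y_L and L·C_H(Y_L) = L*·C_H(Y_L). -/
theorem result {H : Type*} [Group H] [Finite H] {p : ℕ} [Fact p.Prime] (T : Sylow p H) (L M : Subgroup H) (hTL : (T : Subgroup H) ≤ L) (hTM : (T : Subgroup H) ≤ M) (hL : Subgroup.centralizer (Cfsg.pCore p ↥L : Set ↥L) ≤ Cfsg.pCore p ↥L) (hM : Subgroup.centralizer (Cfsg.pCore p ↥M : Set ↥M) ≤ Cfsg.pCore p ↥M) (T₀ : Subgroup H) (hT₀ : T₀ = (T : Subgroup H) ⊓ Subgroup.centralizer (((Cfsg.largestPReducedOf p L) : Subgroup H) : Set H)) (hfac : M ⊔ Subgroup.centralizer (((Cfsg.largestPReducedOf p L) : Subgroup H) : Set H) = L ⊔ Subgroup.centralizer (((Cfsg.largestPReducedOf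 p L) : Subgroup H) : Set H)) (Ls : Subgroup H) (hLs : Ls = M ⊓ Subgroup.normalizer ((T₀ : Subgroup H) : Set H)) : (Cfsg.largestPReducedOf p Ls) = (Cfsg.largestPReducedOf p L) ∧ L ⊔ Subgroup.centralizer (((Cfsg.largestPReducedOf p L) : Subgroup H) : Set H) = Ls ⊔ Subgroup.centralizer (((Cfsg.largestPReducedOf p L) : Subgroup H) : Set H) := by
  have hchar := CfsgLib.FFModules.charP_subgroup_iff.1 hL
  have hiL : ((T : Subgroup H).relIndex L).Coprime p :=
    CfsgLib.FFModules.coprime_of_sylow_relIndex T hTL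
  have hiM : ((T : Subgroup H).relIndex M).Coprime p :=
    CfsgLib.FFModules.coprime_of_sylow_relIndex T hTM
  have hYeq := CfsgLib.FFModules.largestPReducedOf_eq_omegaCenter hTL T.2 hiL hchar
  set Y := Cfsg.largestPReducedOf p L with hY
  have hYr : CfsgLib.FFModules.ReducedIn p L Y := CfsgLib.FFModules.reducedIn_largestPReducedOf L
  have hYM : CfsgLib.FFModules.ReducedIn p M Y :=
    hYr.transfer (le_sup_left.trans hfac.le) (le_sup_left.trans hfac.ge)
  subst hT₀
  subst hLs
  set T₀ := (T : Subgroup H) ⊓ Subgroup.centralizer (Y : Set H) with hT₀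
  set N := M ⊓ Subgroup.normalizer (T₀ : Set H) with hN
  have hMN : M ≤ N ⊔ Subgroup.centralizer (Y : Set H) :=
    CfsgLib.FFModules.le_sup_centralizer hTM T.2 hYM.normalizes hiM
  have heq : L ⊔ Subgroup.centralizer (Y : Set H) = N ⊔ Subgroup.centralizer (Y : Set H) :=
    le_antisymm (hfac.ge.trans (sup_le hMN le_sup_right))
      ((sup_le_sup_right inf_le_left _).trans hfac.le)
  have hYN : CfsgLib.FFModules.ReducedIn p N Y :=
    hYr.transfer (le_sup_left.trans heq.ge) (le_sup_left.trans heq.le)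
  have hTY : Y ≤ T₀ := hYeq.le.trans ((CfsgLib.FFModules.omegaOne_le _).trans inf_le_left)
  have hT₀N : T₀ ≤ N := le_inf (inf_le_left.trans hTM) Subgroup.le_normalizer
  refine ⟨le_antisymm ?_ (CfsgLib.FFModules.le_largestPReducedOf (hTY.trans hT₀N) hYN), heq⟩
  have hcore := CfsgLib.FFModules.pCoreOf_normalizer_eq hTM T.2 hYM hiM
  rw [hYeq]
  intro y hy
  have h := CfsgLib.FFModules.largestPReducedOf_le_omegaCenter N hy
  rw [hN, hcore] at h
  exact h

end Cfsg.Agent.S2824
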