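import Cfsg.Statements.S2825
import Cfsg.Agent.Lib.FFModules.Kieler

set_option autoImplicit false
open Cfsg
open scoped commutatorElement

namespace Cfsg.Agent.S2825

/-- Let L be a subnormal subgroup of the finite group H, p a prime, Y_H and Y_L the largest p-reduced normal subgroups. Then Y_H ∩ L = Y_H ∩ Y_L and this subgroup is a p-reduced normal subgroup of L; C_L(Y_L) = C_L(Y_H) = C_L(Y_H ∩ L); and if O^p(H) ≤ L, then [Y_L, L] = 1 if and only if [Y_H, H] = 1. -/
theorem result {H : Type*} [Group H] [Finite H] {p : ℕ} [Fact p.Prime] (L : Subgroup H) (hL : L.IsSubnormal) : Cfsg.largestPReduced p H ⊓ L = Cfsg.largestPReduced p H ⊓ (Cfsg.largestPReducedOf p L) ∧ Cfsg.IsPReducedNormal p ((Cfsg.largestPReduced p H ⊓ L).subgroupOf L) ∧ L ⊓ Subgroup.centralizer ((Cfsg.largestPReducedOf p L : Subgroup H) : Set H) = L ⊓ Subgroup.centralizer (Cfsg.largestPReduced p H : Set H) ∧ L ⊓ Subgroup.centralizer (Cfsg.largestPReduced p H : Set H) = L ⊓ Subgroup.centralizer ((Cfsg.largestPReduced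 p H ⊓ L : Subgroup H) : Set H) ∧ (Cfsg.pResidual p H ≤ L → (⁅(Cfsg.largestPReducedOf p L), L⁆ = ⊥ ↔ ⁅Cfsg.largestPReduced p H, (⊤ : Subgroup H)⁆ = ⊥)) := by
  set Y := Cfsg.largestPReduced p H with hY
  set W := Cfsg.largestPReducedOf p L with hW
  have hYr : CfsgLib.FFModules.ReducedIn p (⊤ : Subgroup H) Y := by
    rw [hY, CfsgLib.FFModules.largestPReduced_eq_of_top]
    exact CfsgLib.FFModules.reducedIn_largestPReducedOf ⊤
  have hYn : Y.Normal := Subgroup.normalizer_eq_top_iff.1 (top_le_iff.1 hYr.normalizes)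
  have hLY := hYr.of_isSubnormal hL
  have hLi : L ≤ Subgroup.normalizer ((Y ⊓ L : Subgroup H) : Set H) :=
    CfsgLib.FFModules.le_normalizer_inf_of hLY.normalizes Subgroup.le_normalizer
  -- `C_L(Y ⊓ L) = C_L(Y)`
  have hC : L ⊓ Subgroup.centralizer ((Y ⊓ L : Subgroup H) : Set H) ≤
      Subgroup.centralizer (Y : Set H) := by
    refine hLY.reduced _ inf_le_left (CfsgLib.FFModules.le_normalizer_inf_of Subgroup.le_normalizer
      (hLi.trans (CfsgLib.FFModules.normalizer_le_normalizer_centralizer _))) fun x hx => ?_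
    refine CfsgLib.FFModules.exists_pPow_mem_of_coprime_mem (fun q hq hqp v hv => ?_) hx
    have hc : v⁻¹ * (q * v * q⁻¹) ∈ Y := mul_mem (inv_mem hv) (hYn.conj_mem v hv q)
    have hcL : v⁻¹ * (q * v * q⁻¹) ∈ L := by
      have := CfsgLib.FFModules.commutator_zpowers_le_of_isSubnormal hYr.elemAb hL hq.1 hqp
        (Subgroup.commutator_mem_commutator (inv_mem hv) (Subgroup.mem_zpowers q))
      simpa [commutatorElement_def, mul_assoc] using this
    exact (CfsgLib.FFModules.commute_of_commutator_mem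
      (CfsgLib.FFModules.isPGroup_of_elemAb hYr.elemAb) hqp hc (Commute.symm (hq.2 _ ⟨hc, hcL⟩))).symm
  have hred : CfsgLib.FFModules.ReducedIn p L (Y ⊓ L) :=
    ⟨hLi, CfsgLib.FFModules.elemAb_mono hYr.elemAb inf_le_left, fun D hD hDn hpow =>
      (hLY.reduced D hD hDn fun x hx => (hpow x hx).imp fun k hk => hC ⟨pow_mem (hD hx) _, hk⟩).trans
        (Subgroup.centralizer_le (SetLike.coe_subset_coe.2 inf_le_left))⟩
  have hle : Y ⊓ L ≤ W := CfsgLib.FFModules.le_largestPReducedOf inf_le_right hred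
  have hWL : W ≤ L := CfsgLib.FFModules.largestPReducedOf_le L
  have h1 : L ⊓ Subgroup.centralizer (W : Set H) = L ⊓ Subgroup.centralizer (Y : Set H) :=
    le_antisymm
      (le_inf inf_le_left ((inf_le_inf_left L
        (Subgroup.centralizer_le (SetLike.coe_subset_coe.2 hle))).trans hC))
      (le_inf inf_le_left (CfsgLib.FFModules.inf_centralizer_le_of_isSubnormal hL))
  refine ⟨le_antisymm (le_inf inf_le_left hle) (inf_le_inf_left Y hWL),
    (CfsgLib.FFModules.isPReducedNormal_subgroupOf_iff inf_le_right).2 hred, h1,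
    le_antisymm (inf_le_inf_left L (Subgroup.centralizer_le (SetLike.coe_subset_coe.2 inf_le_left)))
      (le_inf inf_le_left hC), fun hres => ?_⟩
  rw [Subgroup.commutator_eq_bot_iff_le_centralizer, Subgroup.commutator_eq_bot_iff_le_centralizer]
  constructor
  · intro h
    have hLW : L ≤ L ⊓ Subgroup.centralizer (W : Set H) :=
      le_inf le_rfl (CfsgLib.FFModules.le_centralizer_comm h)
    refine CfsgLib.FFModules.le_centralizer_comm (hYr.reduced ⊤ le_rfl
      Subgroup.le_normalizer fun x _ => ?_)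
    obtain ⟨k, hk⟩ := CfsgLib.FFModules.exists_pPow_mem_pResidual (p := p) x
    exact ⟨k, (hLW.trans h1.le (hres hk)).2⟩
  · intro h
    refine CfsgLib.FFModules.le_centralizer_comm fun l hl => ?_
    exact (h1.ge ⟨hl, CfsgLib.FFModules.le_centralizer_comm h (Subgroup.mem_top l)⟩).2

end Cfsg.Agent.S2825
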