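import Cfsg.Statements.S2826
import Cfsg.Agent.Lib.FFModules.Kieler

set_option autoImplicit false
open Cfsg
open scoped commutatorElement

namespace Cfsg.Agent.S2826

/-- Let H be a finite group of characteristic p, T a Sylow p-subgroup, and V a normal elementary abelian p-subgroup of H containing Ω₁(Z(T)). Then C_H(Ω₁(Z(T))) = C_H([V, O^p(H)] ∩ Ω₁(Z(T))), O^p(H) being generated by the elements of order prime to p. -/
theorem result {H : Type*} [Group H] [Finite H] {p : ℕ} [Fact p.Prime] (hH : Subgroup.centralizer (Cfsg.pCore p H : Set H) ≤ Cfsg.pCore p H) (T : Sylow p H) (V : Subgroup H) [V.Normal] (hV : Cfsg.IsElementaryAbelian p V) (hZV : (Cfsg.omegaOne p ((T : Subgroup H) ⊓ Subgroup.centralizer (((T : Subgroup H) : Subgroup H) : Set H))) ≤ V) : Subgroup.centralizer ((Cfsg.omegaOne p ((T : Subgroup H) ⊓ Subgroup.centralizer (((T : Subgroup H) : Subgroup H) : Set H))) : Set H) = Subgroup.centralizer (((⁅V, Cfsg.pResidual p H⁆ ⊓ (Cfsg.omegaOne p ((T : Subgroup H)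 ⊓ Subgroup.centralizer (((T : Subgroup H) : Subgroup H) : Set H)))) : Subgroup H) : Set H) := by
  refine le_antisymm (Subgroup.centralizer_le (SetLike.coe_subset_coe.2 inf_le_right)) fun x hx z hz => ?_
  obtain ⟨u, d, hud, -, hdV, huM, hdT, hd, -⟩ := CfsgLib.FFModules.gaschutz_split (M := (⊤ : Subgroup H)) hV
    (by rw [Subgroup.normalizer_eq_top_iff.2 ‹V.Normal›]) le_top
    (CfsgLib.FFModules.coprime_of_sylow_relIndex T le_top) (hZV hz)
    (fun t ht => (CfsgLib.FFModules.mem_omegaCenter_iff.1 hz).2.1 t ht)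
  rw [CfsgLib.FFModules.pResidualMap_top] at hd
  have hdI : d ∈ ⁅V, Cfsg.pResidual p H⁆ ⊓
      Cfsg.omegaOne p ((T : Subgroup H) ⊓ Subgroup.centralizer ((T : Subgroup H) : Set H)) := by
    refine ⟨hd, CfsgLib.FFModules.mem_omegaCenter_iff.2 ⟨?_, hdT, hV.2 d hdV⟩⟩
    exact (CfsgLib.FFModules.le_pCore ‹V.Normal› (CfsgLib.FFModules.isPGroup_of_elemAb hV)).trans
      (CfsgLib.FFModules.pCore_le_sylow T) hdV
  have h1 : Commute x u := huM x (Subgroup.mem_top x)
  have h2 : Commute x d := Commute.symm (hx d hdI)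
  rw [← hud]
  exact (h1.mul_right h2).symm

end Cfsg.Agent.S2826
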