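import Cfsg.Statements.S2827
import Cfsg.Agent.Lib.FFModules.PClosed
import Cfsg.Agent.Lib.FFModules.Kieler
import Cfsg.Agent.Lib.CoprimeAction.Basic

set_option autoImplicit false
open Cfsg
open scoped commutatorElement Pointwise

namespace Cfsg.Agent.S2827

/-- Let H be a finite p-irreducible group (not p-closed, and O^p(H) lies in every normal subgroup that is not p-closed) and T a Sylow p-subgroup. Then H is generated by the conjugates of T and H = H'·T; O^p(H) ≤ H'; and for every normal subgroup Y of T not contained in O_p(H), O^p(H) = [O^p(H), Y] and O^p(H) is contained in the normal closure of Y in H. -/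
theorem result {H : Type*} [Group H] [Finite H] {p : ℕ} [Fact p.Prime] (hH : Cfsg.IsPIrreducible p H) (T : Sylow p H) : Subgroup.normalClosure ((T : Subgroup H) : Set H) = ⊤ ∧ commutator H ⊔ (T : Subgroup H) = ⊤ ∧ Cfsg.pResidual p H ≤ commutator H ∧ ∀ Y : Subgroup H, Y ≤ (T : Subgroup H) → (T : Subgroup H) ≤ Subgroup.normalizer (Y : Set H) → ¬ Y ≤ Cfsg.pCore p H → ⁅Cfsg.pResidual p H, Y⁆ = Cfsg.pResidual p H ∧ Cfsg.pResidual p H ≤ Subgroup.normalClosure (Y : Set H) := by
  set K := Cfsg.pResidual p H with hK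
  have hKn : K.Normal := CfsgLib.FFModules.pResidual_normal
  have hKT := CfsgLib.FFModules.pResidual_sup_sylow T
  have hclos : ∀ Y : Subgroup H, IsPGroup p Y → ¬ Y ≤ Cfsg.pCore p H →
      K ≤ Subgroup.normalClosure (Y : Set H) := fun Y hY hYc =>
    hH.2 _ inferInstance (CfsgLib.FFModules.not_isPClosed_top_of_not_le hY Subgroup.le_normalClosure hYc)
  have hTc : ¬ (T : Subgroup H) ≤ Cfsg.pCore p H := by
    intro h
    apply hH.1
    have hT : (T : Subgroup H).Normal :=
      le_antisymm h (CfsgLib.FFModules.pCore_le_sylow T) ▸ CfsgLib.FFModules.normal_pCore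
    refine CfsgLib.FFModules.isPClosed_iff.2 fun P hP => ?_
    have hsup : IsPGroup p ↥(P ⊔ (T : Subgroup H)) := IsPGroup.to_sup_of_normal_right hP T.2
    exact (le_sup_left.trans (T.3 hsup le_sup_right).le).trans h
  have h1 : Subgroup.normalClosure ((T : Subgroup H) : Set H) = ⊤ := by
    rw [eq_top_iff, ← hKT]
    exact sup_le (hclos _ T.2 hTc) Subgroup.le_normalClosure
  have h2 : commutator H ⊔ (T : Subgroup H) = ⊤ := by
    have hn : (commutator H ⊔ (T : Subgroup H)).Normal := ⟨fun x hx g => by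
      have h : ⁅g, x⁆ ∈ commutator H ⊔ (T : Subgroup H) :=
        Subgroup.mem_sup_left (Subgroup.commutator_mem_commutator (Subgroup.mem_top g) (Subgroup.mem_top x))
      simpa [commutatorElement_def] using mul_mem h hx⟩
    rw [eq_top_iff, ← h1]
    exact Subgroup.normalClosure_le_normal fun x hx => Subgroup.mem_sup_right hx
  refine ⟨h1, h2, CfsgLib.FFModules.pResidual_le_of_sup_eq_top T.2 (by rwa [sup_comm]), ?_⟩
  intro Y hYT hTY hYc
  have hYp : IsPGroup p Y := T.2.to_le hYT
  refine ⟨?_, hclos Y hYp hYc⟩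
  set N := ⁅K, Y⁆ with hN
  have hKK : (⊤ : Subgroup H) ≤ Subgroup.normalizer (K : Set H) := by
    rw [Subgroup.normalizer_eq_top_iff.2 hKn]
  have hsup := CfsgLib.CoprimeAction.sup_le_normalizer_commutator Y K
  have hNn : N.Normal := Subgroup.normalizer_eq_top_iff.1 <| top_le_iff.1 <| by
    rw [← hKT]
    exact sup_le (le_sup_left.trans hsup)
      (CfsgLib.FFModules.le_normalizer_commutator' (le_top.trans hKK) hTY)
  have hle : N ≤ K := CfsgLib.CoprimeAction.commutator_le_left (le_top.trans hKK)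
  have hYN : (Y ⊔ N).Normal := Subgroup.normalizer_eq_top_iff.1 <| top_le_iff.1 <| by
    rw [← hKT]
    refine sup_le (CfsgLib.FFModules.le_normalizer_of_conj_le fun k hk => ?_) (fun t ht => ?_)
    · rw [Subgroup.map_sup, CfsgLib.FFModules.map_conj_eq_self (le_sup_left.trans hsup hk)]
      refine sup_le ?_ le_sup_right
      rintro _ ⟨y, hy, rfl⟩
      have h : ⁅k, y⁆ ∈ Y ⊔ N := Subgroup.mem_sup_right (Subgroup.commutator_mem_commutator hk hy)
      simpa [commutatorElement_def] using mul_mem h (Subgroup.mem_sup_left hy)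
    · exact Subgroup.normalizer_inf_normalizer_le_normalizer_sup Y N
        ⟨hTY ht, by rw [Subgroup.normalizer_eq_top_iff.2 hNn]; exact Subgroup.mem_top _⟩
  refine le_antisymm hle (CfsgLib.FFModules.pResidual_le_iff.2 fun q hq => ?_)
  have hq' : q ∈ Y ⊔ N := (hclos Y hYp hYc).trans
    (Subgroup.normalClosure_le_normal fun x hx => Subgroup.mem_sup_left hx)
    (CfsgLib.FFModules.mem_pResidual_of_coprime hq)
  obtain ⟨k, hk⟩ := CfsgLib.FFModules.exists_pow_mem_sup (p := p) (C := N)
    (by rw [Subgroup.normalizer_eq_top_iff.2 hNn]; exact le_top) Subgroup.le_normalizer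
    (fun x hx => by
      obtain ⟨k, hk⟩ := CfsgLib.FFModules.exists_pPow_eq_one hYp hx
      exact ⟨k, by rw [hk]; exact one_mem _⟩)
    (fun x hx => ⟨0, by simpa using hx⟩) hq'
  exact CfsgLib.FFModules.mem_of_pow_pPow_mem hq hk

end Cfsg.Agent.S2827
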