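import Cfsg.Statements.S2828
import Cfsg.Agent.Lib.FFModules.PClosed

set_option autoImplicit false
open Cfsg
open scoped commutatorElement Pointwise

namespace Cfsg.Agent.S2828

/-- Let H be a finite group, p a prime and D a normal p-subgroup of H. Then H is p-irreducible if and only if H/D is p-irreducible, and H is strongly p-irreducible if and only if H/D is strongly p-irreducible. -/
theorem result {H : Type*} [Group H] [Finite H] {p : ℕ} [Fact p.Prime] (D : Subgroup H) [D.Normal] (hD : IsPGroup p ↥D) : (Cfsg.IsPIrreducible p H ↔ Cfsg.IsPIrreducible p (H ⧸ D)) ∧ (Cfsg.IsStronglyPIrreducible p H ↔ Cfsg.IsStronglyPIrreducible p (H ⧸ D)) := by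
  set π := QuotientGroup.mk' D with hπ
  have hs : Function.Surjective π := QuotientGroup.mk'_surjective D
  have hker : π.ker = D := QuotientGroup.ker_mk' D
  have hDc : D ≤ Cfsg.pCore p H := CfsgLib.FFModules.le_pCore ‹D.Normal› hD
  -- `p`-closedness of a normal subgroup and of its image
  have hcl : ∀ N : Subgroup H, N.Normal → (Cfsg.IsPClosed p ↥N ↔ Cfsg.IsPClosed p ↥(N.map π)) := by
    intro N hN
    rw [CfsgLib.FFModules.isPClosed_subgroup_iff, CfsgLib.FFModules.isPClosed_subgroup_iff]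
    constructor
    · intro h P hP hPp
      have h1 := h (P.comap π ⊓ N) inf_le_right ((hPp.comap_of_ker_isPGroup π (by rwa [hker])).to_le inf_le_left)
      have h2 : (Cfsg.pCoreOf p N).map π ≤ Cfsg.pCoreOf p (N.map π) :=
        CfsgLib.FFModules.le_pCoreOf (Subgroup.map_mono (CfsgLib.FFModules.pCoreOf_le N))
          ((Subgroup.map_mono (CfsgLib.FFModules.le_normalizer_pCoreOf N)).trans (Subgroup.le_normalizer_map _))
          ((CfsgLib.FFModules.isPGroup_pCoreOf N).map π)
      intro x hx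
      obtain ⟨n, hn, rfl⟩ := hP hx
      exact h2 (Subgroup.mem_map_of_mem π (h1 ⟨hx, hn⟩))
    · intro h P hP hPp
      have h1 := h (P.map π) (Subgroup.map_mono hP) (hPp.map π)
      refine le_trans (le_inf (Subgroup.map_le_iff_le_comap.1 h1) hP) ?_
      refine CfsgLib.FFModules.le_pCoreOf inf_le_right (CfsgLib.FFModules.le_normalizer_inf_of ?_ Subgroup.le_normalizer)
        (((CfsgLib.FFModules.isPGroup_pCoreOf _).comap_of_ker_isPGroup π (by rwa [hker])).to_le inf_le_left)
      exact (Subgroup.map_le_iff_le_comap.1 (CfsgLib.FFModules.le_normalizer_pCoreOf (N.map π))).trans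
        (Subgroup.le_normalizer_comap _)
  have htop : Cfsg.IsPClosed p H ↔ Cfsg.IsPClosed p (H ⧸ D) := by
    rw [← CfsgLib.FFModules.isPClosed_top_iff (G := H), ← CfsgLib.FFModules.isPClosed_top_iff (G := H ⧸ D),
      hcl ⊤ inferInstance, Subgroup.map_top_of_surjective π hs]
  have hres : (Cfsg.pResidual p H).map π = Cfsg.pResidual p (H ⧸ D) := by
    refine le_antisymm (Subgroup.map_le_iff_le_comap.2 (CfsgLib.FFModules.pResidual_le_iff.2 fun x hx =>
      CfsgLib.FFModules.mem_pResidual_of_coprime (hx.coprime_dvd_left (orderOf_map_dvd π x))))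
      (CfsgLib.FFModules.pResidual_le_iff.2 fun q hq => ?_)
    obtain ⟨x, rfl⟩ := hs q
    obtain ⟨k, hk⟩ := CfsgLib.FFModules.exists_pPow_mem_pResidual (p := p) x
    exact CfsgLib.FFModules.mem_of_pow_pPow_mem hq (k := k)
      (by rw [← map_pow]; exact Subgroup.mem_map_of_mem π hk)
  have hle : ∀ N : Subgroup H, N.Normal →
      (Cfsg.pResidual p H ≤ N ↔ Cfsg.pResidual p (H ⧸ D) ≤ N.map π) := by
    intro N hN
    rw [← hres]
    refine ⟨fun h => Subgroup.map_mono h, fun h => CfsgLib.FFModules.pResidual_le_iff.2 fun q hq => ?_⟩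
    have hq' : q ∈ D ⊔ N := by
      have := Subgroup.map_le_iff_le_comap.1 h (CfsgLib.FFModules.mem_pResidual_of_coprime hq)
      rwa [Subgroup.comap_map_eq, hker, sup_comm] at this
    obtain ⟨k, hk⟩ := CfsgLib.FFModules.exists_pow_mem_sup (p := p) (C := N)
      (by rw [Subgroup.normalizer_eq_top_iff.2 hN]; exact le_top) Subgroup.le_normalizer
      (fun x hx => by
        obtain ⟨k, hk⟩ := CfsgLib.FFModules.exists_pPow_eq_one hD hx
        exact ⟨k, by rw [hk]; exact one_mem _⟩)
      (fun x hx => ⟨0, by simpa using hx⟩) hq'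
    exact CfsgLib.FFModules.mem_of_pow_pPow_mem hq hk
  have hcore : Cfsg.pCore p (H ⧸ D) = (Cfsg.pCore p H).map π := by
    refine le_antisymm ?_ (CfsgLib.FFModules.le_pCore (CfsgLib.FFModules.normal_pCore.map π hs)
      (CfsgLib.FFModules.isPGroup_pCore.map π))
    have h : (Cfsg.pCore p (H ⧸ D)).comap π ≤ Cfsg.pCore p H := CfsgLib.FFModules.le_pCore
      (CfsgLib.FFModules.normal_pCore.comap π)
      (CfsgLib.FFModules.isPGroup_pCore.comap_of_ker_isPGroup π (by rwa [hker]))
    calc Cfsg.pCore p (H ⧸ D) = ((Cfsg.pCore p (H ⧸ D)).comap π).map π :=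
          (Subgroup.map_comap_eq_self_of_surjective hs _).symm
      _ ≤ _ := Subgroup.map_mono h
  have hcom : ∀ N : Subgroup H, ⁅N, (⊤ : Subgroup H)⁆ ≤ Cfsg.pCore p H ↔
      ⁅N.map π, (⊤ : Subgroup (H ⧸ D))⁆ ≤ Cfsg.pCore p (H ⧸ D) := by
    intro N
    rw [hcore, ← Subgroup.map_top_of_surjective π hs, ← Subgroup.map_commutator,
      Subgroup.map_le_map_iff, hker, sup_eq_left.2 hDc]
  constructor
  · unfold Cfsg.IsPIrreducible
    rw [htop]
    refine and_congr_right fun _ => ⟨fun h N hN hNc => ?_, fun h N hN hNc => ?_⟩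
    · have hn := hN.comap π
      have e := Subgroup.map_comap_eq_self_of_surjective hs N
      rw [← e] at hNc ⊢
      exact (hle _ hn).1 (h _ hn (fun hc => hNc ((hcl _ hn).1 hc)))
    · exact (hle _ hN).2 (h _ (hN.map π hs) (fun hc => hNc ((hcl _ hN).2 hc)))
  · unfold Cfsg.IsStronglyPIrreducible
    rw [htop]
    refine and_congr_right fun _ => ⟨fun h N hN hNc => ?_, fun h N hN hNc => ?_⟩
    · have hn := hN.comap π
      have e := Subgroup.map_comap_eq_self_of_surjective hs N
      rw [← e] at hNc ⊢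
      exact (hle _ hn).1 (h _ hn (fun hc => hNc ((hcom _).1 hc)))
    · exact (hle _ hN).2 (h _ (hN.map π hs) (fun hc => hNc ((hcom _).2 hc)))

end Cfsg.Agent.S2828
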