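import Cfsg.Statements.S2829
import Cfsg.Agent.Lib.FFModules.PClosed

set_option autoImplicit false
open Cfsg
open scoped commutatorElement Pointwise

namespace Cfsg.Agent.S2829

/-- Every strongly p-irreducible finite group is p-irreducible. -/
theorem result {H : Type*} [Group H] [Finite H] {p : ℕ} [Fact p.Prime] (hH : Cfsg.IsStronglyPIrreducible p H) : Cfsg.IsPIrreducible p H := by
  refine ⟨hH.1, fun N hN hNc => hH.2 N hN fun hcomm => hNc ?_⟩
  refine CfsgLib.FFModules.isPClosed_subgroup_iff.2 fun P hP hPp => ?_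
  have hcn : (Cfsg.pCore p H).Normal := CfsgLib.FFModules.normal_pCore
  set Z := N ⊓ Cfsg.pCore p H with hZ
  have hZn : N ≤ Subgroup.normalizer (Z : Set H) := CfsgLib.FFModules.le_normalizer_inf_of
    Subgroup.le_normalizer (by rw [Subgroup.normalizer_eq_top_iff.2 hcn]; exact le_top)
  refine le_sup_left.trans (CfsgLib.FFModules.le_pCoreOf (N := P ⊔ Z) (sup_le hP inf_le_left) ?_
    (IsPGroup.to_sup_of_normal_right' hPp (CfsgLib.FFModules.isPGroup_pCore.to_le inf_le_right) (hP.trans hZn)))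
  refine CfsgLib.FFModules.le_normalizer_of_conj_le fun n hn => ?_
  rw [Subgroup.map_sup, CfsgLib.FFModules.map_conj_eq_self (hZn hn)]
  refine sup_le ?_ le_sup_right
  rintro _ ⟨x, hx, rfl⟩
  have h : ⁅n, x⁆ ∈ P ⊔ Z := Subgroup.mem_sup_right
    ⟨mul_mem (hN.conj_mem x (hP hx) n) (inv_mem (hP hx) : x⁻¹ ∈ N),
      hcomm (Subgroup.commutator_mem_commutator hn (Subgroup.mem_top x))⟩
  simpa [commutatorElement_def] using mul_mem h (Subgroup.mem_sup_left hx)

end Cfsg.Agent.S2829
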