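import Cfsg.Statements.S2830
import Cfsg.Agent.Lib.FFModules.PClosed

set_option autoImplicit false
open Cfsg
open scoped commutatorElement Pointwise

namespace Cfsg.Agent.S2830

/-- Let H act by conjugation on the elementary abelian p-subgroup V of a finite group G (H ≤ N(V)), with H p-irreducible and O^p(H) not centralizing V. Then C_H(V) is p-closed and C_T(V) ≤ O_p(H) for every p-subgroup T of H. If in addition O_p(H) centralizes V, then C_T(V) = T ∩ O_p(H) for every p-subgroup T of H, and V is p-reduced for H: O_p(H/C_H(V)) = 1. -/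
theorem result {G : Type*} [Group G] [Finite G] {p : ℕ} [Fact p.Prime] (V H : Subgroup G) (hV : Cfsg.IsElementaryAbelian p V) (hHV : H ≤ Subgroup.normalizer (V : Set G)) (hH : Cfsg.IsPIrreducible p ↥H) (hnc : ¬ (Cfsg.pResidual p ↥H).map H.subtype ≤ Subgroup.centralizer (V : Set G)) [hn : ((Subgroup.centralizer (V : Set G)).subgroupOf H).Normal] : Cfsg.IsPClosed p ↥(H ⊓ Subgroup.centralizer (V : Set G)) ∧ (∀ T : Subgroup G, T ≤ H → IsPGroup p ↥T → T ⊓ Subgroup.centralizer (V : Set G) ≤ Cfsg.pCoreOf p H) ∧ (Cfsg.pCoreOf p H ≤ Subgroup.centralizer (V : Set G) → (∀ T : Subgroup G, T ≤ H → IsPGroup p ↥T → T ⊓ Subgroup.centralizer (V : Set G) = T ⊓ Cfsg.pCoreOf p H) ∧ Cfsg.pCore p (↥H ⧸ (Subgroup.centralizer (V : Set G)).subgroupOf H) = ⊥) := by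
  set C := (Subgroup.centralizer (V : Set G)).subgroupOf H with hC
  have hCc : Cfsg.IsPClosed p C := by
    by_contra h
    exact hnc ((Subgroup.map_mono (hH.2 C hn h)).trans
      (Subgroup.map_le_iff_le_comap.2 (fun x hx => hx)))
  have hT2 : ∀ T : Subgroup G, T ≤ H → IsPGroup p ↥T →
      T ⊓ Subgroup.centralizer (V : Set G) ≤ Cfsg.pCoreOf p H := by
    intro T hTH hT x hx
    refine ⟨⟨x, hTH hx.1⟩, ?_, rfl⟩
    exact CfsgLib.FFModules.le_pCore_of_isPClosed (P := (T ⊓ Subgroup.centralizer (V : Set G)).subgroupOf H)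
      hCc (fun y hy => hy.2)
      ((CfsgLib.FFModules.isPGroup_subgroupOf (inf_le_left.trans hTH)).2 (hT.to_le inf_le_left)) hx
  have hmem : ∀ x : H, x ∈ Cfsg.pCore p H → (x : G) ∈ Cfsg.pCoreOf p H := fun x hx => ⟨x, hx, rfl⟩
  refine ⟨?_, hT2, fun hV => ⟨fun T hTH hT => le_antisymm (le_inf inf_le_left (hT2 T hTH hT))
    (le_inf inf_le_left (inf_le_right.trans hV)), ?_⟩⟩
  · refine CfsgLib.FFModules.isPClosed_subgroup_iff.2 fun P hP hPp => ?_
    set Q := Cfsg.pCoreOf p H ⊓ Subgroup.centralizer (V : Set G) with hQ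
    refine le_trans (b := Q) (le_inf ?_ (hP.trans inf_le_right)) ?_
    · exact le_trans (le_inf le_rfl (hP.trans inf_le_right)) (hT2 P (hP.trans inf_le_left) hPp)
    · exact CfsgLib.FFModules.le_pCoreOf (le_inf (inf_le_left.trans (CfsgLib.FFModules.pCoreOf_le H)) inf_le_right)
        (CfsgLib.FFModules.le_normalizer_inf_of (inf_le_left.trans (CfsgLib.FFModules.le_normalizer_pCoreOf H))
          (inf_le_right.trans Subgroup.le_normalizer))
        ((CfsgLib.FFModules.isPGroup_pCoreOf H).to_le inf_le_left)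
  · refine eq_bot_iff.2 (sSup_le fun N hN => ?_)
    have := hN.1
    set D := N.comap (QuotientGroup.mk' C) with hD
    have hpow : ∀ x ∈ D, ∃ k : ℕ, x ^ p ^ k ∈ C := fun x hx => by
      obtain ⟨k, hk⟩ := CfsgLib.FFModules.exists_pPow_eq_one hN.2 hx
      exact ⟨k, (QuotientGroup.eq_one_iff _).1 (by rw [← hk]; exact map_pow (QuotientGroup.mk' C) x _)⟩
    have hDc : Cfsg.IsPClosed p D := by
      by_contra h
      refine hnc (Subgroup.map_le_iff_le_comap.2 (CfsgLib.FFModules.pResidual_le_iff.2 fun q hq => ?_))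
      obtain ⟨k, hk⟩ := hpow q (hH.2 D inferInstance h (CfsgLib.FFModules.mem_pResidual_of_coprime hq))
      exact CfsgLib.FFModules.mem_of_pow_pPow_mem (H := C) hq hk
    have hDC : D ≤ C := by
      refine CfsgLib.FFModules.mem_of_pElements_of_coprimeElements (p := p) (fun x hx ⟨k, hk⟩ => ?_)
        (fun x hx hx' => ?_)
      · have hz : IsPGroup p (Subgroup.zpowers x) := by
          rintro ⟨y, hy⟩
          obtain ⟨n, rfl⟩ := Subgroup.mem_zpowers_iff.1 hy
          refine ⟨k, Subtype.ext ?_⟩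
          show (x ^ n) ^ (p ^ k) = 1
          rw [← zpow_natCast, ← zpow_mul, mul_comm, zpow_mul, zpow_natCast, hk, one_zpow]
        exact hV (hmem x (CfsgLib.FFModules.le_pCore_of_isPClosed hDc
          (Subgroup.zpowers_le.2 hx) hz (Subgroup.mem_zpowers x)))
      · obtain ⟨k, hk⟩ := hpow x hx
        exact CfsgLib.FFModules.mem_of_pow_pPow_mem hx' hk
    intro q hq
    obtain ⟨x, rfl⟩ := QuotientGroup.mk'_surjective C q
    exact (QuotientGroup.eq_one_iff _).2 (hDC hq)

end Cfsg.Agent.S2830
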