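import Cfsg.Statements.S2831
import Cfsg.Agent.Lib.FFModules.PClosed

set_option autoImplicit false
open Cfsg
open scoped commutatorElement Pointwise

namespace Cfsg.Agent.S2831

/-- Let H be a finite group with Sylow p-subgroup T such that H is T-minimal (H is generated by the conjugates of T and T lies in exactly one maximal subgroup of H). Then H is p-irreducible: H is not p-closed and O^p(H) lies in every normal subgroup of H that is not p-closed. -/
theorem result {H : Type*} [Group H] [Finite H] {p : ℕ} [Fact p.Prime] (T : Sylow p H) (hmin : Cfsg.IsMinimalOver (T : Subgroup H)) : Cfsg.IsPIrreducible p H := by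
  obtain ⟨hclos, M, ⟨hM, hTM⟩, huniq⟩ := hmin
  have hTne : ¬ (T : Subgroup H).Normal := by
    intro h
    have h1 : Subgroup.normalClosure ((T : Subgroup H) : Set H) ≤ M :=
      (Subgroup.normalClosure_le_normal (Set.Subset.refl _)).trans hTM
    rw [hclos, top_le_iff] at h1
    exact hM.1 h1
  refine ⟨fun h => hTne (h T), fun N hN hNc => ?_⟩
  set P := (T : Subgroup H) ⊓ N with hP
  have hPi : (P.relIndex N).Coprime p := by
    rw [hP, Subgroup.inf_relIndex_right]
    exact CfsgLib.FFModules.coprime_relIndex_of_le_normalizer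
      (CfsgLib.FFModules.coprime_of_sylow_relIndex T le_top) le_top le_top
      (by rw [Subgroup.normalizer_eq_top_iff.2 hN]; exact le_top)
  have hTP : (T : Subgroup H) ≤ Subgroup.normalizer (P : Set H) :=
    CfsgLib.FFModules.le_normalizer_inf_of Subgroup.le_normalizer
      (by rw [Subgroup.normalizer_eq_top_iff.2 hN]; exact le_top)
  have hPM : Subgroup.normalizer (P : Set H) ≤ M := by
    refine CfsgLib.FFModules.le_of_unique_coatom huniq hTP fun h => hNc ?_
    refine CfsgLib.FFModules.isPClosed_subgroup_iff.2 fun Q hQ hQp => ?_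
    have hPn : N ≤ Subgroup.normalizer (P : Set H) := by rw [h]; exact le_top
    have := CfsgLib.FFModules.le_of_isPGroup_of_coprime_relIndex (le_sup_right : P ≤ Q ⊔ P)
      (IsPGroup.to_sup_of_normal_right' hQp (T.2.to_le inf_le_left) (hQ.trans hPn))
      (CfsgLib.FFModules.coprime_relIndex_of_le le_sup_right (sup_le hQ inf_le_right) hPi)
    exact (le_sup_left.trans this).trans
      (CfsgLib.FFModules.le_pCoreOf inf_le_right hPn (T.2.to_le inf_le_left))
  have hNT : (T : Subgroup H) ⊔ N = ⊤ := by
    by_contra hne
    have hle := CfsgLib.FFModules.le_of_unique_coatom huniq le_sup_left hne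
    apply hM.1
    rw [eq_top_iff]
    intro g _
    obtain ⟨c, hc, hcg⟩ := CfsgLib.FFModules.frattini_factor (inf_le_right : P ≤ N)
      (T.2.to_le inf_le_left) hPi (g := g) (by rw [Subgroup.normalizer_eq_top_iff.2 hN]; exact Subgroup.mem_top g)
    simpa using mul_mem (inv_mem (hle (Subgroup.mem_sup_right hc))) (hPM hcg)
  exact CfsgLib.FFModules.pResidual_le_of_sup_eq_top T.2 hNT

end Cfsg.Agent.S2831
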