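import Cfsg.Statements.S2832
import Cfsg.Agent.Lib.FFModules.PClosed

set_option autoImplicit false
open Cfsg
open scoped commutatorElement Pointwise

namespace Cfsg.Agent.S2832

/-- Let H be a finite group with Sylow p-subgroup T such that H is T-minimal (generated by the conjugates of T, with T in exactly one maximal subgroup), and let N be a normal subgroup of H. Then either H/N is a p-group or H/N is minimal over the image of T in the same sense. -/
theorem result {H : Type*} [Group H] [Finite H] {p : ℕ} [Fact p.Prime] (T : Sylow p H) (hmin : Cfsg.IsMinimalOver (T : Subgroup H)) (N : Subgroup H) [N.Normal] : IsPGroup p (H ⧸ N) ∨ Cfsg.IsMinimalOver ((T : Subgroup H).map (QuotientGroup.mk' N)) := by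
  obtain ⟨hclos, M, ⟨hM, hTM⟩, huniq⟩ := hmin
  set π := QuotientGroup.mk' N with hπ
  have hs : Function.Surjective π := QuotientGroup.mk'_surjective N
  by_cases htop : (T : Subgroup H).map π = ⊤
  · left
    refine IsPGroup.of_surjective (H := H ⧸ N) (T.2) (π.comp (T : Subgroup H).subtype) ?_
    intro q
    obtain ⟨t, ht, rfl⟩ := (htop ▸ Subgroup.mem_top q : q ∈ (T : Subgroup H).map π)
    exact ⟨⟨t, ht⟩, rfl⟩
  · right
    refine ⟨?_, ?_⟩
    · rw [eq_top_iff, ← Subgroup.map_top_of_surjective π hs, ← hclos, Subgroup.map_normalClosure _ _ hs]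
      rfl
    · obtain ⟨M', hM', hle⟩ := (eq_top_or_exists_le_coatom ((T : Subgroup H).map π)).resolve_left htop
      refine ⟨M', ⟨hM', hle⟩, fun X hX => ?_⟩
      have key : ∀ X : Subgroup (H ⧸ N), IsCoatom X ∧ (T : Subgroup H).map π ≤ X → X.comap π = M :=
        fun X hX => huniq _ ⟨Subgroup.isCoatom_comap_of_surjective hs hX.1, Subgroup.map_le_iff_le_comap.1 hX.2⟩
      exact Subgroup.comap_injective hs ((key X hX).trans (key M' ⟨hM', hle⟩).symm)

end Cfsg.Agent.S2832
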