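import Cfsg.Statements.S2833
import Cfsg.Agent.Lib.FFModules.YL
import Cfsg.Agent.Lib.CoprimeAction.Basic

set_option autoImplicit false
open Cfsg
open scoped commutatorElement Pointwise

namespace Cfsg.Agent.S2833

/-- Let V be a subgroup of a finite group G normalized by the subgroup L, let X ≤ L and g ∈ L with [V, X, X] = 1 and L generated by X and gXg⁻¹. Put W = [V, L]. Then W = [V, X]·[V, gXg⁻¹], C_W(X) = [V, X], and C_W(L) = [V, X] ∩ [V, gXg⁻¹]. -/
theorem result {G : Type*} [Group G] [Finite G] (V L : Subgroup G) (hLV : L ≤ Subgroup.normalizer (V : Set G)) (X : Subgroup G) (hX : X ≤ L) (g : G) (hg : g ∈ L) (hq : ⁅⁅V, X⁆, X⁆ = ⊥) (hgen : X ⊔ X.map (MulAut.conj g).toMonoidHom = L) (W : Subgroup G) (hW : W = ⁅V, L⁆) : ⁅V, X⁆ ⊔ ⁅V, X.map (MulAut.conj g).toMonoidHom⁆ = W ∧ W ⊓ Subgroup.centralizer (X : Set G) = ⁅V, X⁆ ∧ W ⊓ Subgroup.centralizer (L : Set G) = ⁅V, X⁆ ⊓ ⁅V, X.map (MulAut.conj g).toMonoidHom⁆ := by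
  subst hW
  set X' := X.map (MulAut.conj g).toMonoidHom with hX'
  set A := ⁅V, X⁆ with hA
  set B := ⁅V, X'⁆ with hB
  have hX'L : X' ≤ L := by rw [← hgen]; exact le_sup_right
  have hXV : X ≤ Subgroup.normalizer (V : Set G) := hX.trans hLV
  have hX'V : X' ≤ Subgroup.normalizer (V : Set G) := hX'L.trans hLV
  have hAV : A ≤ V := CfsgLib.CoprimeAction.commutator_le_left hXV
  have hBV : B ≤ V := CfsgLib.CoprimeAction.commutator_le_left hX'V
  have hAX : X ≤ Subgroup.centralizer (A : Set G) :=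
    CfsgLib.FFModules.le_centralizer_comm (Subgroup.commutator_eq_bot_iff_le_centralizer.1 hq)
  have hBA : B = A.map (MulAut.conj g).toMonoidHom := by
    rw [hA, Subgroup.map_commutator, CfsgLib.FFModules.map_conj_eq_self (hLV hg)]
  have hBX : X' ≤ Subgroup.centralizer (B : Set G) := by
    rw [hBA]
    rintro _ ⟨x, hx, rfl⟩ _ ⟨a, ha, rfl⟩
    exact Commute.map (hAX hx a ha) (MulAut.conj g).toMonoidHom
  have hnA := CfsgLib.CoprimeAction.sup_le_normalizer_commutator X V
  have hnB := CfsgLib.CoprimeAction.sup_le_normalizer_commutator X' V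
  have hLn : L ≤ Subgroup.normalizer ((A ⊔ B : Subgroup G) : Set G) := by
    rw [← hgen]
    refine sup_le (CfsgLib.FFModules.le_normalizer_of_conj_le fun x hx => ?_)
      (CfsgLib.FFModules.le_normalizer_of_conj_le fun x hx => ?_)
    · rw [Subgroup.map_sup, CfsgLib.FFModules.map_conj_eq_self (le_sup_right.trans hnA hx)]
      refine sup_le le_sup_left ?_
      rintro _ ⟨b, hb, rfl⟩
      have h : ⁅x, b⁆ ∈ A := by
        rw [hA, Subgroup.commutator_comm]
        exact Subgroup.commutator_mem_commutator hx (hBV hb)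
      simpa [commutatorElement_def] using mul_mem (Subgroup.mem_sup_left (T := B) h) (Subgroup.mem_sup_right hb)
    · rw [Subgroup.map_sup, CfsgLib.FFModules.map_conj_eq_self (le_sup_right.trans hnB hx)]
      refine sup_le ?_ le_sup_right
      rintro _ ⟨a, ha, rfl⟩
      have h : ⁅x, a⁆ ∈ B := by
        rw [hB, Subgroup.commutator_comm]
        exact Subgroup.commutator_mem_commutator hx (hAV ha)
      simpa [commutatorElement_def] using mul_mem (Subgroup.mem_sup_right (S := A) h) (Subgroup.mem_sup_left ha)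
  have hle : ⁅V, L⁆ = A ⊔ B := by
    refine le_antisymm ?_ (sup_le (Subgroup.commutator_mono le_rfl hX) (Subgroup.commutator_mono le_rfl hX'L))
    let S : Subgroup G :=
      { carrier := {l | l ∈ L ∧ ∀ v ∈ V, ⁅v, l⁆ ∈ A ⊔ B}
        one_mem' := ⟨one_mem _, fun v _ => by simp [commutatorElement_def]⟩
        mul_mem' := fun {a b} ha hb => ⟨mul_mem ha.1 hb.1, fun v hv => by
          have e : ⁅v, a * b⁆ = ⁅v, a⁆ * (a * ⁅v, b⁆ * a⁻¹) := by
            simp only [commutatorElement_def]; group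
          rw [e]
          exact mul_mem (ha.2 v hv) ((Subgroup.mem_normalizer_iff.1 (hLn ha.1) _).1 (hb.2 v hv))⟩
        inv_mem' := fun {a} ha => ⟨inv_mem ha.1, fun v hv => by
          have e : ⁅v, a⁻¹⁆ = a⁻¹ * ⁅v, a⁆⁻¹ * (a⁻¹)⁻¹ := by
            simp only [commutatorElement_def]; group
          rw [e]
          exact (Subgroup.mem_normalizer_iff.1 (hLn (inv_mem ha.1)) _).1 (inv_mem (ha.2 v hv))⟩ }
    have hS : L ≤ S := by
      rw [← hgen]
      exact sup_le (fun x hx => ⟨hX hx, fun v hv => Subgroup.mem_sup_left (Subgroup.commutator_mem_commutator hv hx)⟩)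
        (fun x hx => ⟨hX'L hx, fun v hv => Subgroup.mem_sup_right (Subgroup.commutator_mem_commutator hv hx)⟩)
    exact Subgroup.commutator_le.2 fun v hv l hl => (hS hl).2 v hv
  have hL : ∀ b : G, b ∈ Subgroup.centralizer (X : Set G) → b ∈ Subgroup.centralizer (X' : Set G) →
      b ∈ Subgroup.centralizer (L : Set G) := by
    intro b h1 h2
    refine CfsgLib.FFModules.le_centralizer_comm (A := L) (B := Subgroup.zpowers b) ?_ (Subgroup.mem_zpowers b)
    rw [← hgen]
    exact sup_le (CfsgLib.FFModules.le_centralizer_comm (Subgroup.zpowers_le.2 h1))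
      (CfsgLib.FFModules.le_centralizer_comm (Subgroup.zpowers_le.2 h2))
  have h2 : ⁅V, L⁆ ⊓ Subgroup.centralizer (X : Set G) = A := by
    rw [hle]
    refine le_antisymm ?_ (le_inf le_sup_left (CfsgLib.FFModules.le_centralizer_comm hAX))
    rintro w ⟨hw, hwX⟩
    have hw' : w ∈ (A : Set G) * (B : Set G) := by
      rw [← Subgroup.coe_mul_of_left_le_normalizer_right A B (hAV.trans (le_sup_left.trans hnB))]; exact hw
    obtain ⟨a, ha, b, hb, rfl⟩ := Set.mem_mul.1 hw'
    have hbX : b ∈ Subgroup.centralizer (X : Set G) := by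
      have := mul_mem (inv_mem (CfsgLib.FFModules.le_centralizer_comm hAX ha)) hwX
      simpa using this
    have hbL := hL b hbX (CfsgLib.FFModules.le_centralizer_comm hBX hb)
    rw [hBA] at hb
    obtain ⟨a', ha', hab⟩ := hb
    have e : a' = b := by
      refine (MulAut.conj g).injective (hab.trans ?_)
      show b = g * b * g⁻¹
      rw [hbL g hg, mul_inv_cancel_right]
    exact mul_mem ha (e ▸ ha')
  refine ⟨hle.symm, h2, le_antisymm ?_ ?_⟩
  · rintro w ⟨hw, hwL⟩
    have hwA : w ∈ A := h2.le ⟨hw, Subgroup.centralizer_le hX hwL⟩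
    refine ⟨hwA, ?_⟩
    have hm : g * w * g⁻¹ ∈ B := hBA ▸ Subgroup.mem_map_of_mem _ hwA
    rwa [hwL g hg, mul_inv_cancel_right] at hm
  · rintro w ⟨hwA, hwB⟩
    refine ⟨?_, hL w (CfsgLib.FFModules.le_centralizer_comm hAX hwA)
      (CfsgLib.FFModules.le_centralizer_comm hBX hwB)⟩
    rw [hle]
    exact Subgroup.mem_sup_left hwA

end Cfsg.Agent.S2833
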