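import Cfsg.Statements.S2834
import Cfsg.Agent.Lib.FFModules.LLemma

set_option autoImplicit false
open Cfsg
open scoped Pointwise

namespace Cfsg.Agent.S2834

/-- The L-Lemma: let H be a finite group with Sylow p-subgroup T such that H is T-minimal (generated by the conjugates of T, T in exactly one maximal subgroup M), and let A ≤ T with A not contained in O_p(H). Then there is a subgroup L of H containing A·O_p(H) such that (a) A·O_p(L) lies in exactly one maximal subgroup L₀ of L, and L₀ = L ∩ gMg⁻¹ for some g ∈ H; (b) L = ⟨A, xAx⁻¹⟩·O_p(L) for every x ∈ L outside L₀. -/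
theorem result {H : Type*} [Group H] [Finite H] {p : ℕ} [Fact p.Prime] (T : Sylow p H) (hmin : Cfsg.IsMinimalOver (T : Subgroup H)) (M : Subgroup H) (hM : IsCoatom M ∧ (T : Subgroup H) ≤ M) (A : Subgroup H) (hAT : A ≤ (T : Subgroup H)) (hA : ¬ A ≤ Cfsg.pCore p H) : ∃ L : Subgroup H, A ⊔ Cfsg.pCore p H ≤ L ∧ ∃ L₀ : Subgroup H, A ⊔ (Cfsg.pCoreOf p L) ≤ L₀ ∧ L₀ < L ∧ (∀ X : Subgroup H, A ⊔ (Cfsg.pCoreOf p L) ≤ X → X < L → X ≤ L₀) ∧ (∃ g : H, L₀ = L ⊓ ((M : Subgroup H).map (MulAut.conj (g : H)).toMonoidHom)) ∧ ∀ x ∈ L, x ∉ L₀ → (A ⊔ ((A : Subgroup H).map (MulAut.conj (x : H)).toMonoidHom)) ⊔ (Cfsg.pCoreOf p L) = L := by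
  classical
  obtain ⟨D, M', hP⟩ := CfsgLib.FFModules.LLemma.exists_pivot T hmin M hM A hAT hA
  obtain ⟨g, rfl⟩ := hP.conj
  obtain ⟨L, ⟨hDL, hLN, hLM⟩, hLmin⟩ := Set.Finite.exists_minimal
    (s := {L : Subgroup H | D ⊔ A ≤ L ∧ L ≤ Subgroup.normalizer (D : Set H) ∧
      ¬ L ≤ MulAut.conj g • M}) (Set.toFinite _)
    ⟨_, sup_le Subgroup.le_normalizer hP.le_normalizer, le_rfl, hP.not_le⟩
  have hDcore : D ≤ Cfsg.pCoreOf p L :=
    CfsgLib.FFModules.le_pCoreOf (le_sup_left.trans hDL) hLN hP.isPGroup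
  have hAL : A ≤ L := le_sup_right.trans hDL
  refine ⟨L, sup_le hAL (hP.pCore_le.trans (le_sup_left.trans hDL)), L ⊓ MulAut.conj g • M, ?_,
    lt_of_le_of_ne inf_le_left fun h => hLM (h.ge.trans inf_le_right), ?_, ⟨g, rfl⟩, ?_⟩
  · refine le_inf (sup_le hAL (CfsgLib.FFModules.pCoreOf_le L)) ?_
    obtain ⟨S, hS⟩ := ((T.2.to_le hAT).to_sup_of_normal_right'
      (CfsgLib.FFModules.isPGroup_pCoreOf L)
      (hAL.trans (CfsgLib.FFModules.le_normalizer_pCoreOf L))).exists_le_sylow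
    obtain ⟨a, rfl⟩ := MulAction.exists_smul_eq H T S
    have h1 : A ⊔ Cfsg.pCoreOf p L ≤ MulAut.conj a • M :=
      hS.trans (Subgroup.pointwise_smul_le_pointwise_smul_iff.2 hM.2)
    rw [← hP.unique a ((sup_le (hDcore.trans le_sup_right) le_sup_left).trans h1)]
    exact h1
  · intro X hX hXL
    refine le_inf hXL.le ?_
    by_contra hXM
    exact absurd (hLmin ⟨sup_le (hDcore.trans (le_sup_right.trans hX)) (le_sup_left.trans hX),
      hXL.le.trans hLN, hXM⟩ hXL.le) (not_le_of_gt hXL)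
  · intro x hxL hx0
    by_contra hne
    have hle : (A ⊔ A.map (MulAut.conj x).toMonoidHom) ⊔ Cfsg.pCoreOf p L ≤ L := by
      refine sup_le (sup_le hAL ?_) (CfsgLib.FFModules.pCoreOf_le L)
      rintro _ ⟨a, ha, rfl⟩
      exact L.mul_mem (L.mul_mem hxL (hAL ha)) (L.inv_mem hxL)
    have hXM : (A ⊔ A.map (MulAut.conj x).toMonoidHom) ⊔ Cfsg.pCoreOf p L ≤ MulAut.conj g • M := by
      by_contra hXM
      refine hne (le_antisymm hle (hLmin ⟨?_, hle.trans hLN, hXM⟩ hle))
      exact sup_le (hDcore.trans le_sup_right) (le_sup_left.trans le_sup_left)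
    have h1 : MulAut.conj x • (D ⊔ A) ≤ MulAut.conj g • M := by
      rw [Subgroup.smul_sup, CfsgLib.FFModules.LLemma.conj_eq_of_mem_normalizer (hLN hxL)]
      exact sup_le (le_sup_left.trans hP.le) (le_trans (le_sup_right.trans le_sup_left) hXM)
    have h2 : D ⊔ A ≤ MulAut.conj (x⁻¹ * g) • M := by
      rw [← CfsgLib.FFModules.LLemma.conj_conj, map_inv]
      exact Subgroup.pointwise_smul_subset_iff.1 h1
    have h3 := hP.unique _ h2
    rw [← CfsgLib.FFModules.LLemma.conj_conj] at h3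
    have h4 : x⁻¹ ∈ Subgroup.normalizer ((MulAut.conj g • M : Subgroup H) : Set H) :=
      CfsgLib.FFModules.LLemma.mem_normalizer_of_conj_le h3.le
    have h5 : Subgroup.normalizer ((MulAut.conj g • M : Subgroup H) : Set H) = MulAut.conj g • M := by
      have hco : IsCoatom (MulAut.conj g • M) :=
        (OrderIso.isCoatom_iff (MulEquiv.mapSubgroup (MulAut.conj g)) M).2 hM.1
      by_contra hne'
      have hn := Subgroup.normalizer_eq_top_iff.1
        (hco.2 _ (lt_of_le_of_ne Subgroup.le_normalizer (Ne.symm hne')))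
      haveI : M.Normal := by
        have e := hn.map (MulAut.conj g⁻¹).toMonoidHom (MulAut.conj g⁻¹).surjective
        have e2 : (MulAut.conj g • M).map (MulAut.conj g⁻¹).toMonoidHom = M := by
          show MulAut.conj g⁻¹ • MulAut.conj g • M = M
          rw [CfsgLib.FFModules.LLemma.conj_conj, inv_mul_cancel, map_one, one_smul]
        rwa [e2] at e
      exact hM.1.1 (top_le_iff.1 (hmin.1 ▸ Subgroup.normalClosure_le_normal hM.2))
    rw [h5, Subgroup.inv_mem_iff] at h4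
    exact hx0 ⟨hxL, h4⟩

end Cfsg.Agent.S2834
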