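import Cfsg.Statements.S2835
import Cfsg.Agent.Lib.FFModules.PClosed

set_option autoImplicit false
open Cfsg
open scoped commutatorElement Pointwise

namespace Cfsg.Agent.S2835

/-- Let L be a finite group, L₀ a maximal subgroup, T a Sylow p-subgroup of L₀ and Y ≤ T, and suppose L is Y-minimal (generated by the conjugates of Y, with Y in exactly one maximal subgroup, necessarily L₀). Then N_L(T) ≤ L₀, O_p(L) ≤ L₀ and T is a Sylow p-subgroup of L; N_L(L₀) = L₀; L = ⟨Y, gYg⁻¹⟩ for each g ∈ L outside L₀; and if Y is abelian then Y ∩ gYg⁻¹ = C_Y(L) for each such g. -/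
theorem result {L : Type*} [Group L] [Finite L] {p : ℕ} [Fact p.Prime] (L₀ : Subgroup L) (hL₀ : IsCoatom L₀) (T : Sylow p ↥L₀) (Y : Subgroup L) (hYT : Y ≤ (T : Subgroup ↥L₀).map L₀.subtype) (hmin : Cfsg.IsMinimalOver Y) : Subgroup.normalizer (((T : Subgroup ↥L₀).map L₀.subtype : Subgroup L) : Set L) ≤ L₀ ∧ Cfsg.pCore p L ≤ L₀ ∧ (∃ P : Sylow p L, (P : Subgroup L) = (T : Subgroup ↥L₀).map L₀.subtype) ∧ Subgroup.normalizer (L₀ : Set L) = L₀ ∧ (∀ g : L, g ∉ L₀ → Y ⊔ Y.map (MulAut.conj g).toMonoidHom = ⊤) ∧ (IsMulCommutative ↥Y → ∀ g : L, g ∉ L₀ → Y ⊓ Y.map (MulAut.conj g).toMonoidHom = Y ⊓ Subgroup.center L) := by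
  obtain ⟨hclos, M, ⟨hM, hYM⟩, huniq⟩ := hmin
  set T' := (T : Subgroup ↥L₀).map L₀.subtype with hT'
  have hT'L : T' ≤ L₀ := Subgroup.map_subtype_le _
  have hYL : Y ≤ L₀ := hYT.trans hT'L
  obtain rfl : L₀ = M := huniq L₀ ⟨hL₀, hYL⟩
  have hsmall : ∀ X : Subgroup L, Y ≤ X → X ≠ ⊤ → X ≤ L₀ := fun X =>
    CfsgLib.FFModules.le_of_unique_coatom huniq
  have hnn : ∀ X : Subgroup L, Y ≤ X → X ≤ L₀ → ¬ X.Normal := by
    intro X hYX hXL hX
    have h1 : Subgroup.normalClosure (Y : Set L) ≤ L₀ := (Subgroup.normalClosure_le_normal hYX).trans hXL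
    rw [hclos, top_le_iff] at h1
    exact hL₀.1 h1
  have hself : Subgroup.normalizer (L₀ : Set L) = L₀ :=
    le_antisymm (hsmall _ (hYL.trans Subgroup.le_normalizer)
      fun h => hnn L₀ hYL le_rfl (Subgroup.normalizer_eq_top_iff.1 h)) Subgroup.le_normalizer
  have hNT : Subgroup.normalizer (T' : Set L) ≤ L₀ :=
    hsmall _ (hYT.trans Subgroup.le_normalizer) fun h => hnn T' hYT hT'L (Subgroup.normalizer_eq_top_iff.1 h)
  -- no `p`-subgroup of `L` properly contains `T'`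
  have hmax : ∀ P : Subgroup L, IsPGroup p P → T' ≤ P → P ≤ T' := by
    intro P hP hTP
    by_contra hne
    have : Group.IsNilpotent P := hP.isNilpotent
    have hlt : T'.subgroupOf P < Subgroup.normalizer ((T'.subgroupOf P : Subgroup P) : Set P) :=
      Group.normalizerCondition_of_isNilpotent _ (lt_top_iff_ne_top.2 fun h => hne (Subgroup.subgroupOf_eq_top.1 h))
    rw [← Subgroup.subgroupOf_normalizer_eq hTP] at hlt
    obtain ⟨x, hx, hxT⟩ := SetLike.exists_of_lt hlt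
    set Q := (Subgroup.normalizer (T' : Set L) ⊓ P).subgroupOf L₀ with hQ
    have hQp : IsPGroup p Q := (hP.to_le inf_le_right).comap_subtype
    have hTQ : (T : Subgroup L₀) ≤ Q := fun t ht =>
      ⟨Subgroup.le_normalizer (Subgroup.mem_map_of_mem L₀.subtype ht), hTP (Subgroup.mem_map_of_mem L₀.subtype ht)⟩
    have h := T.3 hQp hTQ
    have hxQ : (⟨x, hNT hx⟩ : L₀) ∈ Q := ⟨hx, x.2⟩
    rw [h] at hxQ
    exact hxT ⟨_, hxQ, rfl⟩
  have hPp : IsPGroup p T' := T.2.map _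
  obtain ⟨P, hP⟩ := hPp.exists_le_sylow
  have hPT : (P : Subgroup L) = T' := le_antisymm (hmax _ P.2 hP) hP
  have hgen : ∀ g : L, g ∉ L₀ → Y ⊔ Y.map (MulAut.conj g).toMonoidHom = ⊤ := by
    intro g hg
    by_contra hne
    have h := hsmall _ le_sup_left hne
    have hY' : Y ≤ L₀.map (MulAut.conj g⁻¹).toMonoidHom :=
      CfsgLib.FFModules.map_conj_le_iff.1 (le_sup_right.trans h)
    have hco : IsCoatom (L₀.map (MulAut.conj g⁻¹).toMonoidHom) :=
      (OrderIso.isCoatom_iff (MulEquiv.mapSubgroup (MulAut.conj g⁻¹)) L₀).2 hL₀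
    have hn := CfsgLib.FFModules.mem_normalizer_of_map_conj_eq (huniq _ ⟨hco, hY'⟩)
    rw [hself] at hn
    exact hg (by simpa using inv_mem hn)
  refine ⟨hNT, ?_, ⟨P, hPT⟩, hself, hgen, fun hab g hg => ?_⟩
  · exact (CfsgLib.FFModules.pCore_le_sylow P).trans (hPT.le.trans hT'L)
  · refine le_antisymm ?_ ?_
    · rintro z ⟨hz1, hz2⟩
      refine ⟨hz1, Subgroup.mem_center_iff.2 fun w => ?_⟩
      have hw : w ∈ Y ⊔ Y.map (MulAut.conj g).toMonoidHom := (hgen g hg).symm ▸ Subgroup.mem_top w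
      refine (show Y ⊔ Y.map (MulAut.conj g).toMonoidHom ≤ Subgroup.centralizer ({z} : Set L) from sup_le
        (fun y hy u hu => ?_) (fun y hy u hu => ?_)) hw z rfl |>.symm
      · rw [Set.mem_singleton_iff.1 hu]
        exact congrArg Subtype.val (hab.1.1 ⟨z, hz1⟩ ⟨y, hy⟩)
      · rw [Set.mem_singleton_iff.1 hu]
        obtain ⟨z', hz', rfl⟩ := hz2
        obtain ⟨y', hy', rfl⟩ := hy
        have h : Commute z' y' := congrArg Subtype.val (hab.1.1 ⟨z', hz'⟩ ⟨y', hy'⟩)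
        exact h.map (MulAut.conj g).toMonoidHom
    · rintro z ⟨hz1, hz2⟩
      refine ⟨hz1, z, hz1, ?_⟩
      show g * z * g⁻¹ = z
      rw [Subgroup.mem_center_iff.1 hz2 g, mul_inv_cancel_right]

end Cfsg.Agent.S2835
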