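import Cfsg.Statements.S2836
import Cfsg.Agent.S2835
import Cfsg.Agent.Lib.FFModules.WeaklyClosed

set_option autoImplicit false
open Cfsg
open scoped commutatorElement Pointwise

namespace Cfsg.Agent.S2836

/-- Let L be a finite group, L₀ a maximal subgroup, T a Sylow p-subgroup of L₀, Y ≤ T, and suppose L is Y-minimal. Let D be the intersection of the conjugates of L₀ (the core of L₀). Then D contains O_p(L) and D/O_p(L) is the Frattini subgroup of L/O_p(L), so D is p-closed; and every normal subgroup N of L contained in L₀ is p-closed with N/O_p(N) a nilpotent group of order prime to p. -/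
theorem result {L : Type*} [Group L] [Finite L] {p : ℕ} [Fact p.Prime] (L₀ : Subgroup L) (hL₀ : IsCoatom L₀) (T : Sylow p ↥L₀) (Y : Subgroup L) (hYT : Y ≤ (T : Subgroup ↥L₀).map L₀.subtype) (hmin : Cfsg.IsMinimalOver Y) : (Cfsg.pCore p L ≤ L₀.normalCore ∧ (L₀.normalCore).map (QuotientGroup.mk' (Cfsg.pCore p L)) = frattini (L ⧸ Cfsg.pCore p L) ∧ Cfsg.IsPClosed p ↥(L₀.normalCore)) ∧ ∀ (N : Subgroup L) [N.Normal], N ≤ L₀ → Cfsg.IsPClosed p ↥N ∧ Group.IsNilpotent (↥N ⧸ Cfsg.pCore p ↥N) ∧ (Nat.card (↥N ⧸ Cfsg.pCore p ↥N)).Coprime p := by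
  obtain ⟨-, hQL₀, ⟨P, hP⟩, -, -, -⟩ := Cfsg.Agent.S2835.result L₀ hL₀ T Y hYT hmin
  obtain ⟨hclos, M, ⟨hM, hYM⟩, huniq⟩ := hmin
  have hT'L : (T : Subgroup ↥L₀).map L₀.subtype ≤ L₀ := Subgroup.map_subtype_le _
  obtain rfl : L₀ = M := huniq L₀ ⟨hL₀, hYT.trans hT'L⟩
  have hYP : Y ≤ (P : Subgroup L) := hP ▸ hYT
  have hPL₀ : (P : Subgroup L) ≤ L₀ := hP ▸ hT'L
  have hiP : ((P : Subgroup L).relIndex ⊤).Coprime p := CfsgLib.FFModules.coprime_of_sylow_relIndex P le_top
  -- a proper subgroup of index prime to `p` lies with all small normal subgroups in a conjugate of `L₀`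
  have hbig : ∀ (X N : Subgroup L), N.Normal → N ≤ L₀ → (X.relIndex ⊤).Coprime p → X ⊔ N = ⊤ → X = ⊤ := by
    intro X N hN hNL hX hXN
    by_contra hne
    obtain ⟨S, hS⟩ := (IsPGroup.of_bot (p := p) (G := X)).exists_le_sylow
    obtain ⟨h1, h2, h3⟩ := CfsgLib.FFModules.sylow_map_props X S
    have h4 : (((S : Subgroup ↥X).map X.subtype).relIndex ⊤).Coprime p := by
      rw [← Subgroup.relIndex_mul_relIndex _ X ⊤ h1 le_top]
      exact Nat.Coprime.mul_left h3 hX
    obtain ⟨c, -, hc⟩ := CfsgLib.FFModules.exists_conj_eq (C := (⊤ : Subgroup L)) le_top le_top P.2 h2 hiP h4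
    have hY' : Y ≤ X.map (MulAut.conj c⁻¹).toMonoidHom := by
      refine CfsgLib.FFModules.map_conj_le_iff.1 ?_
      exact (Subgroup.map_mono hYP).trans (hc.le.trans h1)
    have hne' : X.map (MulAut.conj c⁻¹).toMonoidHom ≠ ⊤ := fun h => hne (by
      refine top_le_iff.1 ?_
      have := CfsgLib.FFModules.map_conj_le_iff.1 (h.le : X.map (MulAut.conj c⁻¹).toMonoidHom ≤ ⊤)
      intro x _
      obtain ⟨y, hy, hyx⟩ := (h.ge : ⊤ ≤ X.map (MulAut.conj c⁻¹).toMonoidHom) (Subgroup.mem_top (c⁻¹ * x * c))
      have e : y = x := (MulAut.conj c⁻¹).injective (hyx.trans (by simp))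
      exact e ▸ hy)
    have hle := CfsgLib.FFModules.le_of_unique_coatom huniq hY' hne'
    have hX' : X ≤ L₀.map (MulAut.conj c).toMonoidHom := by
      simpa using CfsgLib.FFModules.map_conj_le_iff.1 hle
    have hN' : N ≤ L₀.map (MulAut.conj c).toMonoidHom := by
      refine le_trans (le_of_eq ?_) (Subgroup.map_mono hNL)
      exact (CfsgLib.FFModules.map_conj_eq_self (by rw [Subgroup.normalizer_eq_top_iff.2 hN]; exact Subgroup.mem_top c)).symm
    have h5 := sup_le hX' hN'
    rw [hXN] at h5
    apply hL₀.1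
    rw [eq_top_iff]
    intro x _
    obtain ⟨y, hy, hyx⟩ := h5 (Subgroup.mem_top (c * x * c⁻¹))
    have e : y = x := (MulAut.conj c).injective (hyx.trans rfl)
    exact e ▸ hy
  -- a Sylow subgroup of a small normal subgroup is normal
  have hPN : ∀ N : Subgroup L, N.Normal → N ≤ L₀ →
      (((P : Subgroup L) ⊓ N).relIndex N).Coprime p ∧ (P : Subgroup L) ⊓ N ≤ Cfsg.pCoreOf p N := by
    intro N hN hNL
    have hNtop : ∀ X : Subgroup L, X ≤ Subgroup.normalizer (N : Set L) := fun X => by
      rw [Subgroup.normalizer_eq_top_iff.2 hN]; exact le_top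
    have hi : (((P : Subgroup L) ⊓ N).relIndex N).Coprime p := by
      rw [Subgroup.inf_relIndex_right]
      exact CfsgLib.FFModules.coprime_relIndex_of_le_normalizer hiP le_top le_top (hNtop _)
    refine ⟨hi, CfsgLib.FFModules.le_pCoreOf inf_le_right ?_ (P.2.to_le inf_le_left)⟩
    by_contra hne
    have hY' : Y ≤ Subgroup.normalizer (((P : Subgroup L) ⊓ N : Subgroup L) : Set L) :=
      hYP.trans (CfsgLib.FFModules.le_normalizer_inf_of Subgroup.le_normalizer (hNtop _))
    have hle := CfsgLib.FFModules.le_of_unique_coatom huniq hY' (fun h => hne (h ▸ le_top))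
    apply hL₀.1
    rw [eq_top_iff]
    intro g _
    obtain ⟨c, hc, hcg⟩ := CfsgLib.FFModules.frattini_factor (inf_le_right : (P : Subgroup L) ⊓ N ≤ N)
      (P.2.to_le inf_le_left) hi (hNtop ⊤ (Subgroup.mem_top g))
    simpa using mul_mem (inv_mem (hNL hc)) (hle hcg)
  have hclosed : ∀ N : Subgroup L, N.Normal → N ≤ L₀ → Cfsg.IsPClosed p ↥N := by
    intro N hN hNL
    refine CfsgLib.FFModules.isPClosed_subgroup_iff.2 fun R hR hRp => ?_
    obtain ⟨hi, hle⟩ := hPN N hN hNL
    obtain ⟨c, hc, hcR⟩ := CfsgLib.FFModules.exists_conj_le hR inf_le_right hRp (P.2.to_le inf_le_left) hi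
    have h := CfsgLib.FFModules.map_conj_le_iff.1 (hcR.trans hle)
    rwa [CfsgLib.FFModules.map_conj_eq_self (CfsgLib.FFModules.le_normalizer_pCoreOf N (inv_mem hc))] at h
  have hcn : L₀.normalCore.Normal := inferInstance
  refine ⟨⟨?_, ?_, hclosed _ hcn L₀.normalCore_le⟩, ?_⟩
  · exact (Subgroup.normal_le_normalCore (hN := CfsgLib.FFModules.normal_pCore)).2 hQL₀
  · have : (Cfsg.pCore p L).Normal := CfsgLib.FFModules.normal_pCore
    set π := QuotientGroup.mk' (Cfsg.pCore p L) with hπ
    have hs : Function.Surjective π := QuotientGroup.mk'_surjective _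
    refine le_antisymm (Subgroup.map_le_iff_le_comap.2 ?_) ?_
    · rw [frattini, Order.radical]
      simp only [Subgroup.comap_iInf, le_iInf_iff]
      intro X hX
      by_contra hne
      have hco := Subgroup.isCoatom_comap_of_surjective hs hX
      set Z := X.comap π with hZ
      have hsup : Z ⊔ L₀.normalCore = ⊤ :=
        hco.2 _ (lt_of_le_of_ne le_sup_left fun h => hne (le_sup_right.trans h.ge))
      refine hco.1 (hbig Z _ hcn L₀.normalCore_le ?_ hsup)
      have hi := (hPN _ hcn L₀.normalCore_le).1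
      have h2 : (P : Subgroup L) ⊓ L₀.normalCore ≤ Z := by
        refine ((hPN _ hcn L₀.normalCore_le).2.trans
          (CfsgLib.FFModules.pCoreOf_le_pCore_of_isSubnormal hcn.isSubnormal)).trans ?_
        intro x hx
        show π x ∈ X
        rw [show π x = 1 from (QuotientGroup.eq_one_iff x).2 hx]
        exact one_mem X
      have e : Z.relIndex ⊤ = Z.relIndex L₀.normalCore := by
        have hA : (Z ⊓ L₀.normalCore).relIndex Z * Z.index = (Z ⊓ L₀.normalCore).index :=
          Subgroup.relIndex_mul_index inf_le_left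
        have hB : (Z ⊓ L₀.normalCore).relIndex L₀.normalCore * L₀.normalCore.index = (Z ⊓ L₀.normalCore).index :=
          Subgroup.relIndex_mul_index inf_le_right
        have h3 := Subgroup.relIndex_sup_right Z L₀.normalCore
        rw [hsup, Subgroup.relIndex_top_right] at h3
        rw [Subgroup.inf_relIndex_left, ← h3] at hA
        rw [Subgroup.inf_relIndex_right, ← hA] at hB
        rw [Subgroup.relIndex_top_right]
        refine (Nat.eq_of_mul_eq_mul_right (Nat.pos_of_ne_zero (Subgroup.index_ne_zero_of_finite (H := L₀.normalCore))) ?_).symm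
        rw [hB, mul_comm]
      rw [e]
      refine Nat.Coprime.coprime_dvd_left ?_ hi
      rw [← Subgroup.inf_relIndex_right Z L₀.normalCore]
      exact Subgroup.relIndex_dvd_of_le_left _ (le_inf h2 inf_le_right)
    · intro q hq
      obtain ⟨x, rfl⟩ := hs q
      refine Subgroup.mem_map_of_mem π (fun b => ?_)
      have hfn : (frattini (L ⧸ Cfsg.pCore p L)).Normal := inferInstance
      have h1 : π (b * x * b⁻¹) ∈ frattini (L ⧸ Cfsg.pCore p L) := by
        rw [map_mul, map_mul, map_inv]
        exact hfn.conj_mem _ hq _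
      have hker : (L₀.map π).comap π = L₀ := Subgroup.comap_map_eq_self (by rwa [hπ, QuotientGroup.ker_mk'])
      have hco : IsCoatom (L₀.map π) := by
        refine ⟨fun h => hL₀.1 (by rw [← hker, h, Subgroup.comap_top]), fun X hX => ?_⟩
        have h2 : L₀ < X.comap π := hker ▸ (Subgroup.comap_lt_comap_of_surjective hs).2 hX
        have := congrArg (Subgroup.map π) (hL₀.2 _ h2)
        rwa [Subgroup.map_comap_eq_self_of_surjective hs, Subgroup.map_top_of_surjective π hs] at this
      rw [frattini, Order.radical] at h1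
      simp only [Subgroup.mem_iInf] at h1
      have := h1 (L₀.map π) hco
      rwa [← Subgroup.mem_comap, hker] at this
  · intro N hN hNL
    have : (Cfsg.pCore p ↥N).Normal := CfsgLib.FFModules.normal_pCore
    refine ⟨hclosed N hN hNL, ?_, ?_⟩
    · refine (Group.isNilpotent_of_finite_tfae.out 0 3 rfl rfl).2 fun q hq Qb => ?_
      set π := QuotientGroup.mk' (Cfsg.pCore p ↥N) with hπ
      have hs : Function.Surjective π := QuotientGroup.mk'_surjective _
      obtain ⟨S⟩ := (inferInstance : Nonempty (Sylow q ↥N))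
      obtain ⟨hS1, hS2, hS3⟩ := CfsgLib.FFModules.sylow_map_props N S
      set S' := (S : Subgroup ↥N).map N.subtype with hS'
      set P0 := Cfsg.pCoreOf p N with hP0
      set W := S' ⊔ P0 with hW
      have hP0n : Subgroup.normalizer (P0 : Set L) = ⊤ := top_le_iff.1 <|
        le_trans (by rw [Subgroup.normalizer_eq_top_iff.2 hN]) (CfsgLib.FFModules.normalizer_le_normalizer_pCoreOf N)
      have hfrat : Subgroup.normalizer (W : Set L) ⊔ N = ⊤ := by
        rw [eq_top_iff]
        intro g _
        obtain ⟨c, hc, hcg⟩ := CfsgLib.FFModules.frattini_factor hS1 hS2 hS3 (g := g)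
          (by rw [Subgroup.normalizer_eq_top_iff.2 hN]; exact Subgroup.mem_top g)
        have hcg' : c * g ∈ Subgroup.normalizer (W : Set L) :=
          Subgroup.normalizer_inf_normalizer_le_normalizer_sup S' P0 ⟨hcg, hP0n ▸ Subgroup.mem_top _⟩
        simpa using mul_mem (Subgroup.mem_sup_right (S := Subgroup.normalizer (W : Set L)) (inv_mem hc))
          (Subgroup.mem_sup_left hcg')
      have hcop : ((Subgroup.normalizer (W : Set L)).relIndex ⊤).Coprime p := by
        set Z := Subgroup.normalizer (W : Set L)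
        have hA : (Z ⊓ N).relIndex Z * Z.index = (Z ⊓ N).index := Subgroup.relIndex_mul_index inf_le_left
        have hB : (Z ⊓ N).relIndex N * N.index = (Z ⊓ N).index := Subgroup.relIndex_mul_index inf_le_right
        have h3 := Subgroup.relIndex_sup_right Z N
        rw [hfrat, Subgroup.relIndex_top_right] at h3
        rw [Subgroup.inf_relIndex_left, ← h3] at hA
        rw [Subgroup.inf_relIndex_right, ← hA] at hB
        have e : Z.index = Z.relIndex N := by
          refine (Nat.eq_of_mul_eq_mul_right (Nat.pos_of_ne_zero (Subgroup.index_ne_zero_of_finite (H := N))) ?_).symm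
          rw [hB, mul_comm]
        rw [Subgroup.relIndex_top_right, e, ← Subgroup.inf_relIndex_right Z N]
        refine Nat.Coprime.coprime_dvd_left (Subgroup.relIndex_dvd_of_le_left _ ?_) (hPN N hN hNL).1
        exact le_inf ((hPN N hN hNL).2.trans (le_sup_right.trans Subgroup.le_normalizer)) inf_le_right
      have hWn : W.Normal := Subgroup.normalizer_eq_top_iff.1 (hbig _ N hN hNL hcop hfrat)
      have hW' : ((S : Subgroup ↥N) ⊔ Cfsg.pCore p ↥N).Normal := by
        have : W.subgroupOf N = (S : Subgroup ↥N) ⊔ Cfsg.pCore p ↥N := by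
          rw [hW, hS', hP0, Cfsg.pCoreOf, ← Subgroup.map_sup]
          exact Subgroup.comap_map_eq_self_of_injective N.subtype_injective _
        rw [← this]
        exact hWn.subgroupOf N
      have hSn : ((S.mapSurjective hs : Sylow q (↥N ⧸ Cfsg.pCore p ↥N)) : Subgroup (↥N ⧸ Cfsg.pCore p ↥N)).Normal := by
        rw [Sylow.coe_mapSurjective, show (S : Subgroup ↥N).map π = ((S : Subgroup ↥N) ⊔ Cfsg.pCore p ↥N).map π by
          rw [Subgroup.map_sup, show (Cfsg.pCore p ↥N).map π = ⊥ from (Subgroup.map_eq_bot_iff _).2 (QuotientGroup.ker_mk' _).ge, sup_bot_eq]]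
        exact hW'.map π hs
      obtain ⟨x, rfl⟩ := MulAction.exists_smul_eq (↥N ⧸ Cfsg.pCore p ↥N) (S.mapSurjective hs) Qb
      rw [show x • S.mapSurjective hs = S.mapSurjective hs from
        Sylow.smul_eq_iff_mem_normalizer.2 ((Subgroup.normalizer_eq_top_iff.2 hSn).ge (Subgroup.mem_top x))]
      exact hSn
    · obtain ⟨hi, hle⟩ := hPN N hN hNL
      rw [← Subgroup.index_eq_card]
      refine Nat.Coprime.coprime_dvd_left ?_ hi
      have : (Cfsg.pCore p ↥N).index = (Cfsg.pCoreOf p N).relIndex N := by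
        rw [Cfsg.pCoreOf, Subgroup.relIndex,
          show ((Cfsg.pCore p ↥N).map N.subtype).subgroupOf N = Cfsg.pCore p ↥N from
            Subgroup.comap_map_eq_self_of_injective N.subtype_injective _]
      rw [this]
      exact Subgroup.relIndex_dvd_of_le_left _ hle

end Cfsg.Agent.S2836
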