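import Cfsg.Statements.S2837
import Cfsg.Agent.S2835
import Cfsg.Agent.Lib.PGroups.Frattini
import Cfsg.Agent.Lib.FFModules.Kieler

set_option autoImplicit false
open Cfsg
open scoped commutatorElement Pointwise

namespace Cfsg.Agent.S2837

/-- Let L be a finite group of characteristic p, L₀ a maximal subgroup, Y an elementary abelian p-subgroup of L₀ with L Y-minimal and O_p(L) ≤ N_L(Y). Put A = the normal closure of O_p(L) ∩ Y in L. Then for every g ∈ L outside L₀: Φ(A) = A' = [A ∩ Y, A] = [A ∩ Y, A ∩ gYg⁻¹] ≤ C_Y(L), and Y ∩ gYg⁻¹ = (A ∩ Y) ∩ (A ∩ gYg⁻¹) = C_Y(L) = C_A(L). -/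
theorem result {L : Type*} [Group L] [Finite L] {p : ℕ} [Fact p.Prime] (hchar : Subgroup.centralizer (Cfsg.pCore p L : Set L) ≤ Cfsg.pCore p L) (L₀ : Subgroup L) (hL₀ : IsCoatom L₀) (Y : Subgroup L) (hYL₀ : Y ≤ L₀) (hYel : Cfsg.IsElementaryAbelian p Y) (hmin : Cfsg.IsMinimalOver Y) (hOY : Cfsg.pCore p L ≤ Subgroup.normalizer (Y : Set L)) (A : Subgroup L) (hA : A = Subgroup.normalClosure (((Cfsg.pCore p L ⊓ Y : Subgroup L)) : Set L)) (g : L) (hg : g ∉ L₀) : (frattini ↥A).map A.subtype = ⁅A, A⁆ ∧ ⁅A, A⁆ = ⁅A ⊓ Y, A⁆ ∧ ⁅A ⊓ Y, A⁆ = ⁅A ⊓ Y, A ⊓ Y.map (MulAut.conj g).toMonoidHom⁆ ∧ ⁅A ⊓ Y, A⁆ ≤ Y ⊓ Subgroup.center L ∧ Y ⊓ Y.map (MulAut.conj g).toMonoidHom = Y ⊓ Subgroup.center L ∧ (A ⊓ Y) ⊓ (A ⊓ Y.map (MulAut.conj g).toMonoidHom) = Y ⊓ Subgroup.center L ∧ A ⊓ Subgroup.center L = Y ⊓ Subgroup.center L := by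
  have hYp := CfsgLib.FFModules.isPGroup_of_elemAb hYel
  obtain ⟨T, hT⟩ := ((CfsgLib.FFModules.isPGroup_subgroupOf hYL₀).2 hYp).exists_le_sylow
  obtain ⟨-, -, -, -, hgen, hinter⟩ := Cfsg.Agent.S2835.result L₀ hL₀ T Y
    ((Subgroup.map_subgroupOf_eq_of_le hYL₀).ge.trans (Subgroup.map_mono hT)) hmin
  set c := (MulAut.conj g).toMonoidHom with hcdef
  set Q := Cfsg.pCore p L with hQ
  set Y' := Y.map c with hY'
  set Zc := Y ⊓ Subgroup.center L with hZc
  have hYY' : Y ⊔ Y' = ⊤ := hgen g hg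
  have hI : Y ⊓ Y' = Zc := hinter hYel.1 g hg
  have hQn : Q.Normal := CfsgLib.FFModules.normal_pCore
  have hQtop : ∀ X : Subgroup L, X ≤ Subgroup.normalizer (Q : Set L) := fun X => by
    rw [Subgroup.normalizer_eq_top_iff.2 hQn]; exact le_top
  have hQQ : Q.map c = Q := CfsgLib.FFModules.map_conj_eq_self (hQtop ⊤ (Subgroup.mem_top g))
  have hOY' : Q ≤ Subgroup.normalizer (Y' : Set L) := by
    rw [← hQQ]; exact (Subgroup.map_mono hOY).trans (Subgroup.le_normalizer_map _)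
  have hZQ : Zc ≤ Q := by
    refine CfsgLib.FFModules.le_pCore ⟨fun z hz h => ?_⟩ (hYp.to_le inf_le_left)
    rw [Subgroup.mem_center_iff.1 hz.2 h, mul_inv_cancel_right]
    exact hz
  have hYab : ∀ a ∈ Y, ∀ b ∈ Y, Commute a b := fun a ha b hb => CfsgLib.FFModules.elemAb_commute hYel ha hb
  have hY'ab : ∀ a ∈ Y', ∀ b ∈ Y', Commute a b := by
    rintro _ ⟨a, ha, rfl⟩ _ ⟨b, hb, rfl⟩
    exact (hYab a ha b hb).map c
  set A₀ := Q ⊓ Y with hA₀
  set A₁ := Q ⊓ Y' with hA₁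
  have hA₁c : A₁ = A₀.map c := by
    rw [hA₀, Subgroup.map_inf _ _ _ (MulAut.conj g).injective, hQQ]
  have hcomm : ∀ a ∈ A₀, ∀ b ∈ A₁, ⁅a, b⁆ ∈ A₀ ⊓ A₁ := by
    intro a ha b hb
    have h1 : ⁅a, b⁆ ∈ Q := by
      rw [commutatorElement_def]
      exact mul_mem (mul_mem (mul_mem ha.1 hb.1) (inv_mem ha.1)) (inv_mem hb.1)
    have h2 : ⁅a, b⁆ ∈ Y := by
      have := mul_mem ha.2 ((Subgroup.mem_normalizer_iff.1 (hOY hb.1) a⁻¹).1 (inv_mem ha.2))
      simpa [commutatorElement_def, mul_assoc] using this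
    have h3 : ⁅a, b⁆ ∈ Y' := by
      rw [commutatorElement_def]
      exact mul_mem ((Subgroup.mem_normalizer_iff.1 (hOY' ha.1) b).1 hb.2) (inv_mem hb.2)
    exact ⟨⟨h1, h2⟩, h1, h3⟩
  have h01Z : A₀ ⊓ A₁ = Zc := by
    refine le_antisymm (fun x hx => hI.le ⟨hx.1.2, hx.2.2⟩) (fun x hx => ?_)
    have := hI.ge hx
    exact ⟨⟨hZQ hx, this.1⟩, hZQ hx, this.2⟩
  -- `A = A₀ A₁`
  have hn : (A₀ ⊔ A₁).Normal := by
    rw [← Subgroup.normalizer_eq_top_iff, eq_top_iff, ← hYY']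
    refine sup_le (CfsgLib.FFModules.le_normalizer_of_conj_le fun y hy => ?_)
      (CfsgLib.FFModules.le_normalizer_of_conj_le fun y hy => ?_)
    · rw [Subgroup.map_sup]
      refine sup_le ?_ ?_
      · rintro _ ⟨a, ha, rfl⟩
        show y * a * y⁻¹ ∈ A₀ ⊔ A₁
        rw [(hYab y hy a ha.2).eq, mul_inv_cancel_right]
        exact Subgroup.mem_sup_left ha
      · rintro _ ⟨a, ha, rfl⟩
        have h : ⁅y, a⁆ ∈ A₀ := by
          refine ⟨?_, ?_⟩
          · rw [commutatorElement_def]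
            exact mul_mem (hQn.conj_mem a ha.1 y) (inv_mem ha.1 : a⁻¹ ∈ Q)
          · have := mul_mem hy ((Subgroup.mem_normalizer_iff.1 (hOY ha.1) y⁻¹).1 (inv_mem hy))
            simpa [commutatorElement_def, mul_assoc] using this
        simpa [commutatorElement_def] using mul_mem (Subgroup.mem_sup_left (T := A₁) h) (Subgroup.mem_sup_right ha)
    · rw [Subgroup.map_sup]
      refine sup_le ?_ ?_
      · rintro _ ⟨a, ha, rfl⟩
        have h : ⁅y, a⁆ ∈ A₁ := by
          refine ⟨?_, ?_⟩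
          · rw [commutatorElement_def]
            exact mul_mem (hQn.conj_mem a ha.1 y) (inv_mem ha.1 : a⁻¹ ∈ Q)
          · have := mul_mem hy ((Subgroup.mem_normalizer_iff.1 (hOY' ha.1) y⁻¹).1 (inv_mem hy))
            simpa [commutatorElement_def, mul_assoc] using this
        simpa [commutatorElement_def] using mul_mem (Subgroup.mem_sup_right (S := A₀) h) (Subgroup.mem_sup_left ha)
      · rintro _ ⟨a, ha, rfl⟩
        show y * a * y⁻¹ ∈ A₀ ⊔ A₁
        rw [(hY'ab y hy a ha.2).eq, mul_inv_cancel_right]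
        exact Subgroup.mem_sup_right ha
  have hAeq : A = A₀ ⊔ A₁ := by
    rw [hA]
    refine le_antisymm (Subgroup.normalClosure_le_normal fun x hx => Subgroup.mem_sup_left hx) (sup_le Subgroup.le_normalClosure ?_)
    rw [hA₁c]
    rintro _ ⟨a, ha, rfl⟩
    exact Subgroup.normalClosure_normal.conj_mem a (Subgroup.subset_normalClosure ha) g
  have hAQ : A ≤ Q := hAeq.le.trans (sup_le inf_le_left inf_le_left)
  have hAY : A ⊓ Y = A₀ := le_antisymm (le_inf (inf_le_left.trans hAQ) inf_le_right)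
    (le_inf (hAeq ▸ le_sup_left) inf_le_right)
  have hAY' : A ⊓ Y' = A₁ := le_antisymm (le_inf (inf_le_left.trans hAQ) inf_le_right)
    (le_inf (hAeq ▸ le_sup_right) inf_le_right)
  -- commutators
  set D := ⁅A₀, A₁⁆ with hD
  have hDZ : D ≤ Zc := (Subgroup.commutator_le.2 hcomm).trans h01Z.le
  have hDn : D.Normal := ⟨fun z hz h => by
    rw [Subgroup.mem_center_iff.1 (hDZ hz).2 h, mul_inv_cancel_right]; exact hz⟩
  set π := QuotientGroup.mk' D with hπ
  have hπab : ∀ x ∈ A, ∀ y ∈ A, Commute (π x) (π y) := by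
    have key : ∀ a ∈ A₀, ∀ b ∈ A₁, Commute (π a) (π b) := fun a ha b hb => by
      rw [← commutatorElement_eq_one_iff_commute, ← map_commutatorElement]
      exact (QuotientGroup.eq_one_iff _).2 (Subgroup.commutator_mem_commutator ha hb)
    have hA₀n : A₁ ≤ Subgroup.normalizer (A₀ : Set L) := CfsgLib.FFModules.le_normalizer_inf_of (hQtop _)
      (inf_le_left.trans hOY)
    intro x hx y hy
    have hx' : x ∈ (A₀ : Set L) * (A₁ : Set L) := by
      rw [← Subgroup.coe_mul_of_right_le_normalizer_left A₀ A₁ hA₀n, ← hAeq]; exact hx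
    have hy' : y ∈ (A₀ : Set L) * (A₁ : Set L) := by
      rw [← Subgroup.coe_mul_of_right_le_normalizer_left A₀ A₁ hA₀n, ← hAeq]; exact hy
    obtain ⟨a, ha, b, hb, rfl⟩ := Set.mem_mul.1 hx'
    obtain ⟨a', ha', b', hb', rfl⟩ := Set.mem_mul.1 hy'
    rw [map_mul, map_mul]
    have h1 := (hYab a ha.2 a' ha'.2).map π
    have h2 := (hY'ab b hb.2 b' hb'.2).map π
    exact ((h1.mul_right (key a ha b' hb')).mul_left ((key a' ha' b hb).symm.mul_right h2))
  have hAA : ⁅A, A⁆ = D := by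
    refine le_antisymm (Subgroup.commutator_le.2 fun x hx y hy => ?_)
      (Subgroup.commutator_mono (hAeq ▸ le_sup_left) (hAeq ▸ le_sup_right))
    refine (QuotientGroup.eq_one_iff _).1 ?_
    show π ⁅x, y⁆ = 1
    rw [map_commutatorElement, commutatorElement_eq_one_iff_commute]
    exact hπab x hx y hy
  have hAp : IsPGroup p A := CfsgLib.FFModules.isPGroup_pCore.to_le hAQ
  have hfrat : (frattini ↥A).map A.subtype = ⁅A, A⁆ := by
    refine le_antisymm ?_ ?_
    · rw [Subgroup.map_le_iff_le_comap]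
      refine CfsgLib.PGroups.frattini_le_of (p := p)
        (Subgroup.map_le_iff_le_comap.1 (Subgroup.map_subtype_commutator A).le) fun x => ?_
      show ((x ^ p : A) : L) ∈ ⁅A, A⁆
      rw [hAA]
      refine (QuotientGroup.eq_one_iff _).1 ?_
      show π ((x ^ p : A) : L) = 1
      rw [SubgroupClass.coe_pow, map_pow]
      have hx' : (x : L) ∈ (A₀ : Set L) * (A₁ : Set L) := by
        rw [← Subgroup.coe_mul_of_right_le_normalizer_left A₀ A₁ (CfsgLib.FFModules.le_normalizer_inf_of (hQtop _)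
          (inf_le_left.trans hOY)), ← hAeq]
        exact x.2
      obtain ⟨a, ha, b, hb, hab⟩ := Set.mem_mul.1 hx'
      have hb' : b ^ p = 1 := by
        obtain ⟨y, hy, rfl⟩ := hb.2
        rw [← map_pow, hYel.2 y hy, map_one]
      rw [← hab, map_mul, (hπab a (hAeq ▸ Subgroup.mem_sup_left ha) b (hAeq ▸ Subgroup.mem_sup_right hb)).mul_pow,
        ← map_pow, ← map_pow, hYel.2 a ha.2, hb', map_one, one_mul]
    · rw [← Subgroup.map_subtype_commutator A]
      exact Subgroup.map_mono (CfsgLib.PGroups.commutator_le_frattini hAp)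
  have h3 : ⁅A ⊓ Y, A⁆ = D := by
    rw [hAY]
    refine le_antisymm ?_ (Subgroup.commutator_mono le_rfl (hAeq ▸ le_sup_right))
    rw [← hAA]
    exact Subgroup.commutator_mono (hAeq ▸ le_sup_left) le_rfl
  refine ⟨hfrat, hAA.trans h3.symm, h3.trans ?_, h3 ▸ hDZ, hI, ?_, ?_⟩
  · rw [hAY]
    show D = ⁅A₀, A ⊓ Y'⁆
    rw [hAY']
  · show (A ⊓ Y) ⊓ (A ⊓ Y') = Zc
    rw [hAY, hAY', h01Z]
  · refine le_antisymm ?_ (le_inf ?_ inf_le_right)
    · rintro z ⟨hzA, hzZ⟩
      refine ⟨?_, hzZ⟩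
      have hA₀n : A₁ ≤ Subgroup.normalizer (A₀ : Set L) := CfsgLib.FFModules.le_normalizer_inf_of (hQtop _)
        (inf_le_left.trans hOY)
      have hz' : z ∈ (A₀ : Set L) * (A₁ : Set L) := by
        rw [← Subgroup.coe_mul_of_right_le_normalizer_left A₀ A₁ hA₀n, ← hAeq]; exact hzA
      obtain ⟨a, ha, b, hb, rfl⟩ := Set.mem_mul.1 hz'
      have hb2 : b ∈ Subgroup.center L := by
        rw [Subgroup.mem_center_iff]
        intro w
        have hle : Y ⊔ Y' ≤ Subgroup.centralizer ({b} : Set L) := by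
          refine sup_le (fun y hy v hv => ?_) (fun y hy v hv => ?_) <;> rw [Set.mem_singleton_iff.1 hv]
          · have h1 : Commute y (a * b) := Subgroup.mem_center_iff.1 hzZ y
            have h2 : Commute y a := hYab y hy a ha.2
            have h3 : Commute y b := by simpa using h2.inv_right.mul_right h1
            exact h3.symm
          · exact hY'ab b hb.2 y hy
        exact ((hYY' ▸ hle) (Subgroup.mem_top w) b rfl).symm
      obtain ⟨y, hy, e⟩ := hb.2
      have hyb : y = b := by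
        refine (MulAut.conj g).injective (e.trans ?_)
        show b = g * b * g⁻¹
        rw [Subgroup.mem_center_iff.1 hb2 g, mul_inv_cancel_right]
      exact mul_mem ha.2 (hyb ▸ hy)
    · exact (h01Z.ge.trans inf_le_left).trans (hAeq ▸ le_sup_left)

end Cfsg.Agent.S2837
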