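import Cfsg.Statements.S2838
import Cfsg.Agent.Lib.FFModules.WeaklyClosed

set_option autoImplicit false
open Cfsg
open scoped commutatorElement Pointwise

namespace Cfsg.Agent.S2838

/-- For a nontrivial p-subgroup Q of a finite group H the following are equivalent: Q is a weakly closed subgroup (it is the only H-conjugate of itself inside some Sylow p-subgroup containing it); Q = P for every conjugate P of Q with [Q, P] ≤ Q ∩ P; Q is normal in N_H(R) for every p-subgroup R of H containing Q. -/
theorem result {H : Type*} [Group H] [Finite H] {p : ℕ} [Fact p.Prime] (Q : Subgroup H) (hQp : IsPGroup p ↥Q) (hQ1 : Q ≠ ⊥) : (Cfsg.IsWeaklyClosedSubgroup p Q ↔ ∀ g : H, ⁅Q, ((Q : Subgroup H).map (MulAut.conj (g : H)).toMonoidHom)⁆ ≤ Q ⊓ ((Q : Subgroup H).map (MulAut.conj (g : H)).toMonoidHom) → ((Q : Subgroup H).map (MulAut.conj (g : H)).toMonoidHom) = Q) ∧ (Cfsg.IsWeaklyClosedSubgroup p Q ↔ ∀ R : Subgroup H, IsPGroup p ↥R → Q ≤ R → Subgroup.normalizer ((R : Subgroup H) : Set H) ≤ Subgroup.normalizer ((Q : Subgroup H) : Set H)) := by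
  refine ⟨⟨fun hwc g hg => ?_, fun hb => ?_⟩, ⟨fun hwc R hR hQR => CfsgLib.FFModules.wc_normalizer_le hwc hR hQR,
    CfsgLib.FFModules.wc_of_normalizer_le hQp⟩⟩
  · set P := Q.map (MulAut.conj g).toMonoidHom with hP
    have hn : Q ≤ Subgroup.normalizer (P : Set H) := by
      refine CfsgLib.FFModules.le_normalizer_of_conj_le fun q hq => ?_
      rintro _ ⟨x, hx, rfl⟩
      have := mul_mem (hg (Subgroup.commutator_mem_commutator hq hx)).2 hx
      simpa [commutatorElement_def] using this
    exact CfsgLib.FFModules.wc_eq_of_le hwc (IsPGroup.to_sup_of_normal_right' hQp (hQp.map _) hn)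
      le_sup_left le_sup_right
  · refine CfsgLib.FFModules.wc_of_normalizer_le hQp fun R hR hQR => ?_
    -- mutual normalisation forces equality
    have key : ∀ n : H, Q.map (MulAut.conj n).toMonoidHom ≤ Subgroup.normalizer (Q : Set H) →
        Q ≤ Subgroup.normalizer ((Q.map (MulAut.conj n).toMonoidHom : Subgroup H) : Set H) →
        n ∈ Subgroup.normalizer (Q : Set H) := fun n h1 h2 => by
      refine CfsgLib.FFModules.mem_normalizer_of_map_conj_eq (hb n ?_)
      refine le_inf ?_ (CfsgLib.CoprimeAction.commutator_le_left (A := Q) (K := Q.map (MulAut.conj n).toMonoidHom) h2 |>.trans' (Subgroup.commutator_comm _ _).le)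
      exact CfsgLib.CoprimeAction.commutator_le_left h1
    have hconj : ∀ (n : H) (X : Subgroup H), n ∈ Subgroup.normalizer (X : Set H) →
        X ≤ Subgroup.normalizer (Q : Set H) →
        X ≤ Subgroup.normalizer ((Q.map (MulAut.conj n).toMonoidHom : Subgroup H) : Set H) := fun n X hn hX =>
      (CfsgLib.FFModules.map_conj_eq_self hn).ge.trans ((Subgroup.map_mono hX).trans (Subgroup.le_normalizer_map _))
    have hRn : R ≤ Subgroup.normalizer (Q : Set H) := by
      set W := R ⊓ Subgroup.normalizer (Q : Set H) with hW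
      by_contra hne
      have : Group.IsNilpotent R := hR.isNilpotent
      have hlt : W.subgroupOf R < Subgroup.normalizer ((W.subgroupOf R : Subgroup R) : Set R) :=
        Group.normalizerCondition_of_isNilpotent _ (lt_top_iff_ne_top.2 fun h =>
          hne ((Subgroup.subgroupOf_eq_top.1 h).trans inf_le_right))
      rw [← Subgroup.subgroupOf_normalizer_eq inf_le_left] at hlt
      obtain ⟨t, ht, htW⟩ := SetLike.exists_of_lt hlt
      have hQW : Q ≤ W := le_inf hQR Subgroup.le_normalizer
      exact htW ⟨t.2, key t ((CfsgLib.FFModules.conj_le_of_le hQW ht).trans inf_le_right)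
        (hQW.trans (hconj t W ht inf_le_right))⟩
    exact fun n hn => key n ((CfsgLib.FFModules.conj_le_of_le hQR hn).trans hRn)
      (hQR.trans (hconj n R hn hRn))

end Cfsg.Agent.S2838
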