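import Cfsg.Statements.S2839
import Cfsg.Agent.Lib.FFModules.WeaklyClosed

set_option autoImplicit false
open Cfsg
open scoped commutatorElement Pointwise

namespace Cfsg.Agent.S2839

/-- Let Q be a nontrivial p-subgroup of the finite group H that is a weakly closed subgroup, K a subgroup containing Q and N a normal subgroup of H. Then Q is a weakly closed subgroup of K; every H-conjugate of Q contained in K is a K-conjugate of Q; N_K(Q) contains a Sylow p-subgroup of K; N = N_N(Q)·O^p(N); and QN/N is a weakly closed subgroup of H/N. -/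
theorem result {H : Type*} [Group H] [Finite H] {p : ℕ} [Fact p.Prime] (Q : Subgroup H) (hQp : IsPGroup p ↥Q) (hQ1 : Q ≠ ⊥) (hwc : Cfsg.IsWeaklyClosedSubgroup p Q) (K : Subgroup H) (hQK : Q ≤ K) (N' : Subgroup H) [N'.Normal] : Cfsg.IsWeaklyClosedSubgroup p (Q.subgroupOf K) ∧ (∀ g : H, ((Q : Subgroup H).map (MulAut.conj (g : H)).toMonoidHom) ≤ K → ∃ k ∈ K, ((Q : Subgroup H).map (MulAut.conj (g : H)).toMonoidHom) = ((Q : Subgroup H).map (MulAut.conj (k : H)).toMonoidHom)) ∧ Cfsg.IsParabolic p ((Subgroup.normalizer ((Q : Subgroup H) : Set H)).subgroupOf K) ∧ (N' ⊓ Subgroup.normalizer ((Q : Subgroup H) : Set H)) ⊔ (Cfsg.pResidual p ↥N').map N'.subtype = N' ∧ Cfsg.IsWeaklyClosedSubgroup p (Q.map (QuotientGroup.mk' N')) := by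
  refine ⟨CfsgLib.FFModules.wc_subgroupOf hwc hQK, fun g hg => CfsgLib.FFModules.wc_exists_conj hwc hQK hg, ?_, ?_, ?_⟩
  · obtain ⟨S, hS⟩ := ((CfsgLib.FFModules.isPGroup_subgroupOf hQK).2 hQp).exists_le_sylow
    refine ⟨S, fun s hs => ?_⟩
    exact CfsgLib.FFModules.wc_pGroup_le_normalizer hwc (CfsgLib.FFModules.sylow_map_props K S).2.1
      ((Subgroup.map_subgroupOf_eq_of_le hQK).ge.trans (Subgroup.map_mono hS))
      (Subgroup.mem_map_of_mem K.subtype hs)
  · obtain ⟨T, hQT⟩ := hQp.exists_le_sylow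
    have hTn := CfsgLib.FFModules.wc_pGroup_le_normalizer hwc T.2 hQT
    set R := (Cfsg.pResidual p ↥N').map N'.subtype with hR
    have hRN : R ≤ N' := CfsgLib.FFModules.pResidualMap_le N'
    refine le_antisymm (sup_le inf_le_left hRN) ?_
    refine (CfsgLib.FFModules.le_sup_of_coprime_relIndex (p := p) (C := R) (R := (T : Subgroup H) ⊓ N') hRN
      inf_le_right (Subgroup.le_normalizer.trans (CfsgLib.FFModules.pResidualMap_le_normalizer N')) ?_
      (fun x hx => CfsgLib.FFModules.exists_pPow_mem_pResidualMap hx)).trans ?_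
    · rw [Subgroup.inf_relIndex_right]
      exact CfsgLib.FFModules.coprime_relIndex_of_le_normalizer
        (CfsgLib.FFModules.coprime_of_sylow_relIndex T le_top) le_top le_top
        (by rw [Subgroup.normalizer_eq_top_iff.2 ‹N'.Normal›]; exact le_top)
    · exact sup_le le_sup_right ((le_inf inf_le_right (inf_le_left.trans hTn)).trans le_sup_left)
  · obtain ⟨T, hQT, huniq⟩ := hwc
    have hTn := CfsgLib.FFModules.wc_pGroup_le_normalizer ⟨T, hQT, huniq⟩ T.2 hQT
    set π := QuotientGroup.mk' N' with hπ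
    have hs : Function.Surjective π := QuotientGroup.mk'_surjective N'
    refine ⟨T.mapSurjective hs, Subgroup.map_mono hQT, fun x hx => ?_⟩
    obtain ⟨g, rfl⟩ := hs x
    have e : ∀ g : H, (Q.map π).map (MulAut.conj (π g)).toMonoidHom =
        (Q.map (MulAut.conj g).toMonoidHom).map π := by
      intro g
      rw [Subgroup.map_map, Subgroup.map_map]
      congr 1
    rw [e] at hx ⊢
    have hgX : Q.map (MulAut.conj g).toMonoidHom ≤ (T : Subgroup H) ⊔ N' := by
      have h := Subgroup.map_le_iff_le_comap.1 hx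
      rwa [Sylow.coe_mapSurjective, Subgroup.comap_map_eq, QuotientGroup.ker_mk'] at h
    obtain ⟨c, hc, hcT⟩ := CfsgLib.FFModules.exists_conj_le hgX le_sup_left (hQp.map _) T.2
      (CfsgLib.FFModules.coprime_of_sylow_relIndex T le_sup_left)
    rw [← CfsgLib.FFModules.map_conj_mul] at hcT
    obtain ⟨n, hn, t, ht, hnt⟩ := Subgroup.mem_sup_of_normal_left.1
      (sup_comm (T : Subgroup H) N' ▸ inv_mem hc : c⁻¹ ∈ N' ⊔ (T : Subgroup H))
    have e2 : Q.map (MulAut.conj g).toMonoidHom = Q.map (MulAut.conj n).toMonoidHom := by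
      calc Q.map (MulAut.conj g).toMonoidHom
          = (Q.map (MulAut.conj (c * g)).toMonoidHom).map (MulAut.conj c⁻¹).toMonoidHom := by
            rw [← CfsgLib.FFModules.map_conj_mul, inv_mul_cancel_left]
        _ = Q.map (MulAut.conj (n * t)).toMonoidHom := by rw [huniq _ hcT, hnt]
        _ = _ := by rw [CfsgLib.FFModules.map_conj_mul, CfsgLib.FFModules.map_conj_eq_self (hTn ht)]
    rw [e2, ← e, show π n = 1 from (QuotientGroup.eq_one_iff n).2 hn, CfsgLib.FFModules.map_conj_one]

end Cfsg.Agent.S2839
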