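import Cfsg.Statements.S2840
import Cfsg.Agent.Lib.FFModules.WeaklyClosed
import Cfsg.Agent.Lib.FFModules.Subnormal

set_option autoImplicit false
open Cfsg
open scoped commutatorElement Pointwise

namespace Cfsg.Agent.S2840

/-- Let Q be a nontrivial p-subgroup of the finite group H that is a weakly closed subgroup and K a subgroup containing Q; let K° be the weak closure of Q in K (generated by the H-conjugates of Q inside K). Then K° is generated by the K-conjugates of Q, and K° is the subnormal closure of Q in K. -/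
theorem result {H : Type*} [Group H] [Finite H] {p : ℕ} [Fact p.Prime] (Q : Subgroup H) (hQp : IsPGroup p ↥Q) (hQ1 : Q ≠ ⊥) (hwc : Cfsg.IsWeaklyClosedSubgroup p Q) (K : Subgroup H) (hQK : Q ≤ K) (Kc : Subgroup H) (hKc : Kc = Cfsg.weakClosure Q K) : Kc = ⨆ k : ↥K, ((Q : Subgroup H).map (MulAut.conj ((k : H) : H)).toMonoidHom) ∧ Kc = (Cfsg.subnormalClosure (Q.subgroupOf K)).map K.subtype := by
  subst hKc
  refine ⟨CfsgLib.FFModules.wc_weakClosure_eq hwc hQK, le_antisymm ?_ ?_⟩
  · rw [CfsgLib.FFModules.wc_weakClosure_eq hwc hQK]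
    obtain ⟨h1, h2, -⟩ := CfsgLib.FFModules.subnormalClosure_spec (Q.subgroupOf K)
    refine iSup_le fun k => ?_
    have h := CfsgLib.FFModules.wc_conj_le_of_isSubnormal (CfsgLib.FFModules.wc_subgroupOf hwc hQK) h2 h1 k
    refine le_trans (le_of_eq ?_) (Subgroup.map_mono h)
    conv_lhs => rw [← Subgroup.map_subgroupOf_eq_of_le hQK, Subgroup.map_map]
    rw [Subgroup.map_map]
    rfl
  · have hle : Q ≤ Cfsg.weakClosure Q K := by
      have := CfsgLib.FFModules.le_weakClosure (Q := Q) (L := K) (g := 1) (by rwa [CfsgLib.FFModules.map_conj_one])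
      rwa [CfsgLib.FFModules.map_conj_one] at this
    have hn : ((Cfsg.weakClosure Q K).subgroupOf K).Normal :=
      Subgroup.normal_subgroupOf_of_le_normalizer (CfsgLib.FFModules.le_normalizer_weakClosure Q K)
    exact (Subgroup.map_mono ((CfsgLib.FFModules.subnormalClosure_spec (Q.subgroupOf K)).2.2 _
      (Subgroup.comap_mono hle) hn.isSubnormal)).trans (Subgroup.map_subgroupOf_eq_of_le (CfsgLib.FFModules.weakClosure_le Q K)).le

end Cfsg.Agent.S2840
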