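import Cfsg.Statements.S2841
import Cfsg.Agent.Lib.FFModules.WeaklyClosed

set_option autoImplicit false
open Cfsg
open scoped commutatorElement Pointwise

namespace Cfsg.Agent.S2841

/-- Let Q be a nontrivial p-subgroup of the finite group H that is a weakly closed subgroup and N a normal subgroup of H. Then N = N_N(Q)·[N, Q] and [N, Q] = (Q ∩ [N, Q])·[N, Q, Q]. -/
theorem result {H : Type*} [Group H] [Finite H] {p : ℕ} [Fact p.Prime] (Q : Subgroup H) (hQp : IsPGroup p ↥Q) (hQ1 : Q ≠ ⊥) (hwc : Cfsg.IsWeaklyClosedSubgroup p Q) (N' : Subgroup H) [N'.Normal] : (∀ n : H, n ∈ N' → ∃ a ∈ N' ⊓ Subgroup.normalizer ((Q : Subgroup H) : Set H), ∃ b ∈ ⁅N', Q⁆, n = a * b) ∧ (∀ c : H, c ∈ ⁅N', Q⁆ → ∃ a ∈ Q ⊓ ⁅N', Q⁆, ∃ b ∈ ⁅⁅N', Q⁆, Q⁆, c = a * b) := by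
  set C := ⁅N', Q⁆ with hC
  have hn1 := CfsgLib.CoprimeAction.sup_le_normalizer_commutator Q N'
  have hNC : N' ≤ Subgroup.normalizer (C : Set H) := le_sup_left.trans hn1
  have hQC : Q ≤ Subgroup.normalizer (C : Set H) := le_sup_right.trans hn1
  have hCN : C ≤ N' := CfsgLib.CoprimeAction.commutator_le_left
    (by rw [Subgroup.normalizer_eq_top_iff.2 ‹N'.Normal›]; exact le_top)
  have hfac : ∀ n ∈ N', ∃ a ∈ N' ⊓ Subgroup.normalizer (Q : Set H), ∃ b ∈ C, n = a * b := by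
    intro n hn
    have hle : Q.map (MulAut.conj n).toMonoidHom ≤ Q ⊔ C := by
      rintro _ ⟨q, hq, rfl⟩
      have h : ⁅n, q⁆ ∈ Q ⊔ C := Subgroup.mem_sup_right (Subgroup.commutator_mem_commutator hn hq)
      simpa [commutatorElement_def] using mul_mem h (Subgroup.mem_sup_left hq)
    obtain ⟨m, hm, e⟩ := CfsgLib.FFModules.wc_exists_conj hwc le_sup_left hle
    have hm' : m ∈ (C : Set H) * (Q : Set H) := by
      rw [← Subgroup.coe_mul_of_right_le_normalizer_left C Q hQC, sup_comm]; exact hm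
    obtain ⟨c, hc, q, hq, rfl⟩ := Set.mem_mul.1 hm'
    rw [CfsgLib.FFModules.map_conj_mul Q c q, CfsgLib.FFModules.map_conj_eq_self (Subgroup.le_normalizer hq)] at e
    have ha : c⁻¹ * n ∈ N' ⊓ Subgroup.normalizer (Q : Set H) := by
      refine ⟨mul_mem (Subgroup.inv_mem _ (hCN hc)) hn, CfsgLib.FFModules.mem_normalizer_of_map_conj_eq ?_⟩
      rw [CfsgLib.FFModules.map_conj_mul, e, CfsgLib.FFModules.map_conj_inv_map]
    refine ⟨c⁻¹ * n, ha, (c⁻¹ * n)⁻¹ * c * (c⁻¹ * n), ?_, by group⟩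
    have := (Subgroup.mem_normalizer_iff.1 (hNC (inv_mem ha.1)) c).1 hc
    simpa using this
  refine ⟨fun n hn => hfac n hn, ?_⟩
  set C' := ⁅C, Q⁆ with hC'
  set X := Q ⊔ C' with hX
  have hn2 := CfsgLib.CoprimeAction.sup_le_normalizer_commutator Q C
  have hC'C : C' ≤ C := CfsgLib.CoprimeAction.commutator_le_left hQC
  have hCX : C ≤ Subgroup.normalizer (X : Set H) := by
    refine CfsgLib.FFModules.le_normalizer_of_conj_le fun c hc => ?_
    rw [hX, Subgroup.map_sup, CfsgLib.FFModules.map_conj_eq_self (le_sup_left.trans hn2 hc)]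
    refine sup_le ?_ le_sup_right
    rintro _ ⟨q, hq, rfl⟩
    have h : ⁅c, q⁆ ∈ Q ⊔ C' := Subgroup.mem_sup_right (Subgroup.commutator_mem_commutator hc hq)
    simpa [commutatorElement_def] using mul_mem h (Subgroup.mem_sup_left hq)
  have hNX : N' ≤ Subgroup.normalizer (X : Set H) := by
    intro n hn
    obtain ⟨a, ha, b, hb, rfl⟩ := hfac n hn
    refine mul_mem ?_ (hCX hb)
    refine Subgroup.normalizer_inf_normalizer_le_normalizer_sup Q C' ⟨ha.2, ?_⟩
    exact CfsgLib.FFModules.le_normalizer_commutator' (L := N' ⊓ Subgroup.normalizer (Q : Set H))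
      (inf_le_left.trans hNC) inf_le_right ha
  have hle : C ≤ X := Subgroup.commutator_le.2 fun n hn q hq => by
    have h1 : n * q * n⁻¹ ∈ X := (Subgroup.mem_normalizer_iff.1 (hNX hn) q).1 (Subgroup.mem_sup_left hq)
    rw [commutatorElement_def]
    exact mul_mem h1 (Subgroup.inv_mem _ (Subgroup.mem_sup_left hq))
  intro c hc
  have hc' : c ∈ (Q : Set H) * (C' : Set H) := by
    rw [← Subgroup.coe_mul_of_left_le_normalizer_right Q C' (le_sup_right.trans hn2)]; exact hle hc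
  obtain ⟨a, ha, b, hb, rfl⟩ := Set.mem_mul.1 hc'
  exact ⟨a, ⟨ha, by simpa using mul_mem hc (Subgroup.inv_mem _ (hC'C hb))⟩, b, hb, rfl⟩

end Cfsg.Agent.S2841
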