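import Cfsg.Statements.S2842
import Cfsg.Agent.Lib.FFModules.WeaklyClosed

set_option autoImplicit false
open Cfsg
open scoped commutatorElement Pointwise

namespace Cfsg.Agent.S2842

/-- Let Q be a nontrivial p-subgroup of the finite group H that is a weakly closed subgroup with C_H(Q) ≤ Q, and Q ≤ L ≤ H. Suppose H has characteristic p, or more generally that C_H(y) has characteristic p for some nonidentity y ∈ C_{O_p(L)}(Q). Then [Q, C_H(O_p(L))] ≤ Q ∩ O_p(L), C_H(O_p(L)) is a p-group, and L has characteristic p. -/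
theorem result {H : Type*} [Group H] [Finite H] {p : ℕ} [Fact p.Prime] (Q : Subgroup H) (hQp : IsPGroup p ↥Q) (hQ1 : Q ≠ ⊥) (hwc : Cfsg.IsWeaklyClosedSubgroup p Q) (hCQ : Subgroup.centralizer ((Q : Subgroup H) : Set H) ≤ Q) (L : Subgroup H) (hQL : Q ≤ L) (hyp : Subgroup.centralizer (Cfsg.pCore p H : Set H) ≤ Cfsg.pCore p H ∨ ∃ y : H, y ≠ 1 ∧ y ∈ (Cfsg.pCoreOf p L) ⊓ Subgroup.centralizer ((Q : Subgroup H) : Set H) ∧ Subgroup.centralizer (Cfsg.pCore p ↥(Subgroup.centralizer ({y} : Set H)) : Set ↥(Subgroup.centralizer ({y} : Set H))) ≤ Cfsg.pCore p ↥(Subgroup.centralizer ({y} : Set H))) : ⁅Q, Subgroup.centralizer (((Cfsg.pCoreOf p L) : Subgroup H) : Set H)⁆ ≤ Q ⊓ (Cfsg.pCoreOf p L) ∧ IsPGroup p ↥(Subgroup.centralizer (((Cfsg.pCoreOf p L) : Subgroup H) : Set H)) ∧ Subgroup.centralizer (Cfsg.pCore p ↥L : Set ↥L) ≤ Cfsg.pCore p ↥L := by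
  set R := Cfsg.pCoreOf p L with hR
  set C := Subgroup.centralizer (R : Set H) with hC
  -- a subgroup of characteristic `p` containing `Q` and `C`
  obtain ⟨X, hQX, hCX, hXchar⟩ : ∃ X : Subgroup H, Q ≤ X ∧ C ≤ X ∧
      X ⊓ Subgroup.centralizer (Cfsg.pCoreOf p X : Set H) ≤ Cfsg.pCoreOf p X := by
    rcases hyp with h | ⟨y, -, hy, hchar⟩
    · exact ⟨⊤, le_top, le_top, CfsgLib.FFModules.charP_top_iff.1 h⟩
    · refine ⟨Subgroup.centralizer ({y} : Set H), fun q hq z hz => ?_, fun c hc z hz => ?_, CfsgLib.FFModules.charP_subgroup_iff.1 hchar⟩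
      · rw [Set.mem_singleton_iff.1 hz]; exact (hy.2 q hq).symm
      · rw [Set.mem_singleton_iff.1 hz]; exact hc y hy.1
  set P := Cfsg.pCoreOf p X with hP
  have hXP : X ≤ Subgroup.normalizer (P : Set H) := CfsgLib.FFModules.le_normalizer_pCoreOf X
  have hPp : IsPGroup p P := CfsgLib.FFModules.isPGroup_pCoreOf X
  have hLC : L ≤ Subgroup.normalizer (C : Set H) := (CfsgLib.FFModules.le_normalizer_pCoreOf L).trans
    (CfsgLib.FFModules.normalizer_le_normalizer_centralizer R)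
  have hQC : Q ≤ Subgroup.normalizer (C : Set H) := hQL.trans hLC
  have hPQ : P ≤ Subgroup.normalizer (Q : Set H) :=
    le_sup_right.trans (CfsgLib.FFModules.wc_pGroup_le_normalizer hwc
      (IsPGroup.to_sup_of_normal_right' hQp hPp (hQX.trans hXP)) le_sup_left)
  -- `P ∩ C_L(R) ≤ O_p(L)`
  have hPLC : P ⊓ (L ⊓ C) ≤ R := by
    refine (CfsgLib.FFModules.le_pCoreOf (p := p) inf_le_right (CfsgLib.FFModules.le_normalizer_inf_of
      ((inf_le_right.trans hCX).trans hXP) Subgroup.le_normalizer) (hPp.to_le inf_le_left)).trans ?_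
    exact CfsgLib.FFModules.pCoreOf_le_pCoreOf inf_le_left
      (CfsgLib.FFModules.le_normalizer_inf_of Subgroup.le_normalizer hLC)
  -- generic stabiliser step
  have step : ∀ (W X0 : Subgroup H), IsPGroup p W → C ≤ Subgroup.normalizer (W : Set H) →
      Q ≤ Subgroup.normalizer (W : Set H) → C ≤ Subgroup.normalizer (X0 : Set H) →
      Q ≤ Subgroup.normalizer (X0 : Set H) →
      (∀ w ∈ W, ∀ q ∈ Q, ∀ x ∈ X0, Commute x (w⁻¹ * (q * w * q⁻¹))) →
      ∀ x ∈ X0, x ∈ ⁅C, Q⁆ → (orderOf x).Coprime p → ∀ w ∈ W, Commute x w := by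
    intro W X0 hW hCW hQW hCX0 hQX0 h0 x hx hxCQ hxp
    set W0 := W ⊓ Subgroup.centralizer (X0 : Set H) with hW0
    let S : Subgroup H :=
      { carrier := {m | m ∈ Subgroup.normalizer (W : Set H) ∧ m ∈ Subgroup.normalizer (W0 : Set H) ∧
          ∀ w ∈ W, w⁻¹ * (m * w * m⁻¹) ∈ W0}
        one_mem' := ⟨one_mem _, one_mem _, fun w _ => by simp⟩
        mul_mem' := fun {a b} ha hb => ⟨mul_mem ha.1 hb.1, mul_mem ha.2.1 hb.2.1, fun w hw => by
          have e : w⁻¹ * (a * b * w * (a * b)⁻¹) = w⁻¹ * (a * w * a⁻¹) * (a * (w⁻¹ * (b * w * b⁻¹)) * a⁻¹) := by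
            group
          rw [e]
          exact mul_mem (ha.2.2 w hw) ((Subgroup.mem_normalizer_iff.1 ha.2.1 _).1 (hb.2.2 w hw))⟩
        inv_mem' := fun {a} ha => ⟨inv_mem ha.1, inv_mem ha.2.1, fun w hw => by
          have e : w⁻¹ * (a⁻¹ * w * (a⁻¹)⁻¹) = (a⁻¹ * (w⁻¹ * (a * w * a⁻¹)) * (a⁻¹)⁻¹)⁻¹ := by group
          rw [e]
          exact inv_mem ((Subgroup.mem_normalizer_iff.1 (inv_mem ha.2.1) _).1 (ha.2.2 w hw))⟩ }
    have hn0 : ∀ A : Subgroup H, A ≤ Subgroup.normalizer (W : Set H) → A ≤ Subgroup.normalizer (X0 : Set H) →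
        A ≤ Subgroup.normalizer (W0 : Set H) := fun A h1 h2 =>
      CfsgLib.FFModules.le_normalizer_inf_of h1
        (h2.trans (CfsgLib.FFModules.normalizer_le_normalizer_centralizer X0))
    have hQS : ∀ q ∈ Q, q ∈ S := fun q hq => ⟨hQW hq, hn0 Q hQW hQX0 hq, fun w hw =>
      ⟨mul_mem (Subgroup.inv_mem _ hw) ((Subgroup.mem_normalizer_iff.1 (hQW hq) w).1 hw), fun z hz => (h0 w hw q hq z hz)⟩⟩
    have hCS : ∀ c ∈ C, ∀ s ∈ S, c * s * c⁻¹ ∈ S := by
      intro c hc s hs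
      refine ⟨mul_mem (mul_mem (hCW hc) hs.1) (inv_mem (hCW hc)),
        mul_mem (mul_mem (hn0 C hCW hCX0 hc) hs.2.1) (inv_mem (hn0 C hCW hCX0 hc)), fun w hw => ?_⟩
      have hw' := (Subgroup.mem_normalizer_iff.1 (hCW (inv_mem hc)) w).1 hw
      have := (Subgroup.mem_normalizer_iff.1 (hn0 C hCW hCX0 hc) _).1 (hs.2.2 _ hw')
      simpa [mul_assoc] using this
    have hle : ⁅C, Q⁆ ≤ S := Subgroup.commutator_le.2 fun c hc q hq => by
      rw [commutatorElement_def]
      exact mul_mem (hCS c hc q (hQS q hq)) (Subgroup.inv_mem _ (hQS q hq))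
    intro w hw
    have h := (hle hxCQ).2.2 w hw
    exact CfsgLib.FFModules.commute_of_commutator_mem hW hxp h.1 (h.2 x hx)
  have hCQC : ⁅C, Q⁆ ≤ C := CfsgLib.CoprimeAction.commutator_le_left hQC
  set X1 := (Cfsg.pResidual p ↥⁅C, Q⁆).map (⁅C, Q⁆ : Subgroup H).subtype with hX1
  have hnCQ := CfsgLib.CoprimeAction.sup_le_normalizer_commutator Q C
  have hX1n : C ⊔ Q ≤ Subgroup.normalizer (X1 : Set H) :=
    hnCQ.trans (CfsgLib.FFModules.pResidualMap_le_normalizer _)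
  have hCPC : C ≤ Subgroup.normalizer ((P ⊓ C : Subgroup H) : Set H) :=
    CfsgLib.FFModules.le_normalizer_inf_of (hCX.trans hXP) Subgroup.le_normalizer
  have hQPC : Q ≤ Subgroup.normalizer ((P ⊓ C : Subgroup H) : Set H) :=
    CfsgLib.FFModules.le_normalizer_inf_of (hQX.trans hXP) hQC
  have h1 : ∀ x ∈ ⁅C, Q⁆, (orderOf x).Coprime p → ∀ w ∈ P ⊓ C, Commute x w := fun x hx hxp =>
    step (P ⊓ C) C (hPp.to_le inf_le_left) hCPC hQPC Subgroup.le_normalizer hQC
      (fun w hw q hq z hz => by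
        have hu : w⁻¹ * (q * w * q⁻¹) ∈ P ⊓ C := mul_mem (inv_mem hw) ((Subgroup.mem_normalizer_iff.1 (hQPC hq) w).1 hw)
        have huQ : w⁻¹ * (q * w * q⁻¹) ∈ Q := by
          have := (Subgroup.mem_normalizer_iff.1 (hPQ (inv_mem hw.1)) q).1 hq
          simpa [mul_assoc] using mul_mem this (Subgroup.inv_mem _ hq)
        exact ((hz _ (hPLC ⟨hu.1, hQL huQ, hu.2⟩))).symm)
      x (hCQC hx) hx hxp
  have h2 : ∀ x ∈ ⁅C, Q⁆, (orderOf x).Coprime p → ∀ w ∈ P, Commute x w := fun x hx hxp =>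
    step P X1 hPp (hCX.trans hXP) (hQX.trans hXP) (le_sup_left.trans hX1n) (le_sup_right.trans hX1n)
      (fun w hw q hq z hz => by
        set u := w⁻¹ * (q * w * q⁻¹) with hu
        have huP : u ∈ P := mul_mem (inv_mem hw) ((Subgroup.mem_normalizer_iff.1 (hXP (hQX hq)) w).1 hw)
        have huQ : u ∈ Q := by
          have := (Subgroup.mem_normalizer_iff.1 (hPQ (inv_mem hw)) q).1 hq
          simpa [hu, mul_assoc] using mul_mem this (Subgroup.inv_mem _ hq)
        have hX1u : X1 ≤ Subgroup.centralizer ({u} : Set H) := by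
          refine CfsgLib.FFModules.pResidualMap_le_iff.2 fun x hx hxp v hv => ?_
          rw [Set.mem_singleton_iff.1 hv]
          have hxC := hCQC hx
          have hc : u⁻¹ * (x * u * x⁻¹) ∈ P ⊓ C := by
            refine ⟨mul_mem (Subgroup.inv_mem _ huP) ((Subgroup.mem_normalizer_iff.1 (hXP (hCX hxC)) u).1 huP), ?_⟩
            have := (Subgroup.mem_normalizer_iff.1 (hQC (inv_mem huQ)) x).1 hxC
            simpa [mul_assoc] using mul_mem this (Subgroup.inv_mem _ hxC)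
          exact (CfsgLib.FFModules.commute_of_commutator_mem hPp hxp hc.1 (h1 x hx hxp _ hc)).symm
        exact Commute.symm (hX1u hz u rfl))
      x (CfsgLib.FFModules.mem_pResidualMap hx hxp) hx hxp
  have hCQp : IsPGroup p ↥⁅C, Q⁆ := CfsgLib.FFModules.isPGroup_of_coprime_eq_one _ fun x hx hxp =>
    CfsgLib.FFModules.eq_one_of_coprime_of_mem hPp
      (hXchar ⟨hCX (hCQC hx), fun w hw => (h2 x hx hxp w hw).symm⟩) hxp
  -- `C` normalises `Q`
  have hCQ' : C ≤ Subgroup.normalizer (Q : Set H) := by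
    refine le_trans ?_ (CfsgLib.FFModules.wc_normalizer_le hwc
      (IsPGroup.to_sup_of_normal_right' hQp hCQp (le_sup_right.trans hnCQ)) le_sup_left)
    refine CfsgLib.FFModules.le_normalizer_of_conj_le fun c hc => ?_
    rw [Subgroup.map_sup, CfsgLib.FFModules.map_conj_eq_self (le_sup_left.trans hnCQ hc)]
    refine sup_le ?_ le_sup_right
    rintro _ ⟨q, hq, rfl⟩
    have h : ⁅c, q⁆ ∈ Q ⊔ ⁅C, Q⁆ := Subgroup.mem_sup_right (Subgroup.commutator_mem_commutator hc hq)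
    simpa [commutatorElement_def] using mul_mem h (Subgroup.mem_sup_left hq)
  have hU : Q ⊓ C ≤ R := by
    refine (CfsgLib.FFModules.le_pCoreOf (p := p) (H := L ⊓ C) (inf_le_inf_right C hQL) ?_ (hQp.to_le inf_le_left)).trans
      (CfsgLib.FFModules.pCoreOf_le_pCoreOf inf_le_left
        (CfsgLib.FFModules.le_normalizer_inf_of Subgroup.le_normalizer hLC))
    exact CfsgLib.FFModules.le_normalizer_inf_of (inf_le_right.trans hCQ') (inf_le_right.trans Subgroup.le_normalizer)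
  have hCp : IsPGroup p ↥C := CfsgLib.FFModules.isPGroup_of_coprime_eq_one _ fun q hq hqp => by
    refine CfsgLib.FFModules.eq_one_of_coprime_of_mem hQp (hCQ fun u hu => ?_) hqp
    have hc : u⁻¹ * (q * u * q⁻¹) ∈ Q ⊓ C := by
      refine ⟨mul_mem (Subgroup.inv_mem _ hu) ((Subgroup.mem_normalizer_iff.1 (hCQ' hq) u).1 hu), ?_⟩
      have := (Subgroup.mem_normalizer_iff.1 (hQC (inv_mem hu)) q).1 hq
      simpa [mul_assoc] using mul_mem this (Subgroup.inv_mem _ hq)
    exact (CfsgLib.FFModules.commute_of_commutator_mem hQp hqp hc.1 (Commute.symm (hq _ (hU hc)))).symm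
  refine ⟨le_inf ?_ ?_, hCp, ?_⟩
  · exact CfsgLib.CoprimeAction.commutator_le_left hCQ'
  · refine le_trans (le_inf ?_ ?_) hU
    · exact CfsgLib.CoprimeAction.commutator_le_left hCQ'
    · rw [Subgroup.commutator_comm]; exact CfsgLib.CoprimeAction.commutator_le_left hQC
  · rw [CfsgLib.FFModules.charP_subgroup_iff]
    exact CfsgLib.FFModules.le_pCoreOf inf_le_left
      (CfsgLib.FFModules.le_normalizer_inf_of Subgroup.le_normalizer hLC) (hCp.to_le inf_le_right)

end Cfsg.Agent.S2842
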