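import Cfsg.Statements.S2844
import Cfsg.Agent.Lib.LargeSubgroups.Asym
-- import your own Cfsg.Agent.* helpers here

set_option autoImplicit false
open Cfsg

namespace Cfsg.Agent.S2844

open Subgroup CfsgLib.FFModules CfsgLib.LargeSubgroups

/-- Let Q be a nontrivial large p-subgroup of the finite group H and Q• = O_p(N_H(Q)). Then for every g ∈ H outside N_H(Q): C_H(Q) ∩ C_H(gQg⁻¹) = 1, C_H(Q•) ∩ C_H(gQ•g⁻¹) = 1, Z(Q) ∩ Z(gQg⁻¹) = 1 and Z(Q•) ∩ Z(gQ•g⁻¹) = 1; moreover N_H(Q) = N_H(Q•) and Q• is large in H. -/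
theorem result {H : Type*} [Group H] [Finite H] {p : ℕ} [Fact p.Prime] (Q : Subgroup H) (hQp : IsPGroup p ↥Q) (hQ1 : Q ≠ ⊥) (hL : Cfsg.IsLarge Q) (Qb : Subgroup H) (hQb : Qb = Cfsg.largeBullet p Q) : (∀ g : H, g ∉ Subgroup.normalizer ((Q : Subgroup H) : Set H) → Subgroup.centralizer ((Q : Subgroup H) : Set H) ⊓ Subgroup.centralizer ((((Q : Subgroup H).map (MulAut.conj (g : H)).toMonoidHom) : Subgroup H) : Set H) = ⊥ ∧ Subgroup.centralizer ((Qb : Subgroup H) : Set H) ⊓ Subgroup.centralizer ((((Qb : Subgroup H).map (MulAut.conj (g : H)).toMonoidHom) : Subgroup H) : Set H) = ⊥ ∧ (Q ⊓ Subgroup.centralizer ((Q : Subgroup H) : Set H)) ⊓ (((Q : Subgroup H).map (MulAut.conj (g : H)).toMonoidHom) ⊓ Subgroup.centralizer ((((Q : Subgroup H).map (MulAut.conj (g : H)).toMonoidHom) : Subgroup H) : Set H)) = ⊥ ∧ (Qb ⊓ Subgroup.centralizer ((Qb : Subgroup H) : Set H)) ⊓ (((Qb : Subgroup H).map (MulAut.conj (g : H)).toMonoidHom) ⊓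 Subgroup.centralizer ((((Qb : Subgroup H).map (MulAut.conj (g : H)).toMonoidHom) : Subgroup H) : Set H)) = ⊥) ∧ Subgroup.normalizer ((Q : Subgroup H) : Set H) = Subgroup.normalizer ((Qb : Subgroup H) : Set H) ∧ Cfsg.IsLarge Qb := by
  have hNQ : normalizer (Q : Set H) ≤ normalizer (Qb : Set H) := by
    rw [hQb]; exact le_normalizer.trans (normalizer_le_normalizer_pCoreOf _)
  have hQQb : Q ≤ Qb := by rw [hQb]; exact le_pCoreOf Subgroup.le_normalizer le_rfl hQp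
  have hQbp : IsPGroup p Qb := by rw [hQb]; exact isPGroup_pCoreOf _
  have hN : Subgroup.normalizer (Q : Set H) = Subgroup.normalizer (Qb : Set H) := by
    refine le_antisymm hNQ fun g hg => large_mem_normalizer hL hQ1 hQbp hQQb ?_
    exact (Subgroup.map_mono hQQb).trans (map_conj_eq_self hg).le
  have hLb : Cfsg.IsLarge Qb := by
    refine ⟨(Subgroup.centralizer_le (SetLike.coe_subset_coe.2 hQQb)).trans (hL.1.trans hQQb),
      fun U hU hU1 => ?_⟩
    exact (hL.2 U (hU.trans (Subgroup.centralizer_le (SetLike.coe_subset_coe.2 hQQb))) hU1).trans hN.le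
  have hQb1 : Qb ≠ ⊥ := fun e => hQ1 (le_bot_iff.1 (hQQb.trans e.le))
  refine ⟨fun g hg => ?_, hN, hLb⟩
  have h1 := large_inf_centralizer_eq_bot hL hQp hQ1 hg
  have h2 := large_inf_centralizer_eq_bot hLb hQbp hQb1 (hN ▸ hg)
  refine ⟨h1, h2, eq_bot_iff.2 ?_, eq_bot_iff.2 ?_⟩
  · rw [← h1]; exact inf_le_inf inf_le_right inf_le_right
  · rw [← h2]; exact inf_le_inf inf_le_right inf_le_right

end Cfsg.Agent.S2844
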