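import Cfsg.Statements.S2845
import Cfsg.Agent.Lib.LargeSubgroups.Asym
-- import your own Cfsg.Agent.* helpers here

set_option autoImplicit false
open Cfsg

namespace Cfsg.Agent.S2845

/-- Let Q be a nontrivial large p-subgroup of the finite group H. Then for every subgroup L ≥ Q with O_p(L) ≠ 1, C_H(O_p(L)) is a p-group and L has characteristic p, and either the weak closure L° of Q in L equals Q or C_H(L°) = 1; for every subgroup R of H containing a Sylow p-subgroup of H with O_p(R) ≠ 1, C_H(O_p(R)) ≤ O_p(R); and H has parabolic characteristic p. -/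
theorem result {H : Type*} [Group H] [Finite H] {p : ℕ} [Fact p.Prime] (Q : Subgroup H) (hQp : IsPGroup p ↥Q) (hQ1 : Q ≠ ⊥) (hL : Cfsg.IsLarge Q) : (∀ L : Subgroup H, Q ≤ L → Cfsg.pCore p ↥L ≠ ⊥ → IsPGroup p ↥(Subgroup.centralizer (((Cfsg.pCoreOf p L) : Subgroup H) : Set H)) ∧ Subgroup.centralizer (Cfsg.pCore p ↥L : Set ↥L) ≤ Cfsg.pCore p ↥L ∧ (Cfsg.weakClosure Q L = Q ∨ Subgroup.centralizer (((Cfsg.weakClosure Q L) : Subgroup H) : Set H) = ⊥)) ∧ (∀ R : Subgroup H, Cfsg.IsParabolic p R → Cfsg.pCore p ↥R ≠ ⊥ → Subgroup.centralizer (((Cfsg.pCoreOf p R) : Subgroup H) : Set H) ≤ (Cfsg.pCoreOf p R)) ∧ Cfsg.IsOfParabolicCharacteristic p H := by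
  have hpar := CfsgLib.LargeSubgroups.parabolicCharacteristic_of_large hL hQp hQ1
  refine ⟨fun L hQL hne => ?_, fun R hR hne => ?_, hpar⟩
  · have hne' := CfsgLib.LargeSubgroups.pCore_ne_bot_iff.1 hne
    have hp' := CfsgLib.LargeSubgroups.isPGroup_centralizer_pCoreOf_of_large hL hQp hQL hne'
    refine ⟨hp', CfsgLib.FFModules.charP_subgroup_iff.2 (CfsgLib.FFModules.le_pCoreOf inf_le_left
      (CfsgLib.FFModules.le_normalizer_inf_of Subgroup.le_normalizer
        ((CfsgLib.FFModules.le_normalizer_pCoreOf L).trans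
          (CfsgLib.FFModules.normalizer_le_normalizer_centralizer _))) hp'.to_inf_right), ?_⟩
    by_cases hall : ∀ g : H, Q.map (MulAut.conj g).toMonoidHom ≤ L →
        g ∈ Subgroup.normalizer (Q : Set H)
    · refine Or.inl (le_antisymm (iSup_le fun g => ?_) (CfsgLib.LargeSubgroups.self_le_weakClosure hQL))
      exact (CfsgLib.FFModules.map_conj_eq_self (hall _ g.2)).le
    · obtain ⟨g, hg⟩ := not_forall.1 hall
      obtain ⟨hgL, hgN⟩ := Classical.not_imp.1 hg
      refine Or.inr (eq_bot_iff.2 ?_)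
      rw [← CfsgLib.LargeSubgroups.large_inf_centralizer_eq_bot hL hQp hQ1 hgN]
      exact le_inf
        (Subgroup.centralizer_le (SetLike.coe_subset_coe.2 (CfsgLib.LargeSubgroups.self_le_weakClosure hQL)))
        (Subgroup.centralizer_le (SetLike.coe_subset_coe.2 (CfsgLib.LargeSubgroups.le_weakClosure hgL)))
  · obtain ⟨T, hT⟩ := hR
    exact CfsgLib.LargeSubgroups.centralizer_pCoreOf_le_of_parabolic hpar hT
      (CfsgLib.LargeSubgroups.pCore_ne_bot_iff.1 hne)

end Cfsg.Agent.S2845
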