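import Cfsg.Statements.S2846
import Cfsg.Agent.Lib.LargeSubgroups.FrakMExists
-- import your own Cfsg.Agent.* helpers here

set_option autoImplicit false
open Cfsg

namespace Cfsg.Agent.S2846

open Subgroup CfsgLib.FFModules CfsgLib.LargeSubgroups

/-- Let Q be a nontrivial large p-subgroup of the finite group H, S a Sylow p-subgroup containing Q, and L a subgroup containing S with O_p(L) ≠ 1 and C_H(O_p(L)) ≤ O_p(L). Then there are a subgroup M containing S having the basic property (M ∈ 𝔐_H, writing Y_X for the largest p-reduced normal subgroup of X and 𝓛_H for the set of subgroups X with O_p(X) ≠ 1 and C_H(O_p(X)) ≤ O_p(X): M ∈ 𝓛_H, M·C_H(Y_M) is the only maximal member of 𝓛_H containing M and its largest p-reduced normal subgroup is again Y_M, C_M(Y_M) is p-closed, and the image of C_M(Y_M) in M/O_p(M) lies in the Frattini subgroup of M/O_p(M)) and a subgroup L* with S ≤ L* ≤ M, O_p(L*) ≠ 1, C_H(O_p(L*)) ≤ O_p(L*), such that L·C_H(Y_L) = L*·C_H(Y_L),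 the weak closures of Q in L and in L* agree and lie in that of M, and Y_L = Y_{L*} ≤ Y_M. If moreover Q is not normal in L, then Q is normal in neither L* nor M. -/
theorem result {H : Type*} [Group H] [Finite H] {p : ℕ} [Fact p.Prime] (Q : Subgroup H) (hQp : IsPGroup p ↥Q) (hQ1 : Q ≠ ⊥) (hLg : Cfsg.IsLarge Q) (S : Sylow p H) (hQS : Q ≤ (S : Subgroup H)) (L : Subgroup H) (hSL : (S : Subgroup H) ≤ L) (hL : L ∈ Cfsg.charPSubgroups p H) : ∃ M Ls : Subgroup H, (S : Subgroup H) ≤ M ∧ Cfsg.IsInFrakM p M ∧ (S : Subgroup H) ≤ Ls ∧ Ls ≤ M ∧ Ls ∈ Cfsg.charPSubgroups p H ∧ L ⊔ Subgroup.centralizer (((Cfsg.largestPReducedOf p L) : Subgroup H) : Set H) = Ls ⊔ Subgroup.centralizer (((Cfsg.largestPReducedOf p L) : Subgroup H) : Set H) ∧ Cfsg.weakClosure Q L = Cfsg.weakClosure Q Ls ∧ Cfsg.weakClosure Q Ls ≤ Cfsg.weakClosure Q M ∧ (Cfsg.largestPReducedOf p L) = (Cfsg.largestPReducedOf p Ls) ∧ (Cfsg.largestPReducedOf p Ls) ≤ (Cfsg.largestPReducedOf p M) ∧ (¬ L ≤ Subgroup.normalizer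 ((Q : Subgroup H) : Set H) → ¬ Ls ≤ Subgroup.normalizer ((Q : Subgroup H) : Set H) ∧ ¬ M ≤ Subgroup.normalizer ((Q : Subgroup H) : Set H)) := by
  have hpar := parabolicCharacteristic_of_large hLg hQp hQ1
  obtain ⟨M, Ls, hSM, hM, hSLs, hLsM, hLsP, hY, hYM, hC⟩ := exists_frakM hpar hSL hL
  set Y := Cfsg.largestPReducedOf p L with hYdef
  set C := centralizer (Y : Set H) with hCdef
  have hYp : IsPGroup p Y := isPGroup_of_elemAb (reducedIn_largestPReducedOf L).elemAb
  have hY1 : Y ≠ ⊥ := largestPReducedOf_ne_bot' hSL hL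
  obtain ⟨z, hzY, hz1, -, hz⟩ := exists_fixed_of_normalize hQp hYp hY1
    (hQS.trans (hSL.trans (largestPReducedOf_le_normalizer L)))
  have hCN : C ≤ normalizer (Q : Set H) := fun c hc =>
    mem_normalizer_of_commute hLg (fun q hq => hz q hq) hz1 (hc z hzY).symm
  have hwc : Cfsg.IsWeaklyClosed Q (S : Subgroup H) := large_isWeaklyClosed hLg hQ1 hQS
  have key : ∀ R : Subgroup H, (S : Subgroup H) ≤ R → R ⊔ C = L ⊔ C →
      Cfsg.weakClosure Q (L ⊔ C) = Cfsg.weakClosure Q R := by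
    intro R hSR hR
    refine le_antisymm (iSup_le fun g => ?_) (weakClosure_mono (le_sup_left.trans hR.le))
    obtain ⟨x, hx, hxe⟩ := wc_exists_conj_eq hwc hQp (hQS.trans (hSL.trans le_sup_left)) g.2
    rw [← hR, ← SetLike.mem_coe, coe_mul_of_left_le_normalizer_right R C
      ((le_sup_left.trans hR.le).trans (dag_le_normalizer_centralizer L))] at hx
    obtain ⟨r, hr, c, hc, rfl⟩ := hx
    rw [← hxe, map_conj_mul, map_conj_eq_self (hCN hc)]
    exact le_weakClosure ((map_mono (hQS.trans hSR)).trans (map_conj_eq_self (Subgroup.le_normalizer hr)).le)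
  refine ⟨M, Ls, hSM, hM, hSLs, hLsM, hLsP, hC, (key L hSL rfl).symm.trans (key Ls hSLs hC.symm),
    weakClosure_mono hLsM, hY, hY.ge.trans hYM, fun hn => ⟨fun h => hn ?_, fun h => hn ?_⟩⟩
  · exact le_sup_left.trans (hC.le.trans (sup_le h hCN))
  · exact le_sup_left.trans (hC.le.trans (sup_le (hLsM.trans h) hCN))

end Cfsg.Agent.S2846
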