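import Cfsg.Statements.S2849
import Cfsg.Agent.Lib.LargeSubgroups.Asym
-- import your own Cfsg.Agent.* helpers here

set_option autoImplicit false
open Cfsg

namespace Cfsg.Agent.S2849

/-- Standing hypotheses: G a finite group, S a Sylow p-subgroup, Q a nontrivial large p-subgroup of G contained in S (C_G(Q) ≤ Q and N_G(U) ≤ N_G(Q) for all nontrivial U ≤ C_G(Q)), and M a subgroup containing S with the basic property (M ∈ 𝔐_G(S)); Y_M denotes the largest p-reduced normal subgroup of M and M† = M·C_G(Y_M). Suppose Y_M is asymmetric in G. Then for every subgroup R with Y_M ≤ R ≤ M†, the normal closure of Y_M in N_G(R) is elementary abelian. -/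
theorem result {G : Type*} [Group G] [Finite G] {p : ℕ} [Fact p.Prime] (S : Sylow p G) (Q : Subgroup G) (hQp : IsPGroup p ↥Q) (hQ1 : Q ≠ ⊥) (hQS : Q ≤ (S : Subgroup G)) (hQ : Cfsg.IsLarge Q) (M : Subgroup G) (hSM : (S : Subgroup G) ≤ M) (hM : Cfsg.IsInFrakM p M) (hasym : ¬ Cfsg.IsSymmetricIn (Cfsg.largestPReducedOf p M)) (R : Subgroup G) (hYR : (Cfsg.largestPReducedOf p M) ≤ R) (hRM : R ≤ (M ⊔ Subgroup.centralizer (((Cfsg.largestPReducedOf p M) : Subgroup G) : Set G))) : Cfsg.IsElementaryAbelian p ((Subgroup.normalClosure ((((Cfsg.largestPReducedOf p M)).subgroupOf (Subgroup.normalizer ((R : Subgroup G) : Set G)) : Subgroup ↥(Subgroup.normalizer ((R : Subgroup G) : Set G))) : Set ↥(Subgroup.normalizer ((R : Subgroup G) : Set G)))).map (Subgroup.normalizer ((R : Subgroup G) : Set G)).subtype) := by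
  set N := Subgroup.normalizer (R : Set G)
  set Y := Cfsg.largestPReducedOf p M
  have hYel := (CfsgLib.FFModules.reducedIn_largestPReducedOf (p := p) M).elemAb
  have hYN : Y ≤ N := hYR.trans Subgroup.le_normalizer
  have hRY : R ≤ Subgroup.normalizer (Y : Set G) :=
    hRM.trans (CfsgLib.LargeSubgroups.dag_le_normalizer M)
  have hle : ∀ n ∈ N, Y.map (MulAut.conj n).toMonoidHom ≤ R := fun n hn =>
    (Subgroup.map_mono hYR).trans (CfsgLib.FFModules.map_conj_eq_self hn).le
  have hnorm : ∀ n ∈ N, R ≤ Subgroup.normalizer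
      ((Y.map (MulAut.conj n).toMonoidHom : Subgroup G) : Set G) := fun n hn =>
    (CfsgLib.FFModules.map_conj_eq_self hn).ge.trans
      (CfsgLib.LargeSubgroups.map_conj_le_normalizer hRY n)
  refine CfsgLib.FFModules.elemAb_mono
    (CfsgLib.FFModules.elemAb_closure (p := p) (S := {x : G | ∃ n ∈ N, ∃ y ∈ Y, n * y * n⁻¹ = x}) ?_ ?_) ?_
  · rintro _ ⟨a, ha, y, hy, rfl⟩ _ ⟨b, hb, z, hz, rfl⟩
    exact (CfsgLib.LargeSubgroups.le_centralizer_of_asymmetric hasym a b
      ((hle a ha).trans (hnorm b hb)) ((hle b hb).trans (hnorm a ha))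
      (CfsgLib.LargeSubgroups.conj_mem_map hy) _ (CfsgLib.LargeSubgroups.conj_mem_map hz)).symm
  · rintro _ ⟨a, -, y, hy, rfl⟩
    rw [conj_pow, hYel.2 y hy, mul_one, mul_inv_cancel]
  · rw [Subgroup.normalClosure, MonoidHom.map_closure, Subgroup.closure_le]
    rintro _ ⟨x, hx, rfl⟩
    obtain ⟨y, hy, hyx⟩ := Group.mem_conjugatesOfSet_iff.1 hx
    obtain ⟨c, hc⟩ := isConj_iff.1 hyx
    exact Subgroup.subset_closure ⟨c, c.2, y, hy, by rw [← hc]; rfl⟩

end Cfsg.Agent.S2849
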