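import Cfsg.Statements.S2850
import Cfsg.Agent.Lib.LargeSubgroups.Asym
-- import your own Cfsg.Agent.* helpers here

set_option autoImplicit false
open Cfsg

namespace Cfsg.Agent.S2850

/-- Standing hypotheses: G a finite group, S a Sylow p-subgroup, Q a nontrivial large p-subgroup of G contained in S (C_G(Q) ≤ Q and N_G(U) ≤ N_G(Q) for all nontrivial U ≤ C_G(Q)), and M a subgroup containing S with the basic property (M ∈ 𝔐_G(S)); Y_M denotes the largest p-reduced normal subgroup of M and M† = M·C_G(Y_M). Suppose Y_M is asymmetric in G. Then N_G(L) ≤ N_G(O_p(M)) ≤ M† for every p-subgroup L containing O_p(M); O_p(M) is a weakly closed subgroup of G; for every subgroup L containing O_p(M), L ∩ M† contains a Sylow p-subgroup of L; and two elements of Y_M conjugate in G are conjugate in M. -/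
theorem result {G : Type*} [Group G] [Finite G] {p : ℕ} [Fact p.Prime] (S : Sylow p G) (Q : Subgroup G) (hQp : IsPGroup p ↥Q) (hQ1 : Q ≠ ⊥) (hQS : Q ≤ (S : Subgroup G)) (hQ : Cfsg.IsLarge Q) (M : Subgroup G) (hSM : (S : Subgroup G) ≤ M) (hM : Cfsg.IsInFrakM p M) (hasym : ¬ Cfsg.IsSymmetricIn (Cfsg.largestPReducedOf p M)) : (∀ L : Subgroup G, IsPGroup p ↥L → (Cfsg.pCoreOf p M) ≤ L → Subgroup.normalizer ((L : Subgroup G) : Set G) ≤ Subgroup.normalizer (((Cfsg.pCoreOf p M) : Subgroup G) : Set G) ∧ Subgroup.normalizer (((Cfsg.pCoreOf p M) : Subgroup G) : Set G) ≤ (M ⊔ Subgroup.centralizer (((Cfsg.largestPReducedOf p M) : Subgroup G) : Set G))) ∧ Cfsg.IsWeaklyClosedSubgroup p (Cfsg.pCoreOf p M) ∧ (∀ L : Subgroup G, (Cfsg.pCoreOf p M) ≤ L → Cfsg.IsParabolic p ((L ⊓ (M ⊔ Subgroup.centralizer (((Cfsg.largestPReducedOf p M) : Subgroup G) : Set G))).subgroupOf L)) ∧ (∀ x ∈ (Cfsg.largestPReducedOf p M), ∀ g : G, g * x * g⁻¹ ∈ (Cfsg.largestPReducedOf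 p M) → ∃ m ∈ M, m * x * m⁻¹ = g * x * g⁻¹) := by
  have hpar := CfsgLib.LargeSubgroups.parabolicCharacteristic_of_large hQ hQp hQ1
  have hwc := CfsgLib.LargeSubgroups.isWeaklyClosed_pCoreOf hpar hSM hM hasym
  have hTD := CfsgLib.LargeSubgroups.normalizer_pCoreOf_le_dag hpar hSM hM
  refine ⟨fun L hL hTL => ⟨CfsgLib.LargeSubgroups.normalizer_le_normalizer_pCoreOf_of_wc hwc hL hTL, hTD⟩,
    ⟨S, hwc⟩, fun L hTL => ?_, fun x hx g hg => ?_⟩
  · obtain ⟨P, -, hP⟩ := CfsgLib.LargeSubgroups.coprime_relIndex_normalizer_of_wc hwc hTL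
    refine ⟨P, fun a ha => ⟨a.2, hTD (hP ⟨a, ha, rfl⟩)⟩⟩
  · set T := Cfsg.pCoreOf p M
    set x' := g * x * g⁻¹ with hx'
    have hTC : ∀ y ∈ Cfsg.largestPReducedOf p M, T ≤ Subgroup.centralizer ({y} : Set G) :=
      fun y hy t ht => Subgroup.mem_centralizer_singleton_iff.2
        ((CfsgLib.LargeSubgroups.pCoreOf_le_centralizer hSM hM ht) y hy).symm
    have h2 : T.map (MulAut.conj g).toMonoidHom ≤ Subgroup.centralizer ({x'} : Set G) := by
      rintro _ ⟨t, ht, rfl⟩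
      rw [Subgroup.mem_centralizer_singleton_iff]
      have h := Subgroup.mem_centralizer_singleton_iff.1 (hTC x hx ht)
      show g * t * g⁻¹ * x' = x' * (g * t * g⁻¹)
      calc g * t * g⁻¹ * x' = g * (t * x) * g⁻¹ := by rw [hx']; group
        _ = g * (x * t) * g⁻¹ := by rw [h]
        _ = x' * (g * t * g⁻¹) := by rw [hx']; group
    obtain ⟨c, hc, hcT⟩ := CfsgLib.LargeSubgroups.wc_exists_conj_eq hwc
      (CfsgLib.FFModules.isPGroup_pCoreOf M) (hTC x' hg) h2
    have hn : c⁻¹ * g ∈ Subgroup.normalizer (T : Set G) :=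
      CfsgLib.FFModules.mem_normalizer_of_map_conj_eq (by
        rw [CfsgLib.FFModules.map_conj_mul, ← hcT, CfsgLib.FFModules.map_conj_inv_map])
    obtain ⟨m, hm, d, hd, he⟩ := CfsgLib.LargeSubgroups.exists_mul_of_mem_dag (hTD hn)
    refine ⟨m, hm, ?_⟩
    have hdx : d * x * d⁻¹ = x := mul_inv_eq_iff_eq_mul.2 (hd x hx).symm
    have hcx : c⁻¹ * x' * c = x' := by
      rw [mul_assoc, ← Subgroup.mem_centralizer_singleton_iff.1 hc, inv_mul_cancel_left]
    calc m * x * m⁻¹ = m * (d * x * d⁻¹) * m⁻¹ := by rw [hdx]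
      _ = (m * d) * x * (m * d)⁻¹ := by group
      _ = c⁻¹ * x' * c := by rw [← he, hx']; group
      _ = x' := hcx

end Cfsg.Agent.S2850
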