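import Cfsg.Statements.S2851
import Cfsg.Agent.Lib.LargeSubgroups.FrakH
import Cfsg.Agent.Lib.Cores.GenFitting
-- import your own Cfsg.Agent.* helpers here

set_option autoImplicit false
open Cfsg

namespace Cfsg.Agent.S2851

open Subgroup CfsgLib.FFModules CfsgLib.LargeSubgroups

open scoped commutatorElement

/-- A `p`-subgroup normalised by `F*` is trivial when `O_p = 1`. -/
theorem eq_bot_of_fitting_normalizes {X : Type*} [Group X] [Finite X] {p : ℕ}
    (hO : Cfsg.pCore p X = ⊥) {U : Subgroup X} (hU : IsPGroup p U)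
    (hn : Cfsg.generalizedFittingSubgroup X ≤ Subgroup.normalizer (U : Set X)) : U = ⊥ := by
  set F := Cfsg.generalizedFittingSubgroup X with hF
  haveI : F.Characteristic := CfsgLib.Cores.generalizedFittingSubgroup_characteristic X
  have hV : U ⊓ F = ⊥ := by
    refine le_bot_iff.1 ((CfsgLib.FFModules.le_pCore_of_isSubnormal ?_ hU.to_inf_left).trans hO.le)
    exact Subgroup.IsSubnormal.step _ F inf_le_right (inferInstance : F.Normal).isSubnormal
      (Subgroup.normal_subgroupOf_of_le_normalizer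
        (CfsgLib.FFModules.le_normalizer_inf_of hn Subgroup.le_normalizer))
  have hc : U ≤ Subgroup.centralizer (F : Set X) := by
    rw [← Subgroup.commutator_eq_bot_iff_le_centralizer, eq_bot_iff, ← hV, Subgroup.commutator_le]
    intro x hx y hy
    rw [Subgroup.mem_inf, commutatorElement_def]
    refine ⟨?_, mul_mem ((inferInstance : F.Normal).conj_mem y hy x) (inv_mem hy)⟩
    rw [show x * y * x⁻¹ * y⁻¹ = x * (y * x⁻¹ * y⁻¹) by group]
    exact mul_mem hx ((Subgroup.mem_normalizer_iff.1 (hn hy) _).1 (inv_mem hx))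
  rw [eq_bot_iff, ← hV]
  exact le_inf le_rfl (hc.trans CfsgLib.Cores.centralizer_generalizedFittingSubgroup_le)

/-- Standing hypotheses: G a finite group, S a Sylow p-subgroup, Q a nontrivial large p-subgroup of G contained in S, M a subgroup containing S with the basic property (M ∈ 𝔐_G(S)); Y_M the largest p-reduced normal subgroup of M and M† = M·C_G(Y_M). Let F be the preimage in M† of the generalized Fitting subgroup of M†/C_{M†}(Y_M). If Y_M is asymmetric in G and H is a subgroup of characteristic p containing F, then Y_M ≤ Y_H. -/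
theorem result {G : Type*} [Group G] [Finite G] {p : ℕ} [Fact p.Prime] (S : Sylow p G) (Q : Subgroup G) (hQp : IsPGroup p ↥Q) (hQ1 : Q ≠ ⊥) (hQS : Q ≤ (S : Subgroup G)) (hQ : Cfsg.IsLarge Q) (M : Subgroup G) (hSM : (S : Subgroup G) ≤ M) (hM : Cfsg.IsInFrakM p M) (hasym : ¬ Cfsg.IsSymmetricIn (Cfsg.largestPReducedOf p M)) [hn : ((Subgroup.centralizer (((Cfsg.largestPReducedOf p M) : Subgroup G) : Set G)).subgroupOf (M ⊔ Subgroup.centralizer (((Cfsg.largestPReducedOf p M) : Subgroup G) : Set G))).Normal] (F : Subgroup G) (hF : F = ((Cfsg.generalizedFittingSubgroup (↥(M ⊔ Subgroup.centralizer (((Cfsg.largestPReducedOf p M) : Subgroup G) : Set G)) ⧸ (Subgroup.centralizer (((Cfsg.largestPReducedOf p M) : Subgroup G) : Set G)).subgroupOf (M ⊔ Subgroup.centralizer (((Cfsg.largestPReducedOf p M) : Subgroup G) : Set G)))).comap (QuotientGroup.mk' ((Subgroup.centralizer (((Cfsg.largestPReducedOf p M) : Subgroup G) : Set G)).subgroupOf (M ⊔ Subgroup.centralizer (((Cfsg.largestPReducedOf p M) :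 Subgroup G) : Set G))))).map ((M ⊔ Subgroup.centralizer (((Cfsg.largestPReducedOf p M) : Subgroup G) : Set G))).subtype) (H : Subgroup G) (hFH : F ≤ H) (hH : Subgroup.centralizer (Cfsg.pCore p ↥H : Set ↥H) ≤ Cfsg.pCore p ↥H) : (Cfsg.largestPReducedOf p M) ≤ Cfsg.largestPReducedOf p H := by
  have hpar := parabolicCharacteristic_of_large hQ hQp hQ1
  have hwc := isWeaklyClosed_pCoreOf hpar hSM hM hasym
  set Y := Cfsg.largestPReducedOf p M with hY
  set C := centralizer (Y : Set G) with hC
  set D := M ⊔ C with hD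
  set π := QuotientGroup.mk' (C.subgroupOf D) with hπ
  set Fb := Cfsg.generalizedFittingSubgroup (↥D ⧸ C.subgroupOf D) with hFb
  have hπ1 : ∀ x : D, π x = 1 ↔ (x : G) ∈ C := fun x => QuotientGroup.eq_one_iff x
  have hredD : ReducedIn p D Y :=
    (reducedIn_largestPReducedOf M).transfer le_rfl (le_sup_left.trans le_sup_left)
  have hOp : Cfsg.pCore p (↥D ⧸ C.subgroupOf D) = ⊥ := by
    refine eq_bot_iff.2 (sSup_le fun N hN => ?_)
    have := hN.1
    have h := hredD.reduced ((N.comap π).map D.subtype) (map_subtype_le _) ?_ ?_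
    · intro q hq
      obtain ⟨x, rfl⟩ := QuotientGroup.mk'_surjective (C.subgroupOf D) q
      exact (hπ1 x).2 (h ⟨x, hq, rfl⟩)
    · rw [← normal_subgroupOf_iff_le_normalizer (map_subtype_le _),
        show ((N.comap π).map D.subtype).subgroupOf D = N.comap π from
          comap_map_eq_self_of_injective D.subtype_injective _]
      infer_instance
    · rintro _ ⟨x, hx, rfl⟩
      obtain ⟨k, hk⟩ := exists_pPow_eq_one hN.2 hx
      exact ⟨k, by simpa using (hπ1 (x ^ p ^ k)).1 (by rw [map_pow]; exact hk)⟩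
  have hCF : C ≤ F := fun c hc => by
    rw [hF]
    exact ⟨⟨c, mem_sup_right hc⟩, by rw [SetLike.mem_coe, mem_comap, (hπ1 _).2 hc]; exact one_mem _, rfl⟩
  have hFD : F ≤ D := hF.le.trans (map_subtype_le _)
  have hred : ∀ D₀ : Subgroup G, D₀ ≤ D → F ≤ normalizer (D₀ : Set G) →
      (∀ x ∈ D₀, ∃ k : ℕ, x ^ p ^ k ∈ C) → D₀ ≤ C := by
    intro D₀ hD₀ hn₀ hpow
    have hU : (D₀.subgroupOf D).map π = ⊥ := by
      refine eq_bot_of_fitting_normalizes hOp ?_ ?_
      · rintro ⟨_, x, hx, rfl⟩
        obtain ⟨k, hk⟩ := hpow x hx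
        refine ⟨k, Subtype.ext ?_⟩
        show π x ^ p ^ k = 1
        rw [← map_pow]
        exact (hπ1 _).2 (by simpa using hk)
      · intro q hq
        obtain ⟨x, rfl⟩ := QuotientGroup.mk'_surjective (C.subgroupOf D) q
        have hxn : x ∈ normalizer ((D₀.subgroupOf D : Subgroup D) : Set D) := by
          rw [Subgroup.mem_normalizer_iff]
          exact fun y => Subgroup.mem_normalizer_iff.1 (hn₀ (by rw [hF]; exact ⟨x, hq, rfl⟩)) y
        exact le_normalizer_map _ (mem_map_of_mem _ hxn)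
    intro x hx
    have : π ⟨x, hD₀ hx⟩ ∈ (D₀.subgroupOf D).map π := mem_map_of_mem _ hx
    rw [hU] at this
    exact (hπ1 _).1 this
  have hTH : Cfsg.pCoreOf p M ≤ H := ((pCoreOf_le_centralizer hSM hM).trans hCF).trans hFH
  obtain ⟨P, hTP, hPN⟩ := coprime_relIndex_normalizer_of_wc hwc hTH
  obtain ⟨hPH, hPp, hPi⟩ := sylow_map_props H P
  refine (closure_le_largestPReducedOf (T := (P : Subgroup H).map H.subtype) (R := H ⊓ D)
    (le_inf hPH (hPN.trans (normalizer_pCoreOf_le_dag hpar hSM hM))) inf_le_left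
    (le_inf ((largestPReducedOf_le_pCoreOf M).trans hTH)
      ((largestPReducedOf_le M).trans le_sup_left))
    hPp hPi (charP_subgroup_iff.1 hH)
    ⟨inf_le_right.trans (dag_le_normalizer M), hredD.elemAb, fun D₀ h1 h2 h3 =>
      hred D₀ (h1.trans inf_le_right) ((le_inf hFH hFD).trans h2) h3⟩).1

end Cfsg.Agent.S2851
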