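import Cfsg.Statements.S2852
import Cfsg.Agent.Lib.LargeSubgroups.FrakH
-- import your own Cfsg.Agent.* helpers here

set_option autoImplicit false
open Cfsg

namespace Cfsg.Agent.S2852

open Subgroup CfsgLib.FFModules CfsgLib.LargeSubgroups

/-- Standing hypotheses: G a finite group, S a Sylow p-subgroup, Q a nontrivial large p-subgroup of G contained in S, M a subgroup containing S with the basic property (M ∈ 𝔐_G(S)); Y_M the largest p-reduced normal subgroup of M. If Y_M is char-p-tall and asymmetric in G, then some subgroup H of G lies in ℌ_G(O_p(M)): H has characteristic p, O_p(M) ≤ H, Y_M ≰ O_p(H), and Y_M ≤ O_p(P) for every proper subgroup P of H containing O_p(M). -/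
theorem result {G : Type*} [Group G] [Finite G] {p : ℕ} [Fact p.Prime] (S : Sylow p G) (Q : Subgroup G) (hQp : IsPGroup p ↥Q) (hQ1 : Q ≠ ⊥) (hQS : Q ≤ (S : Subgroup G)) (hQ : Cfsg.IsLarge Q) (M : Subgroup G) (hSM : (S : Subgroup G) ≤ M) (hM : Cfsg.IsInFrakM p M) (htall : Cfsg.IsCharPTall p (Cfsg.largestPReducedOf p M)) (hasym : ¬ Cfsg.IsSymmetricIn (Cfsg.largestPReducedOf p M)) : ∃ H : Subgroup G, Cfsg.IsInFrakH p M H := by
  have hpar := parabolicCharacteristic_of_large hQ hQp hQ1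
  have hwc := isWeaklyClosed_pCoreOf hpar hSM hM hasym
  set Y := Cfsg.largestPReducedOf p M with hY
  set T := Cfsg.pCoreOf p M with hT
  obtain ⟨T₀, L₀, hT₀L, hL₀, hYL₀⟩ := htall
  obtain ⟨hT₀C, hT₀p, hT₀i⟩ := sylow_map_props (centralizer (Y : Set G)) T₀
  obtain ⟨c, hc, hcT⟩ := exists_conj_eq hT₀C (pCoreOf_le_centralizer hSM hM) hT₀p
    (isPGroup_pCoreOf M) hT₀i (coprime_relIndex_pCoreOf_centralizer hSM hM)
  set L := L₀.map (MulAut.conj c).toMonoidHom with hLdef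
  have hTL : T ≤ L := hcT.ge.trans (map_mono hT₀L)
  have hLc := charP_map_conj (charP_subgroup_iff.1 hL₀) c
  have hYc : Y.map (MulAut.conj c).toMonoidHom = Y :=
    map_conj_eq_self (centralizer_le_normalizer' _ hc)
  have hYL : ¬ Y ≤ Cfsg.pCoreOf p L := fun h => hYL₀ (by
    rw [← hYc, hLdef, ← map_conj_pCoreOf] at h
    exact (map_le_map_iff_of_injective (MulAut.conj c).injective).1 h)
  obtain ⟨H, hHmin⟩ := Set.Finite.exists_minimal
    (s := {P : Subgroup G | T ≤ P ∧ P ≤ L ∧ ¬ Y ≤ Cfsg.pCoreOf p P}) (Set.toFinite _)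
    ⟨L, hTL, le_rfl, hYL⟩
  obtain ⟨hTH, hHL, hYH⟩ := hHmin.1
  have hmin : ∀ P : Subgroup G, T ≤ P → P < H → Y ≤ Cfsg.pCoreOf p P := fun P hTP hPH => by
    by_contra h
    exact hPH.not_ge (hHmin.2 ⟨hTP, hPH.le.trans hHL, h⟩ hPH.le)
  exact ⟨H, charP_subgroup_iff.2
    (charP_of_closureIn_eq hwc hTH hHL hLc (closureIn_eq_self hTH hYH hmin)), hTH, hYH, hmin⟩

end Cfsg.Agent.S2852
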