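import Cfsg.Statements.S2853
import Cfsg.Agent.Lib.LargeSubgroups.FrakH
import Cfsg.Agent.Lib.CoprimeAction.Basic
import Cfsg.Agent.Lib.FFModules.Kieler
-- import your own Cfsg.Agent.* helpers here

set_option autoImplicit false
open Cfsg

namespace Cfsg.Agent.S2853

open Subgroup CfsgLib.FFModules CfsgLib.LargeSubgroups

open scoped commutatorElement

/-- `O^p(H) = [O^p(H), Y]`. -/
theorem residual_commutator_eq {G : Type*} [Group G] [Finite G] {p : ℕ} [Fact p.Prime]
    {H Y T R : Subgroup G} (hYO : ¬ Y ≤ Cfsg.pCoreOf p H)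
    (hmin : ∀ P : Subgroup G, T ≤ P → P < H → Y ≤ Cfsg.pCoreOf p P) (hYT : Y ≤ T) (hTH : T ≤ H)
    (hTY : T ≤ normalizer (Y : Set G)) (hR : R = (Cfsg.pResidual p ↥H).map H.subtype)
    (hRT : R ⊔ T = H) (hR0n : H ≤ normalizer ((⁅R, Y⁆ : Subgroup G) : Set G))
    (hR0R : ⁅R, Y⁆ ≤ R) (hYH : Y ≤ H) (hTp : IsPGroup p T) : ⁅R, Y⁆ = R := by
  have hRH : R ≤ H := hR ▸ pResidualMap_le H
  set K := ⁅R, Y⁆ ⊔ Y with hK
  have hKH : K ≤ H := sup_le (hR0R.trans hRH) hYH
  have hRY : R ≤ normalizer (K : Set G) := fun r hr => by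
    refine mem_normalizer_of_map_conj_le ?_
    rw [hK, Subgroup.map_sup, map_conj_eq_self (hR0n (hRH hr))]
    refine sup_le le_sup_left ?_
    rintro _ ⟨y, hy, rfl⟩
    have h := mul_mem (mem_sup_left (T := Y) (commutator_mem_commutator hr hy))
      (mem_sup_right (S := ⁅R, Y⁆) hy)
    rw [commutatorElement_def, inv_mul_cancel_right] at h
    exact h
  have hHK : H ≤ normalizer (K : Set G) := hRT.ge.trans (sup_le hRY
    ((le_inf (hTH.trans hR0n) hTY).trans (normalizer_inf_normalizer_le_normalizer_sup _ Y)))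
  have htop : ⁅R, Y⁆ ⊔ T = H := by
    refine le_antisymm (sup_le (hR0R.trans hRH) hTH) ?_
    by_contra hne
    have hKP : K ≤ ⁅R, Y⁆ ⊔ T := sup_le le_sup_left (hYT.trans le_sup_right)
    have hY' := hmin _ le_sup_right (lt_of_le_not_ge (sup_le (hR0R.trans hRH) hTH) hne)
    exact hYO ((le_inf hY' le_sup_right).trans ((le_pCoreOf inf_le_right
      (le_normalizer_inf_of (hKP.trans (le_normalizer_pCoreOf _)) Subgroup.le_normalizer)
      (isPGroup_pCoreOf _).to_inf_left).trans (pCoreOf_le_pCoreOf hKH hHK)))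
  refine le_antisymm hR0R (hR.le.trans (pResidualMap_le_iff.2 fun x hx hxc => ?_))
  obtain ⟨k, hk⟩ := exists_pow_mem_sup (p := p) (C := ⁅R, Y⁆) (D := T) (E := ⁅R, Y⁆)
    (hTH.trans hR0n) ((hR0R.trans hRH).trans hR0n)
    (fun t ht => (exists_pPow_eq_one hTp ht).imp fun k hk => by rw [hk]; exact one_mem _)
    (fun t ht => ⟨0, by simpa using ht⟩)
    (show x ∈ T ⊔ ⁅R, Y⁆ by rw [sup_comm, htop]; exact hx)
  exact mem_of_pow_pPow_mem hxc hk

/-- Standing hypotheses: G a finite group, S a Sylow p-subgroup, Q a nontrivial large p-subgroup of G contained in S, M a subgroup containing S with the basic property (M ∈ 𝔐_G(S)); Y_M the largest p-reduced normal subgroup of M and M† = M·C_G(Y_M). Suppose Y_M is char-p-tall and asymmetric in G and H ∈ ℌ_G(O_p(M)). Then every Sylow p-subgroup of H ∩ M† is a Sylow p-subgroup of H; O_p(H) normalizes O_p(M) and Y_M; O^p(H) = [O^p(H), Y_M] and H = O^p(H)·O_p(M); O^p(H)·Y_M is the normal closure of Y_M in H;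 and H is the normal closure of O_p(M) in H. Here O^p(H) is the subgroup generated by the elements of H of order prime to p. -/
theorem result {G : Type*} [Group G] [Finite G] {p : ℕ} [Fact p.Prime] (S : Sylow p G) (Q : Subgroup G) (hQp : IsPGroup p ↥Q) (hQ1 : Q ≠ ⊥) (hQS : Q ≤ (S : Subgroup G)) (hQ : Cfsg.IsLarge Q) (M : Subgroup G) (hSM : (S : Subgroup G) ≤ M) (hM : Cfsg.IsInFrakM p M) (htall : Cfsg.IsCharPTall p (Cfsg.largestPReducedOf p M)) (hasym : ¬ Cfsg.IsSymmetricIn (Cfsg.largestPReducedOf p M)) (H : Subgroup G) (hH : Cfsg.IsInFrakH p M H) (R : Subgroup G) (hR : R = (Cfsg.pResidual p ↥H).map H.subtype) : (∀ T : Sylow p ↥(H ⊓ (M ⊔ Subgroup.centralizer (((Cfsg.largestPReducedOf p M) : Subgroup G) : Set G))), ∃ P : Sylow p ↥H, ((P : Subgroup ↥H).map H.subtype) = (T : Subgroup ↥(H ⊓ (M ⊔ Subgroup.centralizer (((Cfsg.largestPReducedOf p M) : Subgroup G) : Set G)))).map (H ⊓ (M ⊔ Subgroup.centralizer (((Cfsg.largestPReducedOf p M) : Subgroup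 G) : Set G))).subtype) ∧ Cfsg.pCoreOf p H ≤ Subgroup.normalizer (((Cfsg.pCoreOf p M) : Subgroup G) : Set G) ⊓ Subgroup.normalizer (((Cfsg.largestPReducedOf p M) : Subgroup G) : Set G) ∧ ⁅R, (Cfsg.largestPReducedOf p M)⁆ = R ∧ R ⊔ (Cfsg.pCoreOf p M) = H ∧ R ⊔ (Cfsg.largestPReducedOf p M) = (Subgroup.normalClosure ((((Cfsg.largestPReducedOf p M)).subgroupOf H : Subgroup ↥H) : Set ↥H)).map H.subtype ∧ (Subgroup.normalClosure ((((Cfsg.pCoreOf p M)).subgroupOf H : Subgroup ↥H) : Set ↥H)).map H.subtype = H := by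
  have hpar := parabolicCharacteristic_of_large hQ hQp hQ1
  have hwc := isWeaklyClosed_pCoreOf hpar hSM hM hasym
  set Y := Cfsg.largestPReducedOf p M with hY
  set T := Cfsg.pCoreOf p M with hT
  set D := M ⊔ centralizer (Y : Set G) with hD
  have hTH : T ≤ H := hH.2.1
  have hYT : Y ≤ T := largestPReducedOf_le_pCoreOf M
  have hYH : Y ≤ H := hYT.trans hTH
  have hgen := closureIn_pCoreOf_eq hH
  have hTY : T ≤ normalizer (Y : Set G) := (pCoreOf_le M).trans (largestPReducedOf_le_normalizer M)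
  have hU := pCoreOf_le_normalizer_of_wc hwc hTH
  have hRT : R ⊔ T = H := hR ▸ pResidualMap_sup_eq hTH hgen
  have hRH : R ≤ H := hR ▸ pResidualMap_le H
  have hHR : H ≤ normalizer (R : Set G) :=
    hR ▸ le_normalizer.trans (pResidualMap_le_normalizer H)
  have hR0n : H ≤ normalizer ((⁅R, Y⁆ : Subgroup G) : Set G) := hRT.ge.trans (sup_le
    (le_sup_left.trans (CfsgLib.CoprimeAction.sup_le_normalizer_commutator Y R))
    (le_normalizer_commutator' (hTH.trans hHR) hTY))
  have hR0R : ⁅R, Y⁆ ≤ R := CfsgLib.CoprimeAction.commutator_le_left (hYH.trans hHR)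
  have hclose : closureIn Y H = R ⊔ Y := by
    refine closureIn_eq hYH le_sup_right ?_ fun N hYN hHN => sup_le ?_ hYN
    · refine hRT.ge.trans (sup_le (le_sup_left.trans Subgroup.le_normalizer) ?_)
      exact (le_inf (hTH.trans hHR) hTY).trans (normalizer_inf_normalizer_le_normalizer_sup R Y)
    · have hXY : R ≤ normalizer (N : Set G) := hRH.trans hHN
      have h0 : ⁅R, Y⁆ ≤ N := Subgroup.commutator_le.2 fun r hr y hy => by
        rw [commutatorElement_def]
        exact mul_mem ((Subgroup.mem_normalizer_iff.1 (hXY hr) y).1 (hYN hy)) (inv_mem (hYN hy))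
      by_contra hne
      refine hne (le_trans (le_of_eq ?_) h0)
      exact (residual_commutator_eq hH.2.2.1 hH.2.2.2 hYT hTH hTY hR hRT hR0n hR0R hYH (isPGroup_pCoreOf M)).symm
  refine ⟨fun T' => ?_, le_inf hU (hU.trans (normalizer_pCoreOf_le_normalizer hSM hM)),
    residual_commutator_eq hH.2.2.1 hH.2.2.2 hYT hTH hTY hR hRT hR0n hR0R hYH (isPGroup_pCoreOf M), hRT, hclose.symm, hgen⟩
  obtain ⟨P, hTP, hPN⟩ := coprime_relIndex_normalizer_of_wc hwc hTH
  obtain ⟨hPH, hPp, hPi⟩ := sylow_map_props H P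
  obtain ⟨hT'K, hT'p, hT'i⟩ := sylow_map_props (H ⊓ D) T'
  have hPK := le_inf hPH (hPN.trans (normalizer_pCoreOf_le_dag hpar hSM hM))
  obtain ⟨k, hk, hkP⟩ := exists_conj_eq hPK hT'K hPp hT'p
    (coprime_relIndex_of_le hPK inf_le_left hPi) hT'i
  exact exists_sylow_map_eq (hT'K.trans inf_le_left) hT'p
    (by rw [← hkP, relIndex_map_conj (show k ∈ H from hk.1)]; exact hPi)

end Cfsg.Agent.S2853
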