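import Cfsg.Statements.S2854
import Cfsg.Agent.Lib.LargeSubgroups.FrakH
-- import your own Cfsg.Agent.* helpers here

set_option autoImplicit false
open Cfsg

namespace Cfsg.Agent.S2854

open Subgroup CfsgLib.FFModules CfsgLib.LargeSubgroups

/-- Standing hypotheses: G a finite group, S a Sylow p-subgroup, Q a nontrivial large p-subgroup of G contained in S, M a subgroup containing S with the basic property (M ∈ 𝔐_G(S)); Y_M the largest p-reduced normal subgroup of M and M† = M·C_G(Y_M). Suppose Y_M is asymmetric in G, H ∈ ℌ_G(O_p(M)), and H ≤ N_G(gQg⁻¹) for some g ∈ G. Then gQg⁻¹ ≤ O_p(H·gQg⁻¹) ≤ N_G(O_p(M)) ≤ N_G(Y_M) = M†; H is normal in H·gQg⁻¹ with O^p(H) = O^p(H·gQg⁻¹); and H·gQg⁻¹ is p-irreducible. -/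
theorem result {G : Type*} [Group G] [Finite G] {p : ℕ} [Fact p.Prime] (S : Sylow p G) (Q : Subgroup G) (hQp : IsPGroup p ↥Q) (hQ1 : Q ≠ ⊥) (hQS : Q ≤ (S : Subgroup G)) (hQ : Cfsg.IsLarge Q) (M : Subgroup G) (hSM : (S : Subgroup G) ≤ M) (hM : Cfsg.IsInFrakM p M) (hasym : ¬ Cfsg.IsSymmetricIn (Cfsg.largestPReducedOf p M)) (H : Subgroup G) (hH : Cfsg.IsInFrakH p M H) (g : G) (hHQ : H ≤ Subgroup.normalizer ((((Q : Subgroup G).map (MulAut.conj (g : G)).toMonoidHom) : Subgroup G) : Set G)) : ((Q : Subgroup G).map (MulAut.conj (g : G)).toMonoidHom) ≤ Cfsg.pCoreOf p (H ⊔ ((Q : Subgroup G).map (MulAut.conj (g : G)).toMonoidHom)) ∧ Cfsg.pCoreOf p (H ⊔ ((Q : Subgroup G).map (MulAut.conj (g : G)).toMonoidHom)) ≤ Subgroup.normalizer (((Cfsg.pCoreOf p M) : Subgroup G) : Set G) ∧ Subgroup.normalizer (((Cfsg.pCoreOf p M) : Subgroup G) : Set G) ≤ Subgroup.normalizer (((Cfsg.largestPReducedOf p M) : Subgroup G) : Set G) ∧ Subgroup.normalizer (((Cfsg.largestPReducedOf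 p M) : Subgroup G) : Set G) = (M ⊔ Subgroup.centralizer (((Cfsg.largestPReducedOf p M) : Subgroup G) : Set G)) ∧ (H.subgroupOf (H ⊔ ((Q : Subgroup G).map (MulAut.conj (g : G)).toMonoidHom))).Normal ∧ (Cfsg.pResidual p ↥H).map H.subtype = (Cfsg.pResidual p ↥(H ⊔ ((Q : Subgroup G).map (MulAut.conj (g : G)).toMonoidHom))).map (H ⊔ ((Q : Subgroup G).map (MulAut.conj (g : G)).toMonoidHom)).subtype ∧ Cfsg.IsPIrreducible p ↥(H ⊔ ((Q : Subgroup G).map (MulAut.conj (g : G)).toMonoidHom)) := by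
  have hpar := parabolicCharacteristic_of_large hQ hQp hQ1
  have hwc := isWeaklyClosed_pCoreOf hpar hSM hM hasym
  set Y := Cfsg.largestPReducedOf p M with hY
  set T := Cfsg.pCoreOf p M with hT
  set P := Q.map (MulAut.conj g).toMonoidHom with hP
  set X := H ⊔ P with hX
  set U := Cfsg.pCoreOf p X with hUdef
  set U₁ := Cfsg.pCoreOf p H with hU1
  have hPp : IsPGroup p P := hQp.map _
  have hTp : IsPGroup p T := isPGroup_pCoreOf M
  have hTH : T ≤ H := hH.2.1
  have hYH : Y ≤ H := (largestPReducedOf_le_pCoreOf M).trans hTH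
  have hTX : T ≤ X := hTH.trans le_sup_left
  have hXP : X ≤ normalizer (P : Set G) := sup_le hHQ Subgroup.le_normalizer
  have hPU : P ≤ U := le_pCoreOf le_sup_right hXP hPp
  have hUT : U ≤ normalizer (T : Set G) := pCoreOf_le_normalizer_of_wc hwc hTX
  -- `H` is generated by conjugates of `T`, each normalised by `P`
  have hPH : P ≤ normalizer (H : Set G) := by
    have hK : H = ⨆ h : H, T.map (MulAut.conj (h : G)).toMonoidHom := by
      refine le_antisymm ((closureIn_pCoreOf_eq hH).ge.trans (closureIn_le_of ?_ ?_))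
        (iSup_le fun h => (map_mono hTH).trans (map_conj_eq_self (Subgroup.le_normalizer h.2)).le)
      · refine le_trans ?_ (le_iSup _ (1 : H))
        rw [OneMemClass.coe_one, map_conj_one]
      · refine le_normalizer_of_conj_le fun a ha => ?_
        rw [Subgroup.map_iSup]
        refine iSup_le fun k => ?_
        rw [← map_conj_mul]
        exact le_iSup (fun h : H => T.map (MulAut.conj (h : G)).toMonoidHom) ⟨a * k, mul_mem ha k.2⟩
    refine le_normalizer_of_conj_le fun x hx => ?_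
    conv_lhs => rw [hK]
    rw [Subgroup.map_iSup]
    refine iSup_le fun k => ?_
    have : P ≤ normalizer ((T.map (MulAut.conj (k : G)).toMonoidHom : Subgroup G) : Set G) :=
      (map_conj_eq_self (hHQ k.2)).ge.trans (map_conj_le_normalizer (hPU.trans hUT) _)
    rw [map_conj_eq_self (this hx)]
    exact (map_mono hTH).trans (map_conj_eq_self (Subgroup.le_normalizer k.2)).le
  have hXH : X ≤ normalizer (H : Set G) := sup_le Subgroup.le_normalizer hPH
  have hU1U : U₁ ≤ U := pCoreOf_le_pCoreOf le_sup_left hXH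
  have hUH : U ⊓ H ≤ U₁ := le_pCoreOf inf_le_right
    (le_normalizer_inf_of (le_sup_left.trans (le_normalizer_pCoreOf X)) Subgroup.le_normalizer)
    (isPGroup_pCoreOf X).to_inf_left
  have hres : ∀ x ∈ X, (orderOf x).Coprime p → x ∈ H := by
    intro x hx hxc
    obtain ⟨k, hk⟩ := exists_pow_mem_sup (p := p) (C := H) (D := P) (E := H) hPH Subgroup.le_normalizer
      (fun z hz => (exists_pPow_eq_one hPp hz).imp fun k hk => by rw [hk]; exact one_mem _)
      (fun z hz => ⟨0, by simpa using hz⟩) (show x ∈ P ⊔ H by rw [sup_comm]; exact hx)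
    exact mem_of_pow_pPow_mem hxc hk
  refine ⟨hPU, hUT, normalizer_pCoreOf_le_normalizer hSM hM,
    normalizer_largestPReducedOf_eq hpar hSM hM,
    normal_subgroupOf_of_le_normalizer hXH,
    le_antisymm (pResidualMap_mono le_sup_left)
      (pResidualMap_le_iff.2 fun x hx hxc => mem_pResidualMap (hres x hx hxc) hxc), ?_, ?_⟩
  · intro hcl
    obtain ⟨P₀, hP₀⟩ := ((isPGroup_subgroupOf hTX).2 hTp).exists_le_sylow
    haveI := hcl P₀
    have hTU : T ≤ U := fun t ht => ⟨⟨t, hTX ht⟩, le_pCore inferInstance P₀.2 (hP₀ ht), rfl⟩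
    exact hH.2.2.1 ((le_inf ((largestPReducedOf_le_pCoreOf M).trans hTU) hYH).trans hUH)
  intro N hN hNc
  rw [pResidual_le_iff]
  intro x hxc
  set N₀ := N.map X.subtype with hN0
  suffices h : (x : G) ∈ N₀ by
    obtain ⟨z, hz, hzx⟩ := h
    rwa [← Subtype.ext hzx]
  have hN0X : N₀ ≤ X := map_subtype_le N
  have hXN0 : X ≤ normalizer (N₀ : Set G) := by
    rw [← normal_subgroupOf_iff_le_normalizer hN0X,
      show N₀.subgroupOf X = N from comap_map_eq_self_of_injective X.subtype_injective N]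
    exact hN
  set N₁ := (N₀ ⊔ U) ⊓ H with hN1
  have hN₁H : N₁ ≤ H := inf_le_right
  have hXU : X ≤ normalizer (U : Set G) := le_normalizer_pCoreOf X
  have hHN₁ : H ≤ normalizer (N₁ : Set G) := le_normalizer_inf_of
    ((le_inf (le_sup_left.trans hXN0) (le_sup_left.trans hXU)).trans
      (normalizer_inf_normalizer_le_normalizer_sup N₀ U)) Subgroup.le_normalizer
  have hxc' : (orderOf (x : G)).Coprime p := by rwa [Subgroup.orderOf_coe]
  have hxH : (x : G) ∈ H := hres x x.2 hxc'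
  rcases eq_or_lt_of_le (sup_le hN₁H hTH : N₁ ⊔ T ≤ H) with hEq | hlt
  · obtain ⟨k, hk⟩ := exists_pow_mem_sup (p := p) (C := N₁) (D := T) (E := N₁)
      (hTH.trans hHN₁) Subgroup.le_normalizer
      (fun z hz => (exists_pPow_eq_one hTp hz).imp fun k hk => by rw [hk]; exact one_mem _)
      (fun z hz => ⟨0, by simpa using hz⟩) (show (x : G) ∈ T ⊔ N₁ by rw [sup_comm, hEq]; exact hxH)
    have h1 : (x : G) ∈ N₀ ⊔ U := (mem_of_pow_pPow_mem hxc' hk).1
    obtain ⟨j, hj⟩ := exists_pow_mem_sup (p := p) (C := N₀) (D := U) (E := N₀)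
      ((pCoreOf_le X).trans hXN0) Subgroup.le_normalizer
      (fun z hz => (exists_pPow_eq_one (isPGroup_pCoreOf X) hz).imp fun k hk => by
        rw [hk]; exact one_mem _)
      (fun z hz => ⟨0, by simpa using hz⟩) (show (x : G) ∈ U ⊔ N₀ by rw [sup_comm]; exact h1)
    exact mem_of_pow_pPow_mem hxc' hj
  -- otherwise `N` would be `p`-closed
  exfalso
  apply hNc
  have hN₁1 : Cfsg.pCoreOf p N₁ ≤ U₁ := pCoreOf_le_pCoreOf hN₁H hHN₁
  have hYZ : Y ≤ Cfsg.pCoreOf p (N₁ ⊔ T) := hH.2.2.2 _ le_sup_right hlt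
  have hHU1 : H ≤ normalizer (U₁ : Set G) := le_normalizer_pCoreOf H
  let Z : Subgroup G :=
    { carrier := {h | h ∈ H ∧ ∀ n ∈ N₁, n * h * n⁻¹ * h⁻¹ ∈ U₁}
      one_mem' := ⟨one_mem _, fun n _ => by simp⟩
      mul_mem' := by
        rintro a b ⟨ha, ha'⟩ ⟨hb, hb'⟩
        refine ⟨mul_mem ha hb, fun n hn => ?_⟩
        rw [show n * (a * b) * n⁻¹ * (a * b)⁻¹ =
          (n * a * n⁻¹ * a⁻¹) * (a * (n * b * n⁻¹ * b⁻¹) * a⁻¹) by group]
        exact mul_mem (ha' n hn) ((Subgroup.mem_normalizer_iff.1 (hHU1 ha) _).1 (hb' n hn))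
      inv_mem' := by
        rintro a ⟨ha, ha'⟩
        refine ⟨inv_mem ha, fun n hn => ?_⟩
        have := (Subgroup.mem_normalizer_iff.1 (hHU1 (inv_mem ha)) _).1 (inv_mem (ha' n hn))
        simpa [mul_assoc] using this }
  set K := closureIn Y H with hK
  have hKZ : K ≤ Z := by
    refine closureIn_le_of (fun y hy => ⟨hYH hy, fun n hn => hN₁1 (le_pCoreOf inf_le_right
      (le_normalizer_inf_of (le_sup_left.trans (le_normalizer_pCoreOf (N₁ ⊔ T))) Subgroup.le_normalizer)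
      (isPGroup_pCoreOf (N₁ ⊔ T)).to_inf_left ⟨?_, ?_⟩)⟩) ?_
    · exact (Cfsg.pCoreOf p (N₁ ⊔ T)).mul_mem ((Subgroup.mem_normalizer_iff.1
        (le_normalizer_pCoreOf (N₁ ⊔ T) (mem_sup_left hn)) y).1 (hYZ hy))
        ((Cfsg.pCoreOf p (N₁ ⊔ T)).inv_mem (hYZ hy))
    · rw [show n * y * n⁻¹ * y⁻¹ = n * (y * n⁻¹ * y⁻¹) by group]
      exact N₁.mul_mem hn ((Subgroup.mem_normalizer_iff.1 (hHN₁ (hYH hy)) _).1 (N₁.inv_mem hn))
    · refine le_normalizer_of_conj_le fun l hl => ?_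
      rintro _ ⟨h, ⟨hh, hh'⟩, rfl⟩
      refine ⟨mul_mem (mul_mem hl hh) (inv_mem hl), fun n hn => ?_⟩
      show n * (l * h * l⁻¹) * n⁻¹ * (l * h * l⁻¹)⁻¹ ∈ U₁
      have hb : l⁻¹ * n * l ∈ N₁ := by
        simpa using (Subgroup.mem_normalizer_iff.1 (hHN₁ (inv_mem hl)) n).1 hn
      rw [show n * (l * h * l⁻¹) * n⁻¹ * (l * h * l⁻¹)⁻¹ =
        l * ((l⁻¹ * n * l) * h * (l⁻¹ * n * l)⁻¹ * h⁻¹) * l⁻¹ by group]
      exact (Subgroup.mem_normalizer_iff.1 (hHU1 hl) _).1 (hh' _ hb)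
  have hKT : K ⊔ T = H := by
    refine (eq_or_lt_of_le (sup_le (closureIn_le Y H) hTH)).resolve_right fun hl => hH.2.2.1 ?_
    refine (le_inf (hH.2.2.2 _ le_sup_right hl) (le_closureIn hYH)).trans
      ((le_pCoreOf inf_le_right (le_normalizer_inf_of
        (le_sup_left.trans (le_normalizer_pCoreOf (K ⊔ T))) Subgroup.le_normalizer)
        (isPGroup_pCoreOf (K ⊔ T)).to_inf_left).trans
        (pCoreOf_le_pCoreOf (closureIn_le Y H) (le_normalizer_closureIn Y H)))
  have hcent : ∀ a ∈ N₁, (orderOf a).Coprime p → ∀ b ∈ N₁, a * b * a⁻¹ * b⁻¹ ∈ U₁ ⊓ N₁ := by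
    intro a ha hac b hb
    obtain ⟨k, hk⟩ := exists_pow_mem_sup (p := p) (C := K) (D := T) (E := K)
      (hTH.trans (le_normalizer_closureIn Y H)) Subgroup.le_normalizer
      (fun z hz => (exists_pPow_eq_one hTp hz).imp fun k hk => by rw [hk]; exact one_mem _)
      (fun z hz => ⟨0, by simpa using hz⟩) (show a ∈ T ⊔ K by rw [sup_comm, hKT]; exact hN₁H ha)
    refine ⟨?_, N₁.mul_mem (N₁.mul_mem (N₁.mul_mem ha hb) (N₁.inv_mem ha)) (N₁.inv_mem hb)⟩
    have := U₁.inv_mem ((hKZ (mem_of_pow_pPow_mem hac hk)).2 b hb)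
    simpa [mul_assoc] using this
  have hpsub : ∀ A : Subgroup G, IsPGroup p A → A ≤ N₁ → A ≤ U := fun A hA hAN =>
    ((le_pCoreOf_of_coprime_central inf_le_right
      (le_normalizer_inf_of (hN₁H.trans hHU1) Subgroup.le_normalizer)
      (isPGroup_pCoreOf H).to_inf_left hcent hA hAN).trans hN₁1).trans hU1U
  intro P₀
  set Pg := ((P₀ : Subgroup N).map N.subtype).map X.subtype with hPg
  have hPgp : IsPGroup p Pg := (P₀.2.map _).map _
  have hPgN : Pg ≤ N₀ := map_mono (map_subtype_le _)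
  have hPgU : Pg ≤ U := by
    intro z hz
    have hzHU : z ∈ H ⊔ U := sup_le le_sup_left (hPU.trans le_sup_right) ((hPgN.trans hN0X) hz)
    rw [← SetLike.mem_coe, coe_mul_of_left_le_normalizer_right H U (le_sup_left.trans hXU)] at hzHU
    obtain ⟨h, hh, u, hu, rfl⟩ := hzHU
    have h1 : h ∈ Pg ⊔ U := by
      have := (Pg ⊔ U).mul_mem (mem_sup_left (T := U) hz) (inv_mem (mem_sup_right (S := Pg) hu))
      simpa using this
    exact mul_mem (hpsub ((Pg ⊔ U) ⊓ H)
      (IsPGroup.to_sup_of_normal_right' hPgp (isPGroup_pCoreOf X) ((hPgN.trans hN0X).trans hXU)).to_inf_left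
      (inf_le_inf_right _ (sup_le_sup_right hPgN U)) ⟨h1, hh⟩) hu
  set V := (U.subgroupOf X).subgroupOf N with hV
  haveI : (U.subgroupOf X).Normal := normal_subgroupOf_of_le_normalizer hXU
  have hle : (P₀ : Subgroup N) ≤ V := fun z hz =>
    mem_subgroupOf.2 (mem_subgroupOf.2 (hPgU (mem_map_of_mem _ (mem_map_of_mem _ hz))))
  rw [← P₀.3 (IsPGroup.comap_subtype (IsPGroup.comap_subtype (isPGroup_pCoreOf X))) hle]
  exact Subgroup.Normal.comap (by assumption) _

end Cfsg.Agent.S2854
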