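import Cfsg.Statements.S2861
import Cfsg.Agent.Lib.LargeSubgroups.FrakLPair
-- import your own Cfsg.Agent.* helpers here

set_option autoImplicit false
open Cfsg

namespace Cfsg.Agent.S2861

/-- Standing hypotheses: G a finite group, S a Sylow p-subgroup, Q a nontrivial large p-subgroup of G contained in S, M a subgroup containing S with the basic property (M ∈ 𝔐_G(S)); Y_M the largest p-reduced normal subgroup of M and M† = M·C_G(Y_M). Let L ∈ 𝔏_G(Y_M) (L ∈ 𝔏_G(Y_M): Y_M ≤ L; O_p(L) is the normal closure in L of Y_M ∩ O_p(L) and normalizes Y_M; L is Y_M-minimal of characteristic p with N_L(Y_M) its unique maximal subgroup over Y_M; and L/O_p(L) ≅ SL₂(q) with q = |Y_M : Y_M ∩ O_p(L)|, or p = 2 and L/O_p(L) is a Suzuki group Sz(q) or dihedral of order 2r, r an odd prime) and A = O_p(L). Then Y_M·A/A is the unique nontrivial elementary abelian normal p-subgroup of N_L(Y_M)/A. -/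
theorem result {G : Type*} [Group G] [Finite G] {p : ℕ} [Fact p.Prime] (S : Sylow p G) (Q : Subgroup G) (hQp : IsPGroup p ↥Q) (hQ1 : Q ≠ ⊥) (hQS : Q ≤ (S : Subgroup G)) (hQ : Cfsg.IsLarge Q) (M : Subgroup G) (hSM : (S : Subgroup G) ≤ M) (hM : Cfsg.IsInFrakM p M) (L : Subgroup G) (hL : Cfsg.IsInFrakL p M L) (NL : Subgroup G) (hNL : NL = L ⊓ Subgroup.normalizer (((Cfsg.largestPReducedOf p M) : Subgroup G) : Set G)) [hn : (((Cfsg.pCoreOf p L)).subgroupOf NL).Normal] : let Ybar : Subgroup (↥NL ⧸ ((Cfsg.pCoreOf p L)).subgroupOf NL) := (((Cfsg.largestPReducedOf p M)).subgroupOf NL).map (QuotientGroup.mk' (((Cfsg.pCoreOf p L)).subgroupOf NL)); Ybar ≠ ⊥ ∧ Ybar.Normal ∧ Cfsg.IsElementaryAbelian p Ybar ∧ ∀ (V : Subgroup (↥NL ⧸ ((Cfsg.pCoreOf p L)).subgroupOf NL)), V.Normal → Cfsg.IsElementaryAbelian p V → V ≠ ⊥ → V = Ybar := by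
  intro Ybar
  haveI : (Cfsg.pCore p ↥L).Normal := CfsgLib.FFModules.normal_pCore
  have hR := CfsgLib.LargeSubgroups.rankOnePair_of_frakL hL
  have hYL := hL.1
  have hNLle : NL ≤ L := hNL.le.trans inf_le_left
  have hYN : Cfsg.largestPReducedOf p M ≤ NL := by
    rw [hNL]; exact le_inf hYL Subgroup.le_normalizer
  set π := QuotientGroup.mk' (Cfsg.pCore p ↥L) with hπ
  set π' := QuotientGroup.mk' ((Cfsg.pCoreOf p L).subgroupOf NL) with hπ'
  set φ := π.comp (Subgroup.inclusion hNLle) with hφ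
  have hker : φ.ker = (Cfsg.pCoreOf p L).subgroupOf NL := by
    ext x
    rw [hφ, MonoidHom.mem_ker, MonoidHom.comp_apply, hπ, QuotientGroup.mk'_apply, QuotientGroup.eq_one_iff,
      ← CfsgLib.LargeSubgroups.mem_pCore_iff_pCoreOf, Subgroup.mem_subgroupOf]
    rfl
  set ψ := QuotientGroup.lift ((Cfsg.pCoreOf p L).subgroupOf NL) φ hker.ge with hψ
  have hψmk : ∀ x, ψ (π' x) = φ x := fun x => rfl
  have hinj : Function.Injective ψ := by
    refine (injective_iff_map_eq_one ψ).2 fun q hq => ?_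
    obtain ⟨x, rfl⟩ := QuotientGroup.mk'_surjective _ q
    rw [hψmk] at hq
    exact (QuotientGroup.eq_one_iff x).2 (hker.le hq)
  set P := ((Cfsg.largestPReducedOf p M).subgroupOf L).map π with hP
  have hYbar : Ybar.map ψ = P := by
    ext q
    constructor
    · rintro ⟨_, ⟨x, hx, rfl⟩, rfl⟩
      exact ⟨Subgroup.inclusion hNLle x, hx, (hψmk x).symm⟩
    · rintro ⟨x, hx, rfl⟩
      exact ⟨π' ⟨x, hYN hx⟩, ⟨_, hx, rfl⟩, hψmk _⟩
  have hrange : ψ.range = Subgroup.normalizer (P : Set (↥L ⧸ Cfsg.pCore p ↥L)) := by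
    rw [← CfsgLib.LargeSubgroups.image_normalizer_eq hL, ← hNL]
    ext q
    constructor
    · rintro ⟨q', rfl⟩
      obtain ⟨x, rfl⟩ := QuotientGroup.mk'_surjective _ q'
      exact ⟨Subgroup.inclusion hNLle x, x.2, (hψmk x).symm⟩
    · rintro ⟨x, hx, rfl⟩
      exact ⟨π' ⟨x, hx⟩, hψmk _⟩
  have hYn : ((Cfsg.largestPReducedOf p M).subgroupOf NL).Normal :=
    (Subgroup.normal_subgroupOf_iff_le_normalizer hYN).2 (hNL.le.trans inf_le_right)
  have hYe : Cfsg.IsElementaryAbelian p ((Cfsg.largestPReducedOf p M).subgroupOf NL) := by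
    have h := (CfsgLib.FFModules.reducedIn_largestPReducedOf (p := p) M).elemAb
    refine ⟨⟨⟨fun a b => Subtype.ext (Subtype.ext ?_)⟩⟩, fun a ha => Subtype.ext (h.2 _ ha)⟩
    have := h.1
    show (a.1.1 * b.1.1 : G) = b.1.1 * a.1.1
    exact congrArg Subtype.val
      (mul_comm' (⟨a.1.1, a.2⟩ : (Cfsg.largestPReducedOf p M : Subgroup G)) ⟨b.1.1, b.2⟩)
  refine ⟨fun e => hR.ne_bot (by rw [← hYbar, e, Subgroup.map_bot]), hYn.map π'
    (QuotientGroup.mk'_surjective _), CfsgLib.LargeSubgroups.elemAb_map hYe π', fun V hVn hVe hV => ?_⟩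
  refine Subgroup.map_injective hinj (hYbar.symm ▸ hR.eq_of_normalized
    (CfsgLib.LargeSubgroups.elemAb_map hVe ψ) ?_ ((Subgroup.map_le_range ψ V).trans hrange.le) ?_)
  · rwa [Ne, Subgroup.map_eq_bot_iff_of_injective _ hinj]
  · rw [← hrange, MonoidHom.range_eq_map]
    exact (Subgroup.map_mono (le_of_eq (Subgroup.normalizer_eq_top (H := V)).symm)).trans
      (Subgroup.le_normalizer_map ψ)

end Cfsg.Agent.S2861
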