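import Cfsg.Statements.S2864
import Cfsg.Agent.Lib.LargeSubgroups.Closure
import Cfsg.Agent.Lib.LargeSubgroups.FrakM
import Cfsg.Agent.Lib.CoprimeAction.Basic
import Cfsg.Agent.Lib.PGroups.Frattini
import Cfsg.Agent.Lib.Cores.Basic
-- import your own Cfsg.Agent.* helpers here

set_option autoImplicit false
open Cfsg

namespace Cfsg.Agent.S2864

open Subgroup CfsgLib.FFModules CfsgLib.LargeSubgroups
open scoped commutatorElement

/-- Standing hypotheses: G a finite group, S a Sylow p-subgroup, Q a nontrivial large p-subgroup of G contained in S, M a subgroup containing S with the basic property (M ∈ 𝔐_G(S)); Y_M the largest p-reduced normal subgroup of M and M† = M·C_G(Y_M). Let I be a nontrivial normal p-subgroup of M and Y ≤ O_p(M†); let L be a subgroup of G containing Y and A a normal p-subgroup of L with I ≤ A ≤ M. If [Y, A] ≤ [I, A], then Y ≤ O_p(L). -/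
theorem result {G : Type*} [Group G] [Finite G] {p : ℕ} [Fact p.Prime] (S : Sylow p G) (Q : Subgroup G) (hQp : IsPGroup p ↥Q) (hQ1 : Q ≠ ⊥) (hQS : Q ≤ (S : Subgroup G)) (hQ : Cfsg.IsLarge Q) (M : Subgroup G) (hSM : (S : Subgroup G) ≤ M) (hM : Cfsg.IsInFrakM p M) (I : Subgroup G) (hI1 : I ≠ ⊥) (hIp : IsPGroup p ↥I) (hIM : I ≤ M ∧ M ≤ Subgroup.normalizer ((I : Subgroup G) : Set G)) (Y : Subgroup G) (hY : Y ≤ (Cfsg.pCoreOf p (M ⊔ Subgroup.centralizer (((Cfsg.largestPReducedOf p M) : Subgroup G) : Set G)))) (L : Subgroup G) (hYL : Y ≤ L) (A : Subgroup G) (hAp : IsPGroup p ↥A) (hAL : A ≤ L ∧ L ≤ Subgroup.normalizer ((A : Subgroup G) : Set G)) (hIA : I ≤ A) (hAM : A ≤ M) (hc : ⁅Y, A⁆ ≤ ⁅I, A⁆) : Y ≤ (Cfsg.pCoreOf p L) := by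
  have hpar := parabolicCharacteristic_of_large hQ hQp hQ1
  set Md := M ⊔ centralizer ((Cfsg.largestPReducedOf p M : Subgroup G) : Set G) with hMd
  set D := L ⊓ centralizer (A : Set G) with hD
  set B := Cfsg.pCoreOf p D with hB
  set Φ := (frattini ↥A).map A.subtype with hΦ
  have hDMd : D ≤ Md := by
    have := le_dag hpar hSM hM hIM.2 hIp hI1 le_rfl
    exact (inf_le_right.trans ((centralizer_le (SetLike.coe_subset_coe.2 hIA)).trans
      (centralizer_le_normalizer' I))).trans this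
  have hLD : L ≤ normalizer (D : Set G) :=
    le_normalizer_inf_of Subgroup.le_normalizer (hAL.2.trans (normalizer_le_normalizer_centralizer A))
  have hLB : L ≤ normalizer (B : Set G) := hLD.trans (normalizer_le_normalizer_pCoreOf D)
  have hLΦ : L ≤ normalizer (Φ : Set G) :=
    hAL.2.trans (CfsgLib.Cores.normalizer_le_normalizer_map_subtype A (frattini ↥A))
  have hLA : ∀ x ∈ L, ∀ a ∈ A, x * a * x⁻¹ ∈ A :=
    fun x hx a ha => (Subgroup.mem_normalizer_iff.1 (hAL.2 hx) a).1 ha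
  let K : Subgroup G :=
    { carrier := {x | x ∈ L ∧ (∀ a ∈ A, a⁻¹ * (x * a * x⁻¹) ∈ Φ) ∧
        ∀ d ∈ D, x * d * x⁻¹ * d⁻¹ ∈ B}
      one_mem' := ⟨one_mem _, fun a _ => by simp, fun d _ => by simp⟩
      mul_mem' := by
        rintro x y ⟨hx, hx1, hx2⟩ ⟨hy, hy1, hy2⟩
        refine ⟨mul_mem hx hy, fun a ha => ?_, fun d hd => ?_⟩
        · rw [show a⁻¹ * (x * y * a * (x * y)⁻¹) =
            (a⁻¹ * (x * a * x⁻¹)) * (x * (a⁻¹ * (y * a * y⁻¹)) * x⁻¹) by group]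
          exact mul_mem (hx1 a ha) ((Subgroup.mem_normalizer_iff.1 (hLΦ hx) _).1 (hy1 a ha))
        · rw [show x * y * d * (x * y)⁻¹ * d⁻¹ =
            (x * (y * d * y⁻¹ * d⁻¹) * x⁻¹) * (x * d * x⁻¹ * d⁻¹) by group]
          exact mul_mem ((Subgroup.mem_normalizer_iff.1 (hLB hx) _).1 (hy2 d hd)) (hx2 d hd)
      inv_mem' := by
        rintro x ⟨hx, hx1, hx2⟩
        refine ⟨inv_mem hx, fun a ha => ?_, fun d hd => ?_⟩
        · have := (Subgroup.mem_normalizer_iff.1 (hLΦ (inv_mem hx)) _).1 (inv_mem (hx1 a ha))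
          simpa [mul_assoc] using this
        · have := (Subgroup.mem_normalizer_iff.1 (hLB (inv_mem hx)) _).1 (inv_mem (hx2 d hd))
          simpa [mul_assoc] using this }
  have hKL : K ≤ L := fun x hx => hx.1
  have hLK : L ≤ normalizer (K : Set G) := by
    refine le_normalizer_of_conj_le fun l hl => ?_
    rintro _ ⟨x, ⟨hx, hx1, hx2⟩, rfl⟩
    refine ⟨mul_mem (mul_mem hl hx) (inv_mem hl), fun a ha => ?_, fun d hd => ?_⟩
    · show a⁻¹ * (l * x * l⁻¹ * a * (l * x * l⁻¹)⁻¹) ∈ Φ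
      have hb : l⁻¹ * a * l ∈ A := by simpa using hLA _ (inv_mem hl) a ha
      rw [show a⁻¹ * (l * x * l⁻¹ * a * (l * x * l⁻¹)⁻¹) =
        l * ((l⁻¹ * a * l)⁻¹ * (x * (l⁻¹ * a * l) * x⁻¹)) * l⁻¹ by group]
      exact (Subgroup.mem_normalizer_iff.1 (hLΦ hl) _).1 (hx1 _ hb)
    · show l * x * l⁻¹ * d * (l * x * l⁻¹)⁻¹ * d⁻¹ ∈ B
      have hb : l⁻¹ * d * l ∈ D := by
        simpa using (Subgroup.mem_normalizer_iff.1 (hLD (inv_mem hl)) d).1 hd
      rw [show l * x * l⁻¹ * d * (l * x * l⁻¹)⁻¹ * d⁻¹ =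
        l * (x * (l⁻¹ * d * l) * x⁻¹ * (l⁻¹ * d * l)⁻¹) * l⁻¹ by group]
      exact (Subgroup.mem_normalizer_iff.1 (hLB hl) _).1 (hx2 _ hb)
  have hBD : B ≤ D := pCoreOf_le D
  have hBK : B ≤ K := fun b hb => ⟨(hBD hb).1, fun a ha => by
      rw [show b * a * b⁻¹ = a from mul_inv_eq_iff_eq_mul.2 ((hBD hb).2 a ha).symm, inv_mul_cancel]
      exact one_mem _,
    fun d hd => by
      rw [show b * d * b⁻¹ * d⁻¹ = b * (d * b⁻¹ * d⁻¹) by group]
      exact mul_mem hb ((Subgroup.mem_normalizer_iff.1 (hLB hd.1) _).1 (inv_mem hb))⟩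
  have hAA : ⁅A, A⁆ ≤ Φ := by
    rw [← Subgroup.map_subtype_commutator, hΦ]
    exact map_mono (CfsgLib.PGroups.commutator_le_frattini hAp)
  have hYK : Y ≤ K := fun y hy => ⟨hYL hy, fun a ha => by
      rw [show a⁻¹ * (y * a * y⁻¹) = ⁅a⁻¹, y⁆ by rw [commutatorElement_def]; group]
      refine hAA ((Subgroup.commutator_mono hIA le_rfl) (hc ?_))
      rw [Subgroup.commutator_comm]
      exact Subgroup.commutator_mem_commutator (inv_mem ha) hy,
    fun d hd => by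
      have hn : D ≤ normalizer ((Cfsg.pCoreOf p Md ⊓ D : Subgroup G) : Set G) :=
        le_normalizer_inf_of (hDMd.trans (le_normalizer_pCoreOf Md)) Subgroup.le_normalizer
      refine le_pCoreOf inf_le_right hn (isPGroup_pCoreOf Md).to_inf_left ⟨?_, ?_⟩
      · rw [show y * d * y⁻¹ * d⁻¹ = y * (d * y⁻¹ * d⁻¹) by group]
        exact mul_mem (hY hy)
          ((Subgroup.mem_normalizer_iff.1 (le_normalizer_pCoreOf Md (hDMd hd)) _).1 (inv_mem (hY hy)))
      · exact D.mul_mem ((Subgroup.mem_normalizer_iff.1 (hLD (hYL hy)) d).1 hd) (D.inv_mem hd)⟩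
  refine le_trans ?_ (pCoreOf_le_pCoreOf hKL hLK)
  refine le_pCoreOf_of_coprime_central hBK (hKL.trans hLB) (isPGroup_pCoreOf D) (fun x hx hxc y hy => ?_)
    ((isPGroup_pCoreOf Md).to_le hY) hYK
  have hxD : x ∈ D := by
    refine ⟨hx.1, CfsgLib.CoprimeAction.le_centralizer_of_frattini (A := zpowers x)
      (zpowers_le.2 (hAL.2 hx.1)) ?_ ?_ (mem_zpowers x)⟩
    · rw [Nat.card_zpowers]
      obtain ⟨k, hk⟩ := IsPGroup.iff_card.1 (hAp.to_subgroup (frattini ↥A))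
      rw [hk]
      exact hxc.pow_right k
    · intro z hz a ha
      exact ((zpowers_le.2 hx : zpowers x ≤ K) hz).2.1 a ha
  have := inv_mem (hy.2.2 x hxD)
  simpa [mul_assoc] using this

end Cfsg.Agent.S2864
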