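import Cfsg.Statements.S2872
import Cfsg.Agent.Lib.PGroups.Basic
import Cfsg.Agent.Lib.StronglyPEmbedded.Helpers
import Mathlib.GroupTheory.Transfer
-- import your own Cfsg.Agent.* helpers here

set_option autoImplicit false
open Cfsg

namespace Cfsg.Agent.S2872

/-- Let S be a Sylow 2-subgroup of the finite group G. Then G has a proper normal subgroup of 2-power index (O²(G) ≠ G), or Ω₁(Z(S)) is contained in the Frattini subgroup of S, or N_G(S) acts nontrivially on Ω₁(Z(S)) by conjugation. -/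
theorem result {G : Type*} [Group G] [Finite G] (S : Sylow 2 G) : Cfsg.pResidual 2 G ≠ ⊤ ∨ Cfsg.omegaOne 2 ((S : Subgroup G) ⊓ Subgroup.centralizer ((S : Subgroup G) : Set G)) ≤ (frattini ↥(S : Subgroup G)).map (S : Subgroup G).subtype ∨ ∃ g ∈ Subgroup.normalizer ((S : Subgroup G) : Set G), ∃ z ∈ Cfsg.omegaOne 2 ((S : Subgroup G) ⊓ Subgroup.centralizer ((S : Subgroup G) : Set G)), g * z * g⁻¹ ≠ z := by
  haveI : Fact (Nat.Prime 2) := ⟨Nat.prime_two⟩
  set Z := Cfsg.omegaOne 2 ((S : Subgroup G) ⊓ Subgroup.centralizer ((S : Subgroup G) : Set G)) with hZ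
  set Φ := (frattini ↥(S : Subgroup G)).map (S : Subgroup G).subtype with hΦ
  refine or_iff_not_imp_left.2 fun hres => or_iff_not_imp_right.2 fun hact => ?_
  push Not at hres hact
  by_contra hle
  -- a central involution outside the Frattini subgroup
  obtain ⟨z, ⟨⟨hzS, hzc⟩, hz2⟩, hzΦ⟩ : ∃ z, (z ∈ (S : Subgroup G) ⊓ Subgroup.centralizer ((S : Subgroup G) : Set G) ∧ z ^ 2 = 1) ∧ z ∉ Φ := by
    by_contra hne
    push Not at hne
    exact hle ((Subgroup.closure_le _).2 fun z hz => hne z hz)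
  have hzN : ∀ g ∈ Subgroup.normalizer ((S : Subgroup G) : Set G), g * z * g⁻¹ = z := fun g hg =>
    hact g hg z (Subgroup.subset_closure ⟨⟨hzS, hzc⟩, hz2⟩)
  have hzz : z * z = 1 := by rw [← pow_two]; exact hz2
  have hzs : ∀ s ∈ (S : Subgroup G), s * z = z * s := Subgroup.mem_centralizer_iff.1 hzc
  obtain ⟨M, hMn, hMi, hzM⟩ : ∃ M : Subgroup ↥(S : Subgroup G), M.Normal ∧ M.index = 2 ∧ (⟨z, hzS⟩ : ↥(S : Subgroup G)) ∉ M := by
    by_contra hne
    push Not at hne
    refine hzΦ ⟨⟨z, hzS⟩, ?_, rfl⟩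
    rw [SetLike.mem_coe, frattini, Order.radical]
    refine Subgroup.mem_iInf.2 fun M => Subgroup.mem_iInf.2 fun (hM : IsCoatom M) => ?_
    obtain ⟨M', hMM', hn, hi, -⟩ := CfsgLib.PGroups.exists_le_index_prime S.2 hM.1
    have hM'top : M' ≠ ⊤ := fun e => by rw [e, Subgroup.index_top] at hi; norm_num at hi
    rcases hMM'.eq_or_lt with e | e
    · rw [e]; exact hne M' hn hi
    · exact absurd (hM.2 M' e) hM'top
  haveI := hMn
  set A := ↥(S : Subgroup G) ⧸ M with hA
  have hAc : Nat.card A = 2 := hMi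
  haveI : IsCyclic A := isCyclic_of_prime_card hAc
  letI : CommGroup A := IsCyclic.commGroup
  let φ : ↥(S : Subgroup G) →* A := QuotientGroup.mk' M
  have hA2 : ∀ a : A, a * a = 1 := fun a => by
    have h := pow_card_eq_one' (G := A) (x := a)
    rwa [hAc, pow_two] at h
  classical
  haveI := Fintype.ofFinite G
  haveI : Fintype A := Fintype.ofFinite A
  haveI : (S : Subgroup G).FiniteIndex := inferInstance
  let v : G →* A := MonoidHom.transfer φ
  have hv : v z = 1 := by
    have : Cfsg.pResidual 2 G ≤ v.ker := by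
      refine (Subgroup.closure_le _).2 fun g hg => ?_
      have h1 : orderOf (v g) ∣ 2 := (orderOf_dvd_natCard _).trans (dvd_of_eq hAc)
      exact orderOf_eq_one_iff.1 (Nat.eq_one_of_dvd_coprimes hg (orderOf_map_dvd v g) h1)
    rw [hres] at this
    exact this (Subgroup.mem_top z)
  -- the fixed cosets
  let X := {q : G ⧸ (S : Subgroup G) // z • q = q}
  haveI : Finite (G ⧸ (S : Subgroup G)) := inferInstance
  haveI := Fintype.ofFinite (G ⧸ (S : Subgroup G))
  have hmemX : ∀ q : X, q.1.out⁻¹ * z * q.1.out ∈ (S : Subgroup G) := by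
    rintro ⟨q, hq⟩
    have := hq
    rw [← QuotientGroup.out_eq' q] at this
    have h2 : ((z * q.out : G) : G ⧸ (S : Subgroup G)) = (q.out : G ⧸ (S : Subgroup G)) := this
    rw [eq_comm, QuotientGroup.eq, ← mul_assoc] at h2
    exact h2
  let h : X → A := fun q => φ ⟨_, hmemX q⟩
  -- `h` is computed with any representative
  have hrep : ∀ (q : X) (g : G) (hg : g⁻¹ * z * g ∈ (S : Subgroup G)),
      (g : G ⧸ (S : Subgroup G)) = q.1 → h q = φ ⟨_, hg⟩ := by
    intro q g hg e
    rw [← QuotientGroup.out_eq' q.1, eq_comm, QuotientGroup.eq] at e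
    have hs : (⟨g⁻¹ * z * g, hg⟩ : ↥(S : Subgroup G)) = ⟨_, e⟩⁻¹ * ⟨_, hmemX q⟩ * ⟨_, e⟩ := by
      refine Subtype.ext ?_
      simp only [Subgroup.coe_mul, Subgroup.coe_inv]
      group
    show φ _ = φ _
    have key : ∀ a b : A, b⁻¹ * a * b = a := fun a b => by
      rw [mul_comm b⁻¹ a, mul_assoc, inv_mul_cancel, mul_one]
    rw [hs, map_mul, map_mul, map_inv]
    exact (key _ _).symm
  -- the transfer is the product over the fixed cosets
  have hprod : v z = ∏ q : X, h q := by
    rw [show v z = _ from MonoidHom.transfer_eq_prod_quotient_orbitRel_zpowers_quot (ϕ := φ) z,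
      ← Finset.prod_filter_mul_prod_filter_not Finset.univ (fun c => z • Quotient.out c = Quotient.out c),
      Finset.prod_eq_one (s := Finset.univ.filter fun c => ¬ z • Quotient.out c = Quotient.out c) (fun c hc => ?_),
      mul_one]
    · refine Finset.prod_bij (fun c hc => ⟨c.out, (Finset.mem_filter.1 hc).2⟩) (fun _ _ => Finset.mem_univ _)
        (fun a _ b _ e => Quotient.out_inj.1 (congrArg Subtype.val e)) (fun q _ => ?_) (fun c hc => ?_)
      · have hout : (Quotient.mk (MulAction.orbitRel (Subgroup.zpowers z) (G ⧸ (S : Subgroup G))) q.1).out = q.1 := by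
          obtain ⟨⟨w, hw⟩, hwe⟩ := MulAction.orbitRel_apply.1 (Quotient.exact
            (Quotient.out_eq (Quotient.mk (MulAction.orbitRel (Subgroup.zpowers z) (G ⧸ (S : Subgroup G))) q.1)))
          rw [← hwe]
          show w • q.1 = q.1
          obtain ⟨i, rfl⟩ := Subgroup.mem_zpowers_iff.1 hw
          exact MulAction.mem_stabilizer_iff.1 ((MulAction.stabilizer G q.1).zpow_mem (MulAction.mem_stabilizer_iff.2 q.2) i)
        exact ⟨_, Finset.mem_filter.2 ⟨Finset.mem_univ _, by rw [hout]; exact q.2⟩, Subtype.ext hout⟩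
      · have hc2 : z • c.out = c.out := (Finset.mem_filter.1 hc).2
        have hp : Function.minimalPeriod (z • ·) c.out = 1 :=
          Function.minimalPeriod_eq_one_iff_isFixedPt.2 hc2
        refine congrArg φ (Subtype.ext ?_)
        simp [hp]
    · have hc2 : ¬ z • c.out = c.out := (Finset.mem_filter.1 hc).2
      have hd : Function.minimalPeriod (z • ·) c.out ∣ 2 := by
        refine Function.IsPeriodicPt.minimalPeriod_dvd ?_
        show (z • ·)^[2] c.out = c.out
        simp [← mul_smul, hzz]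
      rcases (Nat.dvd_prime Nat.prime_two).1 hd with hp | hp
      · exact absurd (Function.minimalPeriod_eq_one_iff_isFixedPt.1 hp) hc2
      · rw [← φ.map_one]
        refine congrArg φ (Subtype.ext ?_)
        simp [hp, hz2]
  -- `S` acts on the fixed cosets preserving `h`
  letI : MulAction ↥(S : Subgroup G) X :=
    { smul := fun s q => ⟨(s : G) • q.1, by rw [← mul_smul, ← hzs s s.2, mul_smul, q.2]⟩
      one_smul := fun q => Subtype.ext (one_smul G q.1)
      mul_smul := fun s t q => Subtype.ext (mul_smul (s : G) (t : G) q.1) }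
  have hhs : ∀ (s : ↥(S : Subgroup G)) (q : X), h (s • q) = h q := by
    intro s q
    have e : ((s : G) * q.1.out)⁻¹ * z * ((s : G) * q.1.out) = q.1.out⁻¹ * z * q.1.out := by
      calc ((s : G) * q.1.out)⁻¹ * z * ((s : G) * q.1.out)
          = q.1.out⁻¹ * (s : G)⁻¹ * (z * s) * q.1.out := by group
        _ = q.1.out⁻¹ * (s : G)⁻¹ * (s * z) * q.1.out := by rw [hzs s s.2]
        _ = _ := by group
    rw [hrep (s • q) ((s : G) * q.1.out) (e ▸ hmemX q) (by
      show ((s : G) * q.1.out : G ⧸ (S : Subgroup G)) = (s : G) • q.1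
      conv_rhs => rw [← QuotientGroup.out_eq' q.1]
      rfl)]
    exact congrArg φ (Subtype.ext e)
  have hfix : ∀ q : X, q ∈ MulAction.fixedPoints ↥(S : Subgroup G) X → h q = φ ⟨z, hzS⟩ := by
    intro q hq
    have hn : q.1.out ∈ Subgroup.normalizer ((S : Subgroup G) : Set G) := by
      refine inv_mem_iff.1 (CfsgLib.StronglyPEmbedded.mem_normalizer_of_conj_le fun s hs => ?_)
      have e : (s : G) • q.1 = q.1 := congrArg Subtype.val (hq ⟨s, hs⟩)
      rw [← QuotientGroup.out_eq' q.1] at e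
      have e2 : ((s * q.1.out : G) : G ⧸ (S : Subgroup G)) = (q.1.out : G ⧸ (S : Subgroup G)) := e
      rw [eq_comm, QuotientGroup.eq, ← mul_assoc] at e2
      simpa using e2
    refine congrArg φ (Subtype.ext ?_)
    show q.1.out⁻¹ * z * q.1.out = z
    have e3 := hzN _ hn
    calc q.1.out⁻¹ * z * q.1.out = q.1.out⁻¹ * (q.1.out * z * q.1.out⁻¹) * q.1.out := by rw [e3]
      _ = z := by group
  -- parity
  have hXodd : ¬ 2 ∣ Nat.card X := by
    intro hd
    have hz' : IsPGroup 2 ↥(Subgroup.zpowers z) := S.2.to_le (Subgroup.zpowers_le.2 hzS)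
    have := hz'.card_modEq_card_fixedPoints (G ⧸ (S : Subgroup G))
    have e : Nat.card (MulAction.fixedPoints ↥(Subgroup.zpowers z) (G ⧸ (S : Subgroup G))) = Nat.card X := by
      refine Nat.card_congr (Equiv.subtypeEquivRight fun q => ⟨fun hq => hq ⟨z, Subgroup.mem_zpowers z⟩, fun hq w => ?_⟩)
      exact MulAction.mem_stabilizer_iff.1 ((Subgroup.zpowers_le.2 (MulAction.mem_stabilizer_iff.2 hq) : Subgroup.zpowers z ≤ MulAction.stabilizer G q) w.2)
    rw [e, ← Subgroup.index_eq_card] at this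
    exact S.not_dvd_index ((Nat.ModEq.dvd_iff this dvd_rfl).2 hd)
  have hpar : ∀ a : A, a ≠ φ ⟨z, hzS⟩ → 2 ∣ Nat.card {q : X // h q = a} := by
    intro a ha
    letI : MulAction ↥(S : Subgroup G) {q : X // h q = a} :=
      { smul := fun s q => ⟨s • q.1, (hhs s q.1).trans q.2⟩
        one_smul := fun q => Subtype.ext (one_smul _ q.1)
        mul_smul := fun s t q => Subtype.ext (mul_smul s t q.1) }
    have hm := S.2.card_modEq_card_fixedPoints {q : X // h q = a}
    haveI : IsEmpty (MulAction.fixedPoints ↥(S : Subgroup G) {q : X // h q = a}) :=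
      ⟨fun q => ha (q.1.2 ▸ hfix q.1.1 fun s => congrArg Subtype.val (q.2 s))⟩
    rw [Nat.card_of_isEmpty (α := MulAction.fixedPoints ↥(S : Subgroup G) {q : X // h q = a})] at hm
    exact Nat.modEq_zero_iff_dvd.1 hm
  
  have hfin : ∏ q : X, h q = φ ⟨z, hzS⟩ := by
    rw [← Finset.prod_fiberwise Finset.univ h h,
      Finset.prod_eq_single (φ ⟨z, hzS⟩) (fun a _ ha => ?_) (fun h' => absurd (Finset.mem_univ _) h')]
    · rw [Finset.prod_congr rfl (fun q hq => (Finset.mem_filter.1 hq).2), Finset.prod_const]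
      set n := (Finset.univ.filter fun q => h q = φ ⟨z, hzS⟩).card
      have hn : ¬ 2 ∣ n := by
        intro hn
        refine hXodd ?_
        rw [Nat.card_eq_fintype_card, ← Finset.card_univ,
          ← Finset.card_filter_add_card_filter_not (s := Finset.univ) (fun q => h q = φ ⟨z, hzS⟩)]
        refine dvd_add hn ?_
        rw [Finset.card_eq_sum_card_fiberwise (f := h) (t := Finset.univ.erase (φ ⟨z, hzS⟩))
          (fun q hq => Finset.mem_coe.2 (Finset.mem_erase.2 ⟨(Finset.mem_filter.1 hq).2, Finset.mem_univ _⟩))]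
        refine Finset.dvd_sum fun a ha => ?_
        have ha' := (Finset.mem_erase.1 ha).1
        rw [Finset.filter_filter, Finset.filter_congr (q := fun q => h q = a)
          (fun q _ => ⟨And.right, fun e => ⟨e ▸ ha', e⟩⟩), ← Fintype.card_subtype, ← Nat.card_eq_fintype_card]
        exact hpar a ha'
      obtain ⟨j, hj⟩ := (Nat.odd_iff.2 (by omega) : Odd n)
      rw [hj, pow_succ, pow_mul, pow_two, hA2, one_pow, one_mul]
    · rw [Finset.prod_congr rfl (fun q hq => (Finset.mem_filter.1 hq).2), Finset.prod_const]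
      obtain ⟨j, hj⟩ := hpar a ha
      rw [← Fintype.card_subtype, ← Nat.card_eq_fintype_card, hj, pow_mul, pow_two, hA2, one_pow]
  exact hzM ((QuotientGroup.eq_one_iff (N := M) _).1 ((hfin.symm.trans (hprod.symm.trans hv) : φ ⟨z, hzS⟩ = 1)))

end Cfsg.Agent.S2872
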