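import Cfsg.Statements.S2874
import Cfsg.Agent.Lib.LargeSubgroups.AFourGLTwo
-- import your own Cfsg.Agent.* helpers here

set_option autoImplicit false
open Cfsg

namespace Cfsg.Agent.S2874

open CfsgLib.LargeSubgroups.AFour

/-- For k ≥ 2, any two subgroups of GL₂(ℤ/2ᵏℤ) (the automorphism group of the homocyclic group ℤ/2ᵏ × ℤ/2ᵏ) that are isomorphic to the alternating group of degree 4 are conjugate. -/
theorem result (k : ℕ) (hk : 2 ≤ k) (H₁ H₂ : Subgroup (GL (Fin 2) (ZMod (2 ^ k)))) (h₁ : Nonempty (↥H₁ ≃* ↥(alternatingGroup (Fin 4)))) (h₂ : Nonempty (↥H₂ ≃* ↥(alternatingGroup (Fin 4)))) : ∃ g : GL (Fin 2) (ZMod (2 ^ k)), H₂ = H₁.map (MulAut.conj g).toMonoidHom := by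
  obtain ⟨e₁⟩ := h₁
  obtain ⟨e₂⟩ := h₂
  have hk0 : k ≠ 0 := by omega
  obtain ⟨g₁, s, hs, hm₁⟩ := exists_conj_sig hk0 e₁
  obtain ⟨g₂, s', hs', hm₂⟩ := exists_conj_sig hk0 e₂
  obtain rfl : s' = s := Units.ext (hs'.trans hs.symm)
  let f₁ := (H₁.equivMapOfInjective (MulAut.conj g₁⁻¹).toMonoidHom (MulAut.conj g₁⁻¹).injective).symm.trans e₁
  let f₂ := (H₂.equivMapOfInjective (MulAut.conj g₂⁻¹).toMonoidHom (MulAut.conj g₂⁻¹).injective).symm.trans e₂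
  have h := conj_unique hk f₁ f₂ hs ⟨_, hm₁, by simp [mul_assoc]⟩ ⟨_, hm₂, by simp [mul_assoc]⟩
  refine ⟨g₂ * g₁⁻¹, ?_⟩
  ext x
  have hx := SetLike.ext_iff.1 h (g₂⁻¹ * x * g₂)
  simp only [Subgroup.mem_map_equiv, MulAut.conj_symm_apply, mul_inv_rev, inv_inv] at hx ⊢
  simpa [mul_assoc] using hx

end Cfsg.Agent.S2874
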