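import Cfsg.Statements.S2879
import Cfsg.Agent.Lib.LargeSubgroups.DihedralCore
-- import your own Cfsg.Agent.* helpers here

set_option autoImplicit false
open Cfsg

namespace Cfsg.Agent.S2879

/-- Let G be a finite solvable group with O(G) = 1 whose Sylow 2-subgroup T is dihedral of order at least 8 or semidihedral, with G ≠ T and Z(T) normal in G. Then G has a normal subgroup isomorphic to SL₂(3). -/
theorem result {G : Type*} [Group G] [Finite G] (hsol : IsSolvable G) (hO : Cfsg.oddCore G = ⊥) (T : Sylow 2 G) (hT : (∃ n : ℕ, 4 ≤ n ∧ Nonempty (↥(T : Subgroup G) ≃* DihedralGroup n)) ∨ Cfsg.IsQuasiDihedral ↥(T : Subgroup G)) (hne : (T : Subgroup G) ≠ ⊤) (hZ : ((T : Subgroup G) ⊓ Subgroup.centralizer ((T : Subgroup G) : Set G)).Normal) : ∃ U : Subgroup G, U.Normal ∧ Nonempty (↥U ≃* Matrix.SpecialLinearGroup (Fin 2) (ZMod 3)) := by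
  refine CfsgLib.LargeSubgroups.exists_normal_sl_two_three hsol hO T ?_ hne hZ
  rcases hT with ⟨n, hn, ⟨e⟩⟩ | h
  · haveI : Fact (Nat.Prime 2) := ⟨Nat.prime_two⟩
    obtain ⟨k, hk⟩ := IsPGroup.iff_card.1 T.2
    rw [Nat.card_congr e.toEquiv, DihedralGroup.nat_card] at hk
    obtain ⟨N, rfl⟩ : ∃ N, k = N + 1 := ⟨k - 1, by
      rcases k with _ | k
      · simp at hk
      · rfl⟩
    obtain rfl : n = 2 ^ N := by rw [pow_succ] at hk; omega
    refine CfsgLib.LargeSubgroups.isDihLike_of_equiv e (CfsgLib.LargeSubgroups.isDihLike_dihedral ?_)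
    by_contra hN
    have : 2 ^ N ≤ 2 ^ 1 := Nat.pow_le_pow_right two_pos (by omega)
    omega
  · exact CfsgLib.LargeSubgroups.isDihLike_quasiDihedral h

end Cfsg.Agent.S2879
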