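import Cfsg.Statements.S2881
import Cfsg.Agent.Lib.LargeSubgroups.ExtraspecialPlus
import Mathlib.GroupTheory.Perm.Cycle.Type
-- import your own Cfsg.Agent.* helpers here

set_option autoImplicit false
open Cfsg

namespace Cfsg.Agent.S2881

/-- Let E be an extraspecial 2-group of order 2^(2m+1) of plus type (containing an elementary abelian subgroup of order 2^(m+1)), and let ω be an automorphism of E of order 5 whose fixed points are exactly the centre of E. Then m is divisible by 4. -/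
theorem result {E : Type*} [Group E] [Finite E] (m : ℕ) (hm : 1 ≤ m) (hE : Cfsg.IsExtraspecial 2 E) (hcard : Nat.card E = 2 ^ (2 * m + 1)) (hplus : ∃ A : Subgroup E, Cfsg.IsElementaryAbelian 2 A ∧ Nat.card A = 2 ^ (m + 1)) (ω : E ≃* E) (hω : orderOf ω = 5) (hfix : ∀ x : E, ω x = x ↔ x ∈ Subgroup.center E) : 4 ∣ m := by
  classical
  haveI := Fintype.ofFinite E
  obtain ⟨A, hA, hAc⟩ := hplus
  have hN := CfsgLib.LargeSubgroups.card_order_four_plus m hE hcard hA hAc
  haveI : Fact (Nat.Prime 5) := ⟨by norm_num⟩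
  let σ : Function.End {x : E // orderOf x = 4} :=
    fun x => ⟨ω (x : E), by rw [MulEquiv.orderOf_eq]; exact x.2⟩
  have hω5 : ω ^ (5 ^ 1 : ℕ) = 1 := by rw [pow_one, ← hω, pow_orderOf_eq_one]
  have hiter : ∀ (n : ℕ) (x : {x : E // orderOf x = 4}), ((σ ^ n) x : E) = (ω ^ n) (x : E) := by
    intro n
    induction n with
    | zero => intro x; rfl
    | succ n ih =>
      intro x
      rw [pow_succ', pow_succ']
      show ω ((σ ^ n) x : E) = ω ((ω ^ n) (x : E))
      rw [ih x]
  have hσ : σ ^ (5 ^ 1 : ℕ) = 1 := funext fun x => Subtype.ext (by rw [hiter, hω5]; rfl)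
  haveI : IsEmpty (Function.fixedPoints σ) := ⟨fun x => by
    have hxc : ((x : {x : E // orderOf x = 4}) : E) ∈ Subgroup.center E :=
      (hfix _).1 (congrArg Subtype.val x.2)
    have h2 := Subgroup.orderOf_dvd_natCard (Subgroup.center E) hxc
    rw [hE.2, (x : {x : E // orderOf x = 4}).2] at h2
    norm_num at h2⟩
  have hmod := Equiv.Perm.card_fixedPoints_modEq (f := σ) (p := 5) (n := 1) hσ
  rw [Fintype.card_eq_zero (α := Function.fixedPoints σ)] at hmod
  rw [← Nat.card_eq_fintype_card, hN] at hmod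
  have h5 : 5 ∣ 2 ^ m * (2 ^ m - 1) := by
    rw [Nat.mul_sub, mul_one, ← pow_add, ← two_mul]
    exact Nat.modEq_zero_iff_dvd.1 hmod
  have h5' : 5 ∣ 2 ^ m - 1 :=
    ((Nat.Coprime.pow_right m (by norm_num : Nat.Coprime 5 2)).dvd_of_dvd_mul_left h5)
  have h1 : 2 ^ m % 5 = 1 := by
    have := Nat.one_le_two_pow (n := m)
    omega
  have h2 : 2 ^ m % 5 = 2 ^ (m % 4) % 5 := by
    conv_lhs => rw [← Nat.div_add_mod m 4, pow_add, pow_mul, Nat.mul_mod, Nat.pow_mod]
    norm_num
  have h3 := Nat.mod_lt m (by norm_num : 4 > 0)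
  interval_cases hr : m % 4 <;> first | omega | (rw [h2] at h1; norm_num at h1)

end Cfsg.Agent.S2881
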