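import Cfsg.Statements.S2882
import Cfsg.Agent.Lib.FusionSub.MathieuM24
import Cfsg.Agent.Lib.Golay.M24
-- import your own Cfsg.Agent.* helpers here

set_option autoImplicit false
open Cfsg

namespace Cfsg.Agent.S2882

open CfsgLib.FusionSub CfsgLib.FusionSub.Mathieu

/-- In the Mathieu group of degree 24 (realised as the automorphism group of the extended binary Golay code) every Sylow 2-subgroup is self-normalizing. -/
theorem result (S : Sylow 2 ↥Cfsg.M24) : Subgroup.normalizer ((S : Subgroup ↥Cfsg.M24) : Set ↥Cfsg.M24) = (S : Subgroup ↥Cfsg.M24) := by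
  refine le_antisymm ?_ Subgroup.le_normalizer
  set H := certM24.grp.subgroupOf Cfsg.M24 with hH
  have hle : certM24.grp ≤ Cfsg.M24 := SylCert.grp_le certM24_els
  have hN : Subgroup.normalizer (H : Set ↥Cfsg.M24) ≤ H := by
    intro y hy
    refine Subgroup.mem_subgroupOf.mpr (SylCert.normalizer_le certM24_els certM24_norm y.2 fun z => ?_)
    constructor
    · intro hz
      exact Subgroup.mem_subgroupOf.mp ((Subgroup.mem_normalizer_iff.mp hy ⟨z, hle hz⟩).mp
        (Subgroup.mem_subgroupOf.mpr hz))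
    · intro hz
      have hzK : z ∈ Cfsg.M24 := by
        have := mul_mem (mul_mem (inv_mem y.2) (hle hz)) y.2
        simpa [mul_assoc] using this
      exact Subgroup.mem_subgroupOf.mp ((Subgroup.mem_normalizer_iff.mp hy ⟨z, hzK⟩).mpr
        (Subgroup.mem_subgroupOf.mpr hz))
  have hcard : Nat.card H = 2 ^ certM24.gens.length := by
    rw [Nat.card_congr (Subgroup.subgroupOfEquivOfLe hle).toEquiv, SylCert.card_grp certM24_els]
  have hfac : (Nat.card ↥Cfsg.M24).factorization 2 = certM24.gens.length := by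
    rw [CfsgLib.Golay.natCard_M24, show (244823040 : ℕ) = 2 ^ 10 * 239085 from rfl,
      Nat.factorization_mul (by norm_num) (by norm_num), Finsupp.add_apply,
      Nat.prime_two.factorization_pow, Finsupp.single_eq_same,
      Nat.factorization_eq_zero_of_not_dvd (show ¬ 2 ∣ 239085 by norm_num)]
    rfl
  obtain ⟨Q, hQ⟩ : ∃ Q : Sylow 2 ↥Cfsg.M24, (Q : Subgroup ↥Cfsg.M24) = H :=
    ⟨Sylow.ofCard H (by rw [hfac, hcard]), rfl⟩
  obtain ⟨g, hg⟩ := MulAction.exists_smul_eq ↥Cfsg.M24 Q S
  have e : (S : Subgroup ↥Cfsg.M24) = H.map (MulAut.conj g).toMonoidHom := by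
    rw [← hg, Sylow.coe_subgroup_smul, Subgroup.pointwise_smul_def, hQ]
    rfl
  rw [e]
  exact CfsgLib.FusionSub.normalizer_le_map_equiv hN (MulAut.conj g)

end Cfsg.Agent.S2882
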