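import Cfsg.Statements.S2928
import Cfsg.Agent.Lib.LargeSubgroups.AltSylowOvergroup
-- import your own Cfsg.Agent.* helpers here

set_option autoImplicit false
open Cfsg

namespace Cfsg.Agent.S2928

open CfsgLib.LargeSubgroups.AltSylow

/-- Let n ≥ 8 and let H be a subgroup of the symmetric group of degree n whose generalized Fitting subgroup F*(H) is quasisimple. If H contains a Sylow 2-subgroup of the alternating group of degree n, then F*(H) is isomorphic to an alternating group of degree m for some m ∈ {n − 3, n − 2, n − 1, n}. -/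
theorem result (n : ℕ) (hn : 8 ≤ n) (H : Subgroup (Equiv.Perm (Fin n))) (hF : Cfsg.IsQuasisimple ↥(Cfsg.generalizedFittingSubgroup ↥H)) (hS : ∃ P : Sylow 2 ↥(alternatingGroup (Fin n)), ((P : Subgroup ↥(alternatingGroup (Fin n))).map (alternatingGroup (Fin n)).subtype) ≤ H) : ∃ m : ℕ, (m = n - 3 ∨ m = n - 2 ∨ m = n - 1 ∨ m = n) ∧ Nonempty (↥(Cfsg.generalizedFittingSubgroup ↥H) ≃* ↥(alternatingGroup (Fin m))) := by
  have hset : Setting H ((Cfsg.generalizedFittingSubgroup ↥H).map H.subtype) := by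
    refine ⟨Subgroup.map_subtype_le _, ?_,
      (CfsgLib.Cores.isQuasisimple_congr (Subgroup.equivMapOfInjective _ _ H.subtype_injective)).1 hF, ?_, hS⟩
    · rintro h hh _ ⟨f, hf, rfl⟩
      exact ⟨⟨h, hh⟩ * f * ⟨h, hh⟩⁻¹, (inferInstance : (Cfsg.generalizedFittingSubgroup ↥H).Normal).conj_mem f hf ⟨h, hh⟩, rfl⟩
    · intro h hh hc
      refine ⟨⟨h, hh⟩, CfsgLib.Cores.centralizer_generalizedFittingSubgroup_le
        (Subgroup.mem_centralizer_iff.2 fun f hf => Subtype.ext ?_), rfl⟩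
      exact (hc f ⟨f, hf, rfl⟩).symm
  obtain ⟨m, hm, ⟨e⟩⟩ := exists_alternatingGroup hset hn
  exact ⟨m, hm, ⟨(Subgroup.equivMapOfInjective _ _ H.subtype_injective).trans e⟩⟩

end Cfsg.Agent.S2928
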