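import Cfsg.Statements.S2933
import Cfsg.Agent.Lib.TwoGroups.FoursCenterModels
import Cfsg.Agent.Lib.SchurExt.TwoEngel

set_option autoImplicit false
open Cfsg

namespace Cfsg.Agent.S2933

open CfsgLib.TwoGroups.FoursCenter

/-- A third element of a four-group determines it. -/
theorem four_mem {G : Type*} [Group G] [Finite G] {V : Subgroup G} (hV : Nat.card V = 4)
    (h2 : ∀ v ∈ V, v ^ 2 = 1) {v w : G} (hv : v ∈ V) (hw : w ∈ V) (hv1 : v ≠ 1) (hw1 : w ≠ 1)
    (hvw : v ≠ w) {x : G} (hx : x ∈ V) : x = 1 ∨ x = v ∨ x = w ∨ x = v * w := by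
  classical
  have h1 : v * w ≠ 1 := fun e => hvw (by
    rw [eq_inv_of_mul_eq_one_left e, inv_eq_of_mul_eq_one_right (by rw [← pow_two, h2 w hw])])
  have h3 : v * w ≠ v := fun e => hw1 (mul_eq_left.1 e)
  have h4 : v * w ≠ w := fun e => hv1 (mul_eq_right.1 e)
  by_contra hc
  push Not at hc
  have : Fintype V := Fintype.ofFinite _
  let s : Finset V := {1, ⟨v, hv⟩, ⟨w, hw⟩, ⟨v * w, V.mul_mem hv hw⟩, ⟨x, hx⟩}
  have hcard : s.card = 5 := by
    simp only [s]
    rw [Finset.card_insert_of_notMem, Finset.card_insert_of_notMem, Finset.card_insert_of_notMem,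
      Finset.card_insert_of_notMem, Finset.card_singleton] <;>
      simp [Subtype.ext_iff, hvw, Ne.symm hv1, Ne.symm hw1, Ne.symm h1, Ne.symm h3, Ne.symm h4,
        Ne.symm hc.1, Ne.symm hc.2.1, Ne.symm hc.2.2.1, Ne.symm hc.2.2.2]
  have := Finset.card_le_univ s
  rw [hcard, ← Nat.card_eq_fintype_card, hV] at this
  omega

/-- Let T be a 2-subgroup of a finite group G, V ≤ Z(T) a four-group, and t, ρ ∈ N_G(V) ∩ N_G(T) elements of order 2 and 3 with t commuting with ρ and with V. If [V, ρ] = V and C_T(t) = V, then T is elementary abelian of order 16, or homocyclic of rank 2 (ℤ/2ⁿ × ℤ/2ⁿ for some n ≥ 1), or isomorphic to a Sylow 2-subgroup of PSL₃(4) or of PSU₃(4). -/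
theorem result {G : Type*} [Group G] [Finite G] (T V : Subgroup G) (hT : IsPGroup 2 ↥T) (hVT : V ≤ T ⊓ Subgroup.centralizer (T : Set G)) (hV : Nat.card ↥V = 4 ∧ ∀ v ∈ V, v ^ 2 = 1) (t ρ : G) (ht : orderOf t = 2) (hρ : orderOf ρ = 3) (htn : t ∈ Subgroup.normalizer (V : Set G) ⊓ Subgroup.normalizer (T : Set G)) (hρn : ρ ∈ Subgroup.normalizer (V : Set G) ⊓ Subgroup.normalizer (T : Set G)) (htρ : t * ρ = ρ * t) (htV : t ∈ Subgroup.centralizer (V : Set G)) (hVρ : ⁅V, Subgroup.zpowers ρ⁆ = V) (hCt : T ⊓ Subgroup.centralizer ({t} : Set G) = V) : (Nat.card ↥T = 16 ∧ ∀ x ∈ T, x ^ 2 = 1) ∨ (∃ n : ℕ, 1 ≤ n ∧ Nonempty (↥T ≃* Multiplicative (ZMod (2 ^ n)) × Multiplicative (ZMod (2 ^ n)))) ∨ (∃ (F : Type) (_ : Field F) (_ : Fintype F), Fintype.card F = 4 ∧ ∀ P : Sylow 2 (Matrix.ProjectiveSpecialLinearGroup (Fin 3) F), Nonempty (↥T ≃* ↥(P : Subgroup (Matrix.ProjectiveSpecialLinearGroup (Fin 3) F)))) ∨ (∃ (F : Type) (_ : Field F) (_ : Fintype F), Fintype.card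 F = 16 ∧ ∀ P : Sylow 2 (Cfsg.PSU 3 F 4), Nonempty (↥T ≃* ↥(P : Subgroup (Cfsg.PSU 3 F 4)))) := by
  classical
  have hp : Fact (Nat.Prime 2) := ⟨Nat.prime_two⟩
  obtain ⟨hV4, hV2⟩ := hV
  have hVle : V ≤ T := hVT.trans inf_le_left
  have hρ3 : ρ ^ 3 = 1 := hρ ▸ pow_orderOf_eq_one ρ
  have ht2 : t * t = 1 := by rw [← pow_two]; exact ht ▸ pow_orderOf_eq_one t
  have hρV : ∀ v ∈ V, ρ * v * ρ⁻¹ ∈ V := fun v hv => (Subgroup.mem_normalizer_iff.1 hρn.1 v).1 hv
  have hVfpf : ∀ v ∈ V, ρ * v = v * ρ → v = 1 := by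
    intro v hv hc
    by_contra hv1
    have hfix : ∀ w ∈ V, ρ * w = w * ρ := by
      intro w hw
      by_cases hw1 : w = 1
      · rw [hw1, mul_one, one_mul]
      by_cases hwv : v = w
      · rw [← hwv]; exact hc
      have hcv : ρ * v * ρ⁻¹ = v := by rw [hc, mul_inv_cancel_right]
      rcases four_mem hV4 hV2 hv hw hv1 hw1 hwv (hρV w hw) with e | e | e | e
      · exact absurd (conj_eq_one_iff.1 e) hw1
      · exfalso
        rw [← hcv] at e
        exact hwv (mul_left_cancel (mul_right_cancel e)).symm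
      · exact (mul_inv_eq_iff_eq_mul.1 e)
      · exfalso
        have e2 : ρ * (ρ * w * ρ⁻¹) * ρ⁻¹ = w := by
          rw [e]
          calc ρ * (v * w) * ρ⁻¹ = ρ * v * ρ⁻¹ * (ρ * w * ρ⁻¹) := by group
            _ = v * v * w := by rw [hcv, e, mul_assoc]
            _ = w := by rw [← pow_two, hV2 v hv, one_mul]
        have e3 : ρ * (ρ * (ρ * w * ρ⁻¹) * ρ⁻¹) * ρ⁻¹ = w := by
          calc ρ * (ρ * (ρ * w * ρ⁻¹) * ρ⁻¹) * ρ⁻¹ = (ρ * ρ * ρ) * w * (ρ * ρ * ρ)⁻¹ := by group
            _ = w := by rw [← pow_three', hρ3, one_mul, inv_one, mul_one]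
        rw [e2, e] at e3
        exact hv1 (mul_eq_right.1 e3)
    have hbot : ⁅V, Subgroup.zpowers ρ⁆ = ⊥ := by
      rw [Subgroup.commutator_eq_bot_iff_le_centralizer]
      intro w hw
      rw [Subgroup.mem_centralizer_iff]
      intro g hg
      obtain ⟨k, rfl⟩ := Subgroup.mem_zpowers_iff.1 hg
      exact ((show Commute ρ w from hfix w hw).zpow_left k).eq
    rw [hVρ] at hbot
    rw [hbot, Subgroup.card_bot] at hV4
    omega
  let τ : ↥T →* ↥T :=
    { toFun := fun x => ⟨t * x * t⁻¹, (Subgroup.mem_normalizer_iff.1 htn.2 x).1 x.2⟩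
      map_one' := Subtype.ext (by simp)
      map_mul' := fun a b => Subtype.ext (by simp) }
  let σ : ↥T →* ↥T :=
    { toFun := fun x => ⟨ρ * x * ρ⁻¹, (Subgroup.mem_normalizer_iff.1 hρn.2 x).1 x.2⟩
      map_one' := Subtype.ext (by simp)
      map_mul' := fun a b => Subtype.ext (by simp) }
  have τval : ∀ x : T, ((τ x : T) : G) = t * x * t⁻¹ := fun x => rfl
  have σval : ∀ x : T, ((σ x : T) : G) = ρ * x * ρ⁻¹ := fun x => rfl
  have hfix : ∀ x : T, τ x = x ↔ x ∈ V.subgroupOf T := by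
    intro x
    rw [Subgroup.mem_subgroupOf, ← hCt, Subtype.ext_iff, τval, Subgroup.mem_inf,
      Subgroup.mem_centralizer_iff]
    simp only [SetLike.coe_mem, true_and, Set.mem_singleton_iff, forall_eq, mul_inv_eq_iff_eq_mul]
  have hcomm : ∀ x, τ (σ x) = σ (τ x) := fun x => Subtype.ext (by
    rw [τval, σval, σval, τval]
    calc t * (ρ * x * ρ⁻¹) * t⁻¹ = (t * ρ) * x * (t * ρ)⁻¹ := by group
      _ = (ρ * t) * x * (ρ * t)⁻¹ := by rw [htρ]
      _ = _ := by group)
  have htau2 : ∀ x, τ (τ x) = x := fun x => Subtype.ext (by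
    rw [τval, τval]
    calc t * (t * x * t⁻¹) * t⁻¹ = (t * t) * x * (t * t)⁻¹ := by group
      _ = x := by rw [ht2, one_mul, inv_one, mul_one])
  have hsig3 : ∀ x, σ (σ (σ x)) = x := fun x => Subtype.ext (by
    rw [σval, σval, σval]
    calc ρ * (ρ * (ρ * x * ρ⁻¹) * ρ⁻¹) * ρ⁻¹ = ρ * ρ * ρ * x * (ρ * ρ * ρ)⁻¹ := by group
      _ = x := by rw [← pow_three', hρ3, one_mul, inv_one, mul_one])
  have hfpf : ∀ x, σ x = x → x = 1 := by
    intro x hx
    let C : Subgroup ↥T := σ.eqLocus (MonoidHom.id _)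
    have hτC : ∀ c ∈ C, τ c ∈ C := fun c hc => by
      show σ (τ c) = τ c
      rw [← hcomm]; exact congrArg τ hc
    let τC : C →* C :=
      { toFun := fun c => ⟨τ c, hτC c c.2⟩
        map_one' := Subtype.ext (map_one τ)
        map_mul' := fun a b => Subtype.ext (map_mul τ _ _) }
    have hfp : MonoidHom.FixedPointFree τC := by
      intro c hc
      have hc1 : τ (c : T) = c := congrArg Subtype.val hc
      have hc2 : ρ * ((c : T) : G) * ρ⁻¹ = ((c : T) : G) := congrArg Subtype.val c.2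
      exact Subtype.ext (Subtype.ext (hVfpf _ (Subgroup.mem_subgroupOf.1 ((hfix _).1 hc1))
        (mul_inv_eq_iff_eq_mul.1 hc2)))
    have hodd := hfp.odd_card_of_involutive fun c => Subtype.ext (htau2 c)
    rcases (hT.to_subgroup C).card_eq_or_dvd with h1 | h2
    · exact congrArg Subtype.val ((Nat.card_eq_one_iff_unique.1 h1).1.elim (⟨x, hx⟩ : C) 1)
    · exact absurd (even_iff_two_dvd.2 h2) (Nat.not_even_iff_odd.2 hodd)
  -- class two, inside the normaliser
  set N := Subgroup.normalizer (T : Set G) with hN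
  set T' := T.subgroupOf N with hT'
  have hnormal : T'.Normal := Subgroup.normal_in_normalizer
  let r : ↥N := ⟨ρ, hρn.2⟩
  have hr : r ^ 3 = 1 := Subtype.ext hρ3
  have hfix' : ∀ v ∈ T', r * v = v * r → v = 1 := by
    intro v hv hc
    have h1 := hfpf ⟨(v : G), hv⟩ (Subtype.ext (by
      rw [σval]
      exact mul_inv_eq_iff_eq_mul.2 (congrArg Subtype.val hc)))
    exact Subtype.ext (congrArg Subtype.val h1 : (v : G) = 1)
  let lift : ↥T → ↥T' := fun a => ⟨⟨(a : G), Subgroup.le_normalizer a.2⟩, a.2⟩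
  have hT'2 : IsPGroup 2 ↥T' :=
    hT.of_equiv (Subgroup.subgroupOfEquivOfLe Subgroup.le_normalizer).symm
  have h3 : ¬ 3 ∣ Nat.card ↥T' := fun hd => by
    obtain ⟨n, hn⟩ := IsPGroup.iff_card.1 hT'2
    rw [hn] at hd
    have := (Nat.prime_dvd_prime_iff_eq Nat.prime_three Nat.prime_two).1 (Nat.prime_three.dvd_of_dvd_pow hd)
    omega
  have hE := CfsgLib.SchurExt.engel_fpf_three hr hfix'
  have H : Hyp (V.subgroupOf T) τ σ :=
    { two := hT
      central := fun v hv => Subgroup.mem_center_iff.2 fun x => Subtype.ext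
        (Subgroup.mem_centralizer_iff.1 (hVT (Subgroup.mem_subgroupOf.1 hv)).2 x x.2)
      card_V := by rw [Nat.card_congr (Subgroup.subgroupOfEquivOfLe hVle).toEquiv, hV4]
      tau_tau := htau2
      sig_cube := hsig3
      comm := hcomm
      fix := hfix
      fpf := hfpf
      cls := fun a b => Subgroup.mem_center_iff.2 fun c => by
        have h := Subgroup.mem_center_iff.1
          (CfsgLib.SchurExt.commutatorElement_mem_center hE h3 (lift b) (lift a)) (lift c)
        have h' := congrArg (fun z : ↥T' => ((z : ↥N) : G)) h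
        exact Subtype.ext h'
      csig := fun x => Subtype.ext (congrArg (fun z : ↥N => (z : G))
        (CfsgLib.SchurExt.commute_conj_fpf_three hr hfix' (lift x).2).eq) }
  by_cases hab : ∀ a b : ↥T, a * b = b * a
  · let instT : CommGroup ↥T := { (inferInstance : Group ↥T) with mul_comm := hab }
    have hA : AHyp τ σ :=
      { two := hT
        tau_tau := htau2
        sig_cube := hsig3
        comm := hcomm
        fpf := hfpf
        card_fix := H.fix_card }
    rcases hA.cases with ⟨h16, hel⟩ | ⟨-, n, g, hn, he, -⟩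
    · exact Or.inl ⟨h16, fun x hx => congrArg Subtype.val (hel ⟨x, hx⟩)⟩
    · exact Or.inr (Or.inl ⟨n, hn, he⟩)
  obtain ⟨hcard, hZV, b, x₁, x₂, y₁, y₂, c₁, c₂, hrel, hgen, hVall⟩ := H.nonabelian hab
  have hcen : ∀ z ∈ Subgroup.center ↥T, z = 1 ∨ z = c₁ ∨ z = c₂ ∨ z = c₁ * c₂ :=
    fun z hz => hVall z (hZV z hz)
  cases b
  · let instF : Fintype (GaloisField 2 2) := Fintype.ofFinite _
    have hF : Fintype.card (GaloisField 2 2) = 4 := by
      rw [← Nat.card_eq_fintype_card, GaloisField.card 2 2 (by norm_num)]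
      norm_num
    refine Or.inr (Or.inr (Or.inl ⟨GaloisField 2 2, inferInstance, instF, hF, fun P => ?_⟩))
    exact nonempty_equiv_sylow_psl hF hT hrel hcard hgen hcen P
  · let instF : Fintype (GaloisField 2 4) := Fintype.ofFinite _
    have hF : Fintype.card (GaloisField 2 4) = 16 := by
      rw [← Nat.card_eq_fintype_card, GaloisField.card 2 4 (by norm_num)]
      norm_num
    refine Or.inr (Or.inr (Or.inr ⟨GaloisField 2 4, inferInstance, instF, hF, fun P => ?_⟩))
    exact nonempty_equiv_sylow_psu hF hT hrel hcard hgen hcen P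

end Cfsg.Agent.S2933
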