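import Cfsg.Statements.S2968
import Cfsg.Agent.Lib.TwoGroupTricks.Isolated

set_option autoImplicit false
open Cfsg

namespace Cfsg.Agent.S2968

/-- Let G be a finite group, p a prime, P a Sylow p-subgroup of G and x ∈ P an element of p-power order which is isolated in G (the only conjugate of x commuting with x is x itself). Then x lies in the centre of P, and the subgroup generated by x is both strongly closed and weakly closed in P with respect to G. -/
theorem result {G : Type*} [Group G] [Finite G] {p : ℕ} [Fact p.Prime] (P : Sylow p G) (x : G) (hxP : x ∈ (P : Subgroup G)) (hx : ∃ k : ℕ, orderOf x = p ^ k) (hiso : Cfsg.IsIsolated x) : x ∈ (P : Subgroup G) ⊓ Subgroup.centralizer ((P : Subgroup G) : Set G) ∧ Cfsg.IsStronglyClosed (Subgroup.zpowers x) (P : Subgroup G) ∧ Cfsg.IsWeaklyClosed (Subgroup.zpowers x) (P : Subgroup G) := by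
  have hc := CfsgLib.TwoGroupTricks.le_centralizer_of_mem hiso P.2 hxP
  have hcent : x ∈ Subgroup.centralizer ((P : Subgroup G) : Set G) :=
    Subgroup.mem_centralizer_iff.2 fun y hy => Subgroup.mem_centralizer_singleton_iff.1 (hc hy)
  have key : ∀ z ∈ Subgroup.zpowers x, ∀ g : G, g * z * g⁻¹ ∈ (P : Subgroup G) → g * z * g⁻¹ = z := by
    intro z hz g hg
    obtain ⟨i, rfl⟩ := Subgroup.mem_zpowers_iff.1 hz
    set H : Subgroup G := Subgroup.centralizer {g * x ^ i * g⁻¹}
    have hxH : x ∈ H :=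
      Subgroup.mem_centralizer_singleton_iff.2 ((Subgroup.mem_centralizer_iff.1 hcent _ hg).symm)
    have hgH : g * x * g⁻¹ ∈ H := by
      refine Subgroup.mem_centralizer_singleton_iff.2 ?_
      have : Commute (g * x * g⁻¹) (g * x ^ i * g⁻¹) := by
        simpa [MulAut.conj_apply] using ((Commute.refl x).zpow_right i).map (MulAut.conj g).toMonoidHom
      exact this
    obtain ⟨h, hh, he⟩ := CfsgLib.TwoGroupTricks.exists_mem_conj_eq hx hiso hxH hgH
    have h1 : Commute h (g * x ^ i * g⁻¹) := Subgroup.mem_centralizer_singleton_iff.1 hh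
    calc g * x ^ i * g⁻¹ = h * (g * x ^ i * g⁻¹) * h⁻¹ := by rw [h1.eq, mul_inv_cancel_right]
      _ = ((h * g) * x * (h * g)⁻¹) ^ i := by rw [conj_zpow]; group
      _ = x ^ i := by rw [he]
  refine ⟨⟨hxP, hcent⟩, ⟨(Subgroup.zpowers_le).2 hxP, fun z hz g hg => by rwa [key z hz g hg]⟩,
    (Subgroup.zpowers_le).2 hxP, fun g hg => ?_⟩
  have h1 : ∀ z ∈ Subgroup.zpowers x, g * z * g⁻¹ = z := fun z hz =>
    key z hz g (hg (Subgroup.mem_map.2 ⟨z, hz, by simp [MulAut.conj_apply]⟩))
  ext y
  simp only [Subgroup.mem_map, MulEquiv.coe_toMonoidHom, MulAut.conj_apply]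
  constructor
  · rintro ⟨z, hz, rfl⟩
    rwa [h1 z hz]
  · exact fun hy => ⟨y, hy, h1 y hy⟩

end Cfsg.Agent.S2968
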