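import Cfsg.Statements.S2975
import Mathlib
import Cfsg.Agent.Lib.TwoGroupTricks.ZStarMin
import Cfsg.Agent.Lib.CoprimeAction.Sylow
import Cfsg.Agent.Lib.Cores.Basic

set_option autoImplicit false
open Cfsg

namespace Cfsg.Agent.S2975

/-- Let G be a finite group, p a prime and x ∈ G an isolated element of order p (the only conjugate of x commuting with x is x) which is not central modulo the largest normal subgroup of order prime to p, while x is central modulo the largest normal subgroup of order prime to p in every proper subgroup containing x, and the image of x is so in every quotient of G by a nontrivial normal subgroup (a minimal counterexample to the Z*_p statement). Then for every prime q, every q-subgroup of G that is normalized by x and maximal among the q-subgroups normalized by x is either trivial or a Sylow q-subgroup of G; and C_G(x) permutes the x-invariant Sylow q-subgroups of G transitively by conjugation. -/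
theorem result {G : Type*} [Group G] [Finite G] {p : ℕ} [Fact p.Prime] (x : G) (hx : orderOf x = p) (hiso : Cfsg.IsIsolated x) (hnz : ¬ Cfsg.InZStar p x) (hmin : ∀ (H : Subgroup G) (hxH : x ∈ H), H ≠ ⊤ → Cfsg.InZStar p (⟨x, hxH⟩ : ↥H)) (hquot : ∀ (N : Subgroup G) [N.Normal], N ≠ ⊥ → Cfsg.InZStar p (QuotientGroup.mk x : G ⧸ N)) (q : ℕ) [Fact q.Prime] : (∀ Q : Subgroup G, IsPGroup q ↥Q → x ∈ Subgroup.normalizer (Q : Set G) → (∀ R : Subgroup G, IsPGroup q ↥R → x ∈ Subgroup.normalizer (R : Set G) → Q ≤ R → R = Q) → Q = ⊥ ∨ ∃ S : Sylow q G, (S : Subgroup G) = Q) ∧ (∀ S₁ S₂ : Sylow q G, x ∈ Subgroup.normalizer ((S₁ : Subgroup G) : Set G) → x ∈ Subgroup.normalizer ((S₂ : Subgroup G) : Set G) → ∃ c ∈ Subgroup.centralizer ({x} : Set G), (S₁ : Subgroup G).map (MulAut.conj c).toMonoidHom = (S₂ : Subgroup G)) := by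
  have h : CfsgLib.TwoGroupTricks.IsolatedMin p x := ⟨hx, hiso, hnz, hmin, hquot⟩
  have hxp := h.isPGroup_zpowers
  refine ⟨fun Q hQ hxQ hQmax => ?_, fun S₁ S₂ h1 h2 => ?_⟩
  · refine or_iff_not_imp_left.2 fun hQne => ?_
    obtain ⟨S, hS⟩ := hQ.exists_le_sylow
    by_cases hqp : q = p
    · subst hqp
      have hxQ' : x ∈ Q := by
        have hn : Subgroup.zpowers x ≤ Subgroup.normalizer (Q : Set G) := (Subgroup.zpowers_le).2 hxQ
        have he := hQmax (Q ⊔ Subgroup.zpowers x) (hQ.to_sup_of_normal_left' hxp hn)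
          ((Subgroup.le_normalizer : Q ⊔ Subgroup.zpowers x ≤ _) (Subgroup.mem_sup_right (Subgroup.mem_zpowers x)))
          le_sup_left
        exact he ▸ Subgroup.mem_sup_right (Subgroup.mem_zpowers x)
      exact ⟨S, hQmax S S.2 (Subgroup.le_normalizer (hS hxQ')) hS⟩
    · set N := Subgroup.normalizer (Q : Set G) with hN
      have hNtop : N ≠ ⊤ := by
        intro ht
        have : Q.Normal := Subgroup.normalizer_eq_top_iff.1 ht
        obtain ⟨k, hk⟩ := IsPGroup.iff_card.1 hQ
        refine hQne (le_bot_iff.1 (h.pPrimeCore_eq_bot ▸ CfsgLib.Cores.le_pPrimeCore ?_))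
        rw [hk]
        exact ((Nat.coprime_primes (Fact.out : q.Prime) (Fact.out : p.Prime)).2 hqp).pow_left k
      set M := Cfsg.pPrimeCore p ↥N with hM
      have hz := hmin N hxQ hNtop
      have hQN : Q ≤ N := Subgroup.le_normalizer
      have : (Q.subgroupOf N).Normal := Subgroup.normal_subgroupOf_of_le_normalizer le_rfl
      obtain ⟨T⟩ : Nonempty (Sylow q ↥N) := inferInstance
      have hQT : Q.subgroupOf N ≤ (T : Subgroup ↥N) := IsPGroup.le_sylow_of_normal (N := Q.subgroupOf N) hQ.comap_subtype T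
      set K := (T : Subgroup ↥N) ⊔ M with hK
      have hMK : M ≤ K := le_sup_right
      have hinv : ∀ a ∈ K, (⟨x, hxQ⟩ : ↥N) * a * (⟨x, hxQ⟩ : ↥N)⁻¹ ∈ K := by
        intro a ha
        have h1 := K.mul_mem (hMK (M.inv_mem (hz a))) ha
        simpa [mul_assoc] using h1
      set K' := K.map N.subtype
      have hAK : Subgroup.zpowers x ≤ Subgroup.normalizer (K' : Set G) := by
        rw [Subgroup.zpowers_le]
        refine Subgroup.mem_normalizer_fintype ?_
        rintro _ ⟨a, ha, rfl⟩
        exact ⟨_, hinv a ha, rfl⟩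
      have hcop : (Nat.card (Subgroup.zpowers x)).Coprime (Nat.card K') := by
        rw [Nat.card_zpowers, hx, Subgroup.card_subtype]
        refine Nat.Coprime.coprime_dvd_right (CfsgLib.Cores.card_sup_dvd _ _) (Nat.Coprime.mul_right ?_ ?_)
        · obtain ⟨k, hk⟩ := IsPGroup.iff_card.1 T.2
          rw [hk]
          exact ((Nat.coprime_primes (Fact.out : p.Prime) (Fact.out : q.Prime)).2 (Ne.symm hqp)).pow_right k
        · exact (CfsgLib.Cores.card_pPrimeCore_coprime p).symm
      have hQK : Q ≤ K' := fun a ha =>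
        ⟨⟨a, hQN ha⟩, Subgroup.mem_sup_left (hQT (Subgroup.mem_subgroupOf.2 ha)), rfl⟩
      obtain ⟨P, hQP, hPx⟩ := CfsgLib.CoprimeAction.exists_invariant_sylow_ge hAK hcop
        (Or.inl (Group.isSolvable_of_comm fun a b => mul_comm' a b)) (p := q) hQK hQ
        ((Subgroup.zpowers_le).2 hxQ)
      have hPQ : (P : Subgroup ↥K').map K'.subtype = Q :=
        hQmax _ (P.2.map _) (hPx (Subgroup.mem_zpowers x)) hQP
      have hTQ : (T : Subgroup ↥N).map N.subtype = Q := by
        refine (Subgroup.eq_of_le_of_card_ge (H := Q) (K := (T : Subgroup ↥N).map N.subtype) (fun a ha => Subgroup.mem_map.2 ⟨⟨a, hQN ha⟩, hQT (Subgroup.mem_subgroupOf.2 ha), rfl⟩) ?_).symm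
        set T' := (T : Subgroup ↥N).map N.subtype with hT'
        have hT'K : T' ≤ K' := Subgroup.map_mono le_sup_left
        obtain ⟨R, hR⟩ := ((T.2.map N.subtype).comap_subtype (K := K')).exists_le_sylow
        have hcR : Nat.card (R : Subgroup ↥K') = Nat.card (P : Subgroup ↥K') := by
          rw [Sylow.card_eq_multiplicity, Sylow.card_eq_multiplicity]
        calc Nat.card T' = Nat.card (T'.subgroupOf K') :=
              (Nat.card_congr (Subgroup.subgroupOfEquivOfLe hT'K).toEquiv).symm
          _ ≤ Nat.card (R : Subgroup ↥K') := Subgroup.card_le_of_le hR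
          _ = Nat.card Q := by rw [hcR, ← hPQ, Subgroup.card_subtype]
      refine ⟨S, ?_⟩
      by_contra hne
      have hne' : Q.subgroupOf (S : Subgroup G) ≠ ⊤ := fun h0 => hne (le_antisymm (Subgroup.subgroupOf_eq_top.1 h0) hS)
      have : Group.IsNilpotent (S : Subgroup G) := IsPGroup.isNilpotent (p := q) S.2
      obtain ⟨a, haN, haQ⟩ := SetLike.exists_of_lt
        ((Group.normalizerCondition_of_isNilpotent (G := (S : Subgroup G))) _ hne'.lt_top)
      apply haQ
      rw [Subgroup.mem_subgroupOf]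
      have haN' : (a : G) ∈ N := by
        have h1 := Subgroup.le_normalizer_map (S : Subgroup G).subtype (Subgroup.mem_map_of_mem (S : Subgroup G).subtype haN)
        rwa [Subgroup.map_subgroupOf_eq_of_le hS] at h1
      -- the q-group generated by `Q` and `a` lies in `T`
      set R := ((S : Subgroup G) ⊓ N).subgroupOf N
      have hRq : IsPGroup q R := (S.2.to_le inf_le_left).comap_subtype
      have hTR : (T : Subgroup ↥N) ≤ R := by
        intro t ht
        have : (t : G) ∈ Q := hTQ ▸ Subgroup.mem_map_of_mem N.subtype ht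
        exact Subgroup.mem_subgroupOf.2 ⟨hS this, hQN this⟩
      have : (⟨a, haN'⟩ : ↥N) ∈ (T : Subgroup ↥N) := T.3 hRq hTR ▸ Subgroup.mem_subgroupOf.2 ⟨a.2, haN'⟩
      exact hTQ ▸ Subgroup.mem_map_of_mem N.subtype this
  · obtain ⟨g, hg⟩ := MulAction.exists_smul_eq G S₁ S₂
    set L := Subgroup.normalizer ((S₁ : Subgroup G) : Set G) with hL
    have hgx : g⁻¹ * x * g ∈ L := by
      have he : x • S₂ = S₂ := Sylow.smul_eq_iff_mem_normalizer.2 h2
      refine Sylow.smul_eq_iff_mem_normalizer.1 ?_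
      rw [← hg, ← mul_smul] at he
      rw [mul_assoc, mul_smul, he, inv_smul_smul]
    obtain ⟨l, hl, he⟩ := CfsgLib.TwoGroupTricks.exists_mem_conj_eq (p := p) ⟨1, by rw [hx, pow_one]⟩ hiso h1
      (g := g⁻¹) (by simpa using hgx)
    refine ⟨(l * g⁻¹)⁻¹, Subgroup.inv_mem _ (Subgroup.mem_centralizer_singleton_iff.2 (mul_inv_eq_iff_eq_mul.1 he)), ?_⟩
    have hl' : l⁻¹ • S₁ = S₁ := Sylow.smul_eq_iff_mem_normalizer.2 (inv_mem hl)
    rw [← hg, show (l * g⁻¹)⁻¹ = g * l⁻¹ by group, ← congrArg (fun T : Sylow q G => (T : Subgroup G))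
      (show (g * l⁻¹) • S₁ = g • S₁ by rw [mul_smul, hl'])]
    rfl

end Cfsg.Agent.S2975
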