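import Cfsg.Statements.S3032
import Cfsg.Agent.Lib.Transfer.HSubgroup
import Cfsg.Agent.Lib.PSolvable.PrimeIndex
import Cfsg.Agent.Lib.PushUp.SmallFusion
import Cfsg.Agent.Lib.NormalPComplement.Basic

set_option autoImplicit false
open Cfsg

namespace Cfsg.Agent.S3032

open scoped commutatorElement
open CfsgLib.Transfer (HSub.Hyp)

section Scalar

variable {G : Type*} [Group G] {p : ℕ}

/-- `G` acts on `P` by power maps, up to a subgroup whose `p'`-elements centralize `P`. -/
def Scalar (p : ℕ) (P : Subgroup G) : Prop :=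
  ∃ K : Subgroup G, K.Normal ∧ (∀ g : G, g ^ (p - 1) ∈ K) ∧ (∀ g h : G, ⁅g, h⁆ ∈ K) ∧
    ∀ a ∈ K, (orderOf a).Coprime p → a ∈ Subgroup.centralizer (P : Set G)

variable [Finite G] [hp : Fact p.Prime]

theorem Scalar.map {P : Subgroup G} (h : Scalar p P) {H : Type*} [Group H] (f : G →* H)
    (hf : Function.Surjective f) : Scalar p (P.map f) := by
  obtain ⟨K, hKn, h1, h2, h3⟩ := h
  refine ⟨K.map f, hKn.map f hf, fun y => ?_, fun y z => ?_, fun y hy hyc => ?_⟩
  · obtain ⟨g, rfl⟩ := hf y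
    exact ⟨_, h1 g, map_pow f g _⟩
  · obtain ⟨g, rfl⟩ := hf y
    obtain ⟨k, rfl⟩ := hf z
    exact ⟨_, h2 g k, map_commutatorElement f g k⟩
  · obtain ⟨x, hx, rfl⟩ := hy
    obtain ⟨i, j, hij, ⟨k, hk⟩, hj⟩ :=
      CfsgLib.NormalPComplement.exists_pParts (p := p) (isOfFinOrder_of_finite x)
    have hi : f (x ^ i) = 1 := by
      refine orderOf_eq_one_iff.1 (Nat.eq_one_of_dvd_coprimes (hyc.pow_right k) ?_
        ((orderOf_map_dvd f _).trans hk))
      rw [map_pow]
      exact orderOf_pow_dvd i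
    have hfx : f x = f (x ^ j) := by
      conv_lhs => rw [← hij]
      rw [map_mul, hi, one_mul]
    have hc := h3 _ (pow_mem hx j) hj
    rw [hfx]
    refine Subgroup.mem_centralizer_iff.2 ?_
    rintro _ ⟨v, hv, rfl⟩
    rw [← map_mul, ← map_mul, Subgroup.mem_centralizer_iff.1 hc v hv]

theorem exists_minimal_normal {B : Subgroup G} [B.Normal] (hB : B ≠ ⊥) :
    ∃ N : Subgroup G, N.Normal ∧ N ≠ ⊥ ∧ N ≤ B ∧
      ∀ M : Subgroup G, M.Normal → M ≠ ⊥ → M ≤ N → M = N := by
  obtain ⟨N, ⟨hN, hNne, hNB⟩, hmin⟩ := Set.Finite.exists_minimal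
    (s := {N : Subgroup G | N.Normal ∧ N ≠ ⊥ ∧ N ≤ B}) (Set.toFinite _) ⟨B, ‹_›, hB, le_rfl⟩
  exact ⟨N, hN, hNne, hNB, fun M hM hMne hMN => le_antisymm hMN (hmin ⟨hM, hMne, hMN.trans hNB⟩ hMN)⟩

/-- A scalar action on a normal `p`-subgroup gives a normal subgroup of order `p` inside it. -/
theorem exists_normal_prime_of_scalar {P : Subgroup G} [P.Normal] (hP : IsPGroup p P)
    (hne : P ≠ ⊥) (hK : Scalar p P) :
    ∃ N : Subgroup G, N.Normal ∧ N ≤ P ∧ Nat.card N = p := by
  obtain ⟨K, hKn, h1, h2, h3⟩ := hK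
  haveI := hKn
  let A : Subgroup G :=
    { carrier := {v | v ∈ P ∧ (∀ x ∈ P, Commute v x) ∧ v ^ p = 1}
      one_mem' := ⟨one_mem _, fun x _ => Commute.one_left x, one_pow _⟩
      mul_mem' := fun {a b} ha hb => ⟨mul_mem ha.1 hb.1,
        fun x hx => (ha.2.1 x hx).mul_left (hb.2.1 x hx), by
          rw [(ha.2.1 b hb.1).mul_pow, ha.2.2, hb.2.2, one_mul]⟩
      inv_mem' := fun {a} ha => ⟨inv_mem ha.1, fun x hx => (ha.2.1 x hx).inv_left, by
          rw [inv_pow, ha.2.2, inv_one]⟩ }
  have hAP : A ≤ P := fun v hv => hv.1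
  haveI hAn : A.Normal := ⟨fun v hv g => ⟨Subgroup.Normal.conj_mem ‹_› v hv.1 g, fun x hx => by
    have := (hv.2.1 (g⁻¹ * x * g⁻¹⁻¹) (Subgroup.Normal.conj_mem ‹_› x hx g⁻¹)).map
      (MulAut.conj g).toMonoidHom
    simpa [mul_assoc] using this, by rw [conj_pow, hv.2.2, mul_one, mul_inv_cancel]⟩⟩
  have hAne : A ≠ ⊥ := by
    haveI : Nontrivial P := (Subgroup.nontrivial_iff_ne_bot P).2 hne
    haveI := hP.center_nontrivial
    obtain ⟨k, hk0, hk⟩ := (hP.to_subgroup (Subgroup.center P)).nontrivial_iff_card.1 inferInstance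
    obtain ⟨z, hz⟩ := exists_prime_orderOf_dvd_card' (G := Subgroup.center P) p
      (hk ▸ dvd_pow_self p hk0.ne')
    intro hA
    have hz1 : ((z : P) : G) ∈ A := ⟨(z : P).2, fun x hx =>
      (congrArg Subtype.val (Subgroup.mem_center_iff.1 z.2 ⟨x, hx⟩)).symm, by
        have := congrArg (fun w : Subgroup.center P => ((w : P) : G)) (hz ▸ pow_orderOf_eq_one z)
        simpa using this⟩
    rw [hA, Subgroup.mem_bot] at hz1
    rw [show z = 1 from Subtype.ext (Subtype.ext hz1), orderOf_one] at hz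
    exact hp.out.ne_one hz.symm
  set B : Subgroup G := A ⊓ Subgroup.centralizer (K : Set G) with hBdef
  have hBne : B ≠ ⊥ := by
    let φ : K →* MulAut A := (MulAut.conjNormal (H := A)).comp K.subtype
    have hR : IsPGroup p φ.range := by
      rintro ⟨_, k, rfl⟩
      obtain ⟨i, j, hij, ⟨e, he⟩, hj⟩ :=
        CfsgLib.NormalPComplement.exists_pParts (p := p) (isOfFinOrder_of_finite k)
      have hj1 : φ (k ^ j) = 1 := by
        refine MulEquiv.ext fun v => Subtype.ext ?_
        have hc := h3 _ (k ^ j).2 (by rwa [Subgroup.orderOf_coe])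
        show ((k ^ j : K) : G) * (v : G) * ((k ^ j : K) : G)⁻¹ = v
        rw [← Subgroup.mem_centralizer_iff.1 hc v (hAP v.2), mul_inv_cancel_right]
      have hk : φ k = φ (k ^ i) := by
        conv_lhs => rw [← hij]
        rw [map_mul, hj1, mul_one]
      refine ⟨e, Subtype.ext ?_⟩
      show φ k ^ p ^ e = 1
      rw [hk, ← map_pow, orderOf_dvd_iff_pow_eq_one.1 he, map_one]
    have hdvd : p ∣ Nat.card A := by
      haveI : Nontrivial A := (Subgroup.nontrivial_iff_ne_bot A).2 hAne
      obtain ⟨k, hk0, hk⟩ := (hP.to_le hAP).nontrivial_iff_card.1 inferInstance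
      exact hk ▸ dvd_pow_self p hk0.ne'
    obtain ⟨b, hb, hb1⟩ := hR.exists_fixed_point_of_prime_dvd_card_of_fixed_point A hdvd
      (a := (1 : A)) (fun r => map_one (r : MulAut A))
    intro hB
    have hbB : (b : G) ∈ B := by
      refine ⟨b.2, Subgroup.mem_centralizer_iff.2 fun k hk => ?_⟩
      have := congrArg Subtype.val (hb ⟨φ ⟨k, hk⟩, ⟨k, hk⟩, rfl⟩)
      exact mul_inv_eq_iff_eq_mul.1 (this : k * (b : G) * k⁻¹ = b)
    rw [hB, Subgroup.mem_bot] at hbB
    exact hb1 (Subtype.ext hbB.symm)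
  obtain ⟨N, hNn, hNne, hNB, hmin⟩ := exists_minimal_normal hBne
  haveI := hNn
  have hNA : N ≤ A := hNB.trans inf_le_left
  have hNK : ∀ v ∈ N, ∀ k ∈ K, k * v = v * k := fun v hv k hk =>
    Subgroup.mem_centralizer_iff.1 (hNB hv).2 k hk
  have hcomm : ∀ v ∈ N, ∀ w ∈ N, Commute v w := fun v hv w hw =>
    (hNA hv).2.1 w (hAP (hNA hw))
  haveI : IsMulCommutative N := ⟨⟨fun v w => Subtype.ext (hcomm v v.2 w w.2)⟩⟩
  have hpow : ∀ g : G, ∃ m : ℕ, ∀ v ∈ N, g * v * g⁻¹ = v ^ m := by
    intro g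
    obtain ⟨w, m, hw, hw1, hwm⟩ := CfsgLib.PSolvable.exists_power_eigenvector N hNne
      (fun v hv => (hNA hv).2.2) g (Subgroup.mem_centralizer_iff.2 fun v hv =>
        (hNK v hv _ (h1 g)).symm)
    refine ⟨m, ?_⟩
    let Em : Subgroup G :=
      { carrier := {v | v ∈ N ∧ g * v * g⁻¹ = v ^ m}
        one_mem' := ⟨one_mem _, by simp⟩
        mul_mem' := fun {a b} ha hb => ⟨mul_mem ha.1 hb.1, by
          rw [(hcomm a ha.1 b hb.1).mul_pow, ← ha.2, ← hb.2]; group⟩
        inv_mem' := fun {a} ha => ⟨inv_mem ha.1, by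
          rw [inv_pow, ← ha.2]; group⟩ }
    have hEn : Em.Normal := ⟨fun v hv h => ⟨hNn.conj_mem v hv.1 h, by
      have hc : Commute ⁅g⁻¹, h⁻¹⁆ v := hNK v hv.1 _ (h2 _ _)
      rw [conj_pow, ← hv.2]
      calc g * (h * v * h⁻¹) * g⁻¹
          = h * g * (⁅g⁻¹, h⁻¹⁆ * v * ⁅g⁻¹, h⁻¹⁆⁻¹) * g⁻¹ * h⁻¹ := by
            rw [commutatorElement_def]; group
        _ = h * (g * v * g⁻¹) * h⁻¹ := by rw [hc.eq, mul_inv_cancel_right]; group⟩⟩
    intro v hv
    have := hmin Em hEn (fun hE => hw1 (by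
      have hwE : w ∈ Em := ⟨hw, hwm⟩
      rwa [hE, Subgroup.mem_bot] at hwE)) fun x hx => hx.1
    rw [← this] at hv
    exact hv.2
  obtain ⟨v, hv, hv1⟩ := (Subgroup.bot_or_exists_ne_one N).resolve_left hNne
  have hvn : (Subgroup.zpowers v).Normal := ⟨fun x hx g => by
    obtain ⟨m, hm⟩ := hpow g
    rw [hm x (Subgroup.zpowers_le.2 hv hx)]
    exact pow_mem hx m⟩
  have heq := hmin _ hvn (fun h => hv1 (Subgroup.zpowers_eq_bot.1 h)) (Subgroup.zpowers_le.2 hv)
  refine ⟨N, hNn, hNA.trans hAP, ?_⟩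
  rw [← heq, Nat.card_zpowers]
  exact orderOf_eq_prime (hNA hv).2.2 hv1

end Scalar

universe u in
/-- A supersolvable quotient by a `p`-subgroup with scalar action. -/
theorem isSupersolvable_of_scalar {p : ℕ} [hp : Fact p.Prime] : ∀ (n : ℕ) (G : Type u) [Group G]
    [Finite G], Nat.card G = n → ∀ (P : Subgroup G) [P.Normal], IsPGroup p P →
    Cfsg.IsSupersolvable (G ⧸ P) → Scalar p P → Cfsg.IsSupersolvable G := by
  intro n
  induction n using Nat.strong_induction_on with
  | _ n ih =>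
    intro G _ _ hn P _ hP hGP hK
    by_cases hne : P = ⊥
    · exact CfsgLib.Supersolvable.of_equiv
        ((QuotientGroup.quotientMulEquivOfEq hne).trans QuotientGroup.quotientBot) hGP
    obtain ⟨N, hN, hNP, hNc⟩ := exists_normal_prime_of_scalar hP hne hK
    haveI := hN
    haveI : IsCyclic N := isCyclic_of_prime_card hNc
    refine CfsgLib.Supersolvable.of_quotient_cyclic N ?_
    have hlt : Nat.card (G ⧸ N) < n := hn ▸ CfsgLib.Supersolvable.card_quotient_lt N
      (CfsgLib.Supersolvable.ne_bot_of_prime (hNc ▸ hp.out))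
    haveI : (P.map (QuotientGroup.mk' N)).Normal :=
      (inferInstance : P.Normal).map _ (QuotientGroup.mk'_surjective N)
    exact ih _ hlt _ rfl (P.map (QuotientGroup.mk' N)) (hP.map _)
      (CfsgLib.Supersolvable.of_equiv (QuotientGroup.quotientQuotientEquivQuotient N P hNP).symm hGP)
      (hK.map _ (QuotientGroup.mk'_surjective N))

section Action

variable {G : Type*} [Group G] [Finite G] {p : ℕ} [hp : Fact p.Prime]

/-- A `p'`-element normalizing a cyclic `p`-group and fixing an element of order `p` in it. -/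
theorem commute_of_fix {a y : G} {j : ℕ} (ho : orderOf y = p ^ (j + 1))
    (hn : ∀ x ∈ Subgroup.zpowers y, a * x * a⁻¹ ∈ Subgroup.zpowers y)
    (hz : Commute a (y ^ p ^ j)) (hcp : (orderOf a).Coprime p) : Commute a y := by
  obtain ⟨i, hi⟩ := Subgroup.mem_zpowers_iff.1 (hn y (Subgroup.mem_zpowers y))
  have hiter : ∀ k : ℕ, a ^ k * y * (a ^ k)⁻¹ = y ^ (i ^ k) := by
    intro k
    induction k with
    | zero => simp
    | succ k ih =>
      rw [pow_succ' a k, show a * a ^ k * y * (a * a ^ k)⁻¹ = a * (a ^ k * y * (a ^ k)⁻¹) * a⁻¹ by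
        group, ih, ← conj_zpow, ← hi, ← zpow_mul, pow_succ', mul_comm]
  have hdvd : (p : ℤ) ∣ i - 1 := by
    have h1 : a * y ^ p ^ j * a⁻¹ = y ^ p ^ j := by rw [hz.eq, mul_inv_cancel_right]
    rw [← conj_pow, ← hi, ← zpow_natCast y, ← zpow_natCast (y ^ i), ← zpow_mul,
      ← orderOf_dvd_sub_iff_zpow_eq_zpow, ho, pow_succ] at h1
    push_cast at h1
    rw [show i * (p : ℤ) ^ j - (p : ℤ) ^ j = (i - 1) * (p : ℤ) ^ j by ring,
      mul_comm ((p : ℤ) ^ j) (p : ℤ)] at h1
    exact Int.dvd_of_mul_dvd_mul_right (pow_ne_zero _ (by exact_mod_cast hp.out.ne_zero)) h1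
  have hdd := dvd_sub_pow_of_dvd_sub hdvd j
  have hfix : Commute (a ^ p ^ j) y := by
    have h2 : y ^ (i ^ p ^ j) = y := by
      conv_rhs => rw [← zpow_one y]
      rw [← orderOf_dvd_sub_iff_zpow_eq_zpow, ho]
      push_cast
      simpa using hdd
    exact mul_inv_eq_iff_eq_mul.1 ((hiter _).trans h2)
  obtain ⟨m, hm⟩ := exists_pow_eq_self_of_coprime (n := p ^ j) (x := a) (hcp.pow_right j).symm
  rw [← hm]
  exact hfix.pow_left m

/-- The scalar action of the whole group on a cyclic normal `p`-subgroup. -/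
theorem scalar_of_cyclic (P : Subgroup G) [P.Normal] (hP : IsPGroup p P) [hc : IsCyclic P] :
    Scalar p P := by
  obtain ⟨y, hy⟩ := (Subgroup.isCyclic_iff_exists_zpowers_eq_top P).1 hc
  obtain ⟨k, hk⟩ := IsPGroup.iff_card.1 hP
  have ho : orderOf y = p ^ k := by rw [← Nat.card_zpowers, hy, hk]
  rcases Nat.eq_zero_or_eq_succ_pred k with hk0 | hk0
  · refine ⟨⊤, inferInstance, fun _ => trivial, fun _ _ => trivial, fun a _ _ => ?_⟩
    refine Subgroup.mem_centralizer_iff.2 fun v hv => ?_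
    have hy1 : y = 1 := orderOf_eq_one_iff.1 (by rw [ho, hk0, pow_zero])
    rw [SetLike.mem_coe, ← hy, hy1, Subgroup.zpowers_one_eq_bot, Subgroup.mem_bot] at hv
    rw [hv, one_mul, mul_one]
  · set j := k.pred
    rw [hk0] at ho
    haveI : (Subgroup.zpowers y).Normal := hy ▸ inferInstance
    haveI : (Subgroup.zpowers (y ^ p ^ j)).Normal :=
      CfsgLib.Supersolvable.normal_of_le_cyclic_normal
        (Subgroup.zpowers_le.2 (Subgroup.npow_mem_zpowers y _))
    have hcard : Nat.card (Subgroup.zpowers (y ^ p ^ j)) ∣ p := by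
      rw [Nat.card_zpowers]
      refine orderOf_dvd_of_pow_eq_one ?_
      rw [← pow_mul, ← pow_succ, ← ho, pow_orderOf_eq_one]
    obtain ⟨h1, h2⟩ := CfsgLib.PSolvable.conj_power_cases (C := Subgroup.zpowers (y ^ p ^ j)) hcard
    refine ⟨_, inferInstance, h1, h2, fun a ha hcp => ?_⟩
    have hay : Commute a y := commute_of_fix ho
      (fun x hx => (inferInstance : (Subgroup.zpowers y).Normal).conj_mem x hx a)
      (Subgroup.mem_centralizer_iff.1 ha _ (Subgroup.mem_zpowers _)).symm hcp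
    refine Subgroup.mem_centralizer_iff.2 fun v hv => ?_
    rw [SetLike.mem_coe, ← hy] at hv
    obtain ⟨i, rfl⟩ := Subgroup.mem_zpowers_iff.1 hv
    exact ((hay.zpow_right i).symm).eq

theorem hyp_subgroup {P : Subgroup G} {d : ℕ} (hH : HSub.Hyp P d) (L : Subgroup G)
    {Q : Subgroup L} (hQ : Q.map L.subtype ≤ P) : HSub.Hyp Q d := by
  intro F hF hFd g
  rintro x ⟨⟨e, he, rfl⟩, hxN⟩
  have hmem : ((MulAut.conj g e : L) : G) ∈ F.map L.subtype := by
    refine hH (F.map L.subtype) ((Subgroup.map_mono hF).trans hQ)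
      (by rwa [Subgroup.card_map_of_injective L.subtype_injective]) (g : G)
      ⟨⟨e, ⟨e, he, rfl⟩, rfl⟩, ?_⟩
    exact Subgroup.le_normalizer_map L.subtype ⟨_, hxN, rfl⟩
  obtain ⟨w, hw, hwe⟩ := hmem
  exact (Subtype.ext hwe : w = _) ▸ hw

/-- The hypothesis on a normal `p`-subgroup gives a scalar action. -/
theorem scalar_of_hyp (P : Subgroup G) [P.Normal] (hP : IsPGroup p P) {d m : ℕ}
    (hH : HSub.Hyp P d) (hd : d = p ^ m) (hm : m ≠ 0) (hdP : d < Nat.card P) : Scalar p P := by
  classical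
  obtain ⟨n, hn⟩ := IsPGroup.iff_card.1 hP
  have hmn : m + 1 ≤ n := by
    by_contra h
    exact absurd (Nat.pow_le_pow_right hp.out.pos (show n ≤ m by omega)) (by rw [← hn, ← hd]; omega)
  have hord : ∀ x ∈ P, ∃ e, orderOf x = p ^ e := fun x hx => by
    obtain ⟨e, he⟩ := IsPGroup.iff_orderOf.1 hP ⟨x, hx⟩
    exact ⟨e, by rw [← Subgroup.orderOf_mk x hx, he]⟩
  have hnorm : ∀ F : Subgroup G, F ≤ P → (Nat.card F = d ∨ (d = 2 ∧ Nat.card F = 4)) → F.Normal :=
    fun F hF hc => ⟨fun x hx g =>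
      hH.mem_of_conj hP hF hc hx (Subgroup.Normal.conj_mem ‹_› x (hF hx) g)⟩
  by_cases hexp : ∀ x ∈ P, x ^ d = 1
  · -- all maximal subgroups of `P` are normal in `G`
    have hMn : ∀ M : Subgroup P, IsCoatom M → (M.map P.subtype).Normal := by
      intro M hM
      refine ⟨fun x hx g => ?_⟩
      obtain ⟨y, hy, rfl⟩ := hx
      obtain ⟨e, he⟩ := hord (y : G) y.2
      have hem : e ≤ m := (Nat.pow_dvd_pow_iff_le_right hp.out.one_lt).1
        (by rw [← he, ← hd]; exact orderOf_dvd_of_pow_eq_one (hexp _ y.2))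
      have hdvd : p ^ m ∣ Nat.card M := by
        refine Nat.dvd_of_mul_dvd_mul_right hp.out.pos ?_
        have h := M.card_mul_index
        rw [CfsgLib.TwoGroups.index_eq_of_isCoatom hP hM, hn] at h
        rw [h, ← pow_succ]
        exact pow_dvd_pow p hmn
      obtain ⟨F, hF, hle⟩ := Sylow.exists_subgroup_card_pow_prime_le p (G := M) (m := m) hdvd
        (Subgroup.zpowers (⟨y, hy⟩ : M)) (n := e)
        (by rw [Nat.card_zpowers, ← Subgroup.orderOf_coe, ← Subgroup.orderOf_coe, he]) hem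
      have hFn := hnorm ((F.map M.subtype).map P.subtype) (Subgroup.map_subtype_le _)
        (Or.inl (by rw [Subgroup.card_map_of_injective P.subtype_injective,
          Subgroup.card_map_of_injective M.subtype_injective, hF, hd]))
      exact Subgroup.map_mono (Subgroup.map_subtype_le _)
        (hFn.conj_mem _ ⟨_, ⟨_, hle (Subgroup.mem_zpowers _), rfl⟩, rfl⟩ g)
    let J : {M : Subgroup P // IsCoatom M} → Subgroup G := fun M =>
      haveI := hMn M.1 M.2
      (Subgroup.centralizer ((P.map (QuotientGroup.mk' (M.1.map P.subtype)) :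
        Subgroup (G ⧸ M.1.map P.subtype)) : Set (G ⧸ M.1.map P.subtype))).comap
        (QuotientGroup.mk' (M.1.map P.subtype))
    have hJ : ∀ M, (∀ g : G, g ^ (p - 1) ∈ J M) ∧ (∀ g h : G, ⁅g, h⁆ ∈ J M) ∧ (J M).Normal := by
      rintro ⟨M, hM⟩
      haveI := hMn M hM
      set q := QuotientGroup.mk' (M.map P.subtype) with hq
      haveI : (P.map q).Normal :=
        (inferInstance : P.Normal).map q (QuotientGroup.mk'_surjective _)
      have hcard : Nat.card (P.map q) ∣ p := by
        rw [show P.map q = (q.comp P.subtype).range by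
          rw [MonoidHom.range_comp, Subgroup.range_subtype], ← Subgroup.index_ker,
          ← MonoidHom.comap_ker, hq, QuotientGroup.ker_mk']
        show (Subgroup.comap P.subtype (M.map P.subtype)).index ∣ p
        rw [Subgroup.comap_map_eq_self_of_injective P.subtype_injective,
          CfsgLib.TwoGroups.index_eq_of_isCoatom hP hM]
      obtain ⟨h1, h2⟩ := CfsgLib.PSolvable.conj_power_cases (C := P.map q) hcard
      refine ⟨fun g => ?_, fun g h => ?_, inferInstanceAs (Subgroup.comap q _).Normal⟩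
      · refine Subgroup.mem_comap.2 ?_
        rw [map_pow]; exact h1 _
      · refine Subgroup.mem_comap.2 ?_
        rw [map_commutatorElement]; exact h2 _ _
    refine ⟨⨅ M, J M, Subgroup.normal_iInf_normal fun M => (hJ M).2.2,
      fun g => Subgroup.mem_iInf.2 fun M => (hJ M).1 g,
      fun g h => Subgroup.mem_iInf.2 fun M => (hJ M).2.1 g h, fun a ha hcp => ?_⟩
    refine CfsgLib.CoprimeAction.le_centralizer_of_frattini (A := Subgroup.zpowers a)
      (Subgroup.le_normalizer_of_normal ..) ?_ (fun b hb k hk => ?_) (Subgroup.mem_zpowers a)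
    · obtain ⟨i, hi⟩ := IsPGroup.iff_card.1 (hP.to_subgroup (frattini P))
      rw [Nat.card_zpowers, hi]
      exact hcp.pow_right i
    · have hkb : k⁻¹ * (b * k * b⁻¹) ∈ P :=
        mul_mem (inv_mem hk) (Subgroup.Normal.conj_mem ‹_› k hk b)
      refine ⟨⟨_, hkb⟩, ?_, rfl⟩
      simp only [SetLike.mem_coe, frattini, Order.radical, Subgroup.mem_iInf]
      intro M hM
      haveI := hMn M hM
      have hb' : b ∈ J ⟨M, hM⟩ := Subgroup.zpowers_le.2 (Subgroup.mem_iInf.1 ha ⟨M, hM⟩) hb
      have h1 := Subgroup.mem_centralizer_iff.1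
        (show QuotientGroup.mk' (M.map P.subtype) b ∈ _ from hb') _ ⟨k, hk, rfl⟩
      have h2 : QuotientGroup.mk' (M.map P.subtype) (k⁻¹ * (b * k * b⁻¹)) = 1 := by
        rw [map_mul, map_mul, map_mul, map_inv, map_inv, ← h1]; group
      obtain ⟨w, hw, hwe⟩ := (QuotientGroup.eq_one_iff _).1 h2
      rwa [show (⟨_, hkb⟩ : P) = w from Subtype.ext hwe.symm]
  · -- there is an element of order `d`
    push Not at hexp
    obtain ⟨u, huP, hu⟩ := hexp
    obtain ⟨e, he⟩ := hord u huP
    have hme : m ≤ e := by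
      by_contra h
      exact hu (orderOf_dvd_iff_pow_eq_one.1 (by rw [he, hd]; exact pow_dvd_pow p (by omega)))
    set v := u ^ p ^ (e - m) with hv
    have hvo : orderOf v = p ^ m := by
      rw [hv, orderOf_pow' _ (pow_ne_zero _ hp.out.ne_zero), he,
        Nat.gcd_eq_right (pow_dvd_pow p (by omega)), Nat.pow_div (by omega) hp.out.pos]
      congr 1; omega
    have hvP : v ∈ P := pow_mem huP _
    obtain ⟨m', rfl⟩ := Nat.exists_eq_succ_of_ne_zero hm
    haveI hVn : (Subgroup.zpowers v).Normal := hnorm _ (Subgroup.zpowers_le.2 hvP)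
      (Or.inl (by rw [Nat.card_zpowers, hvo, hd]))
    set z := v ^ p ^ m' with hz
    haveI hZn : (Subgroup.zpowers z).Normal :=
      CfsgLib.Supersolvable.normal_of_le_cyclic_normal
        (Subgroup.zpowers_le.2 (Subgroup.npow_mem_zpowers v _))
    have hzp : z ^ p = 1 := by rw [hz, ← pow_mul, ← pow_succ, ← hvo, pow_orderOf_eq_one]
    have hz1 : z ≠ 1 := fun h => by
      have h1 := orderOf_dvd_of_pow_eq_one h
      rw [hvo, Nat.pow_dvd_pow_iff_le_right hp.out.one_lt] at h1
      omega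
    have hzo : orderOf z = p := orderOf_eq_prime hzp hz1
    obtain ⟨h1, h2⟩ := CfsgLib.PSolvable.conj_power_cases (C := Subgroup.zpowers z)
      (by rw [Nat.card_zpowers, hzo])
    refine ⟨_, inferInstance, h1, h2, fun a ha hcp => ?_⟩
    have haz : Commute a z := (Subgroup.mem_centralizer_iff.1 ha z (Subgroup.mem_zpowers z)).symm
    have hcyc : ∀ y ∈ P, orderOf y = p ^ (m' + 1) → y ^ p ^ m' = z → Commute a y := by
      intro y hy hyo hyz
      have hYn := hnorm _ (Subgroup.zpowers_le.2 hy) (Or.inl (by rw [Nat.card_zpowers, hyo, hd]))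
      exact commute_of_fix hyo (fun x hx => hYn.conj_mem x hx a) (hyz ▸ haz) hcp
    have hav : Commute a v := hcyc v hvP hvo rfl
    set Q : Subgroup G := P ⊓ Subgroup.centralizer (Subgroup.zpowers v : Set G) with hQdef
    have hcentv : ∀ x : G, Commute x v → x ∈ Subgroup.centralizer (Subgroup.zpowers v : Set G) :=
      fun x hx => Subgroup.mem_centralizer_iff.2 fun y hy => by
        obtain ⟨i, rfl⟩ := Subgroup.mem_zpowers_iff.1 hy
        exact ((hx.zpow_right i).symm).eq
    have hsmall : ∀ w ∈ Q, CfsgLib.FusionExamples.SmallElt p w → Commute a w := by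
      intro w hw hws
      obtain ⟨f, hf⟩ := hord w hw.1
      have hwv : Commute v w := Subgroup.mem_centralizer_iff.1 hw.2 v (Subgroup.mem_zpowers v)
      rcases lt_or_ge f (m' + 1) with hfm | hfm
      · -- a smaller element
        have hwp : w ^ p ^ m' = 1 :=
          orderOf_dvd_iff_pow_eq_one.1 (hf ▸ pow_dvd_pow p (by omega))
        have hvw : (v * w) ^ p ^ m' = z := by rw [hwv.mul_pow, hwp, mul_one]
        have ho : orderOf (v * w) = p ^ (m' + 1) := orderOf_eq_prime_pow
          (by rw [hvw]; exact hz1) (by rw [pow_succ, pow_mul, hvw, hzp])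
        have := hav.inv_right.mul_right (hcyc _ (mul_mem hvP hw.1) ho hvw)
        rwa [inv_mul_cancel_left] at this
      by_cases h2' : p = 2
      · -- normalized cyclic 2-groups are centralized
        subst h2'
        have hf2 : f ≤ 2 := by
          refine (Nat.pow_dvd_pow_iff_le_right (by norm_num : 1 < 2)).1 ?_
          rw [← hf]
          rcases hws with h | ⟨-, h⟩
          · exact (orderOf_dvd_of_pow_eq_one h).trans ⟨2, by norm_num⟩
          · exact (orderOf_dvd_of_pow_eq_one h).trans (by norm_num)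
        have hc : Nat.card (Subgroup.zpowers w) = d ∨ (d = 2 ∧ Nat.card (Subgroup.zpowers w) = 4) := by
          rw [Nat.card_zpowers, hf, hd]
          rcases (by omega : f = m' + 1 ∨ (m' = 0 ∧ f = 2)) with h | ⟨h, h'⟩
          · exact Or.inl (by rw [h])
          · exact Or.inr ⟨by rw [h]; norm_num, by rw [h']; norm_num⟩
        haveI := hnorm _ (Subgroup.zpowers_le.2 hw.1) hc
        exact CfsgLib.Transfer.HSub.commute_of_cyclic (hP.to_le (Subgroup.zpowers_le.2 hw.1))
          (Subgroup.normalizer_eq_top (H := Subgroup.zpowers w) ▸ Subgroup.mem_top a) hcp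
          (Nat.coprime_one_right _) w (Subgroup.mem_zpowers w)
      have hf1 : f ≤ 1 := by
        refine (Nat.pow_dvd_pow_iff_le_right hp.out.one_lt).1 ?_
        rw [← hf, pow_one]
        exact orderOf_dvd_of_pow_eq_one (hws.resolve_right fun h => h2' h.1)
      have hm' : m' = 0 := by omega
      subst hm'
      have hzv : z = v := by rw [hz, pow_zero, pow_one]
      by_cases hwz : w ∈ Subgroup.zpowers v
      · obtain ⟨i, rfl⟩ := Subgroup.mem_zpowers_iff.1 hwz
        exact hav.zpow_right i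
      have hwo : orderOf w = p := by rw [hf, show f = 1 by omega, pow_one]
      have hvwP := mul_mem hvP hw.1
      have hvwo : orderOf (v * w) = p := by
        refine orderOf_eq_prime ?_ fun h => hwz ?_
        · rw [hwv.mul_pow, ← hzv, hzp, one_mul, ← hwo, pow_orderOf_eq_one]
        · rw [eq_inv_of_mul_eq_one_right h]
          exact inv_mem (Subgroup.mem_zpowers v)
      haveI hWn := hnorm _ (Subgroup.zpowers_le.2 hw.1)
        (Or.inl (by simp [Nat.card_zpowers, hwo, hd]))
      haveI hVWn := hnorm _ (Subgroup.zpowers_le.2 hvwP)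
        (Or.inl (by simp [Nat.card_zpowers, hvwo, hd]))
      obtain ⟨j, hj⟩ := Subgroup.mem_zpowers_iff.1 (hWn.conj_mem w (Subgroup.mem_zpowers w) a)
      obtain ⟨i, hi⟩ := Subgroup.mem_zpowers_iff.1 (hVWn.conj_mem _ (Subgroup.mem_zpowers (v * w)) a)
      have key : v ^ (i - 1) = w ^ (j - i) := by
        have h3 : v ^ i * w ^ i = v * w ^ j := by
          rw [← hwv.mul_zpow, hi, hj,
            show a * (v * w) * a⁻¹ = a * v * a⁻¹ * (a * w * a⁻¹) by group, hav.eq,
            mul_inv_cancel_right]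
        calc v ^ (i - 1) = v⁻¹ * (v ^ i * w ^ i) * (w ^ i)⁻¹ := by
              rw [zpow_sub, zpow_one]; group
          _ = w ^ (j - i) := by rw [h3, zpow_sub]; group
      have hbot : Subgroup.zpowers w ⊓ Subgroup.zpowers v = ⊥ := by
        haveI : Fact (Nat.card (Subgroup.zpowers w)).Prime :=
          ⟨by rw [Nat.card_zpowers, hwo]; exact hp.out⟩
        rcases ((Subgroup.zpowers v).subgroupOf (Subgroup.zpowers w)).eq_bot_or_eq_top_of_prime_card
          with h | h
        · rw [inf_comm, ← Subgroup.subgroupOf_map_subtype, h, Subgroup.map_bot]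
        · exact absurd (Subgroup.subgroupOf_eq_top.1 h (Subgroup.mem_zpowers w)) hwz
      have hmem : w ^ (j - i) ∈ Subgroup.zpowers w ⊓ Subgroup.zpowers v :=
        ⟨Subgroup.zpow_mem_zpowers w _, key ▸ Subgroup.zpow_mem_zpowers v _⟩
      rw [hbot, Subgroup.mem_bot] at hmem
      rw [hmem, ← orderOf_dvd_iff_zpow_eq_one, ← hzv, hzo] at key
      rw [← orderOf_dvd_iff_zpow_eq_one, hwo] at hmem
      have hj1 : w ^ j = w := by
        conv_rhs => rw [← zpow_one w]
        rw [← orderOf_dvd_sub_iff_zpow_eq_zpow, hwo]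
        simpa using dvd_add hmem key
      exact mul_inv_eq_iff_eq_mul.1 (hj.symm.trans hj1)
    have haQ : a ∈ Subgroup.centralizer (Q : Set G) := by
      refine CfsgLib.PushUp.mem_centralizer_of_chain (hP.to_le inf_le_left) ?_ hcp
        (fun i => if i = 0 then ⊥ else Q) 1 (by simp) (fun x hx _ => by rw [if_neg one_ne_zero]; exact hx) ?_
      · exact Subgroup.normalizer_eq_top (H := Q) ▸ Subgroup.mem_top a
      · intro i x hx hxs _
        rw [(hsmall x hx hxs).eq, mul_inv_cancel_right, inv_mul_cancel]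
        exact one_mem _
    refine CfsgLib.CoprimeAction.le_centralizer_of_series (A := Subgroup.zpowers a)
      (inf_le_left : Q ≤ P) ?_ (Subgroup.zpowers_le.2 haQ) (fun b hb k hk => ⟨?_, hcentv _ ?_⟩)
      (Subgroup.mem_zpowers a)
    · obtain ⟨i, hi⟩ := IsPGroup.iff_card.1 (hP.to_le (inf_le_left : Q ≤ P))
      rw [Nat.card_zpowers, hi]
      exact hcp.pow_right i
    · exact (mul_mem (inv_mem hk) (Subgroup.Normal.conj_mem ‹_› k hk b) :
        k⁻¹ * (b * k * b⁻¹) ∈ P)
    · have hbv : Commute b v := by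
        obtain ⟨i, rfl⟩ := Subgroup.mem_zpowers_iff.1 hb
        exact hav.zpow_left i
      obtain ⟨i, hi⟩ := Subgroup.mem_zpowers_iff.1 (hVn.conj_mem v (Subgroup.mem_zpowers v) k)
      refine mul_inv_eq_iff_eq_mul.1 ?_
      calc k⁻¹ * (b * k * b⁻¹) * v * (k⁻¹ * (b * k * b⁻¹))⁻¹
          = k⁻¹ * (b * (k * (b⁻¹ * v * b) * k⁻¹) * b⁻¹) * k := by group
        _ = k⁻¹ * (b * v ^ i * b⁻¹) * k := by
            rw [mul_assoc b⁻¹ v b, ← hbv.eq, inv_mul_cancel_left, ← hi]
        _ = k⁻¹ * (k * v * k⁻¹) * k := by rw [(hbv.zpow_right i).eq, mul_inv_cancel_right, hi]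
        _ = v := by group

end Action

section Main

variable {G : Type*} [Group G] [Finite G]

/-- The hypothesis of the statement. -/
def SylowHyp (E : Subgroup G) : Prop :=
  ∀ (p : ℕ), p.Prime → ∀ P : Subgroup G, P ≤ E → IsPGroup p P → ¬ p ∣ P.relIndex E → ¬ IsCyclic ↥P →
    ∃ D : Subgroup G, D ≤ P ∧ 1 < Nat.card D ∧ Nat.card D < Nat.card P ∧
      ∀ F : Subgroup G, F ≤ P → (Nat.card F = Nat.card D ∨ (Nat.card D = 2 ∧ Nat.card F = 4)) →
        ∀ g : G, F.map (MulAut.conj g).toMonoidHom ⊓ Subgroup.normalizer (F : Set G) ≤ F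

theorem SylowHyp.exists_hyp {E P : Subgroup G} (h : SylowHyp E) {p : ℕ} [hp : Fact p.Prime]
    (hPE : P ≤ E) (hP : IsPGroup p P) (hdvd : ¬ p ∣ P.relIndex E) (hc : ¬ IsCyclic ↥P) :
    ∃ d m : ℕ, d = p ^ m ∧ m ≠ 0 ∧ d < Nat.card P ∧ HSub.Hyp P d := by
  obtain ⟨D, hDP, hD1, hDP', hF⟩ := h p hp.out P hPE hP hdvd hc
  obtain ⟨m, hm⟩ := IsPGroup.iff_card.1 (hP.to_le hDP)
  refine ⟨_, m, hm, fun h0 => ?_, hDP', hF⟩
  rw [hm, h0, pow_zero] at hD1
  exact lt_irrefl _ hD1

theorem isSupersolvable_of_sylowHyp : ∀ (n : ℕ) (E : Subgroup G) [E.Normal], Nat.card E = n →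
    Cfsg.IsSupersolvable (G ⧸ E) → SylowHyp E → Cfsg.IsSupersolvable G := by
  intro n
  induction n using Nat.strong_induction_on with
  | _ n ih =>
    intro E _ hn hGE hE
    by_cases hE1 : E = ⊥
    · exact CfsgLib.Supersolvable.of_equiv
        ((QuotientGroup.quotientMulEquivOfEq hE1).trans QuotientGroup.quotientBot) hGE
    set p := (Nat.card E).minFac with hpdef
    haveI hp : Fact p.Prime := ⟨Nat.minFac_prime (mt Subgroup.card_eq_one.1 hE1)⟩
    obtain ⟨S⟩ := (inferInstance : Nonempty (Sylow p E))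
    set P : Subgroup G := (S : Subgroup E).map E.subtype with hPdef
    have hPE : P ≤ E := Subgroup.map_subtype_le _
    have hPp : IsPGroup p P := S.2.map _
    have hPS : P.subgroupOf E = (S : Subgroup E) :=
      Subgroup.comap_map_eq_self_of_injective E.subtype_injective _
    have hPd : ¬ p ∣ P.relIndex E := by
      show ¬ p ∣ (P.subgroupOf E).index
      rw [hPS]; exact S.not_dvd_index
    have hcyc : IsCyclic P ↔ IsCyclic (S : Subgroup E) :=
      (Subgroup.equivMapOfInjective (S : Subgroup E) _ E.subtype_injective).isCyclic.symm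
    have hcompl : HasNormalPComplement p E := by
      by_cases hc : IsCyclic P
      · exact ⟨S, _, inferInstance, IsCyclic.isComplement' rfl (hcyc.1 hc)⟩
      obtain ⟨d, m, hd, hm, hdP, hH⟩ := hE.exists_hyp hPE hPp hPd hc
      refine (hyp_subgroup hH E le_rfl : HSub.Hyp (S : Subgroup E) d).hasNormalPComplement
        (fun q hq hqd => Nat.minFac_le_of_dvd hq.two_le hqd) hd hm ?_
      rwa [hPdef, Subgroup.card_map_of_injective E.subtype_injective] at hdP
    set K₀ := pPrimeCore p E with hK₀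
    haveI : K₀.Characteristic := CfsgLib.Cores.pPrimeCore_characteristic p E
    set K : Subgroup G := K₀.map E.subtype with hKdef
    haveI hKn : K.Normal := CfsgLib.Cores.normal_map_subtype E K₀
    have hKE : K ≤ E := Subgroup.map_subtype_le _
    have hKS := CfsgLib.NormalPComplement.isComplement'_pPrimeCore hcompl S
    have hsup : K ⊔ P = E := by
      rw [hKdef, hPdef, ← Subgroup.map_sup, hKS.sup_eq_top, ← MonoidHom.range_eq_map,
        Subgroup.range_subtype]
    have hKc : (Nat.card K).Coprime p := by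
      rw [hKdef, Subgroup.card_map_of_injective E.subtype_injective]
      exact CfsgLib.Cores.card_pPrimeCore_coprime p
    obtain ⟨k, hk⟩ := IsPGroup.iff_card.1 S.2
    have hidx : K.relIndex E = p ^ k := by
      show (K.subgroupOf E).index = _
      rw [hKdef, show (K₀.map E.subtype).subgroupOf E = K₀ from
        Subgroup.comap_map_eq_self_of_injective E.subtype_injective _, hKS.symm.index_eq_card, hk]
    have hlt : Nat.card K < n := by
      have h := Subgroup.card_mul_index (K.subgroupOf E)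
      rw [Nat.card_congr (Subgroup.subgroupOfEquivOfLe hKE).toEquiv,
        show (K.subgroupOf E).index = p ^ k from hidx, hn] at h
      have hk0 : k ≠ 0 := fun h0 => S.ne_bot_of_dvd_card (Nat.minFac_dvd _)
        (Subgroup.card_eq_one.1 (by rw [hk, h0, pow_zero]))
      rw [← h]
      exact lt_mul_right Nat.card_pos (one_lt_pow₀ hp.out.one_lt hk0)
    have hKhyp : SylowHyp K := by
      intro q hq R hRK hR hRd hRc
      refine hE q hq R (hRK.trans hKE) hR (fun hd => ?_) hRc
      rw [← Subgroup.relIndex_mul_relIndex R K E hRK hKE, hidx] at hd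
      rcases hq.dvd_mul.1 hd with h | h
      · exact hRd h
      have hqp : q = p := (Nat.prime_dvd_prime_iff_eq hq hp.out).1 (hq.dvd_of_dvd_pow h)
      subst hqp
      obtain ⟨i, hi⟩ := IsPGroup.iff_card.1 hR
      have h1 := Subgroup.card_dvd_of_le hRK
      rw [hi] at h1
      haveI := (Nat.card_eq_one_iff_unique.1 (show Nat.card R = 1 by
        rw [hi]; exact Nat.eq_one_of_dvd_coprimes (hKc.symm.pow_left i) dvd_rfl h1)).1
      exact hRc inferInstance
    refine ih _ hlt K rfl ?_ hKhyp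
    -- the layer `E / K`
    set L := Subgroup.normalizer (P : Set G) with hL
    haveI hPn : (P.subgroupOf L).Normal := Subgroup.normal_in_normalizer
    have hPL : P ≤ L := Subgroup.le_normalizer
    let q := QuotientGroup.mk' K
    let f : L →* G ⧸ K := q.comp L.subtype
    have hLE : L ⊔ E = ⊤ := Sylow.normalizer_sup_eq_top S
    have hLK : L ⊔ K = ⊤ := top_le_iff.1 (hLE ▸ sup_le le_sup_left
      (hsup ▸ sup_le le_sup_right (hPL.trans le_sup_left)))
    have hf : Function.Surjective f := by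
      rw [← MonoidHom.range_eq_top, MonoidHom.range_comp, Subgroup.range_subtype]
      have h := congrArg (Subgroup.map q) hLK
      rwa [Subgroup.map_sup, QuotientGroup.map_mk'_self, sup_bot_eq,
        Subgroup.map_top_of_surjective _ (QuotientGroup.mk'_surjective K)] at h
    have himg : (P.subgroupOf L).map f = E.map q := by
      rw [← Subgroup.map_map, Subgroup.subgroupOf_map_subtype, inf_eq_left.2 hPL, ← hsup,
        Subgroup.map_sup, QuotientGroup.map_mk'_self, bot_sup_eq]
    have hsc : Scalar p (P.subgroupOf L) := by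
      have hPLp : IsPGroup p (P.subgroupOf L) := hPp.comap_of_injective _ L.subtype_injective
      by_cases hc : IsCyclic P
      · haveI : IsCyclic (P.subgroupOf L) := (Subgroup.subgroupOfEquivOfLe hPL).isCyclic.2 hc
        exact scalar_of_cyclic _ hPLp
      obtain ⟨d, m, hd, hm, hdP, hH⟩ := hE.exists_hyp hPE hPp hPd hc
      refine scalar_of_hyp _ hPLp (hyp_subgroup hH L ?_) hd hm ?_
      · rw [Subgroup.subgroupOf_map_subtype]; exact inf_le_left
      · rwa [Nat.card_congr (Subgroup.subgroupOfEquivOfLe hPL).toEquiv]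
    have hsc' := hsc.map f hf
    rw [himg] at hsc'
    haveI : (E.map q).Normal := (inferInstance : E.Normal).map q (QuotientGroup.mk'_surjective K)
    refine isSupersolvable_of_scalar _ _ rfl (E.map q) ?_ ?_ hsc'
    · rw [← himg]
      exact (hPp.comap_of_injective _ L.subtype_injective).map _
    · exact CfsgLib.Supersolvable.of_equiv
        (QuotientGroup.quotientQuotientEquivQuotient K E hKE).symm hGE

end Main


/-- Let G be a finite group and E a normal subgroup with G/E supersolvable. Suppose that for every prime p and every non-cyclic Sylow p-subgroup P of E there is a subgroup D of P with 1 < |D| < |P| such that every subgroup F of P of order |D|, and also every subgroup F of P of order 4 when |D| = 2, satisfies g F g⁻¹ ∩ N_G(F) ≤ F for all g ∈ G. Then G is supersolvable. -/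
theorem result {G : Type*} [Group G] [Finite G] (E : Subgroup G) [E.Normal] (hGE : Cfsg.IsSupersolvable (G ⧸ E))
    (h : ∀ (p : ℕ), p.Prime → ∀ P : Subgroup G, P ≤ E → IsPGroup p P → ¬ p ∣ P.relIndex E → ¬ IsCyclic ↥P →
      ∃ D : Subgroup G, D ≤ P ∧ 1 < Nat.card D ∧ Nat.card D < Nat.card P ∧
        ∀ F : Subgroup G, F ≤ P → (Nat.card F = Nat.card D ∨ (Nat.card D = 2 ∧ Nat.card F = 4)) →
          ∀ g : G, F.map (MulAut.conj g).toMonoidHom ⊓ Subgroup.normalizer (F : Set G) ≤ F) :
    Cfsg.IsSupersolvable G := by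
  exact isSupersolvable_of_sylowHyp _ E rfl hGE h

end Cfsg.Agent.S3032
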