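import Cfsg.Statements.S3038
import Cfsg.Agent.S3049
import Cfsg.Agent.Lib.Replacement.IsolatedSylow
set_option autoImplicit false
open Cfsg

namespace Cfsg.Agent.S3038


open CfsgLib
/-- Let G be a finite group and p an odd prime with O_{p'}(G) = 1. Suppose that G has p-rank at most 2 and that some element x of order p is isolated in G and not central. Then F*(G) is a non-abelian simple group, and for every Sylow p-subgroup P of F*(G), either no conjugate of x lies in P and P is cyclic, or some conjugate of x lies in P and either P is extraspecial of order p³ and exponent p, or p = 3 and P has order 3^{2k+1} for some k ≥ 2 and is of maximal class (nilpotency class 2k). Since O_{p'}(G) = 1, such an x is not central modulo O_{p'}(G): the hypotheses describe a counterexample to the Z*_p statement in p-rank at most 2, and the conclusion records the structure it would have. -/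
theorem result {G : Type*} [Group G] [Finite G] {p : ℕ} [Fact p.Prime] (hp : p ≠ 2) (hcore : Cfsg.pPrimeCore p G = ⊥)
    (hrank : Cfsg.PRankLE p 2 G) (x : G) (hx : orderOf x = p) (hiso : Cfsg.IsIsolated x) (hnc : x ∉ Subgroup.center G) :
    IsSimpleGroup ↥(Cfsg.generalizedFittingSubgroup G) ∧ ¬ IsMulCommutative ↥(Cfsg.generalizedFittingSubgroup G) ∧
    ∀ P : Sylow p ↥(Cfsg.generalizedFittingSubgroup G),
      ((∀ g : G, g * x * g⁻¹ ∉ ((P : Subgroup ↥(Cfsg.generalizedFittingSubgroup G)).map (Cfsg.generalizedFittingSubgroup G).subtype)) ∧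
          IsCyclic ↥(P : Subgroup ↥(Cfsg.generalizedFittingSubgroup G))) ∨
      ((∃ g : G, g * x * g⁻¹ ∈ ((P : Subgroup ↥(Cfsg.generalizedFittingSubgroup G)).map (Cfsg.generalizedFittingSubgroup G).subtype)) ∧
        ((Cfsg.IsExtraspecial p ↥(P : Subgroup ↥(Cfsg.generalizedFittingSubgroup G)) ∧
            Nat.card (P : Subgroup ↥(Cfsg.generalizedFittingSubgroup G)) = p ^ 3 ∧
            ∀ y ∈ (P : Subgroup ↥(Cfsg.generalizedFittingSubgroup G)), y ^ p = 1) ∨
         (p = 3 ∧ ∃ k : ℕ, 2 ≤ k ∧ Nat.card (P : Subgroup ↥(Cfsg.generalizedFittingSubgroup G)) = 3 ^ (2 * k + 1) ∧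
            ∃ _ : Group.IsNilpotent ↥(P : Subgroup ↥(Cfsg.generalizedFittingSubgroup G)),
              Group.nilpotencyClass ↥(P : Subgroup ↥(Cfsg.generalizedFittingSubgroup G)) = 2 * k))) := by
  classical
  obtain ⟨hsimp, hnab⟩ := Cfsg.Agent.S3049.result hp hcore hrank x hx hiso hnc
  refine ⟨hsimp, hnab, ?_⟩
  set K := Cfsg.generalizedFittingSubgroup G with hK
  intro P
  set PG : Subgroup G := (P : Subgroup ↥K).map K.subtype with hPG
  have hPGp : IsPGroup p PG := P.2.map _
  by_cases hex : ∃ g : G, g * x * g⁻¹ ∈ PG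
  · refine Or.inr ⟨hex, ?_⟩
    obtain ⟨g, hg⟩ := hex
    obtain ⟨y, hyP, hyx⟩ := hg
    haveI : IsSimpleGroup ↥K := hsimp
    have hperf : commutator ↥K = ⊤ := by
      refine (IsSimpleGroup.eq_bot_or_eq_top_of_normal (commutator ↥K) inferInstance).resolve_left fun h => hnab ?_
      refine ⟨⟨fun a b => ?_⟩⟩
      rw [← commutatorElement_eq_one_iff_mul_comm, ← Subgroup.mem_bot, ← h]
      exact Subgroup.commutator_mem_commutator (Subgroup.mem_top _) (Subgroup.mem_top _)
    have hf : CfsgLib.Replacement.IsolatedSylow.Fixed P y := by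
      refine ⟨hyP, ?_, fun k hk => Subtype.ext ?_⟩
      · rw [← Subgroup.orderOf_coe, show (y : G) = g * x * g⁻¹ from hyx,
          Cfsg.Agent.S3049.orderOf_conj, hx]
      · have hiso' := CfsgLib.TwoGroupTricks.conj_isolated hiso g
        have hyx' : (y : G) = g * x * g⁻¹ := hyx
        have := CfsgLib.TwoGroupTricks.conj_eq_of_mem (g := (k : G)) hiso' hPGp ⟨y, hyP, hyx⟩
          ⟨k * y * k⁻¹, hk, by rw [← hyx']; rfl⟩
        show (k : G) * (y : G) * (k : G)⁻¹ = (y : G)
        rw [hyx', this]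
    have hrk : Cfsg.PRankLE p 2 ↥(P : Subgroup ↥K) := by
      intro A hA hexpA
      have h1 := hrank ((A.map (P : Subgroup ↥K).subtype).map K.subtype) inferInstance ?_
      · rwa [Subgroup.card_map_of_injective K.subtype_injective,
          Subgroup.card_map_of_injective (P : Subgroup ↥K).subtype_injective] at h1
      · rintro _ ⟨_, ⟨a, ha, rfl⟩, rfl⟩
        rw [← map_pow, ← map_pow, hexpA a ha, map_one, map_one]
    exact CfsgLib.Replacement.IsolatedSylow.structure_of_fixed hperf hp hf hrk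
  · push Not at hex
    refine Or.inl ⟨hex, ?_⟩
    obtain ⟨S, hS⟩ := hPGp.exists_le_sylow
    obtain ⟨S', hS'⟩ := (CfsgLib.TwoGroupTricks.isPGroup_zpowers (p := p) (x := x)
      ⟨1, by rw [hx, pow_one]⟩).exists_le_sylow
    obtain ⟨g, hg⟩ := MulAction.exists_smul_eq G S' S
    set y := g * x * g⁻¹ with hy
    have hyS : y ∈ (S : Subgroup G) := by
      rw [← hg]; exact ⟨x, hS' (Subgroup.mem_zpowers x), rfl⟩
    have hyiso : Cfsg.IsIsolated y := CfsgLib.TwoGroupTricks.conj_isolated hiso g
    have hyo : orderOf y = p := (Cfsg.Agent.S3049.orderOf_conj x g).trans hx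
    have hcomm : ∀ u ∈ PG, Commute y u := fun u hu =>
      CfsgLib.TwoGroupTricks.commute_of_mem hyiso S.2 hyS (hS hu)
    have hu : CfsgLib.TwoGroups.UniqueOrderP p ↥(P : Subgroup ↥K) := by
      intro a b ha hb
      have haux : ∀ u : ↥(P : Subgroup ↥K), orderOf u = p → ((u : ↥K) : G) ^ p = 1 ∧ ((u : ↥K) : G) ≠ 1 :=
        fun u hu => by
          have h1 : orderOf ((u : ↥K) : G) = p := by rw [Subgroup.orderOf_coe, Subgroup.orderOf_coe, hu]
          exact ⟨orderOf_dvd_iff_pow_eq_one.1 h1.dvd, fun h => (Fact.out : p.Prime).ne_one (by rw [← h1, h, orderOf_one])⟩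
      have hne : Nontrivial ↥(P : Subgroup ↥K) := ⟨⟨a, 1, fun h => (Fact.out : p.Prime).ne_one (by
        rw [← ha, h, orderOf_one])⟩⟩
      haveI := P.2.center_nontrivial
      obtain ⟨⟨z, hz⟩, hzo⟩ : ∃ z : Subgroup.center ↥(P : Subgroup ↥K), orderOf z = p := by
        refine exists_prime_orderOf_dvd_card' p ?_
        exact ((P.2.to_subgroup _).card_eq_or_dvd).resolve_left fun h =>
          not_nontrivial_iff_subsingleton.2 ((Nat.card_eq_one_iff_unique.1 h).1) inferInstance
      rw [Subgroup.orderOf_mk] at hzo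
      have key : ∀ u : ↥(P : Subgroup ↥K), orderOf u = p → u ∈ Subgroup.zpowers z := by
        intro u huo
        by_contra hnot
        have hnot' : ((u : ↥K) : G) ∉ Subgroup.zpowers ((z : ↥K) : G) := by
          rintro ⟨i, hi⟩
          exact hnot ⟨i, Subtype.ext (Subtype.ext (by simpa using hi))⟩
        obtain ⟨hzp, hz1⟩ := haux z hzo
        obtain ⟨hup, -⟩ := haux u huo
        have hzu : Commute ((z : ↥K) : G) ((u : ↥K) : G) :=
          congrArg (fun t : ↥(P : Subgroup ↥K) => ((t : ↥K) : G)) (Subgroup.mem_center_iff.1 hz u).symm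
        obtain ⟨i, j, hij⟩ := Cfsg.Agent.S3049.exists_eq_pow hrank hzp hz1 hup hnot'
          (hyo ▸ pow_orderOf_eq_one y) hzu (hcomm _ ⟨z, z.2, rfl⟩).symm (hcomm _ ⟨u, u.2, rfl⟩).symm
        refine hex g (show y ∈ PG from ?_)
        rw [hij]
        exact mul_mem (pow_mem (show ((z : ↥K) : G) ∈ PG from ⟨z, z.2, rfl⟩) i)
          (pow_mem (show ((u : ↥K) : G) ∈ PG from ⟨u, u.2, rfl⟩) j)
      have h1 := key a ha
      have h2 : Subgroup.zpowers a = Subgroup.zpowers z :=
        Subgroup.eq_of_le_of_card_ge (Subgroup.zpowers_le.2 h1) (by rw [Nat.card_zpowers, Nat.card_zpowers, ha, hzo])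
      exact h2.ge (key b hb)
    exact (CfsgLib.TwoGroups.isCyclic_or_quaternion P.2 hu).resolve_right fun h => hp h.1
end Cfsg.Agent.S3038
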