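import Cfsg.Statements.S3050
import Cfsg.Agent.Lib.SL2.FpfThreeModule
import Cfsg.Agent.Lib.SchurExt.TwoEngel

set_option autoImplicit false
open Cfsg

namespace Cfsg.Agent.S3050

open CfsgLib.SL2 CfsgLib.SL2.FpfThree Matrix
open scoped MatrixGroups commutatorElement

section ClassTwo

variable {N : Type*} [Group N] (hc : ∀ a b : N, ⁅a, b⁆ ∈ Subgroup.center N)

include hc

theorem mul_left' (a b c : N) : ⁅a * b, c⁆ = ⁅b, c⁆ * ⁅a, c⁆ := by
  have h := Subgroup.mem_center_iff.1 (hc b c) a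
  calc ⁅a * b, c⁆ = a * ⁅b, c⁆ * a⁻¹ * ⁅a, c⁆ := by simp only [commutatorElement_def]; group
    _ = _ := by rw [h, mul_inv_cancel_right]

theorem mul_right' (a b c : N) : ⁅a, b * c⁆ = ⁅a, b⁆ * ⁅a, c⁆ := by
  have h := Subgroup.mem_center_iff.1 (hc a c) b
  calc ⁅a, b * c⁆ = ⁅a, b⁆ * (b * ⁅a, c⁆ * b⁻¹) := by simp only [commutatorElement_def]; group
    _ = _ := by rw [h, mul_inv_cancel_right]

/-- An endomorphism with `σ ^ 3 = 1` and `a` commuting with `σ a` moves commutators backwards. -/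
theorem commutator_sigma (σ : N →* N) (h3 : ∀ a, σ (σ (σ a)) = a) (hcs : ∀ a, Commute a (σ a))
    (a b : N) : σ ⁅σ a, b⁆ = ⁅a, b⁆ := by
  have hsym : ∀ a b : N, ⁅a, σ b⁆ = ⁅σ a, b⁆ := by
    intro a b
    have h := commutatorElement_eq_one_iff_commute.2 (hcs (a * b))
    rw [map_mul, mul_left' hc, mul_right' hc, mul_right' hc,
      commutatorElement_eq_one_iff_commute.2 (hcs a), commutatorElement_eq_one_iff_commute.2 (hcs b),
      mul_one, one_mul] at h
    rw [eq_inv_of_mul_eq_one_right h, commutatorElement_inv]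
  calc σ ⁅σ a, b⁆ = ⁅σ (σ a), σ b⁆ := map_commutatorElement σ _ _
    _ = ⁅σ (σ (σ a)), b⁆ := hsym _ _
    _ = ⁅a, b⁆ := by rw [h3]

end ClassTwo

theorem eq_one_of_cube {F : Type*} [Field F] [Fintype F] (h2 : (2 : F) = 0) {g : SL(2, F)}
    (h : g * g * g = 1) (ht : tr g ≠ 1) : g = 1 := by
  have hg := congrArg (fun A : SL(2, F) => (A : Matrix (Fin 2) (Fin 2) F)) h
  simp only [Matrix.SpecialLinearGroup.coe_mul, Matrix.SpecialLinearGroup.coe_one] at hg
  rw [mul_self_eq, sub_mul, one_mul, smul_mul_assoc, mul_self_eq] at hg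
  set t := tr g with htdef
  have ht' : t * t - 1 ≠ 0 := fun e => ht (sq_inj h2 (by linear_combination e))
  have e00 := congrFun (congrFun hg 0) 0
  have e01 := congrFun (congrFun hg 0) 1
  have e10 := congrFun (congrFun hg 1) 0
  have e11 := congrFun (congrFun hg 1) 1
  simp at e00 e01 e10 e11
  have h01 : (g : Matrix (Fin 2) (Fin 2) F) 0 1 = 0 :=
    (mul_eq_zero.1 (show (t * t - 1) * (g : Matrix (Fin 2) (Fin 2) F) 0 1 = 0 by
      linear_combination e01)).resolve_left ht'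
  have h10 : (g : Matrix (Fin 2) (Fin 2) F) 1 0 = 0 :=
    (mul_eq_zero.1 (show (t * t - 1) * (g : Matrix (Fin 2) (Fin 2) F) 1 0 = 0 by
      linear_combination e10)).resolve_left ht'
  have hd : (g : Matrix (Fin 2) (Fin 2) F) 0 0 = (g : Matrix (Fin 2) (Fin 2) F) 1 1 :=
    mul_left_cancel₀ ht' (by linear_combination e00 - e11)
  rcases (mem_center_iff g).1 ((mem_center_iff_isScalarMat g).2 ⟨h01, h10, hd⟩) with e | e
  · exact e
  · rw [e]
    apply Subtype.ext
    show -(1 : Matrix (Fin 2) (Fin 2) F) = 1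
    have h1 : -(1 : F) = 1 := by linear_combination -h2
    ext i j
    fin_cases i <;> fin_cases j <;> simp [h1]

/-- Let G be a finite group with a normal 2-subgroup Q such that G/Q is isomorphic to SL(2, 2ⁿ) with n ≥ 2, and suppose some element of G of order 3 fixes no nonidentity element of Q under conjugation. Then Q is elementary abelian and is the direct product of normal subgroups of G on each of which G acts as SL(2, 2ⁿ) acts on its natural two-dimensional module (a Galois twist of the natural action allowed). -/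
theorem result {G : Type*} [Group G] [Finite G]
    (Q : Subgroup G) [Q.Normal] (hQ : IsPGroup 2 ↥Q) (n : ℕ) (hn : 2 ≤ n)
    (K : Type*) [Field K] [Fintype K] (hK : Fintype.card K = 2 ^ n)
    (e : G ⧸ Q ≃* Matrix.SpecialLinearGroup (Fin 2) K)
    (x : G) (hx : orderOf x = 3) (hfpf : ∀ q ∈ Q, x * q * x⁻¹ = q → q = 1) :
    Cfsg.IsElementaryAbelian 2 Q ∧
      ∃ (k : ℕ) (V : Fin k → Subgroup G), (∀ i, V i ≤ Q ∧ (V i).Normal ∧
        Cfsg.ActsAsSL2OnSection K ⊤ ⊤ (V i) ⊥) ∧ iSupIndep V ∧ ⨆ i, V i = Q := by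
  classical
  have hp : Fact (Nat.Prime 2) := ⟨Nat.prime_two⟩
  have hn0 : n ≠ 0 := by omega
  have h2 : (2 : K) = 0 := by
    have he : Fintype.card K % 2 = 0 := by rw [hK, Nat.pow_mod]; simp [hn0]
    have : ringChar K = 2 := by
      rw [FiniteField.even_card_iff_char_two]
      exact he
    have : CharP K 2 := by rw [← this]; exact ringChar.charP K
    exact CharTwo.two_eq_zero
  have h4 : 4 ≤ Fintype.card K := by
    rw [hK]
    calc (4 : ℕ) = 2 ^ 2 := rfl
      _ ≤ 2 ^ n := Nat.pow_le_pow_right (by norm_num) hn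
  let π : G →* SL(2, K) := e.toMonoidHom.comp (QuotientGroup.mk' Q)
  have hπsurj : Function.Surjective π := e.surjective.comp (QuotientGroup.mk'_surjective Q)
  have hπker : ∀ g, π g = 1 ↔ g ∈ Q := fun g =>
    (MulEquiv.map_eq_one_iff e).trans (QuotientGroup.eq_one_iff g)
  have hx3 : x ^ 3 = 1 := hx ▸ pow_orderOf_eq_one x
  have hxQ : x ∉ Q := fun h => by
    obtain ⟨k, hk⟩ := hQ ⟨x, h⟩
    have hd : orderOf x ∣ 2 ^ k := orderOf_dvd_of_pow_eq_one (congrArg Subtype.val hk)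
    rw [hx] at hd
    have := (Nat.prime_dvd_prime_iff_eq Nat.prime_three Nat.prime_two).1 (Nat.prime_three.dvd_of_dvd_pow hd)
    omega
  have hπx : tr (π x) = 1 := by
    by_contra ht
    refine hxQ ((hπker x).1 (eq_one_of_cube h2 ?_ ht))
    rw [← map_mul, ← map_mul, ← pow_three', hx3, map_one]
  have hfix : ∀ v ∈ Q, x * v = v * x → v = 1 := fun v hv h => hfpf v hv (mul_inv_eq_iff_eq_mul.2 h)
  -- every element above an element of trace one is a conjugate of `x`
  have hclass : ∀ y : G, tr (π y) = 1 → y ^ 3 = 1 ∧ ∀ v ∈ Q, y * v = v * y → v = 1 := by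
    intro y hy
    obtain ⟨c', hc'⟩ := isConj_iff.1
      (isConj_tr h2 (g := π x) (g' := π y) (by rw [hπx]; exact one_ne_zero) (by rw [hy, hπx]))
    obtain ⟨c, rfl⟩ := hπsurj c'
    have hqQ : c⁻¹ * y * c * x⁻¹ ∈ Q := by
      rw [← hπker, map_mul, map_mul, map_mul, map_inv, map_inv, ← hc']
      group
    obtain ⟨a, -, ha⟩ := CfsgLib.SchurExt.exists_conj_fpf hfix hqQ
    have hy' : y = c * a * x * (c * a)⁻¹ := by
      calc y = c * (c⁻¹ * y * c * x⁻¹ * x) * c⁻¹ := by group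
        _ = c * (a * x * a⁻¹) * c⁻¹ := by rw [ha]
        _ = _ := by group
    refine ⟨by rw [hy', conj_pow, hx3, mul_one, mul_inv_cancel], fun v hv hvy => ?_⟩
    have h1 : (c * a)⁻¹ * v * (c * a) = 1 := by
      refine hfix _ ?_ ?_
      · simpa using (inferInstance : Q.Normal).conj_mem v hv (c * a)⁻¹
      · calc x * ((c * a)⁻¹ * v * (c * a)) = (c * a)⁻¹ * (y * v) * (c * a) := by rw [hy']; group
          _ = (c * a)⁻¹ * (v * y) * (c * a) := by rw [hvy]
          _ = _ := by rw [hy']; group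
    calc v = c * a * ((c * a)⁻¹ * v * (c * a)) * (c * a)⁻¹ := by group
      _ = 1 := by rw [h1, mul_one, mul_inv_cancel]
  have h3Q : ¬ 3 ∣ Nat.card Q := fun hd => by
    obtain ⟨m, hm⟩ := IsPGroup.iff_card.1 hQ
    rw [hm] at hd
    have := (Nat.prime_dvd_prime_iff_eq Nat.prime_three Nat.prime_two).1 (Nat.prime_three.dvd_of_dvd_pow hd)
    omega
  have hcls : ∀ a b : Q, ⁅a, b⁆ ∈ Subgroup.center Q := fun a b =>
    CfsgLib.SchurExt.commutatorElement_mem_center (CfsgLib.SchurExt.engel_fpf_three hx3 hfix) h3Q b a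
  have hback : ∀ y : G, tr (π y) = 1 → ∀ a b : G, a ∈ Q → b ∈ Q →
      ⁅y * a * y⁻¹, b⁆ = y⁻¹ * ⁅a, b⁆ * y := by
    intro y hy a b ha hb
    obtain ⟨hy3, hyfix⟩ := hclass y hy
    let σ : Q →* Q := (MulAut.conjNormal y : MulAut Q).toMonoidHom
    have σval : ∀ q : Q, ((σ q : Q) : G) = y * q * y⁻¹ := fun q => MulAut.conjNormal_apply y q
    have h := congrArg Subtype.val (commutator_sigma hcls σ (fun q => Subtype.ext (by
        rw [σval, σval, σval]
        calc y * (y * (y * (q : G) * y⁻¹) * y⁻¹) * y⁻¹ = y * y * y * q * (y * y * y)⁻¹ := by group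
          _ = q := by rw [← pow_three', hy3, one_mul, inv_one, mul_one]))
      (fun q => Subtype.ext (by
        simp only [Subgroup.coe_mul, σval]
        exact (CfsgLib.SchurExt.commute_conj_fpf_three hy3 hyfix q.2).eq))
      ⟨a, ha⟩ ⟨b, hb⟩)
    rw [σval] at h
    have e1 : ((⁅σ ⟨a, ha⟩, (⟨b, hb⟩ : Q)⁆ : Q) : G) = ⁅y * a * y⁻¹, b⁆ := by
      simp [commutatorElement_def, σval]
    have e2 : ((⁅(⟨a, ha⟩ : Q), (⟨b, hb⟩ : Q)⁆ : Q) : G) = ⁅a, b⁆ := by
      simp [commutatorElement_def]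
    rw [e1, e2] at h
    rw [← h]
    group
  -- `Q` is abelian
  obtain ⟨w, hw⟩ : ∃ w : K, w ∉ ({0, 1} : Finset K) := by
    refine Finset.exists_mem_notMem_of_card_lt_card (t := Finset.univ) ?_ |>.imp fun w hw => hw.2
    rw [Finset.card_univ]
    exact lt_of_le_of_lt Finset.card_le_two (by omega)
  simp only [Finset.mem_insert, Finset.mem_singleton, not_or] at hw
  let Y : SL(2, K) := ⟨!![0, 1; 1, 1], by simp [det_fin_two_of]; linear_combination -h2⟩
  let Z : SL(2, K) := ⟨!![w, w ^ 2 + w + 1; 1, w + 1], by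
    simp [det_fin_two_of]; linear_combination -h2⟩
  obtain ⟨y, hy⟩ := hπsurj Y
  obtain ⟨z, hz⟩ := hπsurj Z
  have hty : tr (π y) = 1 := by rw [hy]; simp [tr, Y]
  have htz : tr (π z) = 1 := by rw [hz]; simp [tr, Z]; linear_combination w * h2
  have htz' : tr (π z⁻¹) = 1 := by rw [map_inv, tr_inv, htz]
  have htzy : tr (π (z * y * z⁻¹)) = 1 := by rw [map_mul, map_mul, map_inv, tr_conj, hty]
  let k : G := z * y * z⁻¹ * (z⁻¹ * y⁻¹ * z)
  have hk : k ∈ Subgroup.centralizer ((⁅Q, Q⁆ : Subgroup G) : Set G) := by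
    have hle : (⁅Q, Q⁆ : Subgroup G) ≤ Subgroup.centralizer ({k} : Set G) := by
      rw [Subgroup.commutator_le]
      intro a ha b hb
      have hconj : ∀ g : G, ∀ q ∈ Q, g * q * g⁻¹ ∈ Q := fun g q hq =>
        (inferInstance : Q.Normal).conj_mem q hq g
      have ha1 : z⁻¹ * a * z⁻¹⁻¹ ∈ Q := hconj _ _ ha
      have e1 : ⁅z * y * z⁻¹ * a * (z * y * z⁻¹)⁻¹, b⁆ =
          z⁻¹ * (y⁻¹ * (z⁻¹⁻¹ * ⁅a, b⁆ * z⁻¹) * y) * z := by
        rw [← hback z⁻¹ htz' a b ha hb, ← hback y hty _ b ha1 hb,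
          ← hback z htz _ b (hconj _ _ ha1) hb]
        congr 1
        group
      have e2 := hback (z * y * z⁻¹) htzy a b ha hb
      rw [e1] at e2
      rw [Subgroup.mem_centralizer_singleton_iff]
      calc ⁅a, b⁆ * k = (z * y * z⁻¹) * ((z * y * z⁻¹)⁻¹ * ⁅a, b⁆ * (z * y * z⁻¹)) *
            (z⁻¹ * y⁻¹ * z) := by simp only [k]; group
        _ = (z * y * z⁻¹) * (z⁻¹ * (y⁻¹ * (z⁻¹⁻¹ * ⁅a, b⁆ * z⁻¹) * y) * z) *
            (z⁻¹ * y⁻¹ * z) := by rw [e2]
        _ = k * ⁅a, b⁆ := by simp only [k]; group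
    rw [Subgroup.mem_centralizer_iff]
    exact fun c hc => Subgroup.mem_centralizer_singleton_iff.1 (hle hc)
  have hk1 : π k ≠ 1 := by
    intro he
    have he' : Z * Y * Z⁻¹ * (Z⁻¹ * Y⁻¹ * Z) = 1 := by
      rw [← hy, ← hz]; simpa [k] using he
    have hc : Y * Z = Z * Y := by
      have h3 : Z * Z * Z = 1 := cube_of_tr_one h2 (by rw [← hz]; exact htz)
      have hzz : Z⁻¹ = Z * Z := inv_eq_of_mul_eq_one_right (by rw [← mul_assoc]; exact h3)
      have h4 : Z⁻¹ * Z⁻¹ = Z := by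
        rw [hzz]
        calc Z * Z * (Z * Z) = Z * Z * Z * Z := by simp only [mul_assoc]
          _ = Z := by rw [h3, one_mul]
      have e5 : Y * (Z⁻¹ * Z⁻¹) = Z⁻¹ * Z⁻¹ * Y := by
        calc Y * (Z⁻¹ * Z⁻¹) = Z⁻¹ * (Z * Y * Z⁻¹ * (Z⁻¹ * Y⁻¹ * Z)) * Z⁻¹ * Y := by group
          _ = _ := by rw [he', mul_one]
      rwa [h4] at e5
    have h00 := congrArg (fun A : SL(2, K) => (A : Matrix (Fin 2) (Fin 2) K) 0 0) hc
    simp only [Matrix.SpecialLinearGroup.coe_mul] at h00
    simp [Y, Z, Matrix.mul_apply, Fin.sum_univ_two] at h00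
    have : w * (w + 1) = 0 := by linear_combination -h00 + (w + w ^ 2) * h2
    rcases mul_eq_zero.1 this with h' | h'
    · exact hw.1 h'
    · exact hw.2 (by linear_combination h' - h2)
  set C := Subgroup.centralizer ((⁅Q, Q⁆ : Subgroup G) : Set G) with hC
  have hQC : Q ≤ C := by
    intro q hq
    have hle : (⁅Q, Q⁆ : Subgroup G) ≤ Subgroup.centralizer ({q} : Set G) := by
      rw [Subgroup.commutator_le]
      intro a ha b hb
      rw [Subgroup.mem_centralizer_singleton_iff]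
      exact (congrArg Subtype.val
        (Subgroup.mem_center_iff.1 (hcls ⟨a, ha⟩ ⟨b, hb⟩) ⟨q, hq⟩)).symm
    exact Subgroup.mem_centralizer_iff.2 fun c hc =>
      Subgroup.mem_centralizer_singleton_iff.1 (hle hc)
  have hCtop : x ∈ C := by
    have hsimp := (CfsgLib.OutAut.SLEven.simple_perfect h2
      (by rw [Nat.card_eq_fintype_card]; exact h4)).1
    have hn : C.Normal := by rw [hC]; infer_instance
    rcases IsSimpleGroup.eq_bot_or_eq_top_of_normal (C.map π) (hn.map π hπsurj) with h | h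
    · exact absurd ((Subgroup.eq_bot_iff_forall _).1 h _ ⟨k, hk, rfl⟩) hk1
    · obtain ⟨c, hc, hcx⟩ : π x ∈ C.map π := h ▸ Subgroup.mem_top _
      have : c⁻¹ * x ∈ Q := by rw [← hπker, map_mul, map_inv, hcx, inv_mul_cancel]
      simpa using C.mul_mem hc (hQC this)
  have hab : ∀ a b : Q, a * b = b * a := by
    intro a b
    have hm : ⁅(a : G), (b : G)⁆ ∈ (⁅Q, Q⁆ : Subgroup G) := Subgroup.commutator_mem_commutator a.2 b.2
    have h1 := hfix _ ((Subgroup.commutator_le_left Q Q) hm)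
      (Subgroup.mem_centralizer_iff.1 hCtop _ hm).symm
    exact Subtype.ext (commutatorElement_eq_one_iff_mul_comm.1 h1)
  let instQ : CommGroup Q := { (inferInstance : Group Q) with mul_comm := hab }
  -- the module
  let φ : G →* MulAut Q := MulAut.conjNormal
  have hφQ : Q ≤ φ.ker := fun q hq => MulEquiv.ext fun v => Subtype.ext (by
    rw [MulAut.conjNormal_apply]
    exact mul_inv_eq_iff_eq_mul.2 (congrArg Subtype.val (hab ⟨q, hq⟩ v)))
  let toEnd : MulAut Q →* AddMonoid.End (Additive Q) :=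
    { toFun := fun f => MonoidHom.toAdditive f.toMonoidHom
      map_one' := rfl
      map_mul' := fun _ _ => rfl }
  let ρ : SL(2, K) →* AddMonoid.End (Additive Q) :=
    toEnd.comp ((QuotientGroup.lift Q φ hφQ).comp e.symm.toMonoidHom)
  have hρ : ∀ (g : G) (q : Q), ρ (π g) (Additive.ofMul q) = Additive.ofMul (φ g q) := by
    intro g q
    show Additive.ofMul ((QuotientGroup.lift Q φ hφQ) (e.symm (e (QuotientGroup.mk g))) q) = _
    rw [e.symm_apply_apply]
    rfl
  have hrel : ∀ Y : SL(2, K), tr Y = 1 → ρ Y * ρ Y + ρ Y + 1 = 0 := by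
    intro Y' hY'
    obtain ⟨y', rfl⟩ := hπsurj Y'
    obtain ⟨hy3, hyfix⟩ := hclass y' hY'
    refine AddMonoidHom.ext fun v => ?_
    obtain ⟨q, rfl⟩ := Additive.ofMul.surjective v
    show ρ (π y') (ρ (π y') (Additive.ofMul q)) + ρ (π y') (Additive.ofMul q) + Additive.ofMul q = 0
    rw [hρ, hρ, ← ofMul_mul, ← ofMul_mul, hab (φ y' (φ y' q) * φ y' q) q]
    refine congrArg Additive.ofMul (Subtype.ext ?_ : q * (φ y' (φ y' q) * φ y' q) = 1)
    rw [hab (φ y' (φ y' q))]
    simp only [Subgroup.coe_mul, φ, MulAut.conjNormal_apply, Subgroup.coe_one]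
    rw [← mul_assoc, ← CfsgLib.SchurExt.prod_fpf_three hy3 hyfix q.2]
    have hinv : y'⁻¹ = y' * y' := inv_eq_of_mul_eq_one_right (by rw [← pow_three, hy3])
    congr 1
    calc y' * (y' * (q : G) * y'⁻¹) * y'⁻¹ = y' * y' * q * (y' * y')⁻¹ := by group
      _ = _ := by rw [← hinv, inv_inv]
  have hprim : ∀ v : Additive Q, ∃ k : ℕ, 2 ^ k • v = 0 := fun v => by
    obtain ⟨k, hk⟩ := hQ v.toMul
    exact ⟨k, congrArg Additive.ofMul hk⟩
  have hexp := exponent_two h2 h4 ρ hrel hprim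
  have H : Rep ρ :=
    { two := h2
      two' := by
        rw [← one_add_one_eq_two]
        exact AddMonoidHom.ext fun v => hexp v
      four_le := h4
      rel := hrel }
  have hel : Cfsg.IsElementaryAbelian 2 Q :=
    ⟨⟨⟨hab⟩⟩, fun a ha => by
      rw [pow_two]
      exact congrArg (fun v : Additive Q => ((v.toMul : Q) : G)) (hexp (Additive.ofMul ⟨a, ha⟩))⟩
  obtain ⟨m, E, hEbij, hEeq⟩ := H.exists_coords
  refine ⟨hel, m, ?_⟩
  let J : Multiplicative (Fin m → Fin 2 → K) →* G :=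
    Q.subtype.comp (AddMonoidHom.toMultiplicativeLeft E)
  have hJinj : Function.Injective J := fun a b h => hEbij.1 (Q.subtype_injective h)
  have hJQ : ∀ u, J u ∈ Q := fun u => ((AddMonoidHom.toMultiplicativeLeft E) u).2
  have hJsurj : ∀ q ∈ Q, ∃ u, J u = q := fun q hq => by
    obtain ⟨u, hu⟩ := hEbij.2 (Additive.ofMul ⟨q, hq⟩)
    exact ⟨Multiplicative.ofAdd u, congrArg (fun v : Additive Q => ((v.toMul : Q) : G)) hu⟩
  have hJeq : ∀ (g : G) u, g * J (Multiplicative.ofAdd u) * g⁻¹ =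
      J (Multiplicative.ofAdd fun i => ((π g : SL(2, K)) : Matrix (Fin 2) (Fin 2) K).mulVec (u i)) := by
    intro g u
    have h := hEeq (π g) u
    obtain ⟨q, hq⟩ := Additive.ofMul.surjective (E u)
    rw [← hq, hρ] at h
    have h' := congrArg (fun v : Additive Q => ((v.toMul : Q) : G)) h
    simp only [φ, toMul_ofMul, MulAut.conjNormal_apply] at h'
    show g * ((E u).toMul : Q) * g⁻¹ = _
    rw [← hq]
    exact h'
  let ι : Fin m → (Multiplicative (Fin 2 → K) →* G) := fun i =>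
    J.comp (AddMonoidHom.toMultiplicative (AddMonoidHom.single (fun _ : Fin m => Fin 2 → K) i))
  have hιinj : ∀ i, Function.Injective (ι i) := fun i a b h => by
    have h' : Multiplicative.ofAdd (Pi.single i a.toAdd : Fin m → Fin 2 → K) =
        Multiplicative.ofAdd (Pi.single i b.toAdd) := hJinj h
    exact Multiplicative.toAdd.injective (Pi.single_injective i (Multiplicative.ofAdd.injective h'))
  refine ⟨fun i => (ι i).range, fun i => ⟨?_, ?_, ?_⟩, ?_, ?_⟩
  · rintro _ ⟨v, rfl⟩; exact hJQ _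
  · refine ⟨fun q hq g => ?_⟩
    obtain ⟨v, rfl⟩ := hq
    refine ⟨Multiplicative.ofAdd (((π g : SL(2, K)) : Matrix (Fin 2) (Fin 2) K).mulVec v.toAdd), ?_⟩
    show J (Multiplicative.ofAdd (Pi.single i _ : Fin m → Fin 2 → K)) =
      g * J (Multiplicative.ofAdd (Pi.single i v.toAdd : Fin m → Fin 2 → K)) * g⁻¹
    rw [hJeq]
    congr 2
    funext j
    by_cases hji : j = i
    · subst hji; simp
    · simp [hji]
  · have hnorm : ∀ (g : G) (v : Multiplicative (Fin 2 → K)), g * ι i v * g⁻¹ =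
        ι i (Multiplicative.ofAdd (((π g : SL(2, K)) : Matrix (Fin 2) (Fin 2) K).mulVec v.toAdd)) := by
      intro g v
      show g * J (Multiplicative.ofAdd (Pi.single i v.toAdd : Fin m → Fin 2 → K)) * g⁻¹ =
        J (Multiplicative.ofAdd (Pi.single i _ : Fin m → Fin 2 → K))
      rw [hJeq]
      congr 2
      funext j
      by_cases hji : j = i
      · subst hji; simp
      · simp [hji]
    refine ⟨?_, bot_le, π.comp (⊤ : Subgroup G).subtype,
      (MonoidHom.ofInjective (hιinj i)).symm.toMonoidHom, ?_, MulEquiv.surjective _, ?_, ?_⟩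
    · intro g _
      rw [Subgroup.mem_normalizer_iff]
      intro q
      constructor
      · rintro ⟨v, rfl⟩
        exact ⟨_, (hnorm g v).symm⟩
      · rintro ⟨v, hv⟩
        refine ⟨Multiplicative.ofAdd (((π g⁻¹ : SL(2, K)) : Matrix (Fin 2) (Fin 2) K).mulVec v.toAdd), ?_⟩
        rw [← hnorm, hv]
        group
    · refine MonoidHom.range_eq_top.2 fun s => ?_
      obtain ⟨g, hg⟩ := hπsurj s
      exact ⟨⟨g, Subgroup.mem_top g⟩, hg⟩
    · intro u
      rw [MulEquiv.coe_toMonoidHom, MulEquiv.map_eq_one_iff, Subgroup.mem_bot]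
      exact ⟨fun h => by rw [h]; rfl, fun h => Subtype.ext h⟩
    · intro g u
      obtain ⟨v, rfl⟩ := (MonoidHom.ofInjective (hιinj i)).surjective u
      refine ⟨MonoidHom.ofInjective (hιinj i) (Multiplicative.ofAdd
        (((π g : SL(2, K)) : Matrix (Fin 2) (Fin 2) K).mulVec v.toAdd)), ?_, ?_⟩
      · exact (hnorm g v).symm
      · simp only [MulEquiv.coe_toMonoidHom, MulEquiv.symm_apply_apply]
        rfl
  · rw [iSupIndep_def]
    intro i
    rw [disjoint_iff_inf_le]
    rintro q ⟨⟨v, hv⟩, hq⟩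
    have hle : (⨆ (j) (_ : j ≠ i), (ι j).range) ≤
        (AddMonoidHom.toMultiplicative (Pi.evalAddMonoidHom (fun _ : Fin m => Fin 2 → K) i)).ker.map J := by
      refine iSup₂_le fun j hj => ?_
      rintro _ ⟨u, rfl⟩
      refine ⟨_, ?_, rfl⟩
      show Multiplicative.ofAdd ((Pi.single j u.toAdd : Fin m → Fin 2 → K) i) = 1
      rw [Pi.single_eq_of_ne (Ne.symm hj)]
      rfl
    obtain ⟨u, hu, hu'⟩ := hle hq
    have h' := hJinj (hu'.trans hv.symm)
    rw [h'] at hu
    have hu2 : Multiplicative.ofAdd ((Pi.single i v.toAdd : Fin m → Fin 2 → K) i) = 1 := hu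
    rw [Pi.single_eq_same] at hu2
    have hv1 : v = 1 := hu2
    rw [Subgroup.mem_bot, ← hv, hv1, map_one]
  · refine le_antisymm (iSup_le fun i => ?_) fun q hq => ?_
    · rintro _ ⟨v, rfl⟩; exact hJQ _
    · obtain ⟨u, rfl⟩ := hJsurj q hq
      have hdec : u = ∏ i, Multiplicative.ofAdd (Pi.single i (u.toAdd i) : Fin m → Fin 2 → K) := by
        rw [← ofAdd_sum, Finset.univ_sum_single]
        rfl
      show u ∈ (⨆ i, (ι i).range).comap J
      rw [hdec]
      exact Subgroup.prod_mem _ fun i _ =>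
        Subgroup.mem_comap.2 (Subgroup.mem_iSup_of_mem (S := fun i => (ι i).range) i
          ⟨Multiplicative.ofAdd (u.toAdd i), rfl⟩)

end Cfsg.Agent.S3050
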