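import Cfsg.Statements.S3192
import Cfsg.Agent.S0205
import Cfsg.Agent.S2507
import Cfsg.Agent.Lib.Involutions.ThompsonTransfer
import Cfsg.Agent.Lib.CoreFree.RankThree.Incomparable
import Cfsg.Agent.Lib.CoreFree.RankThree.Comparable
import Cfsg.Agent.Lib.OutAut.CAInvMain
import Cfsg.Agent.Lib.SL2.BinaryPSL
import Cfsg.Agent.Lib.PSLKleinAut.Basic
-- import your own Cfsg.Agent.* helpers here

set_option autoImplicit false
open Cfsg

namespace Cfsg.Agent.S3192

open CfsgLib.ClassSizes3 CfsgLib.CoreFree.RankThree in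
/-- With three class sizes the involution centralisers are abelian. -/
theorem involution_centralizer_comm {G : Type*} [Group G] [Finite G] [IsSimpleGroup G]
    (hnab : ¬ ∀ a b : G, a * b = b * a) (hZ : Subgroup.center G = ⊥)
    (hcard : Set.ncard {m : ℕ | ∃ x : G, x ∉ Subgroup.center G ∧
      m = (Subgroup.centralizer ({x} : Set G)).index} = 3) (t : G) (ht : orderOf t = 2) :
    ∀ a ∈ Subgroup.centralizer ({t} : Set G), ∀ b ∈ Subgroup.centralizer ({t} : Set G),
      a * b = b * a := by
  classical
  haveI := Fintype.ofFinite G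
  set I := {m : ℕ | ∃ x : G, x ∉ Subgroup.center G ∧
      m = (Subgroup.centralizer ({x} : Set G)).index} with hI
  have hmem : ∀ x : G, x ≠ 1 → cl x ∈ I := fun x hx => ⟨x, by rwa [hZ, Subgroup.mem_bot], rfl⟩
  by_cases hinc : ∀ x y : G, x ≠ 1 → y ≠ 1 → cl x ∣ cl y → cl x = cl y
  · exact centralizer_comm_of_incomparable hinc t ht
  push Not at hinc
  obtain ⟨x, y, hx, hy, hd, hne⟩ := hinc
  obtain ⟨c, hcI, hcn⟩ := Set.exists_mem_notMem_of_ncard_lt_ncard
    (s := ({cl x, cl y} : Set ℕ)) (t := I) (by rw [Set.ncard_pair hne, hcard]; norm_num)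
  rw [Set.mem_insert_iff, Set.mem_singleton_iff, not_or] at hcn
  have hIeq : ({cl x, cl y, c} : Set ℕ) = I := by
    refine Set.eq_of_subset_of_ncard_le ?_ ?_ (Set.finite_of_ncard_ne_zero (by rw [hcard]; norm_num))
    · simp only [Set.insert_subset_iff, Set.singleton_subset_iff]
      exact ⟨hmem x hx, hmem y hy, hcI⟩
    · rw [hcard, Set.ncard_insert_of_notMem (by simp [hne, Ne.symm hcn.1]), Set.ncard_pair (Ne.symm hcn.2)]
  obtain ⟨w, hwc, hw⟩ := hcI
  have hw1 : w ≠ 1 := fun e => hwc (e ▸ one_mem _)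
  have hgt : ∀ z : G, z ≠ 1 → cl z ≠ 1 := fun z hz e => hz (by
    have := cl_eq_one.1 e; rwa [hZ, Subgroup.mem_bot] at this)
  have hsizes : ∀ z : G, z ≠ 1 → cl z = cl x ∨ cl z = cl y ∨ cl z = c := fun z hz => by
    have := hmem z hz
    rw [← hIeq] at this
    simpa using this
  have hcop : ∀ p : ℕ, p.Prime → ¬ (p ∣ cl x ∧ p ∣ c) := by
    rintro p hp ⟨h1, h2⟩
    haveI := Fact.mk hp
    obtain ⟨P⟩ : Nonempty (Sylow p G) := inferInstance
    haveI : Nontrivial (P : Subgroup G) := (Subgroup.nontrivial_iff_ne_bot _).2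
      (P.ne_bot_of_dvd_card (h1.trans (Subgroup.index_dvd_card _)))
    haveI := P.isPGroup'.center_nontrivial
    obtain ⟨⟨⟨z, hzP⟩, hzc⟩, hz⟩ := exists_ne (1 : Subgroup.center (P : Subgroup G))
    have hz1 : z ≠ 1 := fun e => hz (Subtype.ext (Subtype.ext e))
    have hle : (P : Subgroup G) ≤ C z := fun q hq => mem_C.2
      (congrArg Subtype.val (Subgroup.mem_center_iff.1 hzc ⟨q, hq⟩))
    refine P.not_dvd_index (dvd_trans ?_ (Subgroup.index_dvd_of_le hle))
    show p ∣ cl z
    rcases hsizes z hz1 with e | e | e <;> rw [e]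
    exacts [h1, h1.trans hd, h2]
  have hwc' : cl w = c := hw.symm
  have nac : ¬ cl x ∣ c := fun h => by
    obtain ⟨p, hp, hpd⟩ := Nat.exists_prime_and_dvd (hgt x hx)
    exact hcop p hp ⟨hpd, hpd.trans h⟩
  have nca : ¬ c ∣ cl x := fun h => by
    obtain ⟨p, hp, hpd⟩ := Nat.exists_prime_and_dvd (hwc' ▸ hgt w hw1)
    exact hcop p hp ⟨hpd.trans h, hpd⟩
  have P : Pair G (cl x) (cl y) c := ⟨hZ, hnab, hsizes, ⟨x, hx, rfl⟩, ⟨w, hw1, hwc'⟩,
    fun h => hne (Nat.dvd_antisymm hd h), fun h => nac (hd.trans h), nac, nca, hcop⟩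
  exact P.centralizer_comm hd t ht

/-- The three class sizes of `PSL₂(2^m)`. -/
theorem rank_three_of_equiv {G : Type*} [Group G] [Finite G] [IsSimpleGroup G] {F : Type} [Field F]
    [Fintype F] (e : G ≃* Matrix.ProjectiveSpecialLinearGroup (Fin 2) F)
    (h2 : 2 ∣ Fintype.card F) (h4 : 4 ≤ Fintype.card F) :
    ¬ IsMulCommutative G ∧ Set.ncard {m : ℕ | ∃ x : G, x ∉ Subgroup.center G ∧
      m = (Subgroup.centralizer ({x} : Set G)).index} = 3 := by
  set q := Fintype.card F
  have hr := Cfsg.Agent.S2507.result (F := F) h2 h4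
  have hidx : ∀ x : G, (Subgroup.centralizer ({e x} : Set _)).index =
      (Subgroup.centralizer ({x} : Set G)).index := by
    intro x
    rw [← Subgroup.index_comap_of_surjective _ (f := e.toMonoidHom) e.surjective]
    congr 1
    ext g
    rw [Subgroup.mem_comap, Subgroup.mem_centralizer_singleton_iff,
      Subgroup.mem_centralizer_singleton_iff]
    exact ⟨fun h => e.injective (by rw [map_mul, map_mul]; exact h),
      fun h => by show e g * e x = e x * e g; rw [← map_mul, ← map_mul, h]⟩
  have hrange : Set.range (fun x : G => (Subgroup.centralizer ({x} : Set G)).index) =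
      {1, q * (q - 1), q ^ 2 - 1, q * (q + 1)} := by
    rw [← hr]
    ext m
    constructor
    · rintro ⟨x, rfl⟩; exact ⟨e x, hidx x⟩
    · rintro ⟨y, rfl⟩
      refine ⟨e.symm y, ?_⟩
      show (Subgroup.centralizer ({e.symm y} : Set G)).index = _
      rw [← hidx, e.apply_symm_apply]
  have h1 : q * (q - 1) < q ^ 2 - 1 := by
    have : q * (q - 1) + q = q ^ 2 := by
      obtain ⟨k, hk⟩ : ∃ k, q = k + 1 := ⟨q - 1, by omega⟩
      rw [hk, Nat.add_sub_cancel]; ring
    omega
  have h2' : q ^ 2 - 1 < q * (q + 1) := by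
    have : q * (q + 1) = q ^ 2 + q := by ring
    omega
  have h0 : 1 < q * (q - 1) := by
    have : 1 * (q - 1) ≤ q * (q - 1) := Nat.mul_le_mul_right _ (by omega)
    omega
  have hset : {m : ℕ | ∃ x : G, x ∉ Subgroup.center G ∧
      m = (Subgroup.centralizer ({x} : Set G)).index} =
      ({q * (q - 1), q ^ 2 - 1, q * (q + 1)} : Set ℕ) := by
    have hkey : ∀ x : G, (Subgroup.centralizer ({x} : Set G)).index = 1 ↔ x ∈ Subgroup.center G :=
      fun x => CfsgLib.ClassSizes3.cl_eq_one
    ext m
    constructor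
    · rintro ⟨x, hx, rfl⟩
      have : (Subgroup.centralizer ({x} : Set G)).index ∈
          Set.range (fun x : G => (Subgroup.centralizer ({x} : Set G)).index) := ⟨x, rfl⟩
      rw [hrange] at this
      rcases this with h | h
      · exact absurd ((hkey x).1 h) hx
      · exact h
    · intro hm
      have : m ∈ Set.range (fun x : G => (Subgroup.centralizer ({x} : Set G)).index) := by
        rw [hrange]; exact Set.mem_insert_of_mem _ hm
      obtain ⟨x, rfl⟩ := this
      refine ⟨x, fun hc => ?_, rfl⟩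
      change (Subgroup.centralizer ({x} : Set G)).index ∈ _ at hm
      rw [(hkey x).2 hc] at hm
      simp only [Set.mem_insert_iff, Set.mem_singleton_iff] at hm
      omega
  refine ⟨fun hc => ?_, ?_⟩
  · have : q * (q - 1) ∈ Set.range (fun x : G => (Subgroup.centralizer ({x} : Set G)).index) := by
      rw [hrange]; simp
    obtain ⟨x, hx⟩ := this
    change (Subgroup.centralizer ({x} : Set G)).index = _ at hx
    have hcx : x ∈ Subgroup.center G := Subgroup.mem_center_iff.2 fun g => hc.is_comm.comm g x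
    have : (Subgroup.centralizer ({x} : Set G)).index = 1 := CfsgLib.ClassSizes3.cl_eq_one.2 hcx
    omega
  · rw [hset, Set.ncard_insert_of_notMem (by simp; omega), Set.ncard_pair (by omega)]

/-- Simple groups of conjugate type rank three. For a finite group G consider the set of indices of the centralizers of the non-central elements of G. Then G is a non-abelian simple group for which this set has exactly three members if and only if G is isomorphic to PSL(2, 2^m) for some m ≥ 2. -/
theorem result (G : Type*) [Group G] [Finite G] :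
    (IsSimpleGroup G ∧ ¬ IsMulCommutative G ∧
        Set.ncard {m : ℕ | ∃ x : G, x ∉ Subgroup.center G ∧ m = (Subgroup.centralizer ({x} : Set G)).index} = 3) ↔
      ∃ (m : ℕ) (F : Type) (_ : Field F) (_ : Fintype F), 2 ≤ m ∧ Fintype.card F = 2 ^ m ∧
        Nonempty (G ≃* Matrix.ProjectiveSpecialLinearGroup (Fin 2) F) := by
  classical
  constructor
  · rintro ⟨hsimple, hG, hcard⟩
    haveI := hsimple
    haveI := Fintype.ofFinite G
    have hnab : ¬ ∀ a b : G, a * b = b * a := fun h => hG ⟨⟨h⟩⟩
    have hZ : Subgroup.center G = ⊥ := CfsgLib.CoreFree.RankThree.center_eq_bot_of_ne hnab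
    have hnsol : ¬ Group.IsSolvable G := fun h =>
      hnab fun a b => IsSimpleGroup.comm_iff_isSolvable.2 h a b
    have heven : Even (Nat.card G) := by
      by_contra hodd
      exact hnsol (Cfsg.Agent.S0205.result (Nat.not_even_iff_odd.1 hodd))
    have hinv := involution_centralizer_comm hnab hZ hcard
    have : Fact (Nat.Prime 2) := ⟨Nat.prime_two⟩
    obtain ⟨P⟩ : Nonempty (Sylow 2 G) := inferInstance
    have hnc : ¬ IsCyclic (P : Subgroup G) := by
      intro hc
      obtain ⟨K, hK⟩ := CfsgLib.Involutions.exists_index_two_of_cyclic_sylow heven P hc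
      have hn : K.Normal := Subgroup.normal_of_index_eq_two hK
      rcases hn.eq_bot_or_eq_top with e | e <;> rw [e] at hK
      · rw [Subgroup.index_bot] at hK
        have : IsCyclic G := isCyclic_of_prime_card hK
        exact hnab fun a b => (IsCyclic.commGroup (α := G)).mul_comm a b
      · rw [Subgroup.index_top] at hK
        omega
    have hnn : ¬ (P : Subgroup G).Normal := by
      intro hn
      rcases hn.eq_bot_or_eq_top with e | e
      · exact hnc (e ▸ inferInstance)
      · have hp : IsPGroup 2 G := by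
          have h := P.isPGroup'
          rw [e] at h
          exact h.of_equiv Subgroup.topEquiv
        have := hp.isNilpotent
        exact hnsol inferInstance
    have hcomm : ∀ t : G, orderOf t = 2 → IsMulCommutative (Subgroup.centralizer ({t} : Set G)) := fun t ht =>
      ⟨⟨fun a b => Subtype.ext (hinv t ht a a.2 b b.2)⟩⟩
    obtain ⟨F, iF, iT, A, iA, fA, hchar, hodd, ⟨e⟩⟩ :=
      CfsgLib.OutAut.caHyp_main _ G rfl P ⟨hnc, hnn, hcomm⟩
    -- the odd abelian factor is trivial
    have h2 : (2 : F) = 0 := CharTwo.two_eq_zero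
    let φ : Matrix.SpecialLinearGroup (Fin 2) F →* G :=
      e.symm.toMonoidHom.comp (MonoidHom.inl (Matrix.SpecialLinearGroup (Fin 2) F) A)
    have hφinj : Function.Injective φ := e.symm.injective.comp fun a b h => (Prod.ext_iff.1 h).1
    have hrange : φ.range = ((MonoidHom.snd (Matrix.SpecialLinearGroup (Fin 2) F) A).comp e.toMonoidHom).ker := by
      ext g
      constructor
      · rintro ⟨s, rfl⟩
        show (e (e.symm (s, 1))).2 = 1
        rw [e.apply_symm_apply]
      · intro hg
        refine ⟨(e g).1, ?_⟩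
        show e.symm ((e g).1, 1) = g
        rw [show ((e g).1, (1 : A)) = e g from Prod.ext rfl hg.symm, e.symm_apply_apply]
    have hn : φ.range.Normal := hrange ▸ inferInstance
    have hsurj : φ.range = ⊤ := by
      rcases hn.eq_bot_or_eq_top with h | h
      · exfalso
        have : (CfsgLib.ClassicalLinear.upS (1 : F) : Matrix.SpecialLinearGroup (Fin 2) F) = 1 :=
          hφinj (by
            have hm : φ (CfsgLib.ClassicalLinear.upS (1 : F)) ∈ φ.range := ⟨_, rfl⟩
            rw [h, Subgroup.mem_bot] at hm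
            rw [map_one]; exact hm)
        exact one_ne_zero (CfsgLib.ClassicalLinear.upS_injective (this.trans CfsgLib.SL2.upS_zero.symm))
      · exact h
    let ψ : Matrix.SpecialLinearGroup (Fin 2) F ≃* G :=
      MulEquiv.ofBijective φ ⟨hφinj, MonoidHom.range_eq_top.1 hsurj⟩
    obtain ⟨f, -, hf⟩ := FiniteField.card F 2
    refine ⟨f, F, iF, iT, ?_, hf, ⟨ψ.symm.trans (MulEquiv.ofBijective CfsgLib.SL2.Dickson.proj
      ⟨CfsgLib.SL2.Binary.proj_injective_two h2, CfsgLib.SL2.Dickson.proj_surjective⟩)⟩⟩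
    by_contra hlt
    have hf1 : (f : ℕ) = 1 := by have := f.pos; omega
    -- over two elements the group is solvable
    have hcard : Nat.card G = 6 := by
      rw [← Nat.card_congr ψ.toEquiv, CfsgLib.SL2.card_SL, Nat.card_eq_fintype_card, hf, hf1]
      norm_num
    obtain ⟨g, hg⟩ := exists_prime_orderOf_dvd_card' (G := G) 3 (hp := ⟨Nat.prime_three⟩) (by omega)
    have hidx : (Subgroup.zpowers g).index = 2 := by
      have := (Subgroup.zpowers g).card_mul_index
      rw [Nat.card_zpowers, hg, hcard] at this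
      omega
    rcases (Subgroup.normal_of_index_eq_two hidx).eq_bot_or_eq_top with h | h <;> rw [h] at hidx
    · rw [Subgroup.index_bot, hcard] at hidx; omega
    · rw [Subgroup.index_top] at hidx; omega
  · rintro ⟨m, F, iF, iT, hm, hF, ⟨e⟩⟩
    have h4 : 4 ≤ Fintype.card F := by
      rw [hF]
      calc 4 = 2 ^ 2 := by norm_num
        _ ≤ 2 ^ m := Nat.pow_le_pow_right (by norm_num) hm
    haveI := CfsgLib.PSLKleinAut.isSimpleGroup_psl2 (F := F) (by omega)
    haveI : Nontrivial G := e.toEquiv.nontrivial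
    haveI hs : IsSimpleGroup G := IsSimpleGroup.isSimpleGroup_of_surjective e.symm.toMonoidHom
      e.symm.surjective
    exact ⟨hs, rank_three_of_equiv e (hF ▸ dvd_pow_self 2 (by omega)) h4⟩

end Cfsg.Agent.S3192
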