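import Cfsg.Statements.S3198
import Cfsg.Agent.Lib.LinearThreeFourType.Main
import Cfsg.Agent.Lib.LinearThreeFourType.Exists
import Cfsg.Agent.Lib.LinearThreeFourType.Fusion
import Cfsg.Agent.Lib.LinearThreeFourType.CentZ
import Cfsg.Agent.Lib.LinearThreeFourType.BadLocal
import Cfsg.Agent.Lib.LinearThreeFourType.BadCount
import Cfsg.Agent.Lib.LinearThreeFourType.SmallNormal
import Cfsg.Agent.Lib.LinearThreeFourType.Cores
import Cfsg.Agent.Lib.LinearThreeFourType.Plane
import Cfsg.Agent.Lib.LinearThreeFourType.PlaneEmbed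
import Cfsg.Agent.Lib.LinearThreeFourType.Affine

set_option autoImplicit false
open Cfsg

namespace Cfsg.Agent.S3198

open Subgroup CfsgLib.LinearThreeFourType

universe u v

/-- If both automisers fix the centre, all elements of one of the two subgroups are local. -/
theorem loc_or_loc' {H : Type u} [Group H] [Finite H] (F : Frame H) (hA : F.Small) (hB : F.symm.Small) :
    F.symm.LocalA ∨ F.LocalA :=
  F.loc_or_loc hA hB (F.closed_of_small hA) (F.symm.closed_of_small hB) F.loc_center
    (fun _ ha haB => (F.symm.loc_or_turn hA F.symm.loc_center ha haB).imp_right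
      fun ⟨y, h1, h2, h3, h4, h5⟩ => ⟨y, ⟨h1.2, h1.1⟩, h2, h3, h4,
        fun z hz hz1 => h5 z ⟨hz.2, hz.1⟩ hz1⟩)
    (fun _ hb hbA => F.loc_or_turn hB F.loc_center hb hbA)

/-- The case of trivial odd core. -/
theorem embeds_of_oddCore_eq_bot {H : Type u} [Group H] [Finite H] {K : Type v} [Field K] [Fintype K]
    (hK : Fintype.card K = 4) (hO : Cfsg.oddCore H = ⊥) (S : Sylow 2 H)
    (P : Sylow 2 (Matrix.ProjectiveSpecialLinearGroup (Fin 3) K))
    (hS : Nonempty (↥(S : Subgroup H) ≃* ↥(P : Subgroup (Matrix.ProjectiveSpecialLinearGroup (Fin 3) K)))) :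
    ∃ f : H →* GL (Fin 3) K ⧸ Subgroup.center (GL (Fin 3) K), Function.Injective f := by
  obtain ⟨F, -⟩ := exists_frame hK S P hS
  refine F.exists_embedding (fun F h => F.closed_of_small h) (fun F h => F.stronglyClosed_of_small h)
    (fun F h => F.trans_of_not_small h) (fun F => F.loc_center) (fun F hA hB => loc_or_loc' F hA hB)
    (fun F hc hs hB => F.normal_of_small hO hc hs hB)
    (fun F hn => F.exists_embedding_of_normal hO hn hK) ?_
  intro F hTA hTB hA hB hlA hlB
  have h5B : (normalizer (F.B : Set H) ⊓ normalizer ((F.A ⊓ F.B : Subgroup H) : Set H)).relIndex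
      (normalizer (F.B : Set H)) = 5 := by
    rw [inf_comm F.A F.B]; exact F.symm.index_five hB
  have hcore := F.cores_eq_bot hO hlA hlB F.loc_center hTA hTB (F.index_five hA) h5B
  have hcoreB : ∀ z ∈ F.symm.A ⊓ F.symm.B, z ≠ 1 → CfsgLib.AEightThreeClasses.Oc z = ⊥ :=
    fun z hz hz1 => hcore z ⟨hz.2, hz.1⟩ hz1
  have hcent := Frame.centralizer_le_of_core F.loc_center hcore
  have hcentB := Frame.centralizer_le_of_core F.symm.loc_center hcoreB
  have hCA := F.centralizer_A_le hcent hcore
  have hCB := F.symm.centralizer_A_le hcentB hcoreB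
  have hnB : normalizer (F.B : Set H) ⊓ normalizer ((F.A ⊓ F.B : Subgroup H) : Set H) ≤
      normalizer (F.A : Set H) := by
    rw [inf_comm F.A F.B]; exact F.symm.le_normalizer_B hCB
  have hP : PlaneHyp F :=
    { cent := hcent
      selfA := hCA
      selfB := hCB
      transA := hTA
      transB := hTB
      fiveA := F.index_five hA
      fiveB := h5B
      normA := F.le_normalizer_B hCA
      normB := hnB }
  obtain ⟨α, hα, hα', L, hL, φ, hφ, hr⟩ := hP.exists_plane hO
  exact exists_pgl_of_plane F.S F.card_S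
    (F.index_ne_two (F.isConj_of_trans hTA hTB)) hL φ hφ hr hK

/-- If G is a finite group whose Sylow 2-subgroups are isomorphic to those of PSL(3, 4), then G modulo its largest normal subgroup of odd order is isomorphic to a subgroup of PGL(3, 4) (the general linear group of dimension 3 over the field with 4 elements modulo its centre). -/
theorem result {G : Type*} [Group G] [Finite G]
    {F : Type*} [Field F] [Fintype F] (hF : Fintype.card F = 4) (S : Sylow 2 G)
    (P : Sylow 2 (Matrix.ProjectiveSpecialLinearGroup (Fin 3) F))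
    (hS : Nonempty (↥(S : Subgroup G) ≃* ↥(P : Subgroup (Matrix.ProjectiveSpecialLinearGroup (Fin 3) F)))) :
    ∃ f : G ⧸ Cfsg.oddCore G →* GL (Fin 3) F ⧸ Subgroup.center (GL (Fin 3) F), Function.Injective f := by
  have : Fact (Nat.Prime 2) := ⟨Nat.prime_two⟩
  obtain ⟨e⟩ := hS
  set π := QuotientGroup.mk' (Cfsg.oddCore G) with hπ
  have hinj : Function.Injective (π.comp (S : Subgroup G).subtype) := by
    rw [injective_iff_map_eq_one]
    intro x hx
    obtain ⟨n, hn⟩ := IsPGroup.iff_card.1 S.2
    have hd : Disjoint (S : Subgroup G) (Cfsg.oddCore G) := by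
      refine Subgroup.disjoint_of_coprime_natCard ?_
      rw [hn]
      exact ((Nat.coprime_two_left.2 CfsgLib.Cores.odd_card_oddCore).pow_left n)
    exact Subtype.ext (Subgroup.disjoint_def.1 hd x.2 ((QuotientGroup.eq_one_iff _).1 hx))
  set T : Sylow 2 (G ⧸ Cfsg.oddCore G) := S.mapSurjective (QuotientGroup.mk'_surjective _) with hT
  have hTS : (T : Subgroup (G ⧸ Cfsg.oddCore G)) = (π.comp (S : Subgroup G).subtype).range := by
    rw [hT, Sylow.coe_mapSurjective, MonoidHom.range_comp, Subgroup.range_subtype]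
  exact embeds_of_oddCore_eq_bot hF (CfsgLib.Cores.pPrimeCore_quotient_pPrimeCore 2) T P
    ⟨(MulEquiv.subgroupCongr hTS).trans ((MonoidHom.ofInjective hinj).symm.trans e)⟩

end Cfsg.Agent.S3198
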