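import Cfsg.Statements.S3222
import Cfsg.Agent.Lib.InvChar.Basic
import Cfsg.Agent.Lib.CoreFree.ZTwoSymFour.SymSix
import Cfsg.Agent.Lib.SL2.Dickson.Minimal

set_option autoImplicit false
open Cfsg
open CfsgLib.InvChar

namespace Cfsg.Agent.S3222

/-- Let G be a finite group of even order such that (1) some involution t lying in the centre of a Sylow 2-subgroup of G has C_G(t) ≅ Z₂ × S₄, and (2) every Sylow 2-subgroup S of G satisfies C_G(S′) = S, where S′ is the derived subgroup of S. Then G = C_G(t) if G is solvable, and G ≅ S₆ otherwise. -/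
theorem result {G : Type*} [Group G] [Finite G] (hev : Even (Nat.card G))
    (t : G) (ht : orderOf t = 2) (T : Sylow 2 G) (htT : t ∈ (T : Subgroup G)) (htc : ∀ s ∈ (T : Subgroup G), s * t = t * s)
    (e : ↥(Subgroup.centralizer ({t} : Set G)) ≃* (Multiplicative (ZMod 2) × Equiv.Perm (Fin 4)))
    (h2 : ∀ S : Sylow 2 G, Subgroup.centralizer ((⁅(S : Subgroup G), (S : Subgroup G)⁆ : Subgroup G) : Set G) = (S : Subgroup G)) :
    (Group.IsSolvable G → Subgroup.centralizer ({t} : Set G) = ⊤) ∧
      (¬ Group.IsSolvable G → Nonempty (G ≃* Equiv.Perm (Fin 6))) := by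
  classical
  haveI := Fact.mk Nat.prime_two
  haveI : Group.IsSolvable (Equiv.Perm (Fin 4)) := by
    exact CfsgLib.SL2.Dickson.isSolvable_perm_four
  have htC : t ∈ Subgroup.centralizer ({t} : Set G) :=
    CfsgLib.Involutions.mem_centralizer_singleton.2 rfl
  set ψ : CfsgLib.CoreFree.ZTwoSymFour.Model →* G :=
    (Subgroup.centralizer ({t} : Set G)).subtype.comp e.symm.toMonoidHom with hψdef
  have hψinj : Function.Injective ψ := fun a b h => e.symm.injective (Subtype.ext h)
  have hψt : ψ CfsgLib.CoreFree.ZTwoSymFour.c = t := by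
    have htt : t * t = 1 := CfsgLib.Involutions.mul_self_eq_one ht
    have h1 := CfsgLib.CoreFree.ZTwoSymFour.central_involution (e ⟨t, htC⟩) (fun k => by
        obtain ⟨⟨x, hx⟩, rfl⟩ := e.surjective k
        rw [← map_mul, ← map_mul]
        exact congrArg e (Subtype.ext (CfsgLib.Involutions.mem_centralizer_singleton.1 hx).symm))
      (by rw [← map_mul, ← map_one e]; exact congrArg e (Subtype.ext htt))
      (fun h => CfsgLib.Involutions.ne_one ht (congrArg Subtype.val (e.injective (h.trans (map_one e).symm))))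
    rw [hψdef, ← h1]
    simp
  have hrange : ∀ g, g * ψ CfsgLib.CoreFree.ZTwoSymFour.c = ψ CfsgLib.CoreFree.ZTwoSymFour.c * g →
      ∃ m, ψ m = g := by
    intro g hg
    rw [hψt] at hg
    exact ⟨e ⟨g, CfsgLib.Involutions.mem_centralizer_singleton.2 hg⟩, by simp [hψdef]⟩
  -- Sylow 2-subgroups have order 16
  have hC48 : Nat.card (Subgroup.centralizer ({t} : Set G)) = 48 := by
    rw [Nat.card_congr e.toEquiv, Nat.card_eq_fintype_card, CfsgLib.CoreFree.ZTwoSymFour.card_model]
  have hTV : ∀ v : CfsgLib.CoreFree.ZTwoSymFour.Model, CfsgLib.CoreFree.ZTwoSymFour.IsV v →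
      Nat.card ((Subgroup.centralizer ({v} : Set CfsgLib.CoreFree.ZTwoSymFour.Model)).map ψ) = 16 := by
    intro v hv
    rw [Subgroup.card_map_of_injective hψinj, Nat.card_eq_fintype_card, Fintype.card_subtype]
    refine Eq.trans ?_ (CfsgLib.CoreFree.ZTwoSymFour.card_cent_V v hv)
    congr 1
    ext m
    simp only [Finset.mem_filter, Finset.mem_univ, true_and]
    exact CfsgLib.Involutions.mem_centralizer_singleton
  have hsyl : ∀ S : Sylow 2 G, Nat.card (S : Subgroup G) = 16 := by
    intro S
    have h1 : Nat.card (T : Subgroup G) ∣ 48 := by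
      rw [← hC48]
      exact Subgroup.card_dvd_of_le fun s hs => CfsgLib.Involutions.mem_centralizer_singleton.2 (htc s hs)
    obtain ⟨R, hR⟩ := (IsPGroup.of_card (p := 2) (n := 4)
      (hTV _ CfsgLib.CoreFree.ZTwoSymFour.isV_z)).exists_le_sylow
    have h2 := Subgroup.card_le_of_le hR
    rw [hTV _ CfsgLib.CoreFree.ZTwoSymFour.isV_z] at h2
    rw [S.card_eq_multiplicity]
    rw [R.card_eq_multiplicity] at h2
    rw [T.card_eq_multiplicity] at h1
    have h3 : 2 ^ (Nat.card G).factorization 2 ∣ 16 :=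
      (Nat.Coprime.dvd_of_dvd_mul_right (Nat.Coprime.pow_left _ (by norm_num : Nat.Coprime 2 3))
        (show _ ∣ 16 * 3 from h1))
    exact le_antisymm (Nat.le_of_dvd (by norm_num) h3) h2
  -- the centralisers of the double transpositions
  have hvcent : ∀ v, CfsgLib.CoreFree.ZTwoSymFour.IsV v → ∀ g : G, g * ψ v = ψ v * g →
      ∃ m, m * v = v * m ∧ ψ m = g := by
    intro v hv g hg
    set T0 := (Subgroup.centralizer ({v} : Set CfsgLib.CoreFree.ZTwoSymFour.Model)).map ψ with hT0
    obtain ⟨R, hR⟩ := (IsPGroup.of_card (p := 2) (n := 4) (hTV v hv)).exists_le_sylow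
    have hRT : (R : Subgroup G) = T0 :=
      (Subgroup.eq_of_le_of_card_ge hR (le_of_eq ((hsyl R).trans (hTV v hv).symm))).symm
    have hmem : g ∈ (R : Subgroup G) := by
      rw [← h2 R]
      have hcomm : ⁅(R : Subgroup G), (R : Subgroup G)⁆ ≤ Subgroup.centralizer ({g} : Set G) := by
        rw [Subgroup.commutator_le]
        intro a ha b hb
        rw [hRT] at ha hb
        obtain ⟨m, hm, rfl⟩ := ha
        obtain ⟨k, hk, rfl⟩ := hb
        rw [CfsgLib.Involutions.mem_centralizer_singleton, commutatorElement_def, ← map_inv, ← map_inv,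
          ← map_mul, ← map_mul, ← map_mul]
        rcases CfsgLib.CoreFree.ZTwoSymFour.cent_V_comm v hv m k
          (CfsgLib.Involutions.mem_centralizer_singleton.1 hm) (CfsgLib.Involutions.mem_centralizer_singleton.1 hk) with h | h
        · rw [h, map_one, one_mul, mul_one]
        · rw [h]; exact hg.symm
      rw [Subgroup.mem_centralizer_iff]
      intro x hx
      exact CfsgLib.Involutions.mem_centralizer_singleton.1 (hcomm hx)
    rw [hRT] at hmem
    obtain ⟨m, hm, e'⟩ := hmem
    exact ⟨m, CfsgLib.Involutions.mem_centralizer_singleton.1 hm, e'⟩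
  let P₀ : CfsgLib.CoreFree.ZTwoSymFour.Setup G := ⟨ψ, hψinj, hrange, hvcent, hsyl⟩
  have hP₀t : P₀.t = t := hψt
  refine ⟨fun hs => ?_, fun hns => ?_⟩
  · rw [← hP₀t]; exact P₀.centralizer_eq_top hs
  · obtain ⟨Q, hQ⟩ := CfsgLib.CoreFree.ZTwoSymFour.exists_split P₀
    refine Q.nonempty_equiv fun htop => hns ?_
    rw [hQ, hP₀t] at htop
    refine Group.isSolvable_of_surjective (f := ψ) fun g => ?_
    refine hrange g ?_
    rw [hψt]
    exact CfsgLib.Involutions.mem_centralizer_singleton.1 (htop ▸ Subgroup.mem_top g)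

end Cfsg.Agent.S3222
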