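import Cfsg.Statements.S3237
import Cfsg.Agent.S3198
import Cfsg.Agent.Lib.InvChar.AutLinear.Main
import Cfsg.Agent.Lib.InvChar.AutLinear.Solvable
import Cfsg.Agent.Lib.InvChar.AutLinear.Normal
import Cfsg.Agent.Lib.InvChar.AutLinear.Isolated
import Cfsg.Agent.Lib.InvChar.AutLinear.Quarter
import Cfsg.Agent.Lib.InvChar.AutLinear.SylowIso
import Cfsg.Agent.Lib.InvChar.AutLinear.PGL

set_option autoImplicit false
open Cfsg

namespace Cfsg.Agent.S3237

open CfsgLib.InvChar.AutLinear

/-- Let G be a finite group of even order with an involution z, H = C_G(z), such that H has a normal subgroup E of order 32 that is extraspecial and contains no elementary abelian subgroup of order 8 (the central product of a dihedral group of order 8 with a quaternion group), C_H(E) ≤ E, and H/E ≅ S₄. Then O(G) is abelian, and if G is not solvable then G is isomorphic to the automorphism group of PGL₃(4). -/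
theorem result {G : Type*} [Group G] [Finite G]
    (hev : Even (Nat.card G)) (z : G) (hz : orderOf z = 2)
    (E : Subgroup ↥(Subgroup.centralizer ({z} : Set G))) [hEn : E.Normal] (hE : Cfsg.IsExtraspecial 2 ↥E) (hE32 : Nat.card ↥E = 32)
    (hEminus : ∀ A : Subgroup ↥E, Cfsg.IsElementaryAbelian 2 A → Nat.card ↥A ≠ 8)
    (hCE : Subgroup.centralizer (E : Set ↥(Subgroup.centralizer ({z} : Set G))) ≤ E)
    (e : (↥(Subgroup.centralizer ({z} : Set G)) ⧸ E) ≃* Equiv.Perm (Fin 4)) {F : Type*} [Field F] [Fintype F] (hF : Fintype.card F = 4) :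
    IsMulCommutative ↥(Cfsg.oddCore G) ∧
      (¬ Group.IsSolvable G → Nonempty (G ≃* MulAut (GL (Fin 3) F ⧸ Subgroup.center (GL (Fin 3) F)))) := by
  have hH := isSolvable_of_quotient_perm_four E hE32 e
  obtain ⟨t, ⟨X⟩⟩ := exists_ctr z hz E hE hE32 hEminus hCE e
  refine ⟨X.isMulCommutative_oddCore, fun hns => ?_⟩
  have hni : NotIsolated z := by
    by_contra h
    exact hns (X.solvable_of_isolated hH h)
  obtain rfl : t = 0 := by
    by_contra h
    exact X.not_isolated_zero h hni
  obtain ⟨Q⟩ := X.exists_quarter (X.oddCore_eq_bot hni)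
  have : Finite (MulAut (GL (Fin 3) F ⧸ Subgroup.center (GL (Fin 3) F))) := PGL.finite_mulAut_pgl
  refine iso_mulAut X Q hz ?_ hH hns (PGL.card_pgl hF) (PGL.card_mulAut_le hF).1 (PGL.eq_top hF) ?_
  · intro N hN hle hne
    exact X.normal_subgroup_mem hle (fun g _ n hn => hN.conj_mem n hn g) hne
  · obtain ⟨P⟩ : Nonempty (Sylow 2 (Matrix.ProjectiveSpecialLinearGroup (Fin 3) F)) := inferInstance
    obtain ⟨S⟩ : Nonempty (Sylow 2 ↥Q.L) := inferInstance
    exact Cfsg.Agent.S3198.result hF S P (sylow_iso Q hF S P)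

end Cfsg.Agent.S3237
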