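import Cfsg.Statements.S3252
import Cfsg.Agent.Lib.Derangements.CyclicTimesZ.Final
import Cfsg.Agent.S0483

set_option autoImplicit false
open Cfsg

namespace Cfsg.Agent.S3252

/-- Let G be a finite non-solvable group that is the product G = AB of a cyclic subgroup A and a subgroup B all of whose Sylow subgroups are cyclic. Then the quotient of G by its largest solvable normal subgroup is isomorphic to PGL₂(p) for some prime p > 3. -/
theorem result {G : Type*} [Group G] [Finite G] (hG : ¬ Group.IsSolvable G)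
    (A B : Subgroup G) (hA : IsCyclic ↥A) (hB : ∀ (q : ℕ) [Fact q.Prime] (Q : Sylow q ↥B), IsCyclic ↥(Q : Subgroup ↥B))
    (hAB : ∀ g : G, ∃ a ∈ A, ∃ b ∈ B, g = a * b)
    (R : Subgroup G) [hR : R.Normal] (hRs : Group.IsSolvable ↥R) (hRmax : ∀ N : Subgroup G, N.Normal → Group.IsSolvable ↥N → N ≤ R) :
    ∃ (F : Type) (_ : Field F) (_ : Fintype F) (p : ℕ), p.Prime ∧ 3 < p ∧ Fintype.card F = p ∧
      Nonempty ((G ⧸ R) ≃* (GL (Fin 2) F ⧸ Subgroup.center (GL (Fin 2) F))) := by
  haveI := hA
  haveI : IsZGroup ↥B := ⟨fun p hp P => by haveI := Fact.mk hp; exact hB p P⟩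
  haveI := hRs
  exact CfsgLib.Derangements.CyclicTimesZ.pgl_two_of_factorization
    (fun X _ _ _ hd => by
      obtain ⟨S, n, hn, hS⟩ := hd
      exact Cfsg.Agent.S0483.result S n hn hS)
    hG A B hAB R hRmax

end Cfsg.Agent.S3252
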