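import Cfsg.Statements.S3283
import Cfsg.Agent.Lib.SThreeSSix.Direct.Final
import Cfsg.Agent.S3300

set_option autoImplicit false
open Cfsg

namespace Cfsg.Agent.S3283

open CfsgLib.SThreeSSix.Direct CfsgLib.ExtraspecialLarge

/-- A frame at `z` rules out simplicity. -/
theorem not_simple {G : Type*} [Group G] [Finite G] {Q : G → Subgroup G} {z : G} (F : Frame Q z) :
    ¬ IsSimpleGroup G := by
  intro hs
  obtain ⟨m, hm⟩ := F.lift c3 1 A6.one_mem
  have h3 : 3 ∣ orderOf (m : G) := by
    have hd := orderOf_map_dvd F.π m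
    rw [hm] at hd
    have e3 : orderOf ((c3, 1) : L36) = 3 := by
      haveI : Fact (Nat.Prime 3) := ⟨by norm_num⟩
      exact orderOf_eq_prime (by rw [Prod.pow_mk, c3_pow, one_pow]; rfl)
        (fun e => c3_ne (congrArg Prod.fst e))
    rw [e3, ← Subgroup.orderOf_coe] at hd
    exact hd
  have hw : orderOf ((m : G) ^ (orderOf (m : G) / 3)) = 3 :=
    orderOf_pow_orderOf_div (orderOf_pos _).ne' h3
  haveI : (Cfsg.pResidual 2 G).Normal := by
    refine ⟨fun x hx g => ?_⟩
    suffices h : (Cfsg.pResidual 2 G).map (MulAut.conj g).toMonoidHom ≤ Cfsg.pResidual 2 G from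
      h ⟨x, hx, rfl⟩
    unfold Cfsg.pResidual
    rw [MonoidHom.map_closure, Subgroup.closure_le]
    rintro _ ⟨y, hy, rfl⟩
    refine Subgroup.subset_closure ?_
    show Nat.Coprime (orderOf ((MulAut.conj g).toMonoidHom y)) 2
    rw [orderOf_injective _ (MulAut.conj g).injective]
    exact hy
  have hres : Cfsg.pResidual 2 G = ⊤ := by
    refine (hs.eq_bot_or_eq_top_of_normal _ inferInstance).resolve_left fun hb => ?_
    have hmem : (m : G) ^ (orderOf (m : G) / 3) ∈ Cfsg.pResidual 2 G :=
      Subgroup.subset_closure (by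
        show Nat.Coprime (orderOf _) 2
        rw [hw]; norm_num)
    rw [hb, Subgroup.mem_bot] at hmem
    rw [hmem, orderOf_one] at hw
    norm_num at hw
  let f : ↥(Subgroup.centralizer ({z} : Set G)) →* ℤˣ :=
    Equiv.Perm.sign.comp ((MonoidHom.fst _ _).comp F.π)
  have hf : Function.Surjective f := by
    intro u
    obtain ⟨n, hn⟩ := F.lift t0 1 A6.one_mem
    rcases Int.units_eq_one_or u with rfl | rfl
    · exact ⟨1, map_one f⟩
    · exact ⟨n, by simp [f, hn, t0_sign]⟩
  let K := f.ker.map (Subgroup.centralizer ({z} : Set G)).subtype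
  obtain ⟨g, hg, hgne⟩ := Cfsg.Agent.S3300.result hres z F.core.order (Q z) (F.core.def_Q z)
    F.core.extra F.core.cen 4 (by norm_num) (by rw [F.card]) K
    (Subgroup.map_subtype_le _) (by
      intro h hh
      obtain ⟨k, rfl⟩ : ∃ k : ↥(Subgroup.centralizer ({z} : Set G)), (k : G) = h := ⟨⟨h, hh⟩, rfl⟩
      ext x
      simp only [K, Subgroup.mem_map]
      constructor
      · rintro ⟨_, ⟨n, hn, rfl⟩, rfl⟩
        exact ⟨k * n * k⁻¹, (MonoidHom.normal_ker f).conj_mem n hn k, by simp⟩
      · rintro ⟨n, hn, rfl⟩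
        exact ⟨_, ⟨k⁻¹ * n * k⁻¹⁻¹, (MonoidHom.normal_ker f).conj_mem n hn k⁻¹, rfl⟩,
          by simp [mul_assoc]⟩)
    (by
      show (f.ker.map (Subgroup.centralizer ({z} : Set G)).subtype).relIndex _ = 2
      rw [Subgroup.relIndex, Subgroup.subgroupOf, Subgroup.comap_map_eq_self_of_injective
        (Subgroup.subtype_injective _), Subgroup.index_ker,
        MonoidHom.range_eq_top.2 hf, Subgroup.card_top, Nat.card_eq_fintype_card]
      rfl)
  exact Frame.Pair.impossible (F := F) ⟨hg, hgne, g, rfl⟩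

/-- The setting of the centraliser. -/
theorem core {G : Type*} [Group G] [Finite G] (z : G) (hz : orderOf z = 2)
    (hQ : Cfsg.IsExtraspecial 2 ↥(Cfsg.pCore 2 ↥(Subgroup.centralizer ({z} : Set G))))
    (hCQ : Subgroup.centralizer ((Cfsg.pCore 2 ↥(Subgroup.centralizer ({z} : Set G))) : Set ↥(Subgroup.centralizer ({z} : Set G))) ≤ Cfsg.pCore 2 ↥(Subgroup.centralizer ({z} : Set G))) :
    CoreSetting (fun x : G => (Cfsg.pCore 2 ↥(Subgroup.centralizer ({x} : Set G))).map
      (Subgroup.centralizer ({x} : Set G)).subtype) z where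
  def_Q _ := rfl
  order := hz
  extra := CfsgLib.ClassK.isExtraspecial_congr
    (Subgroup.equivMapOfInjective _ _ (Subgroup.subtype_injective _)) hQ
  cen := by
    intro g hg
    rw [Subgroup.mem_centralizer_iff] at hg
    have hzM : z ∈ Subgroup.centralizer ({z} : Set G) := Subgroup.mem_centralizer_singleton_iff.2 rfl
    have hzQ : (⟨z, hzM⟩ : ↥(Subgroup.centralizer ({z} : Set G))) ∈
        Cfsg.pCore 2 ↥(Subgroup.centralizer ({z} : Set G)) := hCQ (Subgroup.mem_centralizer_iff.2
          fun w _ => Subtype.ext (Subgroup.mem_centralizer_singleton_iff.1 w.2))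
    have hgM : g ∈ Subgroup.centralizer ({z} : Set G) :=
      Subgroup.mem_centralizer_singleton_iff.2 (hg z ⟨_, hzQ, rfl⟩).symm
    exact ⟨⟨g, hgM⟩, hCQ (Subgroup.mem_centralizer_iff.2 fun w hw =>
      Subtype.ext (hg _ ⟨w, hw, rfl⟩)), rfl⟩

/-- Let G be a finite group with an involution z whose centralizer M has Q = O₂(M) extraspecial of order 2⁹ with C_M(Q) ≤ Q, and M/Q isomorphic to S₃ × A₆ or to S₃ × S₆. Then G is not simple. -/
theorem result {G : Type*} [Group G] [Finite G] (z : G) (hz : orderOf z = 2)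
    (hQ : Cfsg.IsExtraspecial 2 ↥(Cfsg.pCore 2 ↥(Subgroup.centralizer ({z} : Set G)))) (hQ9 : Nat.card ↥(Cfsg.pCore 2 ↥(Subgroup.centralizer ({z} : Set G))) = 2 ^ 9)
    (hCQ : Subgroup.centralizer ((Cfsg.pCore 2 ↥(Subgroup.centralizer ({z} : Set G))) : Set ↥(Subgroup.centralizer ({z} : Set G))) ≤ Cfsg.pCore 2 ↥(Subgroup.centralizer ({z} : Set G)))
    (hMQ : Nonempty (↥(Subgroup.centralizer ({z} : Set G)) ⧸ Cfsg.pCore 2 ↥(Subgroup.centralizer ({z} : Set G)) ≃* (Equiv.Perm (Fin 3) × ↥(alternatingGroup (Fin 6)))) ∨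
      Nonempty (↥(Subgroup.centralizer ({z} : Set G)) ⧸ Cfsg.pCore 2 ↥(Subgroup.centralizer ({z} : Set G)) ≃* (Equiv.Perm (Fin 3) × Equiv.Perm (Fin 6)))) :
    ¬ IsSimpleGroup G := by
  classical
  set M := Subgroup.centralizer ({z} : Set G) with hM
  set N := Cfsg.pCore 2 ↥M with hN
  let Q : G → Subgroup G := fun x => (Cfsg.pCore 2 ↥(Subgroup.centralizer ({x} : Set G))).map
    (Subgroup.centralizer ({x} : Set G)).subtype
  have hcard : Nat.card ↥(Q z) = 2 ^ 9 := by
    show Nat.card ↥(N.map M.subtype) = _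
    rw [Subgroup.card_map_of_injective (Subgroup.subtype_injective _)]
    exact hQ9
  have hmem : ∀ m : ↥M, m ∈ N ↔ (m : G) ∈ Q z := fun m =>
    (Subgroup.mem_map_iff_mem (Subgroup.subtype_injective _)).symm
  rcases hMQ with ⟨⟨e⟩⟩ | ⟨⟨e⟩⟩
  · refine not_simple ({
      core := core z hz hQ hCQ
      card := hcard
      π := (MonoidHom.prodMap (MonoidHom.id _) A6.subtype).comp
        (e.toMonoidHom.comp (QuotientGroup.mk' N))
      ker := fun m => by
        refine Iff.trans ?_ (hmem m)
        rw [← QuotientGroup.eq_one_iff]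
        constructor
        · intro h
          have h1 := congrArg Prod.fst h
          have h2 := congrArg Prod.snd h
          apply e.injective
          rw [map_one]
          exact Prod.ext h1 (Subtype.ext h2)
        · intro h
          show ((e (m : ↥M ⧸ N)).1, ((e (m : ↥M ⧸ N)).2 : Equiv.Perm (Fin 6))) = 1
          rw [h, map_one]
          rfl
      lift := fun σ h hh => by
        obtain ⟨m, hm⟩ := QuotientGroup.mk'_surjective N (e.symm (σ, ⟨h, hh⟩))
        refine ⟨m, ?_⟩
        show ((e (QuotientGroup.mk' N m)).1, ((e (QuotientGroup.mk' N m)).2 : Equiv.Perm (Fin 6))) = (σ, h)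
        rw [hm, e.apply_symm_apply] } : Frame Q z)
  · refine not_simple ({
      core := core z hz hQ hCQ
      card := hcard
      π := e.toMonoidHom.comp (QuotientGroup.mk' N)
      ker := fun m => by
        refine Iff.trans ?_ (hmem m)
        rw [← QuotientGroup.eq_one_iff]
        exact e.map_eq_one_iff
      lift := fun σ h _ => by
        obtain ⟨m, hm⟩ := QuotientGroup.mk'_surjective N (e.symm (σ, h))
        refine ⟨m, ?_⟩
        show e (QuotientGroup.mk' N m) = (σ, h)
        rw [hm, e.apply_symm_apply] } : Frame Q z)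

end Cfsg.Agent.S3283
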