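import Cfsg.Statements.S3284
import Cfsg.Agent.Lib.SThreeSSix.Final
import Cfsg.Agent.S3300

set_option autoImplicit false
open Cfsg

namespace Cfsg.Agent.S3284

/-- There is no non-abelian finite simple group with an involution z whose centralizer M has generalized Fitting subgroup Q = F*(M) extraspecial of order 2⁹ and M/Q isomorphic to the subgroup of S₃ × S₆ consisting of the pairs of permutations with equal sign (a group (3 × A₆)·2 in which an involution outside 3 × A₆ induces S₃ on the first factor and S₆ on the second). -/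
theorem result {G : Type*} [Group G] [Finite G] [IsSimpleGroup G] (hG : ¬ IsMulCommutative G) (z : G) (hz : orderOf z = 2)
    [hn : (Cfsg.generalizedFittingSubgroup ↥(Subgroup.centralizer ({z} : Set G))).Normal]
    (hQ : Cfsg.IsExtraspecial 2 ↥(Cfsg.generalizedFittingSubgroup ↥(Subgroup.centralizer ({z} : Set G)))) (hQ9 : Nat.card ↥(Cfsg.generalizedFittingSubgroup ↥(Subgroup.centralizer ({z} : Set G))) = 2 ^ 9)
    (e : (↥(Subgroup.centralizer ({z} : Set G)) ⧸ Cfsg.generalizedFittingSubgroup ↥(Subgroup.centralizer ({z} : Set G))) ≃*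
      ↥(MonoidHom.ker (Equiv.Perm.sign.comp (MonoidHom.fst (Equiv.Perm (Fin 3)) (Equiv.Perm (Fin 6))) *
          Equiv.Perm.sign.comp (MonoidHom.snd (Equiv.Perm (Fin 3)) (Equiv.Perm (Fin 6)))))) :
    False := by
  classical
  let M := Subgroup.centralizer ({z} : Set G)
  let N := Cfsg.generalizedFittingSubgroup ↥(Subgroup.centralizer ({z} : Set G))
  let L := MonoidHom.ker (Equiv.Perm.sign.comp (MonoidHom.fst (Equiv.Perm (Fin 3)) (Equiv.Perm (Fin 6))) *
          Equiv.Perm.sign.comp (MonoidHom.snd (Equiv.Perm (Fin 3)) (Equiv.Perm (Fin 6))))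
  let φ : ↥(Subgroup.centralizer ({z} : Set G)) →* Equiv.Perm (Fin 3) × Equiv.Perm (Fin 6) :=
    L.subtype.comp (e.toMonoidHom.comp (QuotientGroup.mk' N))
  have hL : ∀ p, p ∈ L ↔ Equiv.Perm.sign p.1 = Equiv.Perm.sign p.2 := by
    intro p
    simp only [L, MonoidHom.mem_ker, MonoidHom.mul_apply, MonoidHom.comp_apply, MonoidHom.coe_fst,
      MonoidHom.coe_snd]
    rw [mul_eq_one_iff_eq_inv, Int.units_inv_eq_self]
  have hrange : ∀ p, p ∈ φ.range ↔ Equiv.Perm.sign p.1 = Equiv.Perm.sign p.2 := by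
    intro p
    rw [← hL]
    constructor
    · rintro ⟨m, rfl⟩; exact SetLike.coe_mem _
    · intro hp
      obtain ⟨m, hm⟩ := QuotientGroup.mk'_surjective N (e.symm ⟨p, hp⟩)
      refine ⟨m, ?_⟩
      show ((e (QuotientGroup.mk' N m) : L) : Equiv.Perm (Fin 3) × Equiv.Perm (Fin 6)) = p
      rw [hm, e.apply_symm_apply]
  have hkerN : ∀ m, φ m = 1 ↔ m ∈ N := by
    intro m
    rw [← QuotientGroup.eq_one_iff (N := N)]
    show ((e (QuotientGroup.mk' N m) : L) : Equiv.Perm (Fin 3) × Equiv.Perm (Fin 6)) = 1 ↔ _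
    rw [OneMemClass.coe_eq_one, e.map_eq_one_iff]
    exact Iff.rfl
  have hsnd : Function.Surjective ((MonoidHom.snd (Equiv.Perm (Fin 3)) (Equiv.Perm (Fin 6))).comp φ) := by
    intro g
    obtain ⟨m, hm⟩ := (hrange (CfsgLib.SThreeSSix.par g, g)).2 (CfsgLib.SThreeSSix.sign_par g)
    exact ⟨m, congrArg Prod.snd hm⟩
  have hN : Cfsg.pCore 2 ↥(Subgroup.centralizer ({z} : Set G)) = N := by
    apply le_antisymm
    · intro p hp
      rw [← hkerN]
      have hK := CfsgLib.Cores.isPGroup_pCore 2 ↥(Subgroup.centralizer ({z} : Set G))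
      let P := (Cfsg.pCore 2 ↥(Subgroup.centralizer ({z} : Set G))).map
        ((MonoidHom.snd (Equiv.Perm (Fin 3)) (Equiv.Perm (Fin 6))).comp φ)
      haveI : P.Normal := Subgroup.Normal.map inferInstance _ hsnd
      have hP : P = ⊥ := by
        by_contra hne
        haveI hnt : Nontrivial P := (Subgroup.nontrivial_iff_ne_bot P).2 hne
        have hle := Equiv.Perm.alternatingGroup_le_of_normal (α := Fin 6) (by simp) hnt
        let y : Equiv.Perm (Fin 6) := CfsgLib.SThreeSSix.yA
        have hy : y ∈ P := hle (Equiv.Perm.mem_alternatingGroup.2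
          (show Equiv.Perm.sign CfsgLib.SThreeSSix.yA = 1 by decide +kernel))
        obtain ⟨k, hk⟩ := hK.map _ ⟨y, hy⟩
        have h1 : y ^ 2 ^ k = 1 := congrArg Subtype.val hk
        have h3 : y ^ 3 = 1 := show CfsgLib.SThreeSSix.yA ^ 3 = 1 by decide +kernel
        have hc : Nat.Coprime (2 ^ k) 3 := (Nat.Coprime.pow_left k (by norm_num))
        have h := pow_gcd_eq_one.2 ⟨h1, h3⟩
        rw [hc, pow_one] at h
        exact absurd h (show CfsgLib.SThreeSSix.yA ≠ 1 by decide +kernel)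
      have h2 : (φ p).2 = 1 := by
        have : (φ p).2 ∈ P := ⟨p, hp, rfl⟩
        rwa [hP, Subgroup.mem_bot] at this
      have hs := (hrange (φ p)).1 ⟨p, rfl⟩
      rw [h2, map_one] at hs
      obtain ⟨k, hk⟩ := hK ⟨p, hp⟩
      have h1 : (φ p).1 ^ 2 ^ k = 1 := by
        have := congrArg (fun t => (φ (Subtype.val t)).1) hk
        simpa using this
      have h3 : (φ p).1 ^ 3 = 1 := by
        have H : ∀ q : Equiv.Perm (Fin 3), Equiv.Perm.sign q = 1 → q ^ 3 = 1 := by decide +kernel
        exact H _ hs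
      have h := pow_gcd_eq_one.2 ⟨h1, h3⟩
      rw [(Nat.Coprime.pow_left k (by norm_num : Nat.Coprime 2 3)), pow_one] at h
      exact Prod.ext h h2
    · exact CfsgLib.Cores.le_pCore hQ.1.1
  let Qf : G → Subgroup G := fun x => (Cfsg.pCore 2 ↥(Subgroup.centralizer ({x} : Set G))).map
    (Subgroup.centralizer ({x} : Set G)).subtype
  have hQz : Qf z = N.map (Subgroup.centralizer ({z} : Set G)).subtype := by
    show (Cfsg.pCore 2 _).map _ = _
    rw [hN]
  have core : CfsgLib.ExtraspecialLarge.CoreSetting Qf z := by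
    refine ⟨fun _ => rfl, hz, ?_, ?_⟩
    · rw [hQz]
      exact CfsgLib.ClassK.isExtraspecial_congr
        (Subgroup.equivMapOfInjective _ _ (Subgroup.subtype_injective _)) hQ
    · rw [hQz]
      exact CfsgLib.ClassK.centralizer_fStarCentralizer_le z
  have hcard : Nat.card ↥(Qf z) = 2 ^ 9 := by
    rw [hQz, Subgroup.card_map_of_injective (Subgroup.subtype_injective _)]
    exact hQ9
  have hker : ∀ m, φ m = 1 ↔ (m : G) ∈ Qf z := fun m => by
    rw [hkerN, hQz, ← Subgroup.mem_map_iff_mem (Subgroup.subtype_injective _)]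
    rfl
  haveI : (Cfsg.pResidual 2 G).Normal := by
    refine ⟨fun x hx g => ?_⟩
    suffices h : (Cfsg.pResidual 2 G).map (MulAut.conj g).toMonoidHom ≤ Cfsg.pResidual 2 G from
      h ⟨x, hx, rfl⟩
    unfold Cfsg.pResidual
    rw [MonoidHom.map_closure, Subgroup.closure_le]
    rintro _ ⟨y, hy, rfl⟩
    refine Subgroup.subset_closure ?_
    show Nat.Coprime (orderOf ((MulAut.conj g).toMonoidHom y)) 2
    rw [orderOf_injective _ (MulAut.conj g).injective]
    exact hy
  have hres : Cfsg.pResidual 2 G = ⊤ := by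
    refine ((‹IsSimpleGroup G›).eq_bot_or_eq_top_of_normal _ inferInstance).resolve_left fun hb => ?_
    obtain ⟨m, hm⟩ := (hrange (CfsgLib.SThreeSSix.c3, 1)).2 (by decide +kernel)
    have h3 : 3 ∣ orderOf (m : G) := by
      have hd := orderOf_map_dvd φ m
      rw [hm, Prod.orderOf_mk, orderOf_one, Nat.lcm_one_right,
        orderOf_eq_prime (p := 3) (by decide +kernel) (by decide +kernel),
        ← Subgroup.orderOf_coe] at hd
      exact hd
    have hw : orderOf ((m : G) ^ (orderOf (m : G) / 3)) = 3 :=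
      orderOf_pow_orderOf_div (orderOf_pos _).ne' h3
    have hmem : (m : G) ^ (orderOf (m : G) / 3) ∈ Cfsg.pResidual 2 G :=
      Subgroup.subset_closure (by
        show Nat.Coprime (orderOf _) 2
        rw [hw]; norm_num)
    rw [hb, Subgroup.mem_bot] at hmem
    rw [hmem, orderOf_one] at hw
    norm_num at hw
  let f : ↥(Subgroup.centralizer ({z} : Set G)) →* ℤˣ :=
    Equiv.Perm.sign.comp ((MonoidHom.fst _ _).comp φ)
  have hf : Function.Surjective f := by
    intro u
    obtain ⟨n, hn⟩ := (hrange (Equiv.swap 0 1, Equiv.swap 4 5)).2 (by decide +kernel)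
    rcases Int.units_eq_one_or u with rfl | rfl
    · exact ⟨1, map_one f⟩
    · exact ⟨n, by simp [f, hn]⟩
  obtain ⟨g, hg, hgne⟩ := Cfsg.Agent.S3300.result hres z hz (Qf z) rfl core.extra core.cen 4
    (by norm_num) (by rw [hcard]) (f.ker.map (Subgroup.centralizer ({z} : Set G)).subtype)
    (Subgroup.map_subtype_le _) (by
      intro h hh
      obtain ⟨k, rfl⟩ : ∃ k : ↥(Subgroup.centralizer ({z} : Set G)), (k : G) = h := ⟨⟨h, hh⟩, rfl⟩
      ext x
      simp only [Subgroup.mem_map]
      constructor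
      · rintro ⟨_, ⟨n, hn, rfl⟩, rfl⟩
        exact ⟨k * n * k⁻¹, (MonoidHom.normal_ker f).conj_mem n hn k, by simp⟩
      · rintro ⟨n, hn, rfl⟩
        exact ⟨_, ⟨k⁻¹ * n * k⁻¹⁻¹, (MonoidHom.normal_ker f).conj_mem n hn k⁻¹, rfl⟩,
          by simp [mul_assoc]⟩)
    (by
      rw [Subgroup.relIndex, Subgroup.subgroupOf, Subgroup.comap_map_eq_self_of_injective
        (Subgroup.subtype_injective _), Subgroup.index_ker,
        MonoidHom.range_eq_top.2 hf, Subgroup.card_top, Nat.card_eq_fintype_card]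
      rfl)
  exact CfsgLib.SThreeSSix.false_of_base (Qf := Qf) (z := z)
    ⟨core, hcard, ⟨φ, hker, hrange⟩, g, hg, hgne⟩

end Cfsg.Agent.S3284
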