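import Cfsg.Statements.S3360
import Cfsg.Agent.Lib.TransitiveLinear.Exceptional

set_option autoImplicit false
open Cfsg

namespace Cfsg.Agent.S3360

/-- Let q be a prime and V a non-trivial finite vector space over the field with q elements, and let G be a finite solvable group acting faithfully and linearly on V and transitively on the non-zero vectors. Then either V can be identified with the additive group of a finite field F in such a way that every element of G acts as x ↦ a·σ(x) for some a ∈ F and some field automorphism σ, or the number of elements of V is one of 3^2, 5^2, 7^2, 11^2, 23^2, 3^4. -/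
theorem result
    (q : ℕ) [Fact q.Prime] {V : Type*} [AddCommGroup V] [Module (ZMod q) V] [Finite V] [Nontrivial V]
    {G : Type*} [Group G] [Finite G] (hsol : Group.IsSolvable G)
    (ρ : G →* (V ≃ₗ[ZMod q] V)) (hρ : Function.Injective ρ)
    (htrans : ∀ v w : V, v ≠ 0 → w ≠ 0 → ∃ g : G, ρ g v = w) :
    (∃ (F : Type) (_ : Field F) (_ : Fintype F) (e : V ≃+ F),
        ∀ g : G, ∃ (a : F) (σ : F ≃+* F), ∀ v : V, e (ρ g v) = a * σ (e v)) ∨
    Nat.card V ∈ ({9, 25, 49, 121, 529, 81} : Set ℕ) := by
  open CfsgLib.PermGroups.Regular in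
  classical
  have : Group.IsSolvable G := hsol
  have htr : ∀ v w : V, v ≠ 0 → w ≠ 0 → ∃ h : ρ.range, (h : V ≃ₗ[ZMod q] V) v = w := fun v w hv hw => by
    obtain ⟨g, hg⟩ := htrans v w hv hw
    exact ⟨⟨ρ g, g, rfl⟩, hg⟩
  have hs : Group.IsSolvable ρ.range :=
    Group.isSolvable_of_surjective (f := ρ.rangeRestrict) ρ.rangeRestrict_surjective
  by_cases hI : CfsgLib.PermGroups.Regular.NoIrredCyclic ρ.range
  · right
    rcases CfsgLib.TransitiveLinear.exceptional_card htr hI hs with h | h | h | h | h | h <;>
      simp [h]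
  · left
    simp only [CfsgLib.PermGroups.Regular.NoIrredCyclic, not_forall] at hI
    obtain ⟨A, hA, hc, hI⟩ := hI
    push Not at hI
    have hirr : CfsgLib.PermGroups.Regular.Irred A := fun W hW => by
      by_contra h
      push Not at h
      obtain ⟨a, ha, v, hv, hav⟩ := hI W h.1 h.2
      exact hav (hW a ha v hv)
    have hcomm : IsMulCommutative A := hc.isMulCommutative
    obtain ⟨F, iF, iFF, e, he⟩ := CfsgLib.TransitiveLinear.semilinear_of_irred_abelian hA hcomm hirr
    refine ⟨F, iF, iFF, e, fun g => ?_⟩
    obtain ⟨a, σ, h⟩ := he ⟨ρ g, g, rfl⟩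
    exact ⟨a, σ, h⟩

end Cfsg.Agent.S3360
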