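import Cfsg.Statements.S3367
import Cfsg.Agent.Lib.McLThreeLocal.Assembly
import Cfsg.Agent.S3330
import Cfsg.Agent.S3334

set_option autoImplicit false
open Cfsg

namespace Cfsg.Agent.S3367

/-- A 3-local characterization of the McLaughlin group and its automorphism group. Let G be a finite group, S a Sylow 3-subgroup, Z = Z(S), and J ≤ S elementary abelian of order 3^4. Write M₀ for the subgroup generated by the 3-elements of N_G(J), L₀ for the subgroup generated by the 3-elements of N_G(Z), and Q = O₃(N_G(Z)). Assume: (i) J ≤ M₀ and M₀/J is isomorphic to the alternating group of degree 6; (ii) Q is extraspecial of order 3^5 and exponent 3, Q ≤ L₀, and L₀/Q is isomorphic to SL(2,5); (iii) for every non-identity x in J, C_G(O₃(C_G(x))) ≤ O₃(C_G(x)). Then G is isomorphic to the McLaughlin group or to its full automorphism group. -/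
theorem result {G : Type*} [Group G] [Finite G]
    (S : Sylow 3 G) (Z : Subgroup G) (hZ : Z = (S : Subgroup G) ⊓ Subgroup.centralizer ((S : Subgroup G) : Set G))
    (J : Subgroup G) (hJS : J ≤ S) (hJcomm : IsMulCommutative J) (hJexp : ∀ a ∈ J, a ^ 3 = 1) (hJcard : Nat.card J = 3 ^ 4)
    (M₀ : Subgroup G) (hM₀ : M₀ = Subgroup.closure {g : G | g ∈ Subgroup.normalizer (J : Set G) ∧ ∃ k : ℕ, orderOf g = 3 ^ k})
    (hJM : J ≤ M₀) [hJn : (J.subgroupOf M₀).Normal] (eM : M₀ ⧸ J.subgroupOf M₀ ≃* alternatingGroup (Fin 6))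
    (L₀ : Subgroup G) (hL₀ : L₀ = Subgroup.closure {g : G | g ∈ Subgroup.normalizer (Z : Set G) ∧ ∃ k : ℕ, orderOf g = 3 ^ k})
    (Q : Subgroup G) (hQ : Q = (Cfsg.pCore 3 (Subgroup.normalizer (Z : Set G))).map (Subgroup.normalizer (Z : Set G)).subtype)
    (hQex : Cfsg.IsExtraspecial 3 Q) (hQcard : Nat.card Q = 3 ^ 5) (hQexp : ∀ a ∈ Q, a ^ 3 = 1)
    (hQL : Q ≤ L₀) [hQn : (Q.subgroupOf L₀).Normal] (eL : L₀ ⧸ Q.subgroupOf L₀ ≃* Matrix.SpecialLinearGroup (Fin 2) (ZMod 5))
    (hiii : ∀ x ∈ J, x ≠ 1 →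
      Subgroup.centralizer (((Cfsg.pCore 3 (Subgroup.centralizer ({x} : Set G))).map (Subgroup.centralizer ({x} : Set G)).subtype : Subgroup G) : Set G)
        ≤ (Cfsg.pCore 3 (Subgroup.centralizer ({x} : Set G))).map (Subgroup.centralizer ({x} : Set G)).subtype) :
    Nonempty (G ≃* Cfsg.Spor.McL) ∨ Nonempty (G ≃* MulAut Cfsg.Spor.McL) := by
  have hJc : ∀ a ∈ J, ∀ b ∈ J, a * b = b * a :=
    fun a ha b hb => congrArg Subtype.val (hJcomm.is_comm.comm (⟨a, ha⟩ : J) ⟨b, hb⟩)
  have hZJ : Z ≤ J := CfsgLib.McLThreeLocal.center_le_J S Z J L₀ Q hZ hJS hJc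
    (by rw [hJcard]; norm_num) hL₀ hQ hQex (by rw [hQcard]; norm_num) hQL
    (eL.toMonoidHom.comp (QuotientGroup.mk' _))
    (eL.surjective.comp (QuotientGroup.mk'_surjective _)) (by ext x; simp)
  let h : CfsgLib.McLThreeLocal.Hyp G :=
    { S := S, Z := Z, J := J, M := M₀, L := L₀, Q := Q, hZ := hZ, hJS := hJS
      hJcomm := hJc
      hJexp := hJexp, hJcard := by rw [hJcard]; norm_num
      hM := hM₀, hJM := hJM
      φM := eM.toMonoidHom.comp (QuotientGroup.mk' _)
      φM_surj := eM.surjective.comp (QuotientGroup.mk'_surjective _)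
      φM_ker := by ext x; simp
      hL := hL₀, hQ := hQ, hQex := hQex, hQcard := by rw [hQcard]; norm_num
      hQexp := hQexp, hQL := hQL
      φL := eL.toMonoidHom.comp (QuotientGroup.mk' _)
      φL_surj := eL.surjective.comp (QuotientGroup.mk'_surjective _)
      φL_ker := by ext x; simp
      hiii := fun x hx1 hxZ => hiii x (hZJ (hxZ.symm.le (Subgroup.mem_zpowers x))) hx1 }
  exact CfsgLib.McLThreeLocal.mcL_or_aut
    (fun G' _ _ t ht hc => Cfsg.Agent.S3334.result (G := G') t ht hc)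
    (fun G' _ _ => Cfsg.Agent.S3330.result (G := G')) h hiii

end Cfsg.Agent.S3367
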