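import Cfsg.Statements.S3501
import Cfsg.Agent.Lib.Fixity.AffineDerangements

set_option autoImplicit false
open Cfsg

namespace Cfsg.Agent.S3501

/-- Let a finite group G act faithfully and primitively on a finite set Ω with at least two points, and suppose G is not almost simple (it has no non-abelian simple normal subgroup with trivial centralizer). Then the derangements of G form a single conjugacy class if and only if G is sharply 2-transitive (2-transitive, and no non-identity element fixes two points). -/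
theorem result {G : Type*} [Group G] [Finite G] {Ω : Type*} [Fintype Ω] [MulAction G Ω] [FaithfulSMul G Ω] (hΩ : 2 ≤ Fintype.card Ω) (hprim : MulAction.IsPreprimitive G Ω) (hnas : ¬ ∃ T : Subgroup G, T.Normal ∧ IsSimpleGroup T ∧ ¬ IsMulCommutative T ∧ Subgroup.centralizer (T : Set G) = ⊥) :
    Nat.card {c : ConjClasses G // ∃ g : G, ConjClasses.mk g = c ∧ ∀ ω : Ω, g • ω ≠ ω} = 1 ↔ (MulAction.IsMultiplyPretransitive G Ω 2 ∧ ∀ g : G, g ≠ 1 → ∀ a b : Ω, a ≠ b → g • a = a → g • b ≠ b) := by
  rw [← Nat.card_eq_fintype_card] at hΩ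
  constructor
  · intro h1
    by_cases hna : ∀ N : Subgroup G, N.Normal → IsMulCommutative N → N = ⊥
    · obtain ⟨a, b, c, ha, hb, hc, h⟩ :=
        CfsgLib.Fixity.exists_three_derangement_classes hprim hΩ hna hnas
      have := CfsgLib.Fixity.three_le_card_classes ha hb hc h.1 h.2.1 h.2.2
      rw [show Nat.card {x : ConjClasses G // CfsgLib.Fixity.IsDerClass Ω x} = 1 from h1] at this
      omega
    push Not at hna
    obtain ⟨N, hN, hNc, hNb⟩ := hna
    obtain ⟨hNt, hNreg⟩ := CfsgLib.Fixity.abelian_normal_regular (Ω := Ω) hprim hNb hNc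
    have hss := (Nat.card_eq_one_iff_unique.1 h1).1
    have hcl : ∀ x y : G, (∀ ω : Ω, x • ω ≠ ω) → (∀ ω : Ω, y • ω ≠ ω) → IsConj x y := fun x y hx hy =>
      ConjClasses.mk_eq_mk_iff_isConj.1 (congrArg Subtype.val
        (@Subsingleton.elim _ hss ⟨_, x, rfl, hx⟩ ⟨_, y, rfl, hy⟩))
    refine ⟨CfsgLib.Fixity.two_transitive_of_conj hNt hNc fun x hx y hy hx1 hy1 => hcl x y
      (CfsgLib.Fixity.derangement_of_mem_regular hNreg hx hx1)
      (CfsgLib.Fixity.derangement_of_mem_regular hNreg hy hy1), fun g hg a b hab ha hb => hab ?_⟩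
    obtain ⟨x, hx, hx1⟩ := (Subgroup.bot_or_exists_ne_one N).resolve_left hNb
    have hD : ∀ y : G, (∀ ω : Ω, y • ω ≠ ω) → y ∈ N := by
      intro y hy
      obtain ⟨c, hc⟩ := isConj_iff.1 (hcl x y (CfsgLib.Fixity.derangement_of_mem_regular hNreg hx hx1) hy)
      exact hc ▸ hN.conj_mem x hx c
    exact CfsgLib.Fixity.eq_of_fix_le_one
      (CfsgLib.Fixity.fix_le_one_of_derangements_subset hprim.toIsPretransitive hNreg hD hg) ha hb
  · rintro ⟨htr, hs⟩
    exact CfsgLib.Fixity.card_classes_of_sharp hΩ htr hs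

end Cfsg.Agent.S3501
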