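import Cfsg.Statements.S3520
import Cfsg.Agent.Lib.Fixity.AffineDerangements

set_option autoImplicit false
set_option maxHeartbeats 1000000
open Cfsg

namespace Cfsg.Agent.S3520

/-- Let a finite group G act faithfully and primitively on a finite set Ω with at least two points, suppose G is not almost simple (no non-abelian simple normal subgroup with trivial centralizer), and suppose the derangements of G form exactly two conjugacy classes. Then either Ω has 3 points and G has order 3; or G has a non-trivial abelian normal subgroup N acting regularly, every non-identity element of G fixes at most one point (so, when n > 3, G is a Frobenius group with kernel N), the number n of points is odd and a point stabilizer has order (n − 1)/2; or G is 2-transitive with a non-trivial abelian regular normal subgroup and some non-identity element fixes at least two points (a non-Frobenius 2-transitive affine group). -/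
theorem result {G : Type*} [Group G] [Finite G] {Ω : Type*} [Fintype Ω] [MulAction G Ω] [FaithfulSMul G Ω] (hΩ : 2 ≤ Fintype.card Ω) (hprim : MulAction.IsPreprimitive G Ω) (hnas : ¬ ∃ T : Subgroup G, T.Normal ∧ IsSimpleGroup T ∧ ¬ IsMulCommutative T ∧ Subgroup.centralizer (T : Set G) = ⊥)
    (hκ : Nat.card {c : ConjClasses G // ∃ g : G, ConjClasses.mk g = c ∧ ∀ ω : Ω, g • ω ≠ ω} = 2) (α : Ω) :
    (Fintype.card Ω = 3 ∧ Nat.card G = 3) ∨
    ((∃ N : Subgroup G, N.Normal ∧ N ≠ ⊥ ∧ IsMulCommutative N ∧ ∀ ω : Ω, MulAction.stabilizer N ω = ⊥) ∧ (∀ g : G, g ≠ 1 → Nat.card (MulAction.fixedBy Ω g) ≤ 1) ∧ ¬ 2 ∣ Fintype.card Ω ∧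
        2 * Nat.card (MulAction.stabilizer G α) = Fintype.card Ω - 1) ∨
    ((∃ N : Subgroup G, N.Normal ∧ N ≠ ⊥ ∧ IsMulCommutative N ∧ ∀ ω : Ω, MulAction.stabilizer N ω = ⊥) ∧ MulAction.IsMultiplyPretransitive G Ω 2 ∧ ∃ g : G, g ≠ 1 ∧ 2 ≤ Nat.card (MulAction.fixedBy Ω g)) := by
  classical
  rw [← Nat.card_eq_fintype_card] at hΩ ⊢
  by_cases hna : ∀ N : Subgroup G, N.Normal → IsMulCommutative N → N = ⊥
  · obtain ⟨a, b, c, ha, hb, hc, h⟩ :=
      CfsgLib.Fixity.exists_three_derangement_classes hprim hΩ hna hnas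
    have := CfsgLib.Fixity.three_le_card_classes ha hb hc h.1 h.2.1 h.2.2
    rw [show Nat.card {x : ConjClasses G // CfsgLib.Fixity.IsDerClass Ω x} = 2 from hκ] at this
    omega
  push Not at hna
  obtain ⟨N, hN, hNc, hNb⟩ := hna
  obtain ⟨hNt, hNreg⟩ := CfsgLib.Fixity.abelian_normal_regular (Ω := Ω) hprim hNb hNc
  right
  have hex : ∃ N : Subgroup G, N.Normal ∧ N ≠ ⊥ ∧ IsMulCommutative N ∧
      ∀ ω : Ω, MulAction.stabilizer N ω = ⊥ := ⟨N, hN, hNb, hNc, hNreg⟩
  have hder : ∀ x ∈ N, x ≠ 1 → ∀ ω : Ω, x • ω ≠ ω :=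
    fun x hx hx1 => CfsgLib.Fixity.derangement_of_mem_regular hNreg hx hx1
  by_cases hone : ∀ x ∈ N, ∀ y ∈ N, x ≠ 1 → y ≠ 1 → IsConj x y
  · right
    have h2 := CfsgLib.Fixity.two_transitive_of_conj hNt hNc hone
    refine ⟨hex, h2, ?_⟩
    by_contra hc
    push Not at hc
    have hsh : ∀ g : G, g ≠ 1 → ∀ a b : Ω, a ≠ b → g • a = a → g • b ≠ b := fun g hg a b hab ha hb =>
      hab (CfsgLib.Fixity.eq_of_fix_le_one (by have := hc g hg; omega) ha hb)
    have := CfsgLib.Fixity.card_classes_of_sharp hΩ h2 hsh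
    rw [show Nat.card {x : ConjClasses G // CfsgLib.Fixity.IsDerClass Ω x} = 2 from hκ] at this
    omega
  left
  push Not at hone
  obtain ⟨x, hx, y, hy, hx1, hy1, hxy⟩ := hone
  -- every derangement is conjugate to `x` or to `y`
  have hor : ∀ z : G, (∀ ω : Ω, z • ω ≠ ω) → IsConj x z ∨ IsConj y z := by
    intro z hz
    by_contra hc
    push Not at hc
    have := CfsgLib.Fixity.three_le_card_classes (hder x hx hx1) (hder y hy hy1) hz hxy hc.1 hc.2
    rw [show Nat.card {x : ConjClasses G // CfsgLib.Fixity.IsDerClass Ω x} = 2 from hκ] at this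
    omega
  have hD : ∀ z : G, (∀ ω : Ω, z • ω ≠ ω) → z ∈ N := by
    intro z hz
    rcases hor z hz with h | h <;> obtain ⟨c, hc⟩ := isConj_iff.1 h
    · exact hc ▸ hN.conj_mem x hx c
    · exact hc ▸ hN.conj_mem y hy c
  have hfix := fun (g : G) (hg : g ≠ 1) =>
    CfsgLib.Fixity.fix_le_one_of_derangements_subset hprim.toIsPretransitive hNreg hD hg
  haveI := hNt
  haveI := Fintype.ofFinite G
  set H := MulAction.stabilizer G α
  have hcomm : ∀ u ∈ N, ∀ v ∈ N, u * v = v * u := fun u hu v hv =>
    congrArg Subtype.val (hNc.is_comm.comm (⟨u, hu⟩ : N) ⟨v, hv⟩)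
  -- the classes of `x` and `y` are the two regular orbits of `H` on the non-identity elements of `N`
  let f : Bool × H → {z : N // z ≠ 1} := fun p =>
    ⟨⟨(p.2 : G) * (bif p.1 then x else y) * (p.2 : G)⁻¹,
      hN.conj_mem _ (by cases p.1 <;> assumption) _⟩, fun h => by
      have h' := congrArg Subtype.val h
      simp only [Subgroup.coe_one, conj_eq_one_iff] at h'
      cases hb : p.1 <;> simp_all⟩
  have hreach : ∀ u ∈ N, ∀ z : G, IsConj u z → ∃ h : H, (h : G) * u * (h : G)⁻¹ = z := by
    intro u hu z hz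
    obtain ⟨c, hc⟩ := isConj_iff.1 hz
    obtain ⟨m, hm⟩ := MulAction.exists_smul_eq N (c • α) α
    refine ⟨⟨m * c, by rw [MulAction.mem_stabilizer_iff, mul_smul]; exact hm⟩, ?_⟩
    calc (m : G) * c * u * ((m : G) * c)⁻¹ = m * (c * u * c⁻¹) * (m : G)⁻¹ := by simp [mul_assoc]
      _ = (c * u * c⁻¹) * m * (m : G)⁻¹ := by rw [hcomm _ m.2 _ (hN.conj_mem u hu c)]
      _ = z := by rw [mul_inv_cancel_right, hc]
  have hfbij : Function.Bijective f := by
    constructor
    · rintro ⟨b, h⟩ ⟨b', k⟩ hfk
      have he : (h : G) * (bif b then x else y) * (h : G)⁻¹ =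
          (k : G) * (bif b' then x else y) * (k : G)⁻¹ :=
        congrArg (fun z : {z : N // z ≠ 1} => ((z : N) : G)) hfk
      have hconj : IsConj (bif b then x else y) (bif b' then x else y) :=
        (isConj_iff.2 ⟨(h : G), he⟩).trans (isConj_iff.2 ⟨(k : G), rfl⟩).symm
      have hbb : b = b' := by
        cases b <;> cases b'
        · rfl
        · exact absurd (show IsConj y x from hconj).symm hxy
        · exact absurd (show IsConj x y from hconj) hxy
        · rfl
      subst hbb
      set u := (bif b then x else y) with hu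
      have huN : u ∈ N := by cases b <;> assumption
      have hu1 : u ≠ 1 := by cases b <;> assumption
      refine Prod.ext rfl ?_
      by_contra hne
      have hcu : (k : G)⁻¹ * h * u = u * ((k : G)⁻¹ * h) := by
        calc (k : G)⁻¹ * h * u = (k : G)⁻¹ * ((h : G) * u * (h : G)⁻¹) * h := by simp [mul_assoc]
          _ = (k : G)⁻¹ * ((k : G) * u * (k : G)⁻¹) * h := by rw [he]
          _ = _ := by simp [mul_assoc]
      have hfa : ((k : G)⁻¹ * h) • α = α := by
        rw [mul_smul, MulAction.mem_stabilizer_iff.1 h.2, inv_smul_eq_iff,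
          MulAction.mem_stabilizer_iff.1 k.2]
      refine hder u huN hu1 α (CfsgLib.Fixity.eq_of_fix_le_one
        (hfix _ fun h1 => hne (Subtype.ext (inv_mul_eq_one.1 h1).symm)) ?_ hfa)
      rw [← mul_smul, hcu, mul_smul, hfa]
    · rintro ⟨⟨z, hz⟩, hz1⟩
      rcases hor z (hder z hz fun h => hz1 (Subtype.ext h)) with h | h
      · obtain ⟨k, hk⟩ := hreach x hx z h
        exact ⟨(true, k), Subtype.ext (Subtype.ext hk)⟩
      · obtain ⟨k, hk⟩ := hreach y hy z h
        exact ⟨(false, k), Subtype.ext (Subtype.ext hk)⟩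
  have hcard : 2 * Nat.card H = Nat.card Ω - 1 := by
    have h := Nat.card_congr (Equiv.ofBijective f hfbij)
    rw [Nat.card_prod, Nat.card_eq_fintype_card (α := Bool), Fintype.card_bool] at h
    rw [h, ← CfsgLib.Fixity.card_regular_eq hNt hNreg α, Nat.card_eq_fintype_card,
      Nat.card_eq_fintype_card, Fintype.card_subtype_compl, Fintype.card_subtype_eq]
  refine ⟨hex, hfix, fun hdvd => ?_, hcard⟩
  have : 0 < Nat.card H := Nat.card_pos
  omega

end Cfsg.Agent.S3520
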