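import Cfsg.Statements.S3554


set_option autoImplicit false
open Cfsg

namespace Cfsg.Agent.S3554

/-- Let G act faithfully and transitively on a finite set and suppose G has a non-trivial cyclic normal subgroup. Then some element of G of prime order fixes no point. -/
theorem result {G Ω : Type*} [Group G] [Finite G] [MulAction G Ω] [FaithfulSMul G Ω] [Finite Ω]
    (htrans : MulAction.IsPretransitive G Ω) (C : Subgroup G) (hC : C.Normal) (hC1 : C ≠ ⊥) (hcyc : IsCyclic ↥C) :
    ∃ g : G, (orderOf g).Prime ∧ ∀ ω : Ω, g • ω ≠ ω := by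
  classical
  haveI := hC
  have hcard : Nat.card C ≠ 1 := fun h => hC1 (Subgroup.eq_bot_of_card_eq C h)
  obtain ⟨q, hq, hqd⟩ := Nat.exists_prime_and_dvd hcard
  haveI := Fact.mk hq
  obtain ⟨c, hc⟩ := exists_prime_orderOf_dvd_card' q hqd
  refine ⟨c, by rw [Subgroup.orderOf_coe, hc]; exact hq, fun ω hω => ?_⟩
  have hc1 : (c : G) ≠ 1 := fun h => hq.ne_one (by rw [← hc, ← Subgroup.orderOf_coe, h, orderOf_one])
  refine hc1 (eq_of_smul_eq_smul (α := Ω) fun w => ?_)
  obtain ⟨g, rfl⟩ := MulAction.exists_smul_eq G ω w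
  -- the conjugate of `c` is a power of `c`
  let c' : C := ⟨g⁻¹ * c * g, by simpa using hC.conj_mem c c.2 g⁻¹⟩
  have hmem : c' ∈ Subgroup.zpowers c := by
    rcases eq_or_ne c' 1 with h | h
    · rw [h]; exact one_mem _
    have hc' : c' ^ q = 1 := by
      apply Subtype.ext
      show (g⁻¹ * c * g) ^ q = 1
      rw [show g⁻¹ * (c : G) * g = g⁻¹ * c * g⁻¹⁻¹ by rw [inv_inv], conj_pow, ← hc,
        ← Subgroup.orderOf_coe, pow_orderOf_eq_one, mul_one, mul_inv_cancel]
    have hsub : ∀ x : C, x ^ q = 1 → x ∈ Subgroup.zpowers c := by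
      intro x hx
      haveI := Fintype.ofFinite C
      have h1 : (Finset.univ.filter fun a : C => a ∈ Subgroup.zpowers c) ⊆
          Finset.univ.filter (fun a : C => a ^ q = 1) := by
        intro a ha
        obtain ⟨i, rfl⟩ := (Finset.mem_filter.1 ha).2
        refine Finset.mem_filter.2 ⟨Finset.mem_univ _, ?_⟩
        simp only
        rw [← zpow_natCast, ← zpow_mul, mul_comm, zpow_mul, zpow_natCast, ← hc, pow_orderOf_eq_one,
          one_zpow]
      have h2 : (Finset.univ.filter fun a : C => a ^ q = 1).card ≤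
          (Finset.univ.filter fun a : C => a ∈ Subgroup.zpowers c).card := by
        refine (IsCyclic.card_pow_eq_one_le hq.pos).trans (le_of_eq ?_)
        rw [← Fintype.card_subtype, ← Nat.card_eq_fintype_card]
        exact (hc.symm.trans (Nat.card_zpowers c).symm)
      have h3 := Finset.eq_of_subset_of_card_le h1 h2
      have : x ∈ Finset.univ.filter (fun a : C => a ^ q = 1) :=
        Finset.mem_filter.2 ⟨Finset.mem_univ _, hx⟩
      rw [← h3] at this
      exact (Finset.mem_filter.1 this).2
    exact hsub c' hc'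
  obtain ⟨i, hi⟩ := hmem
  have hfix : (g⁻¹ * c * g) • ω = ω := by
    rw [show g⁻¹ * (c : G) * g = (c' : G) from rfl, ← hi]
    simp only [Subgroup.coe_zpow]
    exact (zpow_mem (show (c : G) ∈ MulAction.stabilizer G ω from hω) i)
  rw [mul_smul, mul_smul, inv_smul_eq_iff] at hfix
  rw [hfix, one_smul]

end Cfsg.Agent.S3554
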