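import Cfsg.Statements.S3555
import Cfsg.Agent.Lib.Fixity.Count

set_option autoImplicit false
set_option linter.style.haveILetI false
open Cfsg
open scoped Pointwise

namespace Cfsg.Agent.S3555

/-- Let G act faithfully and transitively on a finite set and suppose every element of G fixing no point is an involution. Then either G is an elementary abelian 2-group, or G is a Frobenius group whose Frobenius kernel is an elementary abelian 2-group: G has a Frobenius complement H, and the elements lying in no conjugate of H, together with the identity, pairwise commute and square to the identity. -/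
theorem result {G Ω : Type*} [Group G] [Finite G] [MulAction G Ω] [FaithfulSMul G Ω] [Finite Ω]
    (htrans : MulAction.IsPretransitive G Ω) (hinv : ∀ g : G, (∀ ω : Ω, g • ω ≠ ω) → orderOf g = 2) :
    (IsMulCommutative G ∧ ∀ g : G, g ^ 2 = 1) ∨
    (∃ H : Subgroup G, Cfsg.IsFrobeniusComplement H ∧
      (∀ x ∈ Cfsg.frobeniusKernel H, x ^ 2 = 1) ∧
      ∀ x ∈ Cfsg.frobeniusKernel H, ∀ y ∈ Cfsg.frobeniusKernel H, x * y = y * x) := by
  classical
  haveI := htrans
  letI : Fintype G := Fintype.ofFinite G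
  letI : Fintype Ω := Fintype.ofFinite Ω
  rcases isEmpty_or_nonempty Ω with hΩe | hΩ
  · left
    have h1 : ∀ g : G, g = 1 := fun g => eq_of_smul_eq_smul (α := Ω) fun w => isEmptyElim w
    exact ⟨⟨⟨fun a b => by rw [h1 a, h1 b]⟩⟩, fun g => by rw [h1 g, one_pow]⟩
  obtain ⟨α⟩ := hΩ
  have hd2 : ∀ g : G, (∀ ω : Ω, g • ω ≠ ω) → g * g = 1 := fun g hg => by
    rw [← pow_two, ← hinv g hg, pow_orderOf_eq_one]
  have hswap : ∀ g : G, (∀ ω : Ω, g • ω ≠ ω) → ∀ a : Ω, g • g • a = a := fun g hg a => by
    rw [← mul_smul, hd2 g hg, one_smul]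
  set n := Fintype.card Ω
  let F : G → Finset Ω := fun g => Finset.univ.filter fun w => g • w = w
  have hF : ∀ g w, w ∈ F g ↔ g • w = w := fun g w => by simp [F]
  set Der : Finset G := Finset.univ.filter fun g => ∀ ω : Ω, g • ω ≠ ω
  let T : Finset (G × Ω × Ω) := Finset.univ.filter fun x =>
    x.1 • x.2.1 = x.2.1 ∧ x.1 • x.2.2 = x.2.2 ∧ x.2.1 ≠ x.2.2
  have hsum : ∑ g : G, ((F g).card : ℤ) = Fintype.card G := by
    haveI : Nonempty Ω := ⟨α⟩
    have h := CfsgLib.Fixity.sum_fix_eq_card (G := G) (Ω := Ω) htrans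
    rw [← Nat.cast_sum]
    congr 1
    rw [Fintype.card_eq_nat_card, ← h]
    refine Finset.sum_congr rfl fun g _ => ?_
    rw [Nat.card_coe_set_eq, ← Set.ncard_coe_finset]
    congr 1
    ext w
    simp [F]
  have hT : ∑ g : G, ((F g).offDiag.card : ℤ) = T.card := by
    rw [← Nat.cast_sum, ← Finset.card_sigma]
    congr 1
    refine Finset.card_bij' (fun x _ => (x.1, x.2)) (fun x _ => ⟨x.1, x.2⟩) ?_ ?_ ?_ ?_
    · intro x hx
      simp only [Finset.mem_sigma, Finset.mem_offDiag, hF] at hx
      simp [T, hx.2.1, hx.2.2.1, hx.2.2.2]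
    · intro x hx
      simp only [T, Finset.mem_filter] at hx
      simp [Finset.mem_sigma, Finset.mem_offDiag, hF, hx.2.1, hx.2.2.1, hx.2.2.2]
    · intro x _; rfl
    · intro x _; rfl
  let c : Ω → Ω → G := fun a b => Classical.epsilon fun g => (∀ ω : Ω, g • ω ≠ ω) ∧ g • a = b
  have hcount : Der.card * n ≤ T.card := by
    rw [show Der.card * n = (Der ×ˢ (Finset.univ : Finset Ω)).card by
      rw [Finset.card_product, Finset.card_univ]]
    refine Finset.card_le_card_of_injOn (fun x => (c x.2 (x.1 • x.2) * x.1, x.2, x.1 • x.2)) ?_ ?_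
    · rintro ⟨g, a⟩ hx
      simp only [Finset.mem_coe, Finset.mem_product, Der, Finset.mem_filter] at hx
      have hg := hx.1.2
      obtain ⟨hc1, hc2⟩ := Classical.epsilon_spec
        (p := fun e : G => (∀ ω : Ω, e • ω ≠ ω) ∧ e • a = g • a) ⟨g, hg, rfl⟩
      have hc3 : c a (g • a) • g • a = a := by
        have h := hswap _ hc1 a
        rwa [hc2] at h
      simp only [T, Finset.mem_coe, Finset.mem_filter, Finset.mem_univ, true_and, mul_smul]
      exact ⟨hc3, by rw [hswap g hg a]; exact hc2, (hg a).symm⟩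
    · rintro ⟨g, a⟩ _ ⟨g', a'⟩ _ h
      simp only [Prod.mk.injEq] at h
      obtain ⟨h1, rfl, h3⟩ := h
      rw [h3] at h1
      rw [mul_left_cancel h1]
  have hterm : ∀ g ∈ Derᶜ, (((F g).card : ℤ) - 1) * ((F g).card - n) ≤ 0 := by
    intro g hg
    refine mul_nonpos_of_nonneg_of_nonpos ?_ ?_
    · simp only [Der, Finset.mem_compl, Finset.mem_filter, Finset.mem_univ, true_and, not_forall,
        not_not] at hg
      obtain ⟨w, hw⟩ := hg
      have : 0 < (F g).card := Finset.card_pos.2 ⟨w, (hF g w).2 hw⟩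
      omega
    · have := Finset.card_le_univ (F g)
      omega
  have htot : ∑ g : G, (((F g).card : ℤ) - 1) * ((F g).card - n) = T.card := by
    have hpt : ∀ g : G, (((F g).card : ℤ) - 1) * ((F g).card - n) =
        ((F g).offDiag.card : ℤ) + (n * 1 - n * (F g).card) := by
      intro g
      have h : (F g).card ≤ (F g).card * (F g).card := Nat.le_mul_self _
      rw [Finset.offDiag_card, Nat.cast_sub h, Nat.cast_mul]
      ring
    simp only [hpt]
    rw [Finset.sum_add_distrib, hT, Finset.sum_sub_distrib, ← Finset.mul_sum, ← Finset.mul_sum,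
      hsum]
    simp
  have hfix1 : ∀ g : G, g ≠ 1 → ∀ a b : Ω, g • a = a → g • b = b → a = b := by
    intro g hg a b ha hb
    rw [← Finset.sum_add_sum_compl Der] at htot
    have hD0 : ∑ h ∈ Der, (((F h).card : ℤ) - 1) * ((F h).card - n) = Der.card * n := by
      rw [Finset.sum_congr rfl (fun h hh => ?_), Finset.sum_const, nsmul_eq_mul]
      simp only [Der, Finset.mem_filter] at hh
      have : F h = ∅ := Finset.filter_eq_empty_iff.2 fun w _ => hh.2 w
      rw [this, Finset.card_empty]
      simp
    have hcount' : (Der.card : ℤ) * n ≤ T.card := by exact_mod_cast hcount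
    have hle := Finset.sum_nonpos hterm
    have hz : ∑ h ∈ Derᶜ, (((F h).card : ℤ) - 1) * ((F h).card - n) = 0 := by
      rw [hD0] at htot
      omega
    have hgmem : g ∈ Derᶜ := by
      simp only [Der, Finset.mem_compl, Finset.mem_filter, Finset.mem_univ, true_and]
      exact fun h => h a ha
    rcases mul_eq_zero.1 ((Finset.sum_eq_zero_iff_of_nonpos hterm).1 hz g hgmem) with h | h
    · exact Finset.card_le_one.1 (by omega) a ((hF g a).2 ha) b ((hF g b).2 hb)
    · exfalso
      apply hg
      have hu : F g = Finset.univ := Finset.eq_univ_of_card _ (by omega)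
      refine eq_of_smul_eq_smul (α := Ω) fun w => ?_
      rw [one_smul]
      exact (hF g w).1 (hu ▸ Finset.mem_univ w)
  -- derangements commute
  have hcomm : ∀ x y : G, (∀ ω : Ω, x • ω ≠ ω) → (∀ ω : Ω, y • ω ≠ ω) → x * y = y * x := by
    intro x y hx hy
    by_cases hxy : ∀ ω : Ω, (x * y) • ω ≠ ω
    · have h' : (x * y)⁻¹ = x * y := inv_eq_of_mul_eq_one_left (hd2 _ hxy)
      rw [mul_inv_rev, inv_eq_of_mul_eq_one_left (hd2 x hx), inv_eq_of_mul_eq_one_left (hd2 y hy)] at h'
      exact h'.symm
    · push Not at hxy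
      obtain ⟨w, hw⟩ := hxy
      rw [mul_smul] at hw
      have h1 : x • w = y • w := by
        have := congrArg (x • ·) hw
        simp only [hswap x hx] at this
        exact this.symm
      have h2 : (x * y) • (y • w) = y • w := by
        rw [mul_smul, hswap y hy w, h1]
      have h3 : x * y = 1 := by
        by_contra h
        exact hy w (hfix1 _ h w (y • w) (by rw [mul_smul]; exact hw) h2).symm
      rw [mul_eq_one_iff_eq_inv.1 h3, inv_mul_cancel, mul_inv_cancel]
  by_cases hH : MulAction.stabilizer G α = ⊥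
  · left
    have hder : ∀ g : G, g ≠ 1 → ∀ ω : Ω, g • ω ≠ ω := by
      intro g hg ω h
      obtain ⟨u, rfl⟩ := MulAction.exists_smul_eq G α ω
      apply hg
      have : u⁻¹ * g * u ∈ MulAction.stabilizer G α := by
        rw [MulAction.mem_stabilizer_iff, mul_smul, mul_smul, h, inv_smul_smul]
      rw [hH, Subgroup.mem_bot] at this
      calc g = u * (u⁻¹ * g * u) * u⁻¹ := by group
        _ = 1 := by rw [this]; group
    refine ⟨⟨⟨fun a b => ?_⟩⟩, fun g => ?_⟩
    · by_cases ha : a = 1
      · simp [ha]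
      by_cases hb : b = 1
      · simp [hb]
      exact hcomm a b (hder a ha) (hder b hb)
    · by_cases hg : g = 1
      · rw [hg, one_pow]
      · rw [pow_two]; exact hd2 g (hder g hg)
  right
  have hker : ∀ x ∈ Cfsg.frobeniusKernel (MulAction.stabilizer G α), x = 1 ∨ ∀ ω : Ω, x • ω ≠ ω := by
    rintro x (rfl | hx)
    · exact Or.inl rfl
    refine Or.inr fun ω h => ?_
    obtain ⟨u, rfl⟩ := MulAction.exists_smul_eq G α ω
    apply hx u
    rw [Subgroup.mem_pointwise_smul_iff_inv_smul_mem, MulAut.smul_def, MulAut.conj_inv_apply,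
      MulAction.mem_stabilizer_iff, mul_smul, mul_smul, h, inv_smul_smul]
  refine ⟨MulAction.stabilizer G α, ⟨hH, fun h => hH ?_, fun g hg => ?_⟩, fun x hx => ?_,
    fun x hx y hy => ?_⟩
  · rw [Subgroup.eq_bot_iff_forall]
    intro k hk
    refine eq_of_smul_eq_smul (α := Ω) fun w => ?_
    obtain ⟨u, rfl⟩ := MulAction.exists_smul_eq G α w
    rw [one_smul, (MulAction.mem_stabilizer_iff.1 (h ▸ Subgroup.mem_top u : u ∈ MulAction.stabilizer G α))]
    exact hk
  · rw [eq_bot_iff]
    rintro k ⟨hk1, hk2⟩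
    rw [Subgroup.mem_bot]
    by_contra hk
    apply hg
    change k ∈ MulAut.conj g • MulAction.stabilizer G α at hk2
    rw [Subgroup.mem_pointwise_smul_iff_inv_smul_mem, MulAut.smul_def,
      MulAut.conj_inv_apply, MulAction.mem_stabilizer_iff, mul_smul, mul_smul, inv_smul_eq_iff] at hk2
    exact (hfix1 k hk _ _ hk2 hk1)
  · rcases hker x hx with rfl | h
    · rw [one_pow]
    · rw [pow_two]; exact hd2 x h
  · rcases hker x hx with rfl | h
    · simp
    rcases hker y hy with rfl | h'
    · simp
    exact hcomm x y h h'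

end Cfsg.Agent.S3555
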