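import Cfsg.Statements.S3556
import Cfsg.Agent.Lib.Fixity.AffineDerangements

set_option autoImplicit false
open Cfsg

namespace Cfsg.Agent.S3556

/-- Let G act faithfully and primitively on a finite set with at least two points, and suppose that for some fixed prime p every element of G fixing no point has order a power of p. Then G is of affine type (it has a regular normal subgroup that is an elementary abelian r-group for some prime r) or almost simple (it has a non-abelian simple normal subgroup with trivial centralizer). -/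
theorem result {G Ω : Type*} [Group G] [Finite G] [MulAction G Ω] [FaithfulSMul G Ω] [Finite Ω]
    (hprim : MulAction.IsPreprimitive G Ω) (hΩ : 2 ≤ Nat.card Ω) (p : ℕ) (hp : p.Prime)
    (hder : ∀ g : G, (∀ ω : Ω, g • ω ≠ ω) → ∃ k : ℕ, orderOf g = p ^ k) :
    (∃ (N : Subgroup G) (r : ℕ), r.Prime ∧ N.Normal ∧ Cfsg.IsElementaryAbelian r N ∧
      MulAction.IsPretransitive N Ω ∧ ∀ a : Ω, MulAction.stabilizer N a = ⊥) ∨
    (∃ T : Subgroup G, T.Normal ∧ IsSimpleGroup ↥T ∧ ¬ IsMulCommutative ↥T ∧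
      Subgroup.centralizer (T : Set G) = ⊥) := by
  by_cases hnas : ∃ T : Subgroup G, T.Normal ∧ IsSimpleGroup ↥T ∧ ¬ IsMulCommutative ↥T ∧
      Subgroup.centralizer (T : Set G) = ⊥
  · exact Or.inr hnas
  left
  by_cases hna : ∀ N : Subgroup G, N.Normal → IsMulCommutative N → N = ⊥
  · obtain ⟨g, hg, hord⟩ := CfsgLib.Fixity.exists_derangement_order_not_pow hprim hΩ hna hnas hp
    obtain ⟨k, hk⟩ := hder g hg
    exact absurd hk (hord k)
  push Not at hna
  obtain ⟨A, hA, hAc, hAb⟩ := hna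
  haveI := hA
  obtain ⟨r, hr, hrd⟩ := Nat.exists_prime_and_dvd
    (n := Nat.card A) (fun h => hAb (Subgroup.eq_bot_of_card_eq A h))
  haveI := Fact.mk hr
  have hcomm : ∀ u ∈ A, ∀ v ∈ A, Commute u v := fun u hu v hv =>
    congrArg Subtype.val (hAc.is_comm.comm (⟨u, hu⟩ : A) ⟨v, hv⟩)
  let B : Subgroup G :=
    { carrier := {g | g ∈ A ∧ g ^ r = 1}
      one_mem' := ⟨one_mem _, one_pow _⟩
      mul_mem' := fun {u v} hu hv => ⟨mul_mem hu.1 hv.1, by
        rw [(hcomm u hu.1 v hv.1).mul_pow, hu.2, hv.2, one_mul]⟩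
      inv_mem' := fun {u} hu => ⟨inv_mem hu.1, by rw [inv_pow, hu.2, inv_one]⟩ }
  have hB : B.Normal := ⟨fun u hu g => ⟨hA.conj_mem u hu.1 g, by rw [conj_pow, hu.2]; simp⟩⟩
  have hBc : IsMulCommutative B :=
    ⟨⟨fun u v => Subtype.ext (hcomm u u.2.1 v v.2.1)⟩⟩
  have hBb : B ≠ ⊥ := by
    obtain ⟨u, hu⟩ := exists_prime_orderOf_dvd_card' r hrd
    intro h
    have hu' : (u : G) ∈ B := ⟨u.2, by
      rw [← hu, ← Subgroup.orderOf_coe]; exact pow_orderOf_eq_one _⟩
    rw [h, Subgroup.mem_bot] at hu'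
    rw [← Subgroup.orderOf_coe, hu', orderOf_one] at hu
    exact hr.ne_one hu.symm
  obtain ⟨h1, h2⟩ := CfsgLib.Fixity.abelian_normal_regular (Ω := Ω) hprim hBb hBc
  exact ⟨B, r, hr, hB, ⟨hBc, fun u hu => hu.2⟩, h1, h2⟩

end Cfsg.Agent.S3556
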