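import Cfsg.Statements.S3557
-- import your own Cfsg.Agent.* helpers here

set_option autoImplicit false
open Cfsg
set_option linter.style.haveILetI false
set_option linter.unusedSectionVars false
set_option linter.deprecated false

namespace Cfsg.Agent.S3557

open MulAction

variable {P Ω : Type*} [Group P] [Finite P] [MulAction P Ω] {p : ℕ}

theorem pow_smul_mod {y : P} {x : Ω} (h : y ^ p • x = x) : ∀ n, y ^ (p * n) • x = x
  | 0 => by rw [mul_zero, pow_zero, one_smul]
  | n + 1 => by rw [Nat.mul_succ, pow_add, mul_smul, h, pow_smul_mod h n]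

theorem pow_smul_eq {y : P} {x : Ω} (h : y ^ p • x = x) (i : ℕ) : y ^ i • x = y ^ (i % p) • x := by
  conv_lhs => rw [← Nat.mod_add_div i p, pow_add, mul_smul, pow_smul_mod h]

theorem index_stab (x : Ω) : (stabilizer P x).index = Nat.card (orbit P x) := by
  rw [index_stabilizer, Nat.card_coe_set_eq]

/-- The stabiliser of the block spanned by `y`. -/
theorem block_spec (hp : p.Prime) (N : Subgroup P) [N.Normal] {x : Ω} {y : P}
    (hx : Nat.card (orbit P x) = p ^ 2) (hyN : y ∈ N) (hy : y • x ≠ x) (hyp : y ^ p • x = x)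
    (hN : ∀ n ∈ N, ∃ i : ℕ, n • x = y ^ i • x) :
    (N ⊔ stabilizer P x).index = p ∧ ∀ m ∈ N ⊔ stabilizer P x, ∃ i : ℕ, m • x = y ^ i • x := by
  have hmem : ∀ m ∈ N ⊔ stabilizer P x, ∃ i : ℕ, m • x = y ^ i • x := by
    intro m hm
    obtain ⟨n, hn, h, hh, rfl⟩ := Subgroup.mem_sup_of_normal_left.1 hm
    obtain ⟨i, hi⟩ := hN n hn
    exact ⟨i, by rw [mul_smul, mem_stabilizer_iff.1 hh, hi]⟩
  refine ⟨?_, hmem⟩
  set M := N ⊔ stabilizer P x with hM
  have hle : stabilizer P x ≤ M := le_sup_right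
  have hd : M.index ∣ p ^ 2 := by
    rw [← hx, ← index_stab]
    exact Subgroup.index_dvd_of_le hle
  obtain ⟨i, hi, hMi⟩ := (Nat.dvd_prime_pow hp).1 hd
  interval_cases i
  · rw [pow_zero, Subgroup.index_eq_one] at hMi
    haveI : NeZero p := ⟨hp.ne_zero⟩
    have hs : Function.Surjective (fun j : Fin p => (⟨y ^ (j : ℕ) • x, mem_orbit x _⟩ : orbit P x)) := by
      rintro ⟨_, g, rfl⟩
      obtain ⟨j, hj⟩ := hmem g (hMi ▸ Subgroup.mem_top g)
      exact ⟨⟨j % p, Nat.mod_lt _ hp.pos⟩, Subtype.ext (((pow_smul_eq hyp j).symm.trans hj.symm))⟩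
    have h := Nat.card_le_card_of_surjective _ hs
    rw [hx, Nat.card_fin, sq] at h
    exact absurd h (not_le.2 (lt_mul_of_one_lt_left hp.pos hp.one_lt))
  · simpa using hMi
  · refine absurd ?_ hy
    have hre := Subgroup.relIndex_mul_index hle
    rw [hMi, index_stab, hx] at hre
    have h1 : (stabilizer P x).relIndex M = 1 := by
      refine mul_right_cancel₀ (pow_ne_zero 2 hp.ne_zero) ?_
      rw [hre, one_mul]
    exact mem_stabilizer_iff.1 (Subgroup.relIndex_eq_one.1 h1 (Subgroup.mem_sup_left hyN))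

/-- A subgroup of prime index in a group of prime power order is normal. -/
theorem normal_of_index_prime (hp : p.Prime) (hP : IsPGroup p P) {M : Subgroup P} (hM : M.index = p) :
    M.Normal := by
  haveI : Fact p.Prime := ⟨hp⟩
  obtain ⟨n, hn⟩ := IsPGroup.iff_card.1 hP
  refine Subgroup.normal_of_index_eq_minFac_card ?_
  rcases n with _ | n
  · have h := M.index_dvd_card
    rw [hM, hn, pow_zero, Nat.dvd_one] at h
    exact absurd h hp.ne_one
  · rw [hM, hn, Nat.pow_minFac (Nat.succ_ne_zero n), hp.minFac_eq]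

/-- The element glued to `z`. -/
theorem exists_glue (hp : p.Prime) (hP : IsPGroup p P) {a b : Ω} (ha : Nat.card (orbit P a) = p ^ 2)
    (hb : Nat.card (orbit P b) = p ^ 2) {z : P} (hzc : ∀ g : P, g * z = z * g) (hzp : z ^ p = 1)
    (hza : z • a ≠ a) (hzb : z • b = b) :
    ∃ w : P, w • b ≠ b ∧ w ^ p • b = b ∧ (∀ g : P, w • g • b = g • w • b) ∧
      ∀ g : P, ∃ h : P, h • g • a = g • a ∧ h • b = w • b := by
  haveI : Fact p.Prime := ⟨hp⟩
  have hzfix : ∀ (i : ℕ) (g : P), z ^ i • g • b = g • b := by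
    intro i g
    induction i with
    | zero => rw [pow_zero, one_smul]
    | succ i ih => rw [pow_succ, mul_smul, smul_smul z g, ← hzc, mul_smul, hzb, ih]
  have hzn : ∀ i : ℕ, ∀ g : P, g * z ^ i = z ^ i * g := fun i g => ((show Commute g z from hzc g).pow_right i).eq
  haveI hZN : (Subgroup.zpowers z).Normal := ⟨fun n hn g => by
    obtain ⟨i, rfl⟩ := (mem_powers_iff_mem_zpowers).2 hn
    show g * z ^ i * g⁻¹ ∈ _
    rw [hzn, mul_inv_cancel_right]
    exact Subgroup.pow_mem _ (Subgroup.mem_zpowers z) i⟩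
  have horb : ∀ g : P, orbit P (g • a) = orbit P a := fun g => orbit_eq_iff.2 (mem_orbit a g)
  have hM1 : ∀ g : P, (Subgroup.zpowers z ⊔ stabilizer P (g • a)).index = p := fun g =>
    (block_spec hp _ (x := g • a) (y := z) (by rw [horb, ha]) (Subgroup.mem_zpowers z)
      (fun h => hza (by rw [← MulAction.injective g |>.eq_iff, smul_smul g z, hzc, mul_smul]; exact h))
      (by rw [hzp, one_smul])
      (fun n hn => by obtain ⟨i, rfl⟩ := (mem_powers_iff_mem_zpowers).2 hn; exact ⟨i, rfl⟩)).1
  by_cases hreg : (stabilizer P b).Normal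
  · -- the constituent on the orbit of `b` is regular
    haveI := hreg
    have hQ : Nat.card (P ⧸ stabilizer P b) = p ^ 2 := by rw [← Subgroup.index, index_stab, hb]
    have hcomm : ∀ g w : P, w • g • b = g • w • b := fun g w => by
      have h := IsPGroup.commutative_of_card_eq_prime_sq hQ (g : P ⧸ stabilizer P b) (w : P ⧸ stabilizer P b)
      rw [← QuotientGroup.mk_mul, ← QuotientGroup.mk_mul, QuotientGroup.eq, mem_stabilizer_iff, mul_smul,
        inv_smul_eq_iff] at h
      rw [smul_smul, smul_smul]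
      exact h
    have hfix : ∀ k ∈ stabilizer P b, ∀ g : P, k • g • b = g • b := fun k hk g => by
      rw [hcomm g k, mem_stabilizer_iff.1 hk]
    have hnot : ¬ stabilizer P a ≤ stabilizer P b := fun hle => by
      have hre := Subgroup.relIndex_mul_index hle
      rw [index_stab, index_stab, ha, hb] at hre
      have h1 : (stabilizer P a).relIndex (stabilizer P b) = 1 :=
        mul_right_cancel₀ (pow_ne_zero 2 hp.ne_zero) (by rw [hre, one_mul])
      exact hza (mem_stabilizer_iff.1 (Subgroup.relIndex_eq_one.1 h1 (mem_stabilizer_iff.2 hzb)))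
    obtain ⟨h, hha, hhb⟩ := Set.not_subset.1 hnot
    obtain ⟨n, hn⟩ := hP h
    have hex : ∃ k, h ^ p ^ k ∈ stabilizer P b := ⟨n, by rw [hn]; exact Subgroup.one_mem _⟩
    classical
    obtain ⟨k, hk⟩ : ∃ k, Nat.find hex = k + 1 := by
      refine Nat.exists_eq_succ_of_ne_zero fun h0 => hhb ?_
      have := Nat.find_spec hex
      rwa [h0, pow_zero, pow_one] at this
    refine ⟨h ^ p ^ k, ?_, ?_, fun g => hcomm g _, fun g => ⟨g * h ^ p ^ k * g⁻¹, ?_, ?_⟩⟩
    · exact fun hc => Nat.find_min hex (hk ▸ Nat.lt_succ_self k) (mem_stabilizer_iff.2 hc)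
    · have := Nat.find_spec hex
      rw [hk, pow_succ, pow_mul] at this
      exact mem_stabilizer_iff.1 this
    · rw [mul_smul, mul_smul, inv_smul_smul, mem_stabilizer_iff.1 (Subgroup.pow_mem _ hha _)]
    · rw [mul_smul, mul_smul, hcomm g⁻¹ (h ^ p ^ k), smul_inv_smul]
  · -- a central element of the constituent on the orbit of `b`
    set π : P →* Equiv.Perm (orbit P b) := toPermHom P (orbit P b) with hπ
    have hπv : ∀ (g : P) (o : orbit P b), ((π g o : orbit P b) : Ω) = g • (o : Ω) := fun g o => rfl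
    set q := π.rangeRestrict with hq
    have hq1 : Nontrivial π.range := by
      have hne : ¬ ∀ g : P, g • b = b := fun hall => by
        have : Nat.card (orbit P b) ≤ 1 := by
          have he : orbit P b = {b} := Set.eq_singleton_iff_unique_mem.2
            ⟨mem_orbit_self b, by rintro _ ⟨g, rfl⟩; exact hall g⟩
          rw [he, Nat.card_coe_set_eq, Set.ncard_singleton]
        rw [hb] at this
        exact absurd this (not_le.2 (Nat.one_lt_pow two_ne_zero hp.one_lt))
      push Not at hne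
      obtain ⟨g, hg⟩ := hne
      refine ⟨⟨q g, 1, fun h => hg ?_⟩⟩
      exact congrArg Subtype.val (Equiv.congr_fun (congrArg Subtype.val h) ⟨b, mem_orbit_self b⟩)
    haveI := hq1
    have hR : IsPGroup p π.range := hP.of_surjective q π.rangeRestrict_surjective
    haveI : Finite π.range := Finite.of_surjective q π.rangeRestrict_surjective
    haveI := hR.center_nontrivial
    obtain ⟨k, hk⟩ := (IsPGroup.iff_card).1 (hR.to_subgroup (Subgroup.center π.range))
    obtain ⟨⟨c, hc⟩, hco⟩ := exists_prime_orderOf_dvd_card' (G := Subgroup.center π.range) p (by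
      rw [hk]
      refine dvd_pow_self p fun h0 => ?_
      have := Finite.one_lt_card (α := Subgroup.center π.range)
      rw [hk, h0, pow_zero] at this
      exact lt_irrefl _ this)
    rw [Subgroup.orderOf_mk] at hco
    obtain ⟨y, hy⟩ := π.rangeRestrict_surjective c
    have hqv : ∀ {g g' : P}, q g = q g' → ∀ h : P, g • h • b = g' • h • b := fun he h =>
      congrArg Subtype.val (Equiv.congr_fun (congrArg Subtype.val he) ⟨h • b, mem_orbit b h⟩)
    have hyc : ∀ g h : P, y • g • h • b = g • y • h • b := fun g h => by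
      have he : q (y * g) = q (g * y) := by
        rw [map_mul, map_mul, hy]
        exact (Subgroup.mem_center_iff.1 hc (q g)).symm
      rw [smul_smul, smul_smul g y]
      exact hqv he h
    have hyg : ∀ g : P, y • g • b = g • y • b := fun g => by
      have := hyc g 1
      rwa [one_smul] at this
    have hyb : y • b ≠ b := fun h => by
      refine hp.ne_one ?_
      rw [← hco, orderOf_eq_one_iff, ← hy]
      refine Subtype.ext (Equiv.ext fun o => Subtype.ext ?_)
      obtain ⟨_, g, rfl⟩ := o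
      show y • g • b = g • b
      rw [hyg, h]
    have hyp : y ^ p • b = b := by
      have he : q (y ^ p) = q 1 := by rw [map_pow, hy, map_one, ← hco, pow_orderOf_eq_one]
      have := hqv he 1
      rwa [one_smul, one_smul] at this
    have hypow : ∀ (i : ℕ) (g : P), y ^ i • g • b = g • y ^ i • b := by
      intro i
      induction i with
      | zero => simp
      | succ i ih =>
        intro g
        rw [pow_succ', mul_smul, mul_smul, ih]
        exact hyc g (y ^ i)
    haveI hcn : (Subgroup.zpowers c).Normal := ⟨fun n hn g => by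
      obtain ⟨i, rfl⟩ := (mem_powers_iff_mem_zpowers).2 hn
      show g * c ^ i * g⁻¹ ∈ _
      rw [((show Commute g c from Subgroup.mem_center_iff.1 hc g).pow_right i).eq, mul_inv_cancel_right]
      exact Subgroup.pow_mem _ (Subgroup.mem_zpowers c) i⟩
    obtain ⟨hM2, hM2b⟩ := block_spec hp ((Subgroup.zpowers c).comap q) hb
      (y := y) (Subgroup.mem_comap.2 (hy ▸ Subgroup.mem_zpowers c)) hyb hyp fun n hn => by
        obtain ⟨i, hi⟩ := (mem_powers_iff_mem_zpowers).2 (Subgroup.mem_comap.1 hn)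
        refine ⟨i, ?_⟩
        have he : q n = q (y ^ i) := by rw [map_pow, hy]; exact hi.symm
        have := hqv he 1
        rwa [one_smul] at this
    refine ⟨y, hyb, hyp, hyg, fun g => ?_⟩
    set M₁ := Subgroup.zpowers z ⊔ stabilizer P (g • a) with hM₁
    set M₂ := (Subgroup.zpowers c).comap q ⊔ stabilizer P b with hM₂
    haveI := normal_of_index_prime hp hP (hM1 g)
    haveI := normal_of_index_prime hp hP hM2
    have hnot : ¬ M₁ ⊓ M₂ ≤ stabilizer P b := fun hle => hreg (by
      have hre := Subgroup.relIndex_mul_index hle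
      have hle2 : (M₁ ⊓ M₂).index ≤ p ^ 2 :=
        Subgroup.index_inf_le.trans (le_of_eq (by rw [hM1 g, hM2, sq]))
      rw [index_stab, hb] at hre
      have hpos : (M₁ ⊓ M₂).relIndex (stabilizer P b) ≠ 0 := fun h0 => by
        rw [h0, zero_mul] at hre
        exact Subgroup.index_ne_zero_of_finite hre.symm
      have h1 : (M₁ ⊓ M₂).relIndex (stabilizer P b) = 1 := by
        have := Nat.le_of_mul_le_mul_right (hre.le.trans (hle2.trans (le_of_eq (one_mul _).symm)))
          (pow_pos hp.pos 2)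
        omega
      have he : stabilizer P b = M₁ ⊓ M₂ := le_antisymm (Subgroup.relIndex_eq_one.1 h1) hle
      rw [he]
      infer_instance)
    obtain ⟨m, hm, hmb⟩ := Set.not_subset.1 hnot
    obtain ⟨i, hi⟩ := hM2b m hm.2
    obtain ⟨n, hn, h, hh, hnh⟩ := Subgroup.mem_sup_of_normal_left.1 hm.1
    obtain ⟨j, rfl⟩ := (mem_powers_iff_mem_zpowers).2 hn
    have hhb : h • b = y ^ i • b := by
      rw [← hi, ← hnh, mul_smul]
      exact (hzfix j h).symm
    have hpow : ∀ k : ℕ, h ^ k • b = y ^ (i * k) • b := by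
      intro k
      induction k with
      | zero => simp
      | succ k ih => rw [pow_succ', mul_smul, ih, ← hypow, hhb, Nat.mul_succ, pow_add, mul_smul]
    have hcop : i.Coprime p := Nat.Coprime.symm <| hp.coprime_iff_not_dvd.2 fun ⟨t, ht⟩ =>
      hmb (mem_stabilizer_iff.2 (by rw [hi, ht, pow_smul_mod hyp]))
    obtain ⟨k, hk'⟩ := Nat.exists_mul_mod_eq_one_of_coprime hcop hp.one_lt
    exact ⟨h ^ k, mem_stabilizer_iff.1 (Subgroup.pow_mem _ hh k), by
      rw [hpow, pow_smul_eq hyp, hk'.2, pow_one]⟩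


/-- Let G act faithfully and transitively on a finite set with 2p² points, p a prime, and suppose G is 2-closed: every permutation of the set which, on each ordered pair of points, agrees with some element of G, is itself induced by an element of G. Then some element of G of prime order fixes no point. -/
theorem result {G Ω : Type*} [Group G] [Finite G] [MulAction G Ω] [FaithfulSMul G Ω] [Finite Ω]
    (htrans : MulAction.IsPretransitive G Ω) (p : ℕ) (hp : p.Prime) (hcard : Nat.card Ω = 2 * p ^ 2)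
    (hcl : ∀ σ : Equiv.Perm Ω, (∀ a b : Ω, ∃ g : G, σ a = g • a ∧ σ b = g • b) → ∃ g : G, ∀ a : Ω, σ a = g • a) :
    ∃ g : G, (orderOf g).Prime ∧ ∀ ω : Ω, g • ω ≠ ω := by
  classical
  haveI : Fact p.Prime := ⟨hp⟩
  obtain ⟨S⟩ := (inferInstance : Nonempty (Sylow p G))
  have hP : IsPGroup p (S : Subgroup G) := S.2
  have hne : Nonempty Ω := (Nat.card_pos_iff.1 (by rw [hcard]; have := hp.pos; positivity)).1
  obtain ⟨ω⟩ := hne
  haveI := htrans
  have hstab : ∀ x : Ω, 2 * p ^ 2 * Nat.card (MulAction.stabilizer G x) = Nat.card G := fun x => by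
    rw [← hcard, ← MulAction.index_stabilizer_of_transitive G x, Subgroup.index_mul_card]
  have horbp : ∀ x : Ω, p ^ 2 ≤ Nat.card (MulAction.orbit (S : Subgroup G) x) := by
    intro x
    obtain ⟨j, hj⟩ := IsPGroup.iff_card.1 (hP.to_subgroup (MulAction.stabilizer (S : Subgroup G) x))
    have hdvd : p ^ j ∣ Nat.card (MulAction.stabilizer G x) := by
      rw [← hj, ← Subgroup.card_map_of_injective (S : Subgroup G).subtype_injective]
      refine Subgroup.card_dvd_of_le ?_
      rintro _ ⟨s, hs, rfl⟩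
      exact hs
    have h1 : p ^ (2 + j) ∣ Nat.card G := by
      rw [pow_add, ← hstab x, mul_assoc 2]
      exact (mul_dvd_mul dvd_rfl hdvd).mul_left 2
    have h2 := (hp.pow_dvd_iff_le_factorization Nat.card_pos.ne').1 h1
    have h3 := Subgroup.index_mul_card (MulAction.stabilizer (S : Subgroup G) x)
    rw [hj, index_stab, S.card_eq_multiplicity] at h3
    refine Nat.le_of_mul_le_mul_right ?_ (pow_pos hp.pos j)
    rw [h3, ← pow_add]
    exact Nat.pow_le_pow_right hp.pos h2
  -- a central element of order `p`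
  haveI : Nontrivial (S : Subgroup G) := Finite.one_lt_card_iff_nontrivial.1 (by
    have h := horbp ω
    rw [← index_stab] at h
    have h2 := Nat.le_of_dvd Nat.card_pos (MulAction.stabilizer (S : Subgroup G) ω).index_dvd_card
    have h3 : 1 < p ^ 2 := Nat.one_lt_pow two_ne_zero hp.one_lt
    omega)
  haveI := hP.center_nontrivial
  obtain ⟨⟨z, hz⟩, hzo⟩ := exists_prime_orderOf_dvd_card' (G := Subgroup.center (S : Subgroup G)) p (by
    obtain ⟨k, hk⟩ := IsPGroup.iff_card.1 (hP.to_subgroup (Subgroup.center (S : Subgroup G)))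
    rw [hk]
    refine dvd_pow_self p fun h0 => ?_
    have := Finite.one_lt_card (α := Subgroup.center (S : Subgroup G))
    rw [hk, h0, pow_zero] at this
    exact lt_irrefl _ this)
  rw [Subgroup.orderOf_mk] at hzo
  have hzc : ∀ g : (S : Subgroup G), g * z = z * g := Subgroup.mem_center_iff.1 hz
  by_cases hfree : ∀ x : Ω, z • x ≠ x
  · exact ⟨z, by rw [Subgroup.orderOf_coe, hzo]; exact hp, hfree⟩
  push Not at hfree
  obtain ⟨b, hb⟩ := hfree
  obtain ⟨a, ha⟩ : ∃ a : Ω, z • a ≠ a := by
    by_contra hall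
    push Not at hall
    refine hp.ne_one ?_
    rw [← hzo, orderOf_eq_one_iff]
    exact Subtype.ext (FaithfulSMul.eq_of_smul_eq_smul (α := Ω) fun x => (hall x).trans (one_smul _ x).symm)
  have hzg : ∀ (g : (S : Subgroup G)) (x : Ω), z • g • x = g • z • x := fun g x => by
    rw [smul_smul, smul_smul, hzc]
  set O₁ := MulAction.orbit (S : Subgroup G) a with hO₁
  set O₂ := MulAction.orbit (S : Subgroup G) b with hO₂
  have hfix2 : ∀ x ∈ O₂, z • x = x := by
    rintro _ ⟨g, rfl⟩
    exact (hzg g b).trans (congrArg (g • ·) hb)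
  have hdis : Disjoint O₁ O₂ := by
    rw [Set.disjoint_left]
    rintro _ ⟨g, rfl⟩ h
    refine ha (MulAction.injective g ?_)
    exact (hzg g a).symm.trans (hfix2 _ h)
  have hunion : O₁ ∪ O₂ = Set.univ ∧ Nat.card O₁ = p ^ 2 ∧ Nat.card O₂ = p ^ 2 := by
    have h1 := horbp a
    have h2 := horbp b
    have h3 : (O₁ ∪ O₂).ncard = O₁.ncard + O₂.ncard := Set.ncard_union_eq hdis
    have h4 : (O₁ ∪ O₂).ncard ≤ Nat.card Ω := (Set.ncard_le_ncard (Set.subset_univ _)).trans_eq (Set.ncard_univ Ω)
    rw [← hO₁, Nat.card_coe_set_eq] at h1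
    rw [← hO₂, Nat.card_coe_set_eq] at h2
    rw [Nat.card_coe_set_eq, Nat.card_coe_set_eq]
    exact ⟨Set.eq_of_subset_of_ncard_le (Set.subset_univ _) (by rw [Set.ncard_univ]; omega), by omega, by omega⟩
  obtain ⟨hU, hc1, hc2⟩ := hunion
  have hz1 : z ^ p = 1 := orderOf_dvd_iff_pow_eq_one.1 (dvd_of_eq hzo)
  obtain ⟨w, hwb, hwp, hwc, hglue⟩ := exists_glue hp hP hc1 hc2 hzc hz1 ha hb
  have hwO : ∀ x, x ∈ O₂ → w • x ∈ O₂ := fun x hx => MulAction.mem_orbit_of_mem_orbit w hx
  -- the glued permutation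
  set f : Ω → Ω := fun x => if x ∈ O₁ then z • x else w • x with hf
  have hf1 : ∀ g : (S : Subgroup G), f (g • a) = z • g • a := fun g => if_pos (MulAction.mem_orbit a g)
  have hf2 : ∀ g : (S : Subgroup G), f (g • b) = w • g • b := fun g =>
    if_neg (Set.disjoint_right.1 hdis (MulAction.mem_orbit b g))
  have hcase : ∀ x : Ω, (∃ g : (S : Subgroup G), g • a = x) ∨ ∃ g : (S : Subgroup G), g • b = x := fun x =>
    (hU ▸ Set.mem_univ x : x ∈ O₁ ∪ O₂)
  have hinj : Function.Injective f := by
    intro x y he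
    rcases hcase x with ⟨g, rfl⟩ | ⟨g, rfl⟩ <;> rcases hcase y with ⟨g', rfl⟩ | ⟨g', rfl⟩ <;>
      simp only [hf1, hf2] at he
    · exact MulAction.injective z he
    · exact absurd (he ▸ hwO _ (MulAction.mem_orbit b g'))
        (Set.disjoint_left.1 hdis (MulAction.mem_orbit_of_mem_orbit z (MulAction.mem_orbit a g)))
    · exact absurd (he.symm ▸ hwO _ (MulAction.mem_orbit b g))
        (Set.disjoint_left.1 hdis (MulAction.mem_orbit_of_mem_orbit z (MulAction.mem_orbit a g')))
    · exact MulAction.injective w he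
  have hpair : ∀ g₁ g₂ : (S : Subgroup G), ∃ k : (S : Subgroup G),
      k • g₁ • a = z • g₁ • a ∧ k • g₂ • b = w • g₂ • b := by
    intro g₁ g₂
    obtain ⟨h, hha, hhb⟩ := hglue (g₂⁻¹ * g₁)
    refine ⟨z * (g₂ * h * g₂⁻¹), ?_, ?_⟩
    · rw [mul_smul z, mul_smul, mul_smul, smul_smul g₂⁻¹ g₁, hha, ← mul_smul g₂, mul_inv_cancel_left]
    · rw [mul_smul z, mul_smul, mul_smul, inv_smul_smul, hhb, ← hwc g₂]
      exact hfix2 _ (hwO _ (MulAction.mem_orbit b g₂))
  obtain ⟨g, hg⟩ := hcl (Equiv.ofBijective f (Finite.injective_iff_bijective.1 hinj)) fun x y => by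
    simp only [Equiv.ofBijective_apply]
    rcases hcase x with ⟨g, rfl⟩ | ⟨g, rfl⟩ <;> rcases hcase y with ⟨g', rfl⟩ | ⟨g', rfl⟩ <;>
      simp only [hf1, hf2]
    · exact ⟨z, rfl, rfl⟩
    · obtain ⟨k, h1, h2⟩ := hpair g g'
      exact ⟨k, h1.symm, h2.symm⟩
    · obtain ⟨k, h1, h2⟩ := hpair g' g
      exact ⟨k, h2.symm, h1.symm⟩
    · exact ⟨w, rfl, rfl⟩
  simp only [Equiv.ofBijective_apply] at hg
  have hwpow : ∀ (i : ℕ) (h : (S : Subgroup G)), w ^ i • h • b = h • w ^ i • b := by
    intro i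
    induction i with
    | zero => simp
    | succ i ih =>
      intro h
      rw [pow_succ', mul_smul, mul_smul, ih, smul_smul h (w ^ i), hwc, mul_smul, ← hwc (w ^ i)]
  have hgpow : ∀ i : ℕ, (∀ h : (S : Subgroup G), g ^ i • h • a = z ^ i • h • a) ∧
      ∀ h : (S : Subgroup G), g ^ i • h • b = w ^ i • h • b := by
    intro i
    induction i with
    | zero => simp
    | succ i ih =>
      refine ⟨fun h => ?_, fun h => ?_⟩
      · rw [pow_succ', mul_smul, ih.1, smul_smul (z ^ i) h, ← hg, hf1, ← smul_smul (z ^ i) h, pow_succ',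
          mul_smul]
      · rw [pow_succ', mul_smul, ih.2, smul_smul (w ^ i) h, ← hg, hf2, ← smul_smul (w ^ i) h, pow_succ',
          mul_smul]
  have hfpf : ∀ x : Ω, g • x ≠ x := by
    intro x hx
    rw [← hg] at hx
    rcases hcase x with ⟨h, rfl⟩ | ⟨h, rfl⟩
    · rw [hf1, hzg] at hx
      exact ha (MulAction.injective h hx)
    · rw [hf2, hwc] at hx
      exact hwb (MulAction.injective h hx)
  refine ⟨g, ?_, hfpf⟩
  have hgp : g ^ p = 1 := FaithfulSMul.eq_of_smul_eq_smul (α := Ω) fun x => by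
    rw [one_smul]
    rcases hcase x with ⟨h, rfl⟩ | ⟨h, rfl⟩
    · rw [(hgpow p).1, hz1, one_smul]
    · rw [(hgpow p).2, hwpow, hwp]
  rw [orderOf_eq_prime hgp fun h1 => hfpf ω (by rw [h1, one_smul])]
  exact hp

end Cfsg.Agent.S3557
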