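import Cfsg.Statements.S3571
import Cfsg.Agent.S2119
import Cfsg.Agent.Lib.AltGroups.PrimeDerangement

set_option autoImplicit false
open Cfsg

namespace Cfsg.Agent.S3571

/-- Let G be an almost simple group whose socle is an alternating group of degree m ≥ 5 (G has a normal subgroup T isomorphic to that alternating group with trivial centralizer), acting faithfully and primitively on a finite set Ω with at least two points, and let r be the largest prime divisor of the number of points. Then G contains an element of order r fixing no point. -/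
theorem result {G Ω : Type*} [Group G] [Finite G] [MulAction G Ω] [FaithfulSMul G Ω] [Finite Ω]
    (T : Subgroup G) (hT : T.Normal) (hTc : Subgroup.centralizer (T : Set G) = ⊥) (m : ℕ) (hm : 5 ≤ m)
    (eT : ↥T ≃* ↥(alternatingGroup (Fin m))) (hprim : MulAction.IsPreprimitive G Ω) (hΩ : 2 ≤ Nat.card Ω)
    (r : ℕ) (hr : r.Prime) (hrd : r ∣ Nat.card Ω) (hmax : ∀ s : ℕ, s.Prime → s ∣ Nat.card Ω → s ≤ r) :
    ∃ g : G, orderOf g = r ∧ ∀ ω : Ω, g • ω ≠ ω := by
  obtain ⟨a⟩ : Nonempty Ω := (Nat.card_pos_iff.mp (by omega)).1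
  haveI : Nontrivial Ω := Finite.one_lt_card_iff_nontrivial.mp (by omega)
  haveI := hprim
  haveI := hT
  have hTne : T ≠ ⊥ := by
    intro h
    subst h
    haveI : Subsingleton (alternatingGroup (Fin m)) := eT.symm.subsingleton
    haveI : Nontrivial (Fin m) := Fin.nontrivial_iff_two_le.mpr (by omega)
    have h1 := two_mul_nat_card_alternatingGroup (α := Fin m)
    rw [Nat.card_unique, Nat.card_perm, Nat.card_fin] at h1
    have := Nat.self_le_factorial m
    omega
  have hfix : MulAction.fixedPoints T Ω ≠ Set.univ := by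
    intro h
    apply hTne
    rw [eq_bot_iff]
    intro t ht
    refine (Subgroup.mem_bot).mpr (FaithfulSMul.eq_of_smul_eq_smul (α := Ω) fun ω => ?_)
    rw [one_smul]
    exact (h ▸ Set.mem_univ ω : ω ∈ MulAction.fixedPoints T Ω) ⟨t, ht⟩
  haveI hTtr : MulAction.IsPretransitive T Ω := MulAction.IsQuasiPreprimitive.isPretransitive_of_normal hfix
  set K : Subgroup (alternatingGroup (Fin m)) :=
    (MulAction.stabilizer T a).map (eT : T →* alternatingGroup (Fin m)) with hKdef
  have hidx : K.index = Nat.card Ω := by
    rw [hKdef, Subgroup.index_map_equiv, MulAction.index_stabilizer_of_transitive]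
  have hKne : K ≠ ⊤ := by
    intro h
    rw [h, Subgroup.index_top] at hidx
    omega
  have hMco : IsCoatom (MulAction.stabilizer G a) :=
    MulAction.IsPreprimitive.isCoatom_stabilizer_of_isPreprimitive G a
  obtain ⟨x, hx, hxK⟩ := CfsgLib.AltGroups.exists_no_conj_mem hm K hKne hr (hidx ▸ hrd)
    (fun s hs hsd => hmax s hs (hidx ▸ hsd)) (by
    intro hm6 L hKL hL
    -- the preimage of L in G is normalised by the point stabiliser
    set L' : Subgroup G := (L.comap (eT : T →* alternatingGroup (Fin m))).map T.subtype with hL'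
    have hnorm : MulAction.stabilizer G a ≤ Subgroup.normalizer (L' : Set G) := by
      have key : ∀ g ∈ MulAction.stabilizer G a, ∀ l ∈ L', g * l * g⁻¹ ∈ L' := by
        rintro g hg _ ⟨t, ht, rfl⟩
        obtain ⟨σ, hσ⟩ := (Cfsg.Agent.S2119.result m (by omega) hm6).2
          ((eT.symm.trans (MulAut.conjNormal g : MulAut T)).trans eT)
        have hact : ∀ u : T, MulAut.conjNormal σ (eT u) = eT (MulAut.conjNormal g u) := fun u => by
          rw [hσ]; simp
        have hstab : ∀ u : T, u ∈ MulAction.stabilizer T a ↔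
            MulAut.conjNormal g u ∈ MulAction.stabilizer T a := by
          intro u
          simp only [MulAction.mem_stabilizer_iff, Subgroup.smul_def, MulAut.conjNormal_apply, mul_smul]
          rw [inv_smul_eq_iff.mpr hg.symm]
          constructor
          · intro hu; rw [hu]; exact hg
          · intro hu; exact smul_left_cancel g (hu.trans hg.symm)
        have hK' : ∀ y, y ∈ K ↔ MulAut.conjNormal σ y ∈ K := by
          intro y
          obtain ⟨u, rfl⟩ := eT.surjective y
          rw [hact, hKdef]
          exact ((Subgroup.mem_map_iff_mem eT.injective).trans (hstab u)).trans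
            (Subgroup.mem_map_iff_mem eT.injective).symm
        refine ⟨MulAut.conjNormal g t, ?_, MulAut.conjNormal_apply g t⟩
        change eT (MulAut.conjNormal g t) ∈ L
        rw [← hact]
        exact hL σ hK' _ ht
      intro g hg
      rw [Subgroup.mem_normalizer_iff]
      intro l
      refine ⟨key g hg l, fun h => ?_⟩
      have := key g⁻¹ (inv_mem hg) _ h
      simpa [mul_assoc] using this
    have hle : MulAction.stabilizer G a ≤ MulAction.stabilizer G a ⊔ L' := le_sup_left
    rcases hle.eq_or_lt with heq | hlt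
    · left
      refine le_antisymm (fun y hy => ?_) hKL
      obtain ⟨u, rfl⟩ := eT.surjective y
      have : (u : G) ∈ MulAction.stabilizer G a := by
        rw [heq]; exact (le_sup_right : L' ≤ _) ⟨u, hy, rfl⟩
      exact ⟨u, this, rfl⟩
    · right
      rw [eq_top_iff]
      intro y _
      obtain ⟨u, rfl⟩ := eT.surjective y
      have htop := hMco.2 _ hlt
      have hu : (u : G) ∈ MulAction.stabilizer G a ⊔ L' := htop ▸ Subgroup.mem_top _
      rw [← SetLike.mem_coe, Subgroup.coe_mul_of_left_le_normalizer_right _ _ hnorm] at hu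
      obtain ⟨g, hg, _, ⟨t, ht, rfl⟩, hgt⟩ := hu
      have hgT : g ∈ T := by
        have h' : g = (u : G) * (t : G)⁻¹ := by rw [← hgt]; simp
        rw [h']; exact mul_mem u.2 (inv_mem t.2)
      have : u = ⟨g, hgT⟩ * t := Subtype.ext hgt.symm
      rw [this, map_mul]
      exact mul_mem (hKL ⟨⟨g, hgT⟩, hg, rfl⟩) ht)
  refine ⟨((eT.symm x : T) : G), ?_, fun ω hω => ?_⟩
  · rw [Subgroup.orderOf_coe, MulEquiv.orderOf_eq, hx]
  · obtain ⟨t, rfl⟩ := MulAction.exists_smul_eq T a ω
    refine hxK (eT t⁻¹) ⟨t⁻¹ * eT.symm x * t, ?_, ?_⟩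
    · change (t⁻¹ * eT.symm x * t) • a = a
      rw [mul_smul, mul_smul, inv_smul_eq_iff]
      exact hω
    · simp

end Cfsg.Agent.S3571
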