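import Cfsg.Statements.S3668
import Cfsg.Agent.Lib.DegreeGraphSmall.Cases
import Cfsg.Agent.Lib.DegreeGraphSmall.Order360
import Cfsg.Agent.Lib.DegreeGraphSmall.Order2520
import Cfsg.Agent.Lib.DegreeGraphSmall.Order5616
import Cfsg.Agent.Lib.DegreeGraphSmall.Vertices
import Cfsg.Agent.Lib.SmallOrders.PSL33.Recognize

set_option autoImplicit false
set_option linter.style.haveILetI false
open Cfsg

namespace Cfsg.Agent.S3668

open CfsgLib.DegreeGraphSmall

universe u v

theorem equiv_of_simple {S : Type u} [Group S] [Finite S] [IsSimpleGroup S] {G : Type v} [Group G] [Finite G]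
    [IsSimpleGroup G] (hn : Nat.card S ∈ orders) (hcard : Nat.card G = Nat.card S) :
    Nonempty (G ≃* S) := by
  simp only [orders, List.mem_cons, List.not_mem_nil, or_false] at hn
  haveI : Fact (Nat.Prime 2) := ⟨Nat.prime_two⟩
  haveI : Fact (Nat.Prime 7) := ⟨by norm_num⟩
  haveI : Fact (Nat.Prime 11) := ⟨by norm_num⟩
  haveI : Fact (Nat.Prime 13) := ⟨by norm_num⟩
  haveI : Fact (Nat.Prime 17) := ⟨by norm_num⟩
  haveI : Fact (Nat.Prime 19) := ⟨by norm_num⟩
  rcases hn with h | h | h | h | h | h | h | h | h | h | h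
  · obtain ⟨a⟩ := Cfsg.Agent.S0494.result (hcard.trans h)
    obtain ⟨b⟩ := Cfsg.Agent.S0494.result h
    exact ⟨a.trans b.symm⟩
  · obtain ⟨a⟩ := Cfsg.Agent.S0495.result (hcard.trans h) (ZMod.card 7)
    obtain ⟨b⟩ := Cfsg.Agent.S0495.result h (ZMod.card 7)
    exact ⟨a.trans b.symm⟩
  · obtain ⟨a⟩ := Cfsg.Agent.S0497.result (hcard.trans h)
    obtain ⟨b⟩ := Cfsg.Agent.S0497.result h
    exact ⟨a.trans b.symm⟩
  · haveI := Fintype.ofFinite (GaloisField 2 3)
    have hF : Fintype.card (GaloisField 2 3) = 8 := by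
      rw [← Nat.card_eq_fintype_card, GaloisField.card 2 3 (by norm_num)]; norm_num
    obtain ⟨a⟩ := Cfsg.Agent.S1011.result (hcard.trans h) hF
    obtain ⟨b⟩ := Cfsg.Agent.S1011.result h hF
    exact ⟨a.trans b.symm⟩
  · obtain ⟨a⟩ := Cfsg.Agent.S0498.result (G := G) 11 (Or.inl rfl) (by rw [hcard, h]; norm_num) (ZMod.card 11)
    obtain ⟨b⟩ := Cfsg.Agent.S0498.result (G := S) 11 (Or.inl rfl) (by rw [h]; norm_num) (ZMod.card 11)
    exact ⟨a.trans b.symm⟩
  · obtain ⟨a⟩ := Cfsg.Agent.S0498.result (G := G) 13 (Or.inr rfl) (by rw [hcard, h]; norm_num) (ZMod.card 13)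
    obtain ⟨b⟩ := Cfsg.Agent.S0498.result (G := S) 13 (Or.inr rfl) (by rw [h]; norm_num) (ZMod.card 13)
    exact ⟨a.trans b.symm⟩
  · obtain ⟨a⟩ := Cfsg.Agent.S1020.result (hcard.trans h) (ZMod.card 17)
    obtain ⟨b⟩ := Cfsg.Agent.S1020.result h (ZMod.card 17)
    exact ⟨a.trans b.symm⟩
  · obtain ⟨a⟩ := Cfsg.Agent.S0984.result (hcard.trans h)
    obtain ⟨b⟩ := Cfsg.Agent.S0984.result h
    exact ⟨a.trans b.symm⟩
  · obtain ⟨a⟩ := Cfsg.Agent.S1021.result (hcard.trans h) (ZMod.card 19)
    obtain ⟨b⟩ := Cfsg.Agent.S1021.result h (ZMod.card 19)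
    exact ⟨a.trans b.symm⟩
  · haveI := Fintype.ofFinite (GaloisField 2 4)
    have hF : Fintype.card (GaloisField 2 4) = 16 := by
      rw [← Nat.card_eq_fintype_card, GaloisField.card 2 4 (by norm_num)]; norm_num
    obtain ⟨a⟩ := Cfsg.Agent.S0981.result (hcard.trans h) hF
    obtain ⟨b⟩ := Cfsg.Agent.S0981.result h hF
    exact ⟨a.trans b.symm⟩
  · obtain ⟨a⟩ := CfsgLib.SmallOrders.PSL33.nonempty_psl33 (hcard.trans h)
    obtain ⟨b⟩ := CfsgLib.SmallOrders.PSL33.nonempty_psl33 h
    exact ⟨a.trans b.symm⟩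

theorem mem_of_dvd_charDegree {X : Type u} [Group X] [Finite X] {p d : ℕ} (hp : p.Prime)
    (χ : IrrCharacter X) (hd : (χ : X → ℂ) 1 = d) (hpd : p ∣ d) : p ∈ degreePrimes X := by
  refine ⟨hp, _, ⟨χ, rfl⟩, ?_⟩
  unfold charDegree
  rwa [hd, Complex.natCast_re, Nat.floor_natCast]

theorem isSimpleGroup_of_graph {S : Type u} [Group S] [Finite S] [IsSimpleGroup S] {G : Type v} [Group G]
    [Finite G] (hn : Nat.card S ∈ orders) (hcard : Nat.card G = Nat.card S)
    (hV : degreePrimes G = degreePrimes S) (hE : degreeGraph G = degreeGraph S) : IsSimpleGroup G := by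
  by_contra hns
  simp only [orders, List.mem_cons, List.not_mem_nil, or_false] at hn
  rcases hn with h | h | h | h | h | h | h | h | h | h | h
  all_goals rw [h] at hcard
  · exact not_mem_of_orders hcard Nat.prime_five (by norm_num) (by norm_num) (by norm_num)
      (by decide +kernel) (by decide +kernel) hns (hV ▸ five_60 h)
  · obtain ⟨h2, h3, h7⟩ := vertices_168 h
    rcases not_all_168 hcard hns with e | e | e
    exacts [e (hV ▸ h2), e (hV ▸ h3), e (hV ▸ h7)]
  · obtain ⟨h25, h23⟩ := graph_360 h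
    rw [← hE] at h25 h23
    exact h23 ⟨by norm_num, Nat.prime_two, Nat.prime_three, six_of_360 hcard hns h25.2.2.2⟩
  · obtain ⟨⟨h2, h3, h7⟩, h23, h27, h37⟩ := graph_504 h
    rw [← hE] at h23 h27 h37
    rw [← hV] at h2 h3 h7
    exact false_504 hcard hns h2 h3 h7 h23 h27 h37
  · exact not_mem_of_orders hcard (by norm_num : Nat.Prime 11) (by norm_num) (by norm_num) (by norm_num)
      (by decide +kernel) (by decide +kernel) hns (hV ▸ vertex_660 h)
  · exact not_mem_of_orders hcard (by norm_num : Nat.Prime 13) (by norm_num) (by norm_num) (by norm_num)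
      (by decide +kernel) (by decide +kernel) hns (hV ▸ vertex_1092 h)
  · exact not_mem_of_orders hcard (by norm_num : Nat.Prime 17) (by norm_num) (by norm_num) (by norm_num)
      (by decide +kernel) (by decide +kernel) hns (hV ▸ vertex_2448 h)
  · obtain ⟨h5, h7⟩ := vertices_2520 h
    obtain ⟨R, hR, hRc⟩ := exists_normal_five_or_seven (G := G) (by rw [hcard]) (by rw [hcard]; norm_num)
      fun hh => hns hh.1
    rcases hRc with e | e
    · exact not_mem_degreePrimes_of_normal_prime Nat.prime_five (by rw [hcard]; norm_num) ⟨R, hR, e⟩ (hV ▸ h5)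
    · exact not_mem_degreePrimes_of_normal_prime (by norm_num) (by rw [hcard]; norm_num) ⟨R, hR, e⟩ (hV ▸ h7)
  · exact not_mem_of_orders hcard (by norm_num : Nat.Prime 19) (by norm_num) (by norm_num) (by norm_num)
      (by decide +kernel) (by decide +kernel) hns (hV ▸ vertex_3420 h)
  · exact not_mem_of_orders hcard (by norm_num : Nat.Prime 17) (by norm_num) (by norm_num) (by norm_num)
      (by decide +kernel) (by decide +kernel) hns (hV ▸ vertex_4080 h)
  · obtain ⟨χa, χb, ha, -, -, ψ, d, hψ, hd⟩ := CfsgLib.SmallOrders.PSL33.exists_characters h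
    have h3 : 3 ∈ degreePrimes S :=
      mem_of_dvd_charDegree Nat.prime_three χa (d := 12) (by rw [ha]; norm_num) (by norm_num)
    have h13 : 13 ∈ degreePrimes S := mem_of_dvd_charDegree (by norm_num) ψ hψ hd
    rcases good_of_card (G := G) (by rw [hcard]) (by rw [hcard]; norm_num) (fun hh => hns hh.1) with
      hR | ⟨T, hT, hTc, hab⟩
    · exact not_mem_degreePrimes_of_normal_prime (by norm_num) (by rw [hcard]; norm_num) hR (hV ▸ h13)
    · haveI := hT
      refine not_mem_degreePrimes T hab (r := 3) ?_ (hV ▸ h3)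
      have := T.card_mul_index
      rw [hTc, hcard] at this
      omega

/-- The character degree graph of a finite group has as vertices the primes dividing some irreducible complex character degree, two distinct primes being joined when their product divides some irreducible character degree; two groups have the same character degree graph when they have the same vertices and the same joined pairs. Let S be a finite non-abelian simple group of order less than 6000. If a finite group G has the same order as S and the same character degree graph as S, then G is isomorphic to S. -/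
theorem result {S : Type*} [Group S] [Finite S] [IsSimpleGroup S] (hS : ¬ IsMulCommutative S)
    (hlt : Nat.card S < 6000) {G : Type*} [Group G] [Finite G] (hcard : Nat.card G = Nat.card S) (hΓ : Cfsg.degreePrimes G = Cfsg.degreePrimes S ∧ Cfsg.degreeGraph G = Cfsg.degreeGraph S) :
    Nonempty (G ≃* S) := by
  have hn := card_mem_orders hS hlt
  haveI := isSimpleGroup_of_graph hn hcard hΓ.1 hΓ.2
  exact equiv_of_simple hn hcard

end Cfsg.Agent.S3668
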