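/-
Weak Phan systems of rank at least three are images of the special unitary group.
-/
import Cfsg.Agent.Lib.SUAmalgam.Pairs

set_option autoImplicit false
set_option linter.unusedSectionVars false

open CfsgLib.SUAmalgam CfsgLib.ClassicalForms

namespace Cfsg.Agent.S3709

variable {F : Type*} [Field F] [Fintype F] {q : ℕ} (c : Conj F q) {G : Type*} [Group G]

theorem suBlock_zero_one : Cfsg.suBlock 3 F q {0, 1} = Blk c 3 0 2 :=
  suBlock_eq c 0 (by intro k; fin_cases k <;> simp)

theorem suBlock_one_two : Cfsg.suBlock 3 F q {1, 2} = Blk c 3 1 2 :=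
  suBlock_eq c 1 (by intro k; fin_cases k <;> simp)

theorem co_single (i : ℕ) (hi : i < 3) (x : Fin 3 → F)
    (h : ∀ j, j < 3 → co x j = if j = i then 1 else 0) : x = ev 3 F i :=
  co_ext fun j hj => by rw [h j hj, co_ev hi]

theorem center_Blk₀ {a : SUg 3 F q} (ha : a ∈ Blk c 3 0 2) (hz : a ∈ Subgroup.center (SUg 3 F q)) :
    a = 1 := by
  obtain ⟨g, hg, h1, h2⟩ := move_frame c (i := 1) (m := 3) (by norm_num) (ev 3 F 2) (a := 1) (b := 0)
    (by simp [co_ev]) (by simp [co_ev])
  have e : act g (ev 3 F 2) = ev 3 F 1 := co_single 1 (by norm_num) _ fun j hj => by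
    interval_cases j
    · rw [co_Blk c hg (Or.inl Nat.one_pos), co_ev (by norm_num)]; rfl
    · simpa using h1
    · simpa using h2
  have hc : g * a = a * g := Subgroup.mem_center_iff.1 hz g
  have f1 : act a (ev 3 F 1) = ev 3 F 1 := by
    rw [← e, ← act_mul, ← hc, act_mul, act_ev_Blk c ha (Or.inr le_rfl)]
  have hb : a ∈ Blk c 3 0 1 := fun k hk => by
    rw [← ev_eq_single]
    by_cases hk1 : (k : ℕ) = 1
    · rw [hk1]; exact f1
    · exact act_ev_Blk c ha (by omega)
  rwa [Blk_one, Subgroup.mem_bot] at hb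

theorem center_Blk₁ {a : SUg 3 F q} (ha : a ∈ Blk c 3 1 2) (hz : a ∈ Subgroup.center (SUg 3 F q)) :
    a = 1 := by
  obtain ⟨g, hg, h1, h2⟩ := move_frame c (i := 0) (m := 3) (by norm_num) (ev 3 F 0) (a := 0) (b := 1)
    (by simp [co_ev]) (by simp [co_ev])
  have e : act g (ev 3 F 0) = ev 3 F 1 := co_single 1 (by norm_num) _ fun j hj => by
    interval_cases j
    · simpa using h1
    · simpa using h2
    · rw [co_Blk c hg (Or.inr le_rfl), co_ev (by norm_num)]; rfl
  have hc : g * a = a * g := Subgroup.mem_center_iff.1 hz g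
  have f1 : act a (ev 3 F 1) = ev 3 F 1 := by
    rw [← e, ← act_mul, ← hc, act_mul, act_ev_Blk c ha (Or.inl Nat.one_pos)]
  have hb := Blk_step c (i := 1) (r := 1) ha f1
  rwa [Blk_one, Subgroup.mem_bot] at hb

theorem exists_isPair {V A B : Subgroup G} (h : Cfsg.IsStandardUnitaryPair V A B F q) :
    ∃ φ : SUg 3 F q →* G, IsPair c V A B φ := by
  rcases h with ⟨ψ, hA, hB⟩ | ⟨ψ, hA, hB⟩
  · rw [suBlock_zero_one c] at hA
    rw [suBlock_one_two c] at hB
    have hi : Function.Injective (V.subtype.comp ψ.toMonoidHom) :=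
      Subtype.val_injective.comp ψ.injective
    refine ⟨V.subtype.comp ψ.toMonoidHom, ⟨?_, ?_, ?_, hi.comp (emb_injective c 0 _),
      hi.comp (emb_injective c 1 _)⟩⟩
    · rw [MonoidHom.range_comp, MonoidHom.range_eq_top.2 ψ.surjective, ← MonoidHom.range_eq_map,
        Subgroup.range_subtype]
    · rw [MonoidHom.range_comp, range_emb, hA]
    · rw [MonoidHom.range_comp, range_emb, hB]
  · rw [suBlock_zero_one c] at hA
    rw [suBlock_one_two c] at hB
    set μ := ψ.toMonoidHom.comp (QuotientGroup.mk' (Subgroup.center (SUg 3 F q))) with hμ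
    have hμs : Function.Surjective μ := ψ.surjective.comp (QuotientGroup.mk'_surjective _)
    have hker : ∀ a, V.subtype.comp μ a = 1 → a ∈ Subgroup.center (SUg 3 F q) := fun a ha => by
      have h1 : μ a = 1 := Subtype.val_injective ha
      have h2 : (a : SUg 3 F q ⧸ Subgroup.center (SUg 3 F q)) = 1 :=
        ψ.injective (h1.trans (map_one ψ).symm)
      exact (QuotientGroup.eq_one_iff a).1 h2
    refine ⟨V.subtype.comp μ, ⟨?_, ?_, ?_, ?_, ?_⟩⟩
    · rw [MonoidHom.range_comp, MonoidHom.range_eq_top.2 hμs, ← MonoidHom.range_eq_map,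
        Subgroup.range_subtype]
    · rw [MonoidHom.range_comp, range_emb, hA]
    · rw [MonoidHom.range_comp, range_emb, hB]
    · refine (injective_iff_map_eq_one _).2 fun g hg => emb_injective (m := 3) c 0 (by norm_num) ?_
      rw [map_one]
      exact center_Blk₀ c (emb_mem_Blk c 0 _ g) (hker _ hg)
    · refine (injective_iff_map_eq_one _).2 fun g hg => emb_injective (m := 3) c 1 (by norm_num) ?_
      rw [map_one]
      exact center_Blk₁ c (emb_mem_Blk c 1 _ g) (hker _ hg)

theorem exists_family (hF : Nat.card F = q ^ 2) (hq : 3 < q) {n : ℕ} (U : Fin n → Subgroup G)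
    (V : Fin n → Fin n → Subgroup G)
    (h1 : ∀ i j : Fin n, (i : ℕ) + 2 ≤ j → ∀ x ∈ U i, ∀ y ∈ U j, x * y = y * x)
    (h2 : ∀ i j : Fin n, (i : ℕ) + 1 = j → Cfsg.IsStandardUnitaryPair (V i j) (U i) (U j) F q)
    (N : ℕ) : ∃ ψ : ℕ → (SUg 3 F q →* G),
      (∀ i, i < N → ∀ h : i + 2 ≤ n,
        IsPair c (V ⟨i, by omega⟩ ⟨i + 1, by omega⟩) (U ⟨i, by omega⟩) (U ⟨i + 1, by omega⟩) (ψ i)) ∧
      (∀ i, i + 1 < N → i + 3 ≤ n →
        (ψ (i + 1)).comp (emb (r := 2) c 0 (by norm_num)) =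
          (ψ i).comp (emb (r := 2) c 1 (by norm_num))) := by
  classical
  induction N with
  | zero => exact ⟨fun _ => 1, fun i hi => absurd hi (by omega), fun i hi => absurd hi (by omega)⟩
  | succ N ih =>
    obtain ⟨ψ, hp, hc⟩ := ih
    by_cases hN : N + 2 ≤ n
    swap
    · exact ⟨ψ, fun i hi h => hp i (by omega) h, fun i hi h => hc i (by omega) h⟩
    obtain ⟨φ, hφ⟩ := exists_isPair c (h2 ⟨N, by omega⟩ ⟨N + 1, by omega⟩ rfl)
    obtain ⟨φ', hφ', hφ''⟩ : ∃ φ' : SUg 3 F q →* G,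
        IsPair c (V ⟨N, by omega⟩ ⟨N + 1, by omega⟩) (U ⟨N, by omega⟩) (U ⟨N + 1, by omega⟩) φ' ∧
        ∀ M, M + 1 = N → φ'.comp (emb (r := 2) c 0 (by norm_num)) =
          (ψ M).comp (emb (r := 2) c 1 (by norm_num)) := by
      rcases N with _ | M
      · exact ⟨φ, hφ, fun M hM => absurd hM (by omega)⟩
      · obtain ⟨φ', h', h''⟩ := exists_adjust hF hq (hp M (by omega) (by omega)) hφ
          (h1 ⟨M, by omega⟩ ⟨M + 1 + 1, by omega⟩ le_rfl)
        refine ⟨φ', h', fun M' hM' => ?_⟩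
        obtain rfl : M' = M := by omega
        exact h''
    refine ⟨Function.update ψ N φ', fun i hi h => ?_, fun i hi h => ?_⟩
    · by_cases e : i = N
      · subst e
        rw [Function.update_self]
        exact hφ'
      · rw [Function.update_of_ne e]
        exact hp i (by omega) h
    · by_cases e : i + 1 = N
      · rw [e, Function.update_self, Function.update_of_ne (by omega)]
        exact hφ'' i e
      · rw [Function.update_of_ne e, Function.update_of_ne (by omega)]
        exact hc i (by omega) h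

theorem result {G : Type*} [Group G] (n : ℕ) (hn : 3 ≤ n)
    (F : Type*) [Field F] [Fintype F] (q : ℕ) (hq : 3 < q) (hF : Fintype.card F = q ^ 2)
    (U : Fin n → Subgroup G) (e : ∀ i, ↥(Cfsg.SU 2 F q) ≃* ↥(U i))
    (V : Fin n → Fin n → Subgroup G)
    (h1 : ∀ i j : Fin n, (i : ℕ) + 2 ≤ j → ∀ x ∈ U i, ∀ y ∈ U j, x * y = y * x)
    (h2 : ∀ i j : Fin n, (i : ℕ) + 1 = j → Cfsg.IsStandardUnitaryPair (V i j) (U i) (U j) F q)
    (hgen : (⨆ i, U i) ⊔ (⨆ (i : Fin n) (j : Fin n) (_ : (i : ℕ) + 1 = j), V i j) = ⊤) :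
    ∃ f : ↥(Cfsg.SU (n + 1) F q) →* G, Function.Surjective f := by
  classical
  have hF' : Nat.card F = q ^ 2 := by rw [Nat.card_eq_fintype_card, hF]
  obtain ⟨c⟩ := exists_conj hF'
  obtain ⟨ψ, hp, hc⟩ := exists_family c hF' hq U V h1 h2 n
  let a : ℕ → (SUg 2 F q →* G) := fun i =>
    if i + 2 ≤ n then (ψ i).comp (emb c 0 (by norm_num))
    else (ψ (i - 1)).comp (emb c 1 (by norm_num))
  have ha0 : ∀ i, i + 2 ≤ n → a i = (ψ i).comp (emb c 0 (by norm_num)) := fun i h => if_pos h
  have ha1 : ∀ i, i + 2 ≤ n → a (i + 1) = (ψ i).comp (emb c 1 (by norm_num)) := fun i h => by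
    by_cases h' : i + 3 ≤ n
    · rw [ha0 _ (by omega), hc i (by omega) h']
    · exact (if_neg (by omega)).trans (by rw [Nat.add_sub_cancel])
  have haU : ∀ i (h : i < n), (a i).range = U ⟨i, h⟩ := fun i h => by
    by_cases h' : i + 2 ≤ n
    · rw [ha0 i h']; exact (hp i h h').range₀
    · obtain ⟨j, rfl⟩ : ∃ j, i = j + 1 := ⟨i - 1, by omega⟩
      rw [ha1 j (by omega)]; exact (hp j (by omega) (by omega)).range₁
  let gr : ℕ → Subgroup (SUg (n + 1) F q × G) := fun i =>
    if h : i + 2 ≤ n + 1 then ((emb c i h).prod (a i)).range else ⊥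
  have hgr : ∀ i (h : i + 2 ≤ n + 1), gr i = ((emb c i h).prod (a i)).range := fun i h => dif_pos h
  let K : Subgroup (SUg (n + 1) F q × G) := ⨆ i, gr i
  have hle : ∀ i, gr i ≤ K := fun i => le_iSup gr i
  let C : Cover c (n + 1) K :=
    { π := (MonoidHom.fst _ _).comp K.subtype
      S := fun i => (gr i).subgroupOf K
      hm := by omega
      map_S := fun i hi => by
        rw [← Subgroup.map_map, Subgroup.subgroupOf_map_subtype, inf_eq_left.2 (hle i), hgr i hi,
          MonoidHom.map_range, MonoidHom.fst_comp_prod, range_emb]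
      comm := fun i j hij hj x hx y hy => by
        rw [Subgroup.mem_subgroupOf, hgr i (by omega)] at hx
        rw [Subgroup.mem_subgroupOf, hgr j hj] at hy
        obtain ⟨g, hg⟩ := hx
        obtain ⟨h, hh⟩ := hy
        refine Subtype.ext ?_
        show (x : SUg (n + 1) F q × G) * y = y * x
        rw [← hg, ← hh]
        refine Prod.ext ?_ ?_
        · exact Blk_comm c (emb_mem_Blk c i _ g) (emb_mem_Blk c j _ h) hij
        · exact h1 ⟨i, by omega⟩ ⟨j, by omega⟩ hij _ ((haU i _).le ⟨g, rfl⟩) _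
            ((haU j _).le ⟨h, rfl⟩)
      inj := fun i hi x hx hx1 => by
        have hb : (gr i).subgroupOf K ⊔ (gr (i + 1)).subgroupOf K ≤
            (((emb (r := 3) c i hi).prod (ψ i)).range).subgroupOf K := by
          refine sup_le (Subgroup.comap_mono ?_) (Subgroup.comap_mono ?_)
          · rw [hgr i (by omega)]
            rintro _ ⟨g, rfl⟩
            refine ⟨emb c 0 (by norm_num : (0 : ℕ) + 2 ≤ 3) g, Prod.ext (emb_emb c i hi 0 _ g) ?_⟩
            rw [ha0 i (by omega)]
            rfl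
          · rw [hgr (i + 1) (by omega)]
            rintro _ ⟨g, rfl⟩
            refine ⟨emb c 1 (by norm_num : 1 + 2 ≤ 3) g, Prod.ext (emb_emb c i hi 1 _ g) ?_⟩
            rw [ha1 i (by omega)]
            rfl
        obtain ⟨g, hg⟩ := hb hx
        have h0 : emb c i hi g = 1 := (congrArg Prod.fst hg).trans hx1
        have hg1 : g = 1 := emb_injective c i hi (h0.trans (map_one _).symm)
        rw [hg1, map_one] at hg
        exact Subtype.ext hg.symm }
  have htop : C.Fam 0 = ⊤ := by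
    refine eq_top_iff.2 fun x _ => ?_
    have hK : K ≤ (C.Fam 0).map K.subtype := iSup_le fun i y hy => by
      by_cases h : i + 2 ≤ n + 1
      · exact ⟨⟨y, hle i hy⟩, C.S_le_Fam (Nat.zero_le i) h hy, rfl⟩
      · simp only [gr, dif_neg h, Subgroup.mem_bot] at hy
        subst hy
        exact one_mem _
    obtain ⟨y, hy, hyx⟩ := hK x.2
    rwa [Subtype.ext hyx] at hy
  let E : K ≃* SUg (n + 1) F q := MulEquiv.ofBijective C.π (C.bijective hF' hq htop)
  let f : SUg (n + 1) F q →* G := ((MonoidHom.snd _ _).comp K.subtype).comp E.symm.toMonoidHom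
  have hf : ∀ i (h : i < n), U ⟨i, h⟩ ≤ f.range := fun i h => by
    rw [← haU i h]
    rintro _ ⟨g, rfl⟩
    let y : K := ⟨(emb c i (by omega) g, a i g), hle i ((hgr i (by omega)).ge ⟨g, rfl⟩)⟩
    refine ⟨E y, ?_⟩
    show ((E.symm (E y)).1).2 = a i g
    rw [MulEquiv.symm_apply_apply]
  refine ⟨f, MonoidHom.range_eq_top.1 (top_le_iff.1 (hgen ▸ sup_le (iSup_le fun i => hf i.1 i.2)
    (iSup_le fun i => iSup_le fun j => iSup_le fun hij => ?_)))⟩
  obtain ⟨i, hi⟩ := i
  obtain ⟨j, hj⟩ := j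
  obtain rfl : i + 1 = j := hij
  have P := hp i hi (by omega)
  rw [← P.range]
  rintro _ ⟨g, rfl⟩
  have hg : g ∈ Blk c 3 0 2 ⊔ Blk c 3 (0 + 1) 2 :=
    Blk_three_le c hF' hq 0 le_rfl (fun k hk => absurd hk (by have := k.isLt; omega))
  have hm : (Blk c 3 0 2 ⊔ Blk c 3 (0 + 1) 2).map (ψ i) ≤ f.range := by
    rw [Subgroup.map_sup, ← range_emb c 0 (by norm_num), ← range_emb c (0 + 1) (by norm_num),
      MonoidHom.map_range, MonoidHom.map_range, P.range₀, P.range₁]
    exact sup_le (hf _ _) (hf _ _)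
  exact hm ⟨g, hg, rfl⟩

end Cfsg.Agent.S3709
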