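import Cfsg.Statements.S3711
import Cfsg.Agent.Lib.SUPhanTwo.Window
import Cfsg.Agent.Lib.SUPhanTwo.Section
import Cfsg.Agent.S3709

set_option autoImplicit false
set_option linter.unusedSectionVars false
open Cfsg

namespace Cfsg.Agent.S3711

open CfsgLib.SUAmalgam CfsgLib.ClassicalForms

section

variable {F : Type*} [Field F] [Fintype F] (c : Conj F 2) {G : Type*} [Group G]

theorem exists_family (hF : Nat.card F = 2 ^ 2) {n : ℕ} (U : Fin n → Subgroup G)
    (V : Fin n → Fin n → Subgroup G)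
    (h1 : ∀ i j : Fin n, (i : ℕ) + 2 ≤ j → ∀ x ∈ U i, ∀ y ∈ U j, x * y = y * x)
    (h2 : ∀ i j : Fin n, (i : ℕ) + 1 = j → Cfsg.IsStandardUnitaryPair (V i j) (U i) (U j) F 2)
    (N : ℕ) : ∃ ψ : ℕ → (SUg 3 F 2 →* G),
      (∀ i, i < N → ∀ h : i + 2 ≤ n,
        IsPair c (V ⟨i, by omega⟩ ⟨i + 1, by omega⟩) (U ⟨i, by omega⟩) (U ⟨i + 1, by omega⟩) (ψ i)) ∧
      (∀ i, i + 1 < N → i + 3 ≤ n →
        (ψ (i + 1)).comp (emb (r := 2) c 0 (by norm_num)) =
          (ψ i).comp (emb (r := 2) c 1 (by norm_num))) := by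
  classical
  induction N with
  | zero => exact ⟨fun _ => 1, fun i hi => absurd hi (by omega), fun i hi => absurd hi (by omega)⟩
  | succ N ih =>
    obtain ⟨ψ, hp, hc⟩ := ih
    by_cases hN : N + 2 ≤ n
    swap
    · exact ⟨ψ, fun i hi h => hp i (by omega) h, fun i hi h => hc i (by omega) h⟩
    obtain ⟨φ, hφ⟩ := Cfsg.Agent.S3709.exists_isPair c (h2 ⟨N, by omega⟩ ⟨N + 1, by omega⟩ rfl)
    obtain ⟨φ', hφ', hφ''⟩ : ∃ φ' : SUg 3 F 2 →* G,
        IsPair c (V ⟨N, by omega⟩ ⟨N + 1, by omega⟩) (U ⟨N, by omega⟩) (U ⟨N + 1, by omega⟩) φ' ∧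
        ∀ M, M + 1 = N → φ'.comp (emb (r := 2) c 0 (by norm_num)) =
          (ψ M).comp (emb (r := 2) c 1 (by norm_num)) := by
      rcases N with _ | M
      · exact ⟨φ, hφ, fun M hM => absurd hM (by omega)⟩
      · obtain ⟨φ', h', h''⟩ := CfsgLib.SUPhanTwo.exists_adjust hF (hp M (by omega) (by omega)) hφ
          (h1 ⟨M, by omega⟩ ⟨M + 1 + 1, by omega⟩ le_rfl)
        refine ⟨φ', h', fun M' hM' => ?_⟩
        obtain rfl : M' = M := by omega
        exact h''
    refine ⟨Function.update ψ N φ', fun i hi h => ?_, fun i hi h => ?_⟩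
    · by_cases e : i = N
      · subst e
        rw [Function.update_self]
        exact hφ'
      · rw [Function.update_of_ne e]
        exact hp i (by omega) h
    · by_cases e : i + 1 = N
      · rw [e, Function.update_self, Function.update_of_ne (by omega)]
        exact hφ'' i e
      · rw [Function.update_of_ne e, Function.update_of_ne (by omega)]
        exact hc i (by omega) h

end

/-- Recognition of unitary groups over the field with 4 elements from a weak Phan system. Let F be a field with 4 elements and n ≥ 4. Let G be a group with subgroups U_0, …, U_{n−1}, each isomorphic to SU(2, 4), and, for consecutive indices, subgroups V_{i,i+1} in which U_i and U_{i+1} form a standard pair (via an isomorphism from SU(3, 4) or PSU(3, 4) carrying the block-diagonal subgroups, or their images, onto U_i and U_{i+1}); suppose U_i and U_j commute elementwise whenever the indices differ by at least 2, that G is generated by the U_i and the V_{i,i+1}, that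 for each i the subgroup generated by V_{i,i+1} and V_{i+1,i+2} is a homomorphic image of SU(4, 4), that U_i and V_{j,j+1} commute elementwise whenever i ≤ j − 2 or i ≥ j + 3, and that V_{i,i+1} and V_{k,k+1} commute elementwise whenever k ≥ i + 3. Then G is a homomorphic image of SU(n+1, 4). (G is not assumed finite.) -/
theorem result {G : Type*} [Group G] (n : ℕ) (hn : 4 ≤ n)
    (F : Type*) [Field F] [Fintype F] (hF : Fintype.card F = 4)
    (U : Fin n → Subgroup G) (e : ∀ i, ↥(Cfsg.SU 2 F 2) ≃* ↥(U i))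
    (V : Fin n → Fin n → Subgroup G)
    (h1 : ∀ i j : Fin n, (i : ℕ) + 2 ≤ j → ∀ x ∈ U i, ∀ y ∈ U j, x * y = y * x)
    (h2 : ∀ i j : Fin n, (i : ℕ) + 1 = j → Cfsg.IsStandardUnitaryPair (V i j) (U i) (U j) F 2)
    (hgen : (⨆ i, U i) ⊔ (⨆ (i : Fin n) (j : Fin n) (_ : (i : ℕ) + 1 = j), V i j) = ⊤)
    (h4 : ∀ i j k : Fin n, (i : ℕ) + 1 = j → (j : ℕ) + 1 = k →
      ∃ g : ↥(Cfsg.SU 4 F 2) →* ↥(V i j ⊔ V j k), Function.Surjective g)
    (h5 : ∀ i j k : Fin n, (j : ℕ) + 1 = k → ((i : ℕ) + 2 ≤ j ∨ (k : ℕ) + 2 ≤ i) →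
      ∀ x ∈ U i, ∀ y ∈ V j k, x * y = y * x)
    (h6 : ∀ i j k l : Fin n, (i : ℕ) + 1 = j → (k : ℕ) + 1 = l → (j : ℕ) + 2 ≤ k →
      ∀ x ∈ V i j, ∀ y ∈ V k l, x * y = y * x) :
    ∃ f : ↥(Cfsg.SU (n + 1) F 2) →* G, Function.Surjective f := by
  classical
  have hF' : Nat.card F = 2 ^ 2 := by rw [Nat.card_eq_fintype_card, hF]; norm_num
  obtain ⟨c⟩ := exists_conj hF'
  obtain ⟨ψ, hp, hc⟩ := exists_family c hF' U V h1 h2 n
  let a : ℕ → (SUg 2 F 2 →* G) := fun i =>
    if i + 2 ≤ n then (ψ i).comp (emb c 0 (by norm_num))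
    else (ψ (i - 1)).comp (emb c 1 (by norm_num))
  have ha0 : ∀ i, i + 2 ≤ n → a i = (ψ i).comp (emb c 0 (by norm_num)) := fun i h => if_pos h
  have ha1 : ∀ i, i + 2 ≤ n → a (i + 1) = (ψ i).comp (emb c 1 (by norm_num)) := fun i h => by
    by_cases h' : i + 3 ≤ n
    · rw [ha0 _ (by omega), hc i (by omega) h']
    · exact (if_neg (by omega)).trans (by rw [Nat.add_sub_cancel])
  have haU : ∀ i (h : i < n), (a i).range = U ⟨i, h⟩ := fun i h => by
    by_cases h' : i + 2 ≤ n
    · rw [ha0 i h']; exact (hp i h h').range₀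
    · obtain ⟨j, rfl⟩ : ∃ j, i = j + 1 := ⟨i - 1, by omega⟩
      rw [ha1 j (by omega)]; exact (hp j (by omega) (by omega)).range₁
  let g2 : ℕ → Subgroup (SUg (n + 1) F 2 × G) := fun i =>
    if h : i + 2 ≤ n + 1 then ((emb c i h).prod (a i)).range else ⊥
  let g3 : ℕ → Subgroup (SUg (n + 1) F 2 × G) := fun i =>
    if h : i + 3 ≤ n + 1 then ((emb c i h).prod (ψ i)).range else ⊥
  have hg2 : ∀ i (h : i + 2 ≤ n + 1), g2 i = ((emb c i h).prod (a i)).range := fun i h => dif_pos h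
  have hg3 : ∀ i (h : i + 3 ≤ n + 1), g3 i = ((emb c i h).prod (ψ i)).range := fun i h => dif_pos h
  have low : ∀ i, i + 3 ≤ n + 1 → g2 i ≤ g3 i := fun i hi => by
    rw [hg3 i hi, hg2 i (by omega)]
    rintro _ ⟨g, rfl⟩
    refine ⟨emb c 0 (by norm_num : (0 : ℕ) + 2 ≤ 3) g, Prod.ext (emb_emb c i hi 0 _ g) ?_⟩
    rw [ha0 i (by omega)]
    rfl
  have high : ∀ i, i + 3 ≤ n + 1 → g2 (i + 1) ≤ g3 i := fun i hi => by
    rw [hg3 i hi, hg2 (i + 1) (by omega)]
    rintro _ ⟨g, rfl⟩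
    refine ⟨emb c 1 (by norm_num : 1 + 2 ≤ 3) g, Prod.ext (emb_emb c i hi 1 _ g) ?_⟩
    rw [ha1 i (by omega)]
    rfl
  let K : Subgroup (SUg (n + 1) F 2 × G) := ⨆ i, g3 i
  have hle : ∀ i, g3 i ≤ K := fun i => le_iSup g3 i
  have hle2 : ∀ i, i + 2 ≤ n + 1 → g2 i ≤ K := fun i hi => by
    by_cases h : i + 3 ≤ n + 1
    · exact (low i h).trans (hle i)
    · obtain ⟨j, rfl⟩ : ∃ j, i = j + 1 := ⟨i - 1, by omega⟩
      exact (high j (by omega)).trans (hle j)
  let C : CfsgLib.SUPhanTwo.TCover c (n + 1) K :=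
    { π := (MonoidHom.fst _ _).comp K.subtype
      S := fun i => (g2 i).subgroupOf K
      T := fun i => (g3 i).subgroupOf K
      hm := by omega
      map_S := fun i hi => by
        rw [← Subgroup.map_map, Subgroup.subgroupOf_map_subtype, inf_eq_left.2 (hle2 i hi), hg2 i hi,
          MonoidHom.map_range, MonoidHom.fst_comp_prod, range_emb]
      map_T := fun i hi => by
        rw [← Subgroup.map_map, Subgroup.subgroupOf_map_subtype, inf_eq_left.2 (hle i), hg3 i hi,
          MonoidHom.map_range, MonoidHom.fst_comp_prod, range_emb]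
      S_le := fun i hi => Subgroup.comap_mono (low i hi)
      S_le' := fun i hi => Subgroup.comap_mono (high i hi)
      commSS := fun i j hij hj x hx y hy => by
        rw [Subgroup.mem_subgroupOf, hg2 i (by omega)] at hx
        rw [Subgroup.mem_subgroupOf, hg2 j hj] at hy
        obtain ⟨g, hg⟩ := hx
        obtain ⟨h, hh⟩ := hy
        refine Subtype.ext ?_
        show (x : SUg (n + 1) F 2 × G) * y = y * x
        rw [← hg, ← hh]
        refine Prod.ext ?_ ?_
        · exact Blk_comm c (emb_mem_Blk c i _ g) (emb_mem_Blk c j _ h) hij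
        · exact h1 ⟨i, by omega⟩ ⟨j, by omega⟩ hij _ ((haU i _).le ⟨g, rfl⟩) _
            ((haU j _).le ⟨h, rfl⟩)
      commST := fun i j hij hj x hx y hy => by
        rw [Subgroup.mem_subgroupOf, hg2 i (by omega)] at hx
        rw [Subgroup.mem_subgroupOf, hg3 j hj] at hy
        obtain ⟨g, hg⟩ := hx
        obtain ⟨h, hh⟩ := hy
        refine Subtype.ext ?_
        show (x : SUg (n + 1) F 2 × G) * y = y * x
        rw [← hg, ← hh]
        refine Prod.ext ?_ ?_
        · exact Blk_comm c (emb_mem_Blk c i _ g) (emb_mem_Blk c j _ h) hij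
        · exact h5 ⟨i, by omega⟩ ⟨j, by omega⟩ ⟨j + 1, by omega⟩ rfl (Or.inl hij) _
            ((haU i _).le ⟨g, rfl⟩) _ ((hp j (by omega) (by omega)).range.le ⟨h, rfl⟩)
      commTS := fun i j hij hj x hx y hy => by
        rw [Subgroup.mem_subgroupOf, hg3 i (by omega)] at hx
        rw [Subgroup.mem_subgroupOf, hg2 j hj] at hy
        obtain ⟨g, hg⟩ := hx
        obtain ⟨h, hh⟩ := hy
        refine Subtype.ext ?_
        show (x : SUg (n + 1) F 2 × G) * y = y * x
        rw [← hg, ← hh]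
        refine Prod.ext ?_ ?_
        · exact Blk_comm c (emb_mem_Blk c i _ g) (emb_mem_Blk c j _ h) hij
        · exact (h5 ⟨j, by omega⟩ ⟨i, by omega⟩ ⟨i + 1, by omega⟩ rfl
            (Or.inr (show i + 1 + 2 ≤ j by omega)) _
            ((haU j _).le ⟨h, rfl⟩) _ ((hp i (by omega) (by omega)).range.le ⟨g, rfl⟩)).symm
      commTT := fun i j hij hj x hx y hy => by
        rw [Subgroup.mem_subgroupOf, hg3 i (by omega)] at hx
        rw [Subgroup.mem_subgroupOf, hg3 j hj] at hy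
        obtain ⟨g, hg⟩ := hx
        obtain ⟨h, hh⟩ := hy
        refine Subtype.ext ?_
        show (x : SUg (n + 1) F 2 × G) * y = y * x
        rw [← hg, ← hh]
        refine Prod.ext ?_ ?_
        · exact Blk_comm c (emb_mem_Blk c i _ g) (emb_mem_Blk c j _ h) hij
        · exact h6 ⟨i, by omega⟩ ⟨i + 1, by omega⟩ ⟨j, by omega⟩ ⟨j + 1, by omega⟩ rfl rfl
            (show i + 1 + 2 ≤ j by omega) _ ((hp i (by omega) (by omega)).range.le ⟨g, rfl⟩) _
            ((hp j (by omega) (by omega)).range.le ⟨h, rfl⟩)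
      inj₄ := fun i hi x hx hx1 => by
        obtain ⟨g₀, hg₀⟩ := h4 ⟨i, by omega⟩ ⟨i + 1, by omega⟩ ⟨i + 1 + 1, by omega⟩ rfl rfl
        obtain ⟨α, e0, e1⟩ := CfsgLib.SUPhanTwo.exists_window hF' (hp i (by omega) (by omega))
          (hp (i + 1) (by omega) (by omega)) (hc i (by omega) (by omega))
          (h1 ⟨i, by omega⟩ ⟨i + 1 + 1, by omega⟩ le_rfl) g₀ hg₀
        have hb : (g3 i).subgroupOf K ⊔ (g3 (i + 1)).subgroupOf K ≤
            (((emb (r := 4) c i hi).prod α).range).subgroupOf K := by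
          refine sup_le (Subgroup.comap_mono ?_) (Subgroup.comap_mono ?_)
          · rw [hg3 i (by omega)]
            rintro _ ⟨g, rfl⟩
            exact ⟨emb c 0 (by norm_num : (0 : ℕ) + 3 ≤ 4) g,
              Prod.ext (emb_emb c i hi 0 _ g) (DFunLike.congr_fun e0 g)⟩
          · rw [hg3 (i + 1) (by omega)]
            rintro _ ⟨g, rfl⟩
            exact ⟨emb c 1 (by norm_num : 1 + 3 ≤ 4) g,
              Prod.ext (emb_emb c i hi 1 _ g) (DFunLike.congr_fun e1 g)⟩
        obtain ⟨g, hg⟩ := hb hx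
        have h0 : emb c i hi g = 1 := (congrArg Prod.fst hg).trans hx1
        have hg1 : g = 1 := emb_injective c i hi (h0.trans (map_one _).symm)
        rw [hg1, map_one] at hg
        exact Subtype.ext hg.symm }
  have htop : C.Fam 0 = ⊤ := by
    refine eq_top_iff.2 fun x _ => ?_
    have hK : K ≤ (C.Fam 0).map K.subtype := iSup_le fun i y hy => by
      by_cases h : i + 3 ≤ n + 1
      · exact ⟨⟨y, hle i hy⟩, C.T_le_Fam (Nat.zero_le i) h hy, rfl⟩
      · simp only [g3, dif_neg h, Subgroup.mem_bot] at hy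
        subst hy
        exact one_mem _
    obtain ⟨y, hy, hyx⟩ := hK x.2
    rwa [Subtype.ext hyx] at hy
  let E : K ≃* SUg (n + 1) F 2 := MulEquiv.ofBijective C.π (C.bijective hF' htop)
  let f : SUg (n + 1) F 2 →* G := ((MonoidHom.snd _ _).comp K.subtype).comp E.symm.toMonoidHom
  have hf : ∀ (y : K), (y : SUg (n + 1) F 2 × G).2 ∈ f.range := fun y =>
    ⟨E y, by
      show ((E.symm (E y)).1).2 = _
      rw [MulEquiv.symm_apply_apply]⟩
  refine ⟨f, MonoidHom.range_eq_top.1 (top_le_iff.1 (hgen ▸ sup_le (iSup_le fun i => ?_)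
    (iSup_le fun i => iSup_le fun j => iSup_le fun hij => ?_)))⟩
  · obtain ⟨i, hi⟩ := i
    rw [← haU i hi]
    rintro _ ⟨g, rfl⟩
    exact hf ⟨(emb c i (by omega) g, a i g), hle2 i (by omega) ((hg2 i (by omega)).ge ⟨g, rfl⟩)⟩
  obtain ⟨i, hi⟩ := i
  obtain ⟨j, hj⟩ := j
  obtain rfl : i + 1 = j := hij
  rw [← (hp i hi (by omega)).range]
  rintro _ ⟨g, rfl⟩
  exact hf ⟨(emb c i (by omega) g, ψ i g), hle i ((hg3 i (by omega)).ge ⟨g, rfl⟩)⟩

end Cfsg.Agent.S3711
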