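import Cfsg.Statements.S3807
import Mathlib
import Cfsg.Agent.Lib.MetacyclicP.AbelianIndex
import Cfsg.Agent.Lib.MetacyclicP.Lines

open scoped commutatorElement


set_option autoImplicit false
open Cfsg

namespace Cfsg.Agent.S3807



/-- Let S be a non-abelian finite p-group with an abelian subgroup A of index p. Then [S : Z(S)] = p·#[S,S], and either [S,S] has order p, S/Z(S) is elementary abelian of order p², and S has exactly p + 1 abelian subgroups of index p; or [S,S] has order at least p² and A is the only abelian subgroup of index p in S. -/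
theorem result {S : Type*} [Group S] [Finite S] (p : ℕ) [Fact p.Prime] (hS : IsPGroup p S) (hna : ¬ IsMulCommutative S)
    (A : Subgroup S) (hA : IsMulCommutative ↥A) (hAi : A.index = p) :
    (Subgroup.center S).index = p * Nat.card (commutator S) ∧
      ((Nat.card (commutator S) = p ∧ Cfsg.IsElementaryAbelian p (⊤ : Subgroup (S ⧸ Subgroup.center S)) ∧
          Nat.card (S ⧸ Subgroup.center S) = p ^ 2 ∧
          Nat.card {B : Subgroup S // IsMulCommutative ↥B ∧ B.index = p} = p + 1) ∨
        (p ^ 2 ≤ Nat.card (commutator S) ∧ ∀ B : Subgroup S, IsMulCommutative ↥B → B.index = p → B = A)) := by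
  have hp' : p.Prime := Fact.out
  have hform := CfsgLib.MetacyclicP.index_center_eq_of_abelian_index hS hna hA hAi
  refine ⟨hform, ?_⟩
  obtain ⟨k, hk⟩ := IsPGroup.iff_card.1 (hS.to_subgroup (commutator S))
  have hk1 : 1 ≤ k := by
    by_contra h
    rw [show k = 0 by omega, pow_zero] at hk
    refine hna ⟨⟨fun a b => ?_⟩⟩
    have : ⁅a, b⁆ ∈ commutator S :=
      Subgroup.commutator_mem_commutator (Subgroup.mem_top _) (Subgroup.mem_top _)
    rwa [Subgroup.card_eq_one.1 hk, Subgroup.mem_bot, commutatorElement_eq_one_iff_mul_comm] at this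
  have hZ : ∀ B : Subgroup S, IsMulCommutative B → B.index = p → Subgroup.center S ≤ B :=
    fun B hB hBi => CfsgLib.MetacyclicP.center_le_of_abelian_index hna hB hBi
  rcases eq_or_lt_of_le hk1 with h1 | h1
  · left
    subst h1
    rw [pow_one] at hk
    have hidx : (Subgroup.center S).index = p ^ 2 := by rw [hform, hk, sq]
    have hq : Nat.card (S ⧸ Subgroup.center S) = p ^ 2 := hidx
    haveI hqc : IsMulCommutative (S ⧸ Subgroup.center S) :=
      IsPGroup.isMulCommutative_of_card_eq_prime_sq hq
    have hncyc : ¬ IsCyclic (S ⧸ Subgroup.center S) := fun h =>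
      hna ⟨⟨commutative_of_cyclic_center_quotient (QuotientGroup.mk' (Subgroup.center S))
        (by rw [QuotientGroup.ker_mk'])⟩⟩
    have hexp : ∀ x : S ⧸ Subgroup.center S, x ^ p = 1 := by
      intro x
      obtain ⟨j, hj, hjx⟩ := (Nat.dvd_prime_pow hp').1 (hq ▸ orderOf_dvd_natCard x)
      rcases Nat.lt_or_ge j 2 with h | h
      · rw [← orderOf_dvd_iff_pow_eq_one, hjx]
        calc p ^ j ∣ p ^ 1 := pow_dvd_pow p (by omega)
          _ = p := pow_one p
      · exact absurd (isCyclic_of_orderOf_eq_card x
          (by rw [hjx, hq, show j = 2 by omega])) hncyc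
    refine ⟨hk, ⟨⟨⟨fun a b => Subtype.ext (hqc.is_comm.comm (a : S ⧸ _) b)⟩⟩, fun a _ => hexp a⟩,
      hq, ?_⟩
    have hA2 : CfsgLib.MetacyclicP.IsRankTwo (S ⧸ Subgroup.center S) p :=
      ⟨hp', fun a b => hqc.is_comm.comm a b, hexp, hq⟩
    rw [← CfsgLib.MetacyclicP.card_lines hA2]
    refine Nat.card_congr
      { toFun := fun B => ⟨B.1.map (QuotientGroup.mk' _), ?_⟩
        invFun := fun L => ⟨L.1.comap (QuotientGroup.mk' _), ?_, ?_⟩
        left_inv := fun B => ?_
        right_inv := fun L => ?_ }
    · have hker : (QuotientGroup.mk' (Subgroup.center S)).ker ≤ B.1 := by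
        rw [QuotientGroup.ker_mk']; exact hZ _ B.2.1 B.2.2
      have := (B.1.map (QuotientGroup.mk' (Subgroup.center S))).card_mul_index
      rw [Subgroup.index_map_eq _ (QuotientGroup.mk'_surjective _) hker, B.2.2, hq, sq] at this
      exact Nat.eq_of_mul_eq_mul_right hp'.pos this
    · haveI : IsCyclic L.1 := isCyclic_of_prime_card L.2
      refine ⟨⟨fun a b => ?_⟩⟩
      exact commutative_of_cyclic_center_quotient
        ((QuotientGroup.mk' (Subgroup.center S)).subgroupComap L.1) (fun w hw =>
          Subgroup.mem_center_iff.2 fun g => Subtype.ext (Subgroup.mem_center_iff.1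
            ((QuotientGroup.eq_one_iff _).1 (congrArg Subtype.val hw)) g)) a b
    · rw [Subgroup.index_comap_of_surjective _ (QuotientGroup.mk'_surjective _)]
      have := L.1.card_mul_index
      rw [L.2, hq, sq] at this
      exact Nat.eq_of_mul_eq_mul_left hp'.pos this
    · refine Subtype.ext ?_
      show (B.1.map _).comap _ = B.1
      rw [Subgroup.comap_map_eq, QuotientGroup.ker_mk', sup_eq_left]
      exact hZ _ B.2.1 B.2.2
    · exact Subtype.ext (Subgroup.map_comap_eq_self_of_surjective (QuotientGroup.mk'_surjective _) _)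
  · right
    refine ⟨hk ▸ Nat.pow_le_pow_right hp'.pos h1, fun B hB hBi => ?_⟩
    by_contra hne
    have hle : B ⊓ A ≤ Subgroup.center S := by
      intro w hw
      obtain ⟨b, hb, hbA⟩ := SetLike.not_le_iff_exists.1 (fun h : B ≤ A => hne
        (Subgroup.eq_of_le_of_card_ge h (by
          have e1 := A.card_mul_index
          have e2 := B.card_mul_index
          rw [hAi] at e1; rw [hBi, ← e1] at e2
          exact (Nat.eq_of_mul_eq_mul_right hp'.pos e2).ge)))
      refine Subgroup.mem_center_iff.2 fun g => ?_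
      have : A ⊔ Subgroup.zpowers b ≤ Subgroup.centralizer ({w} : Set S) :=
        sup_le (fun a ha => Subgroup.mem_centralizer_singleton_iff.2
          (congrArg Subtype.val (hA.is_comm.comm (⟨a, ha⟩ : A) ⟨w, hw.2⟩)))
          (Subgroup.zpowers_le.2 (Subgroup.mem_centralizer_singleton_iff.2
            (congrArg Subtype.val (hB.is_comm.comm (⟨b, hb⟩ : B) ⟨w, hw.1⟩))))
      exact Subgroup.mem_centralizer_singleton_iff.1
        (this (CfsgLib.MetacyclicP.sup_zpowers_eq_top hAi hbA ▸ Subgroup.mem_top g))
    have h2 := Subgroup.index_antitone hle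
    have h3 := Subgroup.index_inf_le (H := B) (K := A)
    rw [hAi, hBi] at h3
    rw [hform, hk] at h2
    have h4 : p * p ^ k ≤ p * p := h2.trans h3
    have h5 : p ^ 2 ≤ p ^ k := Nat.pow_le_pow_right hp'.pos h1
    have h6 := Nat.le_of_mul_le_mul_left h4 hp'.pos
    nlinarith [hp'.two_le]

end Cfsg.Agent.S3807
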