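import Cfsg.Statements.S3808
import Mathlib
import Cfsg.Agent.Lib.Cores.Basic
import Cfsg.Agent.Lib.PGroups.Basic
import Cfsg.Agent.Lib.MetacyclicP.AbelianIndex


set_option autoImplicit false
open Cfsg

namespace Cfsg.Agent.S3808



/-- Let S be a finite p-group with an extraspecial subgroup Q of index p. Then either Z(S) = Z(Q), or S = Q·Z(S) and Z(S) has order p². -/
theorem result {S : Type*} [Group S] [Finite S] (p : ℕ) [Fact p.Prime] (hS : IsPGroup p S) (Q : Subgroup S) (hQ : Cfsg.IsExtraspecial p ↥Q) (hQi : Q.index = p) :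
    Subgroup.center S = (Subgroup.center ↥Q).map Q.subtype ∨
      (Q ⊔ Subgroup.center S = ⊤ ∧ Nat.card (Subgroup.center S) = p ^ 2) := by
  have hp' : p.Prime := Fact.out
  haveI hQn : Q.Normal := CfsgLib.MetacyclicP.normal_of_index_prime_pgroup hS hQi
  set Z := (Subgroup.center ↥Q).map Q.subtype with hZdef
  haveI hZn : Z.Normal := CfsgLib.Cores.normal_map_subtype Q _
  have hZc : Nat.card Z = p := by rw [hZdef, Subgroup.card_subtype]; exact hQ.2
  have hZle : Z ≤ Subgroup.center S := CfsgLib.PGroups.le_center_of_card_eq_prime hS hZc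
  rcases eq_or_lt_of_le hZle with e | e
  · exact Or.inl e.symm
  right
  have hnle : ¬ Subgroup.center S ≤ Q := fun h => e.not_ge fun z hz =>
    ⟨⟨z, h hz⟩, Subgroup.mem_center_iff.2 fun g => Subtype.ext (Subgroup.mem_center_iff.1 hz g), rfl⟩
  obtain ⟨z, hz, hzQ⟩ := SetLike.not_le_iff_exists.1 hnle
  have htop : Q ⊔ Subgroup.center S = ⊤ :=
    top_le_iff.1 ((CfsgLib.MetacyclicP.sup_zpowers_eq_top hQi hzQ).ge.trans
      (sup_le_sup_left (Subgroup.zpowers_le.2 hz) Q))
  refine ⟨htop, ?_⟩
  have h1 : Q.relIndex (Subgroup.center S) = p := by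
    rw [← Subgroup.relIndex_sup_right, sup_comm, htop, Subgroup.relIndex_top_right, hQi]
  have h2 : Q ⊓ Subgroup.center S = Z := by
    refine le_antisymm (fun w hw => ⟨⟨w, hw.1⟩, Subgroup.mem_center_iff.2 fun g =>
      Subtype.ext (Subgroup.mem_center_iff.1 hw.2 g), rfl⟩) (le_inf ?_ hZle)
    exact Subgroup.map_subtype_le _
  have h3 := Subgroup.card_mul_index (Q.subgroupOf (Subgroup.center S))
  rw [show (Q.subgroupOf (Subgroup.center S)).index = p from h1] at h3
  have h4 : Nat.card (Q.subgroupOf (Subgroup.center S)) = p := by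
    rw [Nat.card_congr (Subgroup.subgroupOfEquivOfLe
      (inf_le_right : Q ⊓ Subgroup.center S ≤ Subgroup.center S)).toEquiv.symm |>.symm |>
      fun _ => show Nat.card (Q.subgroupOf (Subgroup.center S)) =
        Nat.card ((Q ⊓ Subgroup.center S).subgroupOf (Subgroup.center S)) by
          rw [Subgroup.inf_subgroupOf_right],
      Nat.card_congr (Subgroup.subgroupOfEquivOfLe
        (inf_le_right : Q ⊓ Subgroup.center S ≤ Subgroup.center S)).toEquiv, h2, hZc]
  rw [← h3, h4, sq]

end Cfsg.Agent.S3808
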