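import Cfsg.Statements.S3809
import Mathlib
import Cfsg.Agent.Lib.PGroups.Extraspecial
import Cfsg.Agent.Lib.MetacyclicP.AbelianIndex

open scoped commutatorElement


set_option autoImplicit false
open Cfsg

namespace Cfsg.Agent.S3809



/-- Let S be a finite p-group with an extraspecial subgroup of index p. Then S has order p^(2+2n) for some n ≥ 1, derived length at most 3, and exponent dividing p³. -/
theorem result {S : Type*} [Group S] [Finite S] (p : ℕ) [Fact p.Prime] (hS : IsPGroup p S) (Q : Subgroup S) (hQ : Cfsg.IsExtraspecial p ↥Q) (hQi : Q.index = p) :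
    (∃ n : ℕ, 1 ≤ n ∧ Nat.card S = p ^ (2 + 2 * n)) ∧ derivedSeries S 3 = ⊥ ∧ ∀ x : S, x ^ (p ^ 3) = 1 := by
  have hp' : p.Prime := Fact.out
  haveI hQn : Q.Normal := CfsgLib.MetacyclicP.normal_of_index_prime_pgroup hS hQi
  obtain ⟨n, hn, hcard⟩ := CfsgLib.MetacyclicP.exists_card_extraspecial hQ
  have hquot : Nat.card (S ⧸ Q) = p := hQi
  haveI : IsCyclic (S ⧸ Q) := isCyclic_of_prime_card hquot
  have hcomm : commutator S ≤ Q := by
    rw [commutator_def, Subgroup.commutator_le]
    intro a _ b _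
    rw [← QuotientGroup.eq_one_iff, ← QuotientGroup.mk'_apply, map_commutatorElement,
      commutatorElement_eq_one_iff_mul_comm]
    exact (IsCyclic.commGroup (α := S ⧸ Q)).mul_comm _ _
  refine ⟨⟨n, hn, ?_⟩, ?_, fun x => ?_⟩
  · rw [← Q.card_mul_index, hQi, hcard]; ring
  · rw [eq_bot_iff]
    have h1 : derivedSeries S 1 ≤ Q := by rw [derivedSeries_one]; exact hcomm
    have h2 : derivedSeries S 2 ≤ (Subgroup.center Q).map Q.subtype := by
      rw [show 2 = 1 + 1 from rfl, derivedSeries_succ]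
      refine (Subgroup.commutator_mono h1 h1).trans ?_
      rw [← Subgroup.map_subtype_commutator, hQ.1.2.2]
    rw [show 3 = 2 + 1 from rfl, derivedSeries_succ]
    refine (Subgroup.commutator_mono h2 h2).trans ?_
    rw [Subgroup.commutator_le]
    rintro _ ⟨a, ha, rfl⟩ _ ⟨b, hb, rfl⟩
    rw [Subgroup.mem_bot, commutatorElement_eq_one_iff_mul_comm]
    exact congrArg Subtype.val (Subgroup.mem_center_iff.1 hb a)
  · have hx : x ^ p ∈ Q := by
      rw [← QuotientGroup.eq_one_iff, QuotientGroup.mk_pow, ← hquot]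
      exact pow_card_eq_one'
    have h2 := CfsgLib.PGroups.IsExtraspecial.pow_mem_center hQ ⟨_, hx⟩
    have h3 : ((⟨_, hx⟩ : Q) ^ p) ^ p = 1 := by
      have h4 := pow_card_eq_one' (x := (⟨_, h2⟩ : Subgroup.center Q))
      rw [hQ.2] at h4
      exact congrArg Subtype.val h4
    have h5 := congrArg Subtype.val h3
    rw [pow_succ, pow_two, pow_mul, pow_mul]
    exact h5

end Cfsg.Agent.S3809
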