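import Cfsg.Statements.S3810
import Mathlib
import Cfsg.Agent.Lib.PGroups.Basic
import Cfsg.Agent.Lib.PGroups.Extraspecial
import Cfsg.Agent.Lib.MetacyclicP.AbelianIndex
import Cfsg.Agent.Lib.MetacyclicP.Lines


set_option autoImplicit false
open Cfsg

namespace Cfsg.Agent.S3810



/-- Let S be a finite p-group with an extraspecial subgroup of index p. Then S has an abelian subgroup of index p if and only if S has order p⁴. -/
theorem result {S : Type*} [Group S] [Finite S] (p : ℕ) [Fact p.Prime] (hS : IsPGroup p S) (Q : Subgroup S) (hQ : Cfsg.IsExtraspecial p ↥Q) (hQi : Q.index = p) :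
    (∃ A : Subgroup S, IsMulCommutative ↥A ∧ A.index = p) ↔ Nat.card S = p ^ 4 := by
  have hp' : p.Prime := Fact.out
  haveI hQn : Q.Normal := CfsgLib.MetacyclicP.normal_of_index_prime_pgroup hS hQi
  obtain ⟨n, hn, hcard⟩ := CfsgLib.MetacyclicP.exists_card_extraspecial hQ
  have hcardS : Nat.card S = p ^ (2 + 2 * n) := by rw [← Q.card_mul_index, hQi, hcard]; ring
  have hQna : ¬ IsMulCommutative Q := by
    intro hc
    obtain ⟨x, y, hxy⟩ := CfsgLib.PGroups.IsExtraspecial.exists_not_commute hQ
    exact hxy (hc.is_comm.comm x y)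
  constructor
  · rintro ⟨A, hA, hAi⟩
    haveI hAn : A.Normal := CfsgLib.MetacyclicP.normal_of_index_prime_pgroup hS hAi
    have hcA : ∀ u v : S, u ∈ A → v ∈ A → u * v = v * u := fun u v hu hv =>
      congrArg Subtype.val (hA.is_comm.comm (⟨u, hu⟩ : A) ⟨v, hv⟩)
    have hne : A.relIndex Q ≠ 1 := fun e => hQna ⟨⟨fun a b => Subtype.ext
      (hcA a b (Subgroup.relIndex_eq_one.1 e a.2) (Subgroup.relIndex_eq_one.1 e b.2))⟩⟩
    have hidx : (A.subgroupOf Q).index = p :=
      ((Nat.dvd_prime hp').1 (hAi ▸ Subgroup.relIndex_dvd_index_of_normal A Q)).resolve_left hne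
    have hB : IsMulCommutative (A.subgroupOf Q) := ⟨⟨fun a b => Subtype.ext (Subtype.ext
      (hcA _ _ a.2 b.2))⟩⟩
    have h1 := CfsgLib.MetacyclicP.index_center_eq_of_abelian_index hQ.1.1 hQna hB hidx
    have h2 := (Subgroup.center Q).card_mul_index
    rw [h1, hQ.1.2.2, hQ.2, hcard] at h2
    have h3 : p ^ (1 + 2 * n) = p ^ 3 := by rw [← h2]; ring
    have := Nat.pow_right_injective hp'.two_le h3
    rw [hcardS]; congr 1; omega
  · intro h4
    have hn1 : n = 1 := by
      have := Nat.pow_right_injective hp'.two_le (hcardS.symm.trans h4)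
      omega
    subst hn1
    obtain ⟨N, hNn, -, hNQ, hNc⟩ := CfsgLib.PGroups.exists_normal_card_between hS
      (L := ⊥) (N := Q) bot_le (l := 0) (k := 2) (m := 3) (by simp) (by rw [hcard]) (by omega)
      (by omega)
    haveI := hNn
    haveI hNcomm : IsMulCommutative N := IsPGroup.isMulCommutative_of_card_eq_prime_sq hNc
    set A := Subgroup.centralizer (N : Set S) with hA
    have hNA : N ≤ A := fun a ha b hb => congrArg Subtype.val (hNcomm.is_comm.comm (⟨b, hb⟩ : N) ⟨a, ha⟩)
    -- `N` is not central
    have hnc : A ≠ ⊤ := by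
      intro e
      have h1 : N.subgroupOf Q ≤ Subgroup.center Q := fun w hw => Subgroup.mem_center_iff.2 fun g =>
        Subtype.ext ((hA ▸ e.ge (Subgroup.mem_top (g : S)) : (g : S) ∈ Subgroup.centralizer (N : Set S))
          w hw).symm
      have h2 := Subgroup.card_le_of_le h1
      rw [hQ.2, Nat.card_congr (Subgroup.subgroupOfEquivOfLe hNQ).toEquiv, hNc] at h2
      nlinarith [hp'.two_le]
    -- the action on `N` has image of order at most `p`
    haveI hAn : A.Normal := hA ▸ inferInstance
    let f : S →* MulAut N := MulAut.conjNormal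
    have hker : f.ker = A := by
      ext g
      rw [MonoidHom.mem_ker, hA, Subgroup.mem_centralizer_iff]
      constructor
      · intro h b hb
        have := congrArg (fun e : MulAut N => ((e ⟨b, hb⟩ : N) : S)) h
        simp [f, MulAut.conjNormal_apply] at this
        exact (mul_inv_eq_iff_eq_mul.1 this).symm
      · intro h
        refine MulEquiv.ext fun b => Subtype.ext ?_
        simp [f, MulAut.conjNormal_apply, ← h b b.2]
    obtain ⟨k, hk⟩ := IsPGroup.iff_card.1 (hS.to_quotient A)
    have hdvd : Nat.card (S ⧸ A) ∣ Nat.card (MulAut N) := by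
      rw [← Subgroup.index_eq_card, ← hker, Subgroup.index_ker]
      exact Subgroup.card_subgroup_dvd_card _
    have hk1 : k ≤ 1 := by
      by_contra hk2
      exact CfsgLib.MetacyclicP.not_sq_dvd_card_mulAut N hNc
        ((pow_dvd_pow p (by omega : 2 ≤ k)).trans (hk ▸ hdvd))
    have hAi : A.index = p := by
      rw [Subgroup.index_eq_card, hk]
      rcases Nat.lt_or_ge k 1 with h | h
      · exfalso
        apply hnc
        rw [← Subgroup.index_eq_one, Subgroup.index_eq_card, hk, show k = 0 by omega, pow_zero]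
      · rw [show k = 1 by omega, pow_one]
    refine ⟨A, ?_, hAi⟩
    have hAc : Nat.card A = p ^ 3 := by
      have := A.card_mul_index
      rw [hAi, h4, pow_succ] at this
      exact Nat.eq_of_mul_eq_mul_right hp'.pos this
    have hNZ : N.subgroupOf A ≤ Subgroup.center A := fun w hw =>
      Subgroup.mem_center_iff.2 fun g => Subtype.ext (g.2 w hw).symm
    have hq : Nat.card (A ⧸ N.subgroupOf A) = p := by
      have := (N.subgroupOf A).card_eq_card_quotient_mul_card_subgroup
      rw [Nat.card_congr (Subgroup.subgroupOfEquivOfLe hNA).toEquiv, hAc, hNc, pow_succ, mul_comm]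
        at this
      exact (Nat.eq_of_mul_eq_mul_right (pow_pos hp'.pos 2) this).symm
    haveI : IsCyclic (A ⧸ N.subgroupOf A) := isCyclic_of_prime_card hq
    exact ⟨⟨commutative_of_cyclic_center_quotient (QuotientGroup.mk' (N.subgroupOf A))
      (by rw [QuotientGroup.ker_mk']; exact hNZ)⟩⟩

end Cfsg.Agent.S3810
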