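import Cfsg.Statements.S3811
import Cfsg.Agent.Lib.MetacyclicP.SoftSubgroups
-- import your own Cfsg.Agent.* helpers here

set_option autoImplicit false
open Cfsg

namespace Cfsg.Agent.S3811

/-- Let P be a finite p-group and E an abelian subgroup of P that contains its centralizer, has index p in its normalizer, and has index at least p² in P. Then the subgroups of P containing E are totally ordered by inclusion, each proper one has index p in its normalizer (so they form the normalizer tower of E, with all steps of index p), and the i-th member of the tower above E has nilpotency class i + 1 whenever it is a proper subgroup of P. -/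
theorem result {P : Type*} [Group P] [Finite P] (p : ℕ) [Fact p.Prime] (hP : IsPGroup p P)
    (E : Subgroup P) (hEab : IsMulCommutative ↥E) (hC : Subgroup.centralizer (E : Set P) ≤ E)
    (hN : (E.subgroupOf (Subgroup.normalizer (E : Set P))).index = p) (hidx : p ^ 2 ≤ E.index) :
    (∀ K L : Subgroup P, E ≤ K → E ≤ L → K ≤ L ∨ L ≤ K) ∧
      (∀ K : Subgroup P, E ≤ K → K ≠ ⊤ → (K.subgroupOf (Subgroup.normalizer (K : Set P))).index = p) ∧
      ∀ (i : ℕ) (K : Subgroup P) [Group.IsNilpotent ↥K], E ≤ K → K ≠ ⊤ → K.index * p ^ i = E.index →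
        Group.nilpotencyClass ↥K = i + 1 := by
  have hcardN : Nat.card (Subgroup.normalizer (E : Set P)) = p * Nat.card E := by
    rw [← Subgroup.index_mul_card (E.subgroupOf (Subgroup.normalizer (E : Set P))), hN,
      Nat.card_congr (Subgroup.subgroupOfEquivOfLe Subgroup.le_normalizer).toEquiv]
  have hidx' : p ^ 2 * Nat.card E ≤ Nat.card P := by
    rw [← Subgroup.index_mul_card E]; exact Nat.mul_le_mul_right _ hidx
  have main := CfsgLib.MetacyclicP.soft_subgroup_aux (Nat.card P) P le_rfl hP E hEab hC hcardN hidx'
  refine ⟨fun K L hK hL => ?_, fun K hK hKtop => ?_, fun i K _ hK hKtop hi => ?_⟩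
  · exact CfsgLib.MetacyclicP.chain_below hP (K := ⊤)
      (fun C hC hlt => (main C hC hlt.ne).1) hK hL le_top le_top
  · have h := (main K hK hKtop).1
    rw [← Subgroup.index_mul_card (K.subgroupOf (Subgroup.normalizer (K : Set P))),
      Nat.card_congr (Subgroup.subgroupOfEquivOfLe Subgroup.le_normalizer).toEquiv] at h
    exact Nat.eq_of_mul_eq_mul_right Nat.card_pos h
  · refine (main K hK hKtop).2 i ?_
    refine Nat.eq_of_mul_eq_mul_left (Nat.pos_of_ne_zero Subgroup.index_ne_zero_of_finite : 0 < K.index) ?_
    rw [← mul_assoc, hi, Subgroup.index_mul_card, Subgroup.index_mul_card]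


end Cfsg.Agent.S3811
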