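import Cfsg.Statements.S3824
import Mathlib
import Cfsg.Agent.S0143


set_option autoImplicit false
open Cfsg

namespace Cfsg.Agent.S3824

/-- The index of `A ⊓ N` in a normal subgroup `N` divides the index of `A`. -/
theorem relIndex_dvd_of_normal {G : Type*} [Group G] [Finite G] (A N : Subgroup G) [N.Normal] :
    A.relIndex N ∣ A.index := by
  have h1 : Nat.card (A.subgroupOf N) * A.relIndex N = Nat.card N := Subgroup.card_mul_index _
  have h2 : Nat.card (N.subgroupOf A) * N.relIndex A = Nat.card A := Subgroup.card_mul_index _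
  have h3 : Nat.card (N.subgroupOf (A ⊔ N)) * N.relIndex (A ⊔ N) = Nat.card (A ⊔ N : Subgroup G) :=
    Subgroup.card_mul_index _
  rw [Nat.card_congr (Subgroup.subgroupOfEquivOfLe le_sup_right).toEquiv,
    Subgroup.relIndex_sup_right] at h3
  have e : Nat.card (A.subgroupOf N) = Nat.card (N.subgroupOf A) :=
    Nat.card_congr
      { toFun := fun x => ⟨⟨((x : N) : G), x.2⟩, (x : N).2⟩
        invFun := fun x => ⟨⟨((x : A) : G), x.2⟩, (x : A).2⟩
        left_inv := fun _ => rfl
        right_inv := fun _ => rfl }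
  rw [← e] at h2
  have h4 : Nat.card A * A.relIndex N = Nat.card (A ⊔ N : Subgroup G) := by
    rw [← h2, ← h3, ← h1]; ring
  refine Nat.dvd_of_mul_dvd_mul_left (Nat.card_pos (α := A)) ?_
  rw [h4, Subgroup.card_mul_index]
  exact Subgroup.card_subgroup_dvd_card _

theorem aux (n : ℕ) : ∀ {G : Type*} [Group G] [Finite G], Nat.card G ≤ n → ∀ A : Subgroup G,
    IsMulCommutative A → (∃ k : ℕ, A.index = 2 ^ k) → Group.IsSolvable G := by
  induction n with
  | zero => intro G _ _ h; exact absurd h (not_le.2 Nat.card_pos)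
  | succ n ih =>
    intro G _ _ hn A hA hidx
    obtain ⟨k, hk⟩ := hidx
    rcases subsingleton_or_nontrivial G with hs | hnt
    · infer_instance
    by_cases hA1 : A = ⊥
    · rw [hA1, Subgroup.index_bot] at hk
      haveI := Fact.mk Nat.prime_two
      haveI := (IsPGroup.of_card hk).isNilpotent
      infer_instance
    by_cases hsimple : IsSimpleGroup G
    · obtain ⟨a, haA, ha⟩ : ∃ a ∈ A, a ≠ 1 := by
        by_contra h
        push Not at h
        exact hA1 ((Subgroup.eq_bot_iff_forall A).2 h)
      have hle : A ≤ Subgroup.centralizer ({a} : Set G) := fun b hb =>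
        Subgroup.mem_centralizer_singleton_iff.2
          (congrArg Subtype.val (hA.is_comm.comm (⟨b, hb⟩ : A) ⟨a, haA⟩))
      obtain ⟨j, -, hj⟩ := (Nat.dvd_prime_pow Nat.prime_two).1
        (hk ▸ Subgroup.index_dvd_of_le hle)
      haveI := Fact.mk (CfsgLib.CharTheory.prime_card_of_index_centralizer_pow 2 j Nat.prime_two a ha hj)
      haveI := (IsPGroup.of_card (G := G) (p := Nat.card G) (n := 1) (pow_one _).symm).isNilpotent
      infer_instance
    obtain ⟨N, hN, hN1, hN2⟩ : ∃ N : Subgroup G, N.Normal ∧ N ≠ ⊥ ∧ N ≠ ⊤ := by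
      by_contra h
      push Not at h
      exact hsimple ⟨fun N hN => or_iff_not_imp_left.2 (h N hN)⟩
    haveI := hN
    have hcA : ∀ u v : G, u ∈ A → v ∈ A → u * v = v * u := fun u v hu hv =>
      congrArg Subtype.val (hA.is_comm.comm (⟨u, hu⟩ : A) ⟨v, hv⟩)
    have hNlt : Nat.card N < Nat.card G := by
      refine lt_of_le_of_ne N.card_le_card_group fun e => hN2 (Subgroup.eq_top_of_card_eq N e)
    have hNpos : 1 < Nat.card N := (Subgroup.one_lt_card_iff_ne_bot N).2 hN1
    have hQlt : Nat.card (G ⧸ N) < Nat.card G := by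
      rw [N.card_eq_card_quotient_mul_card_subgroup]
      exact lt_mul_of_one_lt_right Nat.card_pos hNpos
    have hsN : Group.IsSolvable N := by
      obtain ⟨j, -, hj⟩ := (Nat.dvd_prime_pow Nat.prime_two).1 (hk ▸ relIndex_dvd_of_normal A N)
      exact ih (by omega) (A.subgroupOf N) ⟨⟨fun a b => Subtype.ext (Subtype.ext
        (hcA _ _ a.2 b.2))⟩⟩ ⟨j, hj⟩
    have hsQ : Group.IsSolvable (G ⧸ N) := by
      obtain ⟨j, -, hj⟩ := (Nat.dvd_prime_pow Nat.prime_two).1 (hk ▸
        Subgroup.index_map_dvd A (QuotientGroup.mk'_surjective N))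
      refine ih (by omega) (A.map (QuotientGroup.mk' N)) ⟨⟨?_⟩⟩ ⟨j, hj⟩
      rintro ⟨_, a, ha, rfl⟩ ⟨_, b, hb, rfl⟩
      have e : a * b = b * a := hcA _ _ ha hb
      exact Subtype.ext (show QuotientGroup.mk' N a * QuotientGroup.mk' N b = _ by
        rw [← map_mul, e, map_mul]; rfl)
    exact solvable_of_ker_le_range N.subtype (QuotientGroup.mk' N) (by rw [QuotientGroup.ker_mk', Subgroup.range_subtype])


/-- Every finite group having an abelian subgroup whose index is a power of 2 is solvable. -/
theorem result {G : Type*} [Group G] [Finite G]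
    (A : Subgroup G) (hA : IsMulCommutative A) (hidx : ∃ k : ℕ, A.index = 2 ^ k) : Group.IsSolvable G := by
  exact aux (Nat.card G) le_rfl A hA hidx

end Cfsg.Agent.S3824
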