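import Cfsg.Statements.S3868
import Cfsg.Agent.Lib.HallClasses.MinimalNonClosed


set_option autoImplicit false
open Cfsg

namespace Cfsg.Agent.S3868

open Subgroup



/-- Structure of the non-simple minimal non-p-closed groups. Call a finite group p-closed when its Sylow p-subgroups are normal, and minimal non-p-closed when it is not p-closed but every proper subgroup and every proper quotient is. If such a group G is not simple, then there is a prime q ≠ p such that G has order p · q^e, where e is the multiplicative order of q modulo p, and G has a normal subgroup A of order q^e that is elementary abelian and is a minimal normal subgroup of G (so G is the semidirect product of A by a group of order p acting irreducibly). -/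
theorem result {G : Type*} [Group G] [Finite G] {p : ℕ} [Fact p.Prime]
    (hnc : ¬ Cfsg.IsPClosed p G) (hsub : ∀ H : Subgroup G, H ≠ ⊤ → Cfsg.IsPClosed p ↥H)
    (hquo : ∀ (N : Subgroup G) [N.Normal], N ≠ ⊥ → Cfsg.IsPClosed p (G ⧸ N)) (hns : ¬ IsSimpleGroup G) :
    ∃ q : ℕ, q.Prime ∧ q ≠ p ∧ Nat.card G = p * q ^ orderOf (q : ZMod p) ∧
      ∃ A : Subgroup G, A.Normal ∧ Nat.card ↥A = q ^ orderOf (q : ZMod p) ∧ Cfsg.IsElementaryAbelian q A ∧
        ∀ B : Subgroup G, B.Normal → B ≤ A → B = ⊥ ∨ B = A := by
  classical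
  have hp : p.Prime := Fact.out
  haveI : Nontrivial G := by
    by_contra h
    rw [not_nontrivial_iff_subsingleton] at h
    exact hnc fun P => ⟨fun n hn g => by rwa [Subsingleton.elim (g * n * g⁻¹) n]⟩
  obtain ⟨N₀, hN₀, hN₀b, hN₀t⟩ : ∃ N : Subgroup G, N.Normal ∧ N ≠ ⊥ ∧ N ≠ ⊤ := by
    by_contra h
    push Not at h
    exact hns ⟨fun N hN => or_iff_not_imp_left.2 fun hb => h N hN hb⟩
  obtain ⟨A, hA, hAb, hAN, hAmin⟩ := CfsgLib.HallClasses.exists_minimal_normal_le N₀ hN₀b
  have hAt : A ≠ ⊤ := fun h => hN₀t (top_le_iff.1 (h ▸ hAN))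
  -- no nontrivial normal `p`-subgroup
  have hnop : ∀ B : Subgroup G, B.Normal → IsPGroup p B → B = ⊥ := by
    intro B hB hBp
    by_contra hne
    apply hnc
    intro P
    have hBP : B ≤ (P : Subgroup G) := IsPGroup.le_sylow_of_normal hBp P
    have h1 := hquo B hne (P.mapSurjective (QuotientGroup.mk'_surjective B))
    have h2 := h1.comap (QuotientGroup.mk' B)
    rwa [Sylow.coe_mapSurjective, comap_map_eq, QuotientGroup.ker_mk', sup_eq_left.2 hBP] at h2
  let P : Sylow p G := default
  -- normal Sylow subgroups of proper normal subgroups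
  have hchar : ∀ K : Subgroup G, K.Normal → K ≠ ⊤ → (P : Subgroup G) ≤ K → False := by
    intro K hK hKt hPK
    let S : Sylow p K := P.subtype hPK
    haveI := hsub K hKt S
    haveI := Sylow.characteristic_of_normal S inferInstance
    have hn : ((S : Subgroup K).map K.subtype).Normal := inferInstance
    rw [Sylow.coe_subtype, map_subgroupOf_eq_of_le hPK] at hn
    exact hnc fun R => by
      obtain ⟨g, rfl⟩ := MulAction.exists_smul_eq G P R
      rwa [Sylow.smul_eq_of_normal]
  have hpA : ¬ p ∣ Nat.card A := by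
    intro hdvd
    let S : Sylow p A := default
    haveI := hsub A hAt S
    haveI := Sylow.characteristic_of_normal S inferInstance
    have hn : ((S : Subgroup A).map A.subtype).Normal := inferInstance
    have h0 := hnop _ hn (S.2.map _)
    rw [map_eq_bot_iff_of_injective _ A.subtype_injective] at h0
    have h1 := S.card_eq_multiplicity
    rw [h0, card_bot] at h1
    exact absurd h1.symm (by
      refine ne_of_gt (Nat.one_lt_pow ?_ hp.one_lt)
      exact Nat.pos_iff_ne_zero.1 (hp.factorization_pos_of_dvd Nat.card_pos.ne' hdvd))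
  have hPA : (P : Subgroup G) ⊔ A = ⊤ := by
    by_contra h
    have hn : ((P : Subgroup G) ⊔ A).Normal := by
      have h1 := hquo A hAb (P.mapSurjective (QuotientGroup.mk'_surjective A))
      have h2 := h1.comap (QuotientGroup.mk' A)
      rwa [Sylow.coe_mapSurjective, comap_map_eq, QuotientGroup.ker_mk'] at h2
    exact hchar _ hn h le_sup_left
  have hAc : ¬ A ≤ centralizer ((P : Subgroup G) : Set G) := by
    intro h
    apply hnc
    intro R
    have hn : (P : Subgroup G).Normal := by
      rw [← normalizer_eq_top_iff, eq_top_iff, ← hPA, sup_le_iff]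
      exact ⟨le_normalizer, h.trans (centralizer_le_normalizer _)⟩
    obtain ⟨g, rfl⟩ := MulAction.exists_smul_eq G P R
    rwa [Sylow.smul_eq_of_normal]
  -- proper subgroups `X ⊔ Q` centralise
  have hcent : ∀ X Q : Subgroup G, IsPGroup p X → Q ≤ A → X ≤ normalizer (Q : Set G) →
      X ⊔ Q ≠ ⊤ → Q ≤ centralizer (X : Set G) := by
    intro X Q hX hQA hXQ hne
    obtain ⟨S, hS⟩ := ((hX.comap_of_injective (X ⊔ Q).subtype
      (X ⊔ Q).subtype_injective) : IsPGroup p (X.subgroupOf (X ⊔ Q))).exists_le_sylow
    haveI := hsub _ hne S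
    intro y hy
    rw [mem_centralizer_iff]
    intro x hx
    have hxm : x ∈ X ⊔ Q := le_sup_left (a := X) hx
    have hym : y ∈ X ⊔ Q := le_sup_right (a := X) hy
    have hxS : (⟨x, hxm⟩ : ↥(X ⊔ Q)) ∈ (S : Subgroup ↥(X ⊔ Q)) := hS hx
    have h1 : (⟨x, hxm⟩ : ↥(X ⊔ Q)) * ⟨y, hym⟩ * ⟨x, hxm⟩⁻¹ * ⟨y, hym⟩⁻¹ ∈
        (S : Subgroup ↥(X ⊔ Q)) ⊓ Q.subgroupOf (X ⊔ Q) := by
      refine ⟨?_, ?_⟩
      · rw [mul_assoc (_ * _), mul_assoc _ (⟨y, hym⟩ : ↥(X ⊔ Q))]
        refine mul_mem hxS ?_
        rw [← mul_assoc]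
        exact Normal.conj_mem inferInstance _ (inv_mem hxS) _
      · refine Q.mul_mem ?_ (Q.inv_mem hy)
        exact (mem_normalizer_iff.1 (hXQ hx) y).1 hy
    have hd : (S : Subgroup ↥(X ⊔ Q)) ⊓ Q.subgroupOf (X ⊔ Q) = ⊥ := by
      apply inf_eq_bot_of_coprime
      obtain ⟨j, hj⟩ := IsPGroup.iff_card.1 S.2
      rw [hj]
      refine Nat.Coprime.pow_left j (hp.coprime_iff_not_dvd.2 fun h => hpA ?_)
      have e : Nat.card (Q.subgroupOf (X ⊔ Q)) = Nat.card Q :=
        Nat.card_congr (subgroupOfEquivOfLe le_sup_right).toEquiv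
      exact (h.trans e.dvd).trans (card_dvd_of_le hQA)
    rw [hd, mem_bot, mul_inv_eq_one, mul_inv_eq_iff_eq_mul] at h1
    exact congrArg Subtype.val h1
  obtain ⟨q, hq, hqp, hAq⟩ := CfsgLib.HallClasses.exists_isPGroup_of_sup P.2 hpA hAc
    fun Q hQ h1 h2 => hcent _ Q P.2 hQ h1 h2
  have hAel := CfsgLib.HallClasses.isElementaryAbelian_of_minimal hq hAq hAb hAmin
  have hcopPA : (Nat.card (P : Subgroup G)).Coprime (Nat.card A) := by
    obtain ⟨j, hj⟩ := IsPGroup.iff_card.1 P.2
    rw [hj]
    exact Nat.Coprime.pow_left j (hp.coprime_iff_not_dvd.2 hpA)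
  have hcompl : IsComplement' (P : Subgroup G) A := by
    refine isComplement'_of_disjoint_and_mul_eq_univ (disjoint_iff.2 (inf_eq_bot_of_coprime hcopPA)) ?_
    rw [← mul_normal, hPA, coe_top]
  have hidx : A.index = Nat.card (P : Subgroup G) := hcompl.index_eq_card.symm ▸ rfl
  -- the kernel of the action is trivial
  have hPp : Nat.card (P : Subgroup G) = p := by
    obtain ⟨j, hj⟩ := IsPGroup.iff_card.1 P.2
    rcases Nat.lt_or_ge j 2 with h2 | h2
    · interval_cases j
      · exfalso
        rw [pow_zero] at hj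
        apply hAc
        rw [card_eq_one.1 hj]
        intro a _
        rw [mem_centralizer_iff]
        intro x hx
        rw [coe_bot, Set.mem_singleton_iff] at hx
        subst hx
        simp
      · rw [hj, pow_one]
    exfalso
    haveI := Fact.mk hp
    obtain ⟨R₀, hR₀⟩ := Sylow.exists_subgroup_card_pow_prime (G := (P : Subgroup G)) p
      (n := j - 1) (by rw [hj]; exact pow_dvd_pow p (Nat.sub_le _ _))
    have hR₀i : R₀.index = p := by
      have h := card_mul_index R₀
      rw [hR₀, hj, show p ^ j = p ^ (j - 1) * p by rw [← pow_succ]; congr 1; omega] at h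
      exact Nat.eq_of_mul_eq_mul_left (pow_pos hp.pos _) h
    haveI : R₀.Normal := normal_of_index_eq_minFac_card (by
      rw [hR₀i, hj, Nat.pow_minFac (by omega), hp.minFac_eq])
    let R := R₀.map (P : Subgroup G).subtype
    have hRne : R ⊔ A ≠ ⊤ := by
      intro h
      have h1 : A.relIndex R = A.index := by
        rw [← relIndex_sup_right, h, relIndex_top_right]
      have h3 : A.relIndex R ∣ Nat.card R := relIndex_dvd_card A R
      rw [h1, card_map_of_injective (P : Subgroup G).subtype_injective, hR₀, hidx, hj] at h3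
      have h4 := (Nat.pow_dvd_pow_iff_le_right hp.one_lt).1 h3
      omega
    have hRc : A ≤ centralizer (R : Set G) := hcent R A (IsPGroup.of_card
      (by rw [card_map_of_injective (P : Subgroup G).subtype_injective, hR₀])) le_rfl
      (by rw [normalizer_eq_top]; exact le_top) hRne
    have hRn : R.Normal := by
      rw [← normalizer_eq_top_iff, eq_top_iff, ← hPA, sup_le_iff]
      refine ⟨?_, hRc.trans (centralizer_le_normalizer _)⟩
      have := le_normalizer_map (H := R₀) (P : Subgroup G).subtype
      rwa [normalizer_eq_top, ← MonoidHom.range_eq_map, range_subtype] at this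
    have h0 := hnop R hRn (IsPGroup.of_card
      (by rw [card_map_of_injective (P : Subgroup G).subtype_injective, hR₀]))
    rw [map_eq_bot_iff_of_injective _ (P : Subgroup G).subtype_injective] at h0
    rw [h0, card_bot] at hR₀
    have := Nat.one_lt_pow (show j - 1 ≠ 0 by omega) hp.one_lt
    omega
  have hna : ¬ IsMulCommutative G := fun h => hAc fun a _ =>
    mem_centralizer_iff.2 fun x _ => h.is_comm.comm x a
  have hcard := CfsgLib.HallClasses.card_irreducible_index_prime hq hqp hna A hAel.1 hAel.2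
    (hidx.trans hPp) hAmin
  refine ⟨q, hq, hqp, ?_, A, hA, hcard, hAel, hAmin⟩
  rw [← card_mul_index A, hcard, hidx, hPp, mul_comm]

end Cfsg.Agent.S3868
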