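import Cfsg.Statements.S3869
import Cfsg.Agent.Lib.HallClasses.MinimalNonClosed


set_option autoImplicit false
open Cfsg

namespace Cfsg.Agent.S3869

open Subgroup



/-- Let p and q be distinct primes and G a finite non-abelian group with a normal elementary abelian q-subgroup A that is a minimal normal subgroup of G and has index p. Then A has order q^e with e the multiplicative order of q modulo p, and G is minimal non-p-closed: its Sylow p-subgroups are not normal, while in every proper subgroup and in every proper quotient of G the Sylow p-subgroups are normal. -/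
theorem result {G : Type*} [Group G] [Finite G] {p q : ℕ} [Fact p.Prime] (hq : q.Prime) (hpq : q ≠ p)
    (hna : ¬ IsMulCommutative G) (A : Subgroup G) [A.Normal] (hA : Cfsg.IsElementaryAbelian q A) (hidx : A.index = p)
    (hmin : ∀ B : Subgroup G, B.Normal → B ≤ A → B = ⊥ ∨ B = A) :
    Nat.card ↥A = q ^ orderOf (q : ZMod p) ∧ ¬ Cfsg.IsPClosed p G ∧ (∀ H : Subgroup G, H ≠ ⊤ → Cfsg.IsPClosed p ↥H) ∧
      ∀ (N : Subgroup G) [N.Normal], N ≠ ⊥ → Cfsg.IsPClosed p (G ⧸ N) := by
  classical
  have hp : p.Prime := Fact.out
  have hcard : Nat.card ↥A = q ^ orderOf (q : ZMod p) :=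
    CfsgLib.HallClasses.card_irreducible_index_prime hq hpq hna A hA.1 hA.2 hidx hmin
  have hcop : p.Coprime (Nat.card A) := by
    rw [hcard]
    exact Nat.Coprime.pow_right _ ((Nat.coprime_primes hp hq).2 hpq.symm)
  have hG : Nat.card G = Nat.card A * p := by rw [← hidx, card_mul_index]
  -- a subgroup of order p with trivial intersection cannot be normal
  have hkey : ∀ N : Subgroup G, N.Normal → Nat.card N = p → False := by
    intro N hN hNp
    apply hna
    have hd : Disjoint N A := disjoint_iff.2 (inf_eq_bot_of_coprime (by rwa [hNp]))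
    have htop : IsComplement' N A := isComplement'_of_coprime (by rw [hNp, hG, mul_comm]) (by rwa [hNp])
    haveI := hA.1
    haveI : IsCyclic N := isCyclic_of_prime_card hNp
    haveI : IsMulCommutative N := IsCyclic.commutative
    refine ⟨⟨fun u v => ?_⟩⟩
    have hNA : ∀ n ∈ N, ∀ a ∈ A, Commute n a := fun n hn a ha =>
      commute_of_normal_of_disjoint N A hN inferInstance hd n a hn ha
    have hmem : ∀ u : G, ∃ n ∈ N, ∃ a ∈ A, n * a = u := fun u => by
      obtain ⟨⟨n, a⟩, h⟩ := htop.2 u
      exact ⟨n, n.2, a, a.2, h⟩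
    obtain ⟨n, hn, a, ha, rfl⟩ := hmem u
    obtain ⟨m, hm, b, hb, rfl⟩ := hmem v
    have h1 : Commute n m := congrArg Subtype.val
      ((IsCyclic.commutative (α := N)).is_comm.comm (⟨n, hn⟩ : N) ⟨m, hm⟩)
    have h2 : Commute a b := congrArg Subtype.val (hA.1.is_comm.comm (⟨a, ha⟩ : A) ⟨b, hb⟩)
    exact ((h1.mul_right (hNA n hn b hb)).mul_left ((hNA m hm a ha).symm.mul_right h2)).eq
  refine ⟨hcard, fun hc => ?_, fun H hH => ?_, fun N _ hN => ?_⟩
  · let P : Sylow p G := default
    refine hkey P (hc P) ?_
    have hnd : ¬ p ∣ Nat.card A := hp.coprime_iff_not_dvd.1 hcop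
    rw [P.card_eq_multiplicity, hG, Nat.factorization_mul Nat.card_pos.ne' hp.ne_zero,
      Finsupp.add_apply, Nat.factorization_eq_zero_of_not_dvd hnd, hp.factorization_self, zero_add,
      pow_one]
  · by_cases hdvd : p ∣ Nat.card H
    · have hHA : ¬ H ≤ A := fun h => hp.coprime_iff_not_dvd.1 hcop (hdvd.trans (card_dvd_of_le h))
      have hsup : A ⊔ H = ⊤ := by
        have h1 : (A ⊔ H).index ∣ p := hidx ▸ index_dvd_of_le le_sup_left
        rcases (Nat.dvd_prime hp).1 h1 with h | h
        · exact index_eq_one.1 h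
        · exfalso
          apply hHA
          have h2 : (A ⊔ H).index * A.relIndex (A ⊔ H) = p := by
            rw [mul_comm, relIndex_mul_index le_sup_left, hidx]
          rw [h] at h2
          exact le_sup_right.trans
            (relIndex_eq_one.1 (Nat.eq_of_mul_eq_mul_left hp.pos (h2.trans (mul_one p).symm)))
      haveI hn : (H ⊓ A).Normal := by
        rw [← normalizer_eq_top_iff, eq_top_iff, ← hsup, sup_le_iff]
        refine ⟨fun a ha => ?_, fun h hh => ?_⟩
        · refine mem_normalizer_iff.2 fun x => ?_
          have hc : ∀ y ∈ A, a * y * a⁻¹ = y := fun y hy => by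
            rw [show a * y = y * a from congrArg Subtype.val (hA.1.is_comm.comm ⟨a, ha⟩ ⟨y, hy⟩),
              mul_inv_cancel_right]
          refine ⟨fun hx => by rwa [hc x hx.2], fun hx => ?_⟩
          have h1 := hc _ hx.2
          have h2 : a * x * a⁻¹ = x := mul_left_cancel (mul_right_cancel h1)
          rwa [h2] at hx
        · refine mem_normalizer_iff.2 fun x => ?_
          refine ⟨fun hx => ⟨H.mul_mem (H.mul_mem hh hx.1) (H.inv_mem hh),
            Normal.conj_mem inferInstance x hx.2 h⟩, fun hx => ?_⟩
          have h1 : h⁻¹ * (h * x * h⁻¹) * h⁻¹⁻¹ = x := by group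
          rw [← h1]
          exact ⟨H.mul_mem (H.mul_mem (H.inv_mem hh) hx.1) (H.inv_mem (H.inv_mem hh)),
            Normal.conj_mem inferInstance _ hx.2 _⟩
      rcases hmin (H ⊓ A) hn inf_le_right with h | h
      · refine CfsgLib.HallClasses.isPClosed_of_isPGroup (IsPGroup.of_card (n := 1) ?_)
        rw [pow_one]
        have h1 : A.relIndex H = p := by
          rw [← relIndex_sup_left, hsup, relIndex_top_right, hidx]
        rw [← h1, ← inf_relIndex_left, h, relIndex_bot_left]
      · exfalso
        apply hH
        rw [← hsup]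
        exact (sup_eq_right.2 (h.ge.trans inf_le_left)).symm
    · exact CfsgLib.HallClasses.isPClosed_of_not_dvd hdvd
  · rcases hmin (N ⊓ A) inferInstance inf_le_right with h | h
    · exfalso
      refine hkey N inferInstance ?_
      have h1 : Nat.card N ∣ p := by
        have := relIndex_dvd_index_of_normal A N
        rwa [← inf_relIndex_left, h, relIndex_bot_left, hidx] at this
      exact ((Nat.dvd_prime hp).1 h1).resolve_left fun h => hN (card_eq_one.1 h)
    · refine CfsgLib.HallClasses.isPClosed_of_isPGroup ?_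
      obtain ⟨j, -, hj⟩ := (Nat.dvd_prime_pow hp).1 (show Nat.card (G ⧸ N) ∣ p ^ 1 by
        rw [pow_one, ← index_eq_card, ← hidx]
        exact index_dvd_of_le (h.ge.trans inf_le_left))
      exact IsPGroup.of_card hj

end Cfsg.Agent.S3869
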