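import Cfsg.Statements.S3870
import Mathlib


set_option autoImplicit false
open Cfsg

namespace Cfsg.Agent.S3870

/-- Let G be a finite simple group whose Sylow p-subgroups are not normal but such that every proper subgroup of G has a normal Sylow p-subgroup. Then any two distinct Sylow p-subgroups of G intersect trivially, and for every Sylow p-subgroup P the normalizer of every non-identity subgroup of P lies in the normalizer of P. -/
theorem result {G : Type*} [Group G] [Finite G] [IsSimpleGroup G] {p : ℕ} [Fact p.Prime]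
    (hnc : ¬ Cfsg.IsPClosed p G) (hsub : ∀ H : Subgroup G, H ≠ ⊤ → Cfsg.IsPClosed p ↥H) :
    (∀ P Q : Sylow p G, P ≠ Q → (P : Subgroup G) ⊓ (Q : Subgroup G) = ⊥) ∧
      ∀ (P : Sylow p G) (R : Subgroup G), R ≤ P → R ≠ ⊥ →
        Subgroup.normalizer (R : Set G) ≤ Subgroup.normalizer ((P : Subgroup G) : Set G) := by
  have hna : ∀ P : Sylow p G, (P : Subgroup G) ≠ ⊥ → ¬ (P : Subgroup G).Normal := by
    intro P hP hn
    refine hnc fun Q => ?_
    have : Subsingleton (Sylow p G) := (Sylow.unique_of_normal P hn).instSubsingleton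
    exact Subsingleton.elim P Q ▸ hn
  have hnR : ∀ (P : Sylow p G) (R : Subgroup G), R ≤ P → R ≠ ⊥ →
      Subgroup.normalizer (R : Set G) ≠ ⊤ := by
    intro P R hRP hR htop
    have hn : R.Normal := Subgroup.normalizer_eq_top_iff.1 htop
    rcases IsSimpleGroup.eq_bot_or_eq_top_of_normal R hn with h | h
    · exact hR h
    · exact hna P (fun h' => hR (le_bot_iff.1 (hRP.trans h'.le)))
        ((top_le_iff.1 (h ▸ hRP) : (P : Subgroup G) = ⊤) ▸ inferInstance)
  have key : ∀ (H : Subgroup G), H ≠ ⊤ → ∀ A B : Subgroup G, A ≤ H → B ≤ H → IsPGroup p A →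
      IsPGroup p B → ∃ R : Sylow p G, A ≤ R ∧ B ≤ R := by
    intro H hH A B hAH hBH hA hB
    obtain ⟨SA, hSA⟩ := (hA.comap_subtype (K := H)).exists_le_sylow
    obtain ⟨SB, hSB⟩ := (hB.comap_subtype (K := H)).exists_le_sylow
    have : Subsingleton (Sylow p H) := (Sylow.unique_of_normal SA (hsub H hH SA)).instSubsingleton
    rw [← Subsingleton.elim SA SB] at hSB
    obtain ⟨R, hR⟩ := (SA.2.map H.subtype).exists_le_sylow
    exact ⟨R, fun a ha => hR ⟨⟨a, hAH ha⟩, hSA ha, rfl⟩, fun b hb => hR ⟨⟨b, hBH hb⟩, hSB hb, rfl⟩⟩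
  have hti : ∀ P Q : Sylow p G, P ≠ Q → (P : Subgroup G) ⊓ (Q : Subgroup G) = ⊥ := by
    intro P Q hPQ
    by_contra hne
    -- strong induction on the intersection, downwards
    have main : ∀ n : ℕ, ∀ P Q : Sylow p G, (P : Subgroup G) ⊓ (Q : Subgroup G) ≠ ⊥ →
        Nat.card G ≤ Nat.card ↥((P : Subgroup G) ⊓ (Q : Subgroup G)) + n → P = Q := by
      intro n
      induction n with
      | zero =>
        intro P Q _ hc
        have h1 := Subgroup.eq_top_of_le_card ((P : Subgroup G) ⊓ (Q : Subgroup G)) (by omega)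
        exact Sylow.ext ((top_le_iff.1 (h1 ▸ inf_le_left)).trans (top_le_iff.1 (h1 ▸ inf_le_right)).symm)
      | succ n ih =>
        intro P Q hne hc
        by_contra hPQ
        set D := (P : Subgroup G) ⊓ (Q : Subgroup G) with hD
        set N := Subgroup.normalizer (D : Set G) with hN
        have hlt : ∀ P Q : Sylow p G, P ≠ Q → (P : Subgroup G) ⊓ (Q : Subgroup G) = D →
            D < (P : Subgroup G) ⊓ N := by
          intro P Q hPQ hPD
          have hDP : D ≤ (P : Subgroup G) := hPD ▸ inf_le_left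
          have hDne : D.subgroupOf (P : Subgroup G) ≠ ⊤ := by
            rw [Ne, Subgroup.subgroupOf_eq_top]
            intro hle
            exact hPQ (Sylow.ext (P.3 Q.2 (hle.trans (hPD ▸ inf_le_right))).symm)
          haveI : Group.IsNilpotent ↥(P : Subgroup G) := P.2.isNilpotent
          have h1 := Group.normalizerCondition_of_isNilpotent (G := ↥(P : Subgroup G))
            (D.subgroupOf (P : Subgroup G)) (lt_top_iff_ne_top.2 hDne)
          obtain ⟨x, hx, hxD⟩ := SetLike.exists_of_lt h1
          refine lt_of_le_of_ne (le_inf hDP Subgroup.le_normalizer) (fun he => hxD ?_)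
          rw [← Subgroup.subgroupOf_normalizer_eq hDP] at hx
          show (x : G) ∈ D
          rw [he]
          exact ⟨x.2, hx⟩
        have hNtop : N ≠ ⊤ := hnR P D inf_le_left hne
        obtain ⟨R, hR1, hR2⟩ := key N hNtop ((P : Subgroup G) ⊓ N) ((Q : Subgroup G) ⊓ N)
          inf_le_right inf_le_right (P.2.to_le inf_le_left) (Q.2.to_le inf_le_left)
        have step : ∀ P Q : Sylow p G, P ≠ Q → (P : Subgroup G) ⊓ (Q : Subgroup G) = D →
            (P : Subgroup G) ⊓ N ≤ R → P = R := by
          intro P Q hPQ hPD hR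
          have h1 : D < (P : Subgroup G) ⊓ (R : Subgroup G) :=
            lt_of_lt_of_le (hlt P Q hPQ hPD) (le_inf inf_le_left hR)
          refine ih P R (ne_bot_of_gt h1) ?_
          have h3 : Nat.card D < Nat.card ↥((P : Subgroup G) ⊓ (R : Subgroup G)) :=
            Set.Finite.card_lt_card (Set.toFinite _) (SetLike.coe_ssubset_coe.2 h1)
          omega
        exact hPQ ((step P Q hPQ rfl hR1).trans (step Q P (Ne.symm hPQ) (inf_comm _ _) hR2).symm)
    exact hPQ (main (Nat.card G) P Q hne (Nat.le_add_left _ _))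
  refine ⟨hti, fun P R hRP hR g hg => Sylow.smul_eq_iff_mem_normalizer.1 ?_⟩
  by_contra hne
  refine hR (le_bot_iff.1 (hti _ P hne ▸ le_inf ?_ hRP))
  intro x hx
  rw [Sylow.coe_subgroup_smul]
  exact ⟨g⁻¹ * x * g, hRP (by simpa using (Subgroup.mem_normalizer_iff.1 (inv_mem hg) x).1 hx), by simp [mul_assoc]⟩

end Cfsg.Agent.S3870
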