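import Cfsg.Statements.S3872
import Cfsg.Agent.Lib.HallClasses.HallPetrescu
import Cfsg.Agent.Lib.PGroupCounting.RegularOmega
import Cfsg.Agent.Lib.PGroups.Series
import Cfsg.Agent.Lib.TwoGroups.RankOne


set_option autoImplicit false
open Cfsg

namespace Cfsg.Agent.S3872

open Subgroup


/-- Say that a finite group is p-exponent closed when its elements of order dividing p form a subgroup. Let G be a finite p-group that is not p-exponent closed, but all of whose proper subgroups and proper quotients are. Then G is generated by two elements, has nilpotency class at least p, has exponent p², has cyclic center, and has order at least p^(p+1). -/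
theorem result {G : Type*} [Group G] [Finite G] {p : ℕ} [Fact p.Prime] (hG : IsPGroup p G)
    (hnc : ¬ (∃ H : Subgroup G, (H : Set G) = {g : G | g ^ p = 1})) (hsub : ∀ K : Subgroup G, K ≠ ⊤ → (∃ H : Subgroup ↥K, (H : Set ↥K) = {g : ↥K | g ^ p = 1}))
    (hquo : ∀ (N : Subgroup G) [N.Normal], N ≠ ⊥ → (∃ H : Subgroup (G ⧸ N), (H : Set (G ⧸ N)) = {g : (G ⧸ N) | g ^ p = 1})) :
    (∃ x y : G, Subgroup.closure ({x, y} : Set G) = ⊤) ∧ (⊤ : Subgroup G).lowerCentralSeries (p - 1) ≠ ⊥ ∧
      Monoid.exponent G = p ^ 2 ∧ IsCyclic ↥(Subgroup.center G) ∧ p ^ (p + 1) ≤ Nat.card G := by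
  classical
  have hp : p.Prime := Fact.out
  have hreg : (⊤ : Subgroup G).lowerCentralSeries (p - 1) = ⊥ → False := by
    intro hcl
    have hR : Cfsg.IsRegularPGroup p G :=
      ⟨hG, fun a b n => CfsgLib.HallClasses.HallPetrescu.exists_mul_pow hp hcl a b n⟩
    refine hnc ⟨CfsgLib.PGroupCounting.regularOmega hR 1, Set.ext fun g => ?_⟩
    show g ^ p ^ 1 = 1 ↔ g ^ p = 1
    rw [pow_one]
  obtain ⟨a, b, hap, hbp, hab⟩ : ∃ a b : G, a ^ p = 1 ∧ b ^ p = 1 ∧ (a * b) ^ p ≠ 1 := by
    by_contra h
    push Not at h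
    exact hnc ⟨{
      carrier := {g : G | g ^ p = 1}
      one_mem' := one_pow _
      mul_mem' := fun {x y} hx hy => h x y hx hy
      inv_mem' := fun {x} hx => by rw [Set.mem_setOf_eq, inv_pow, hx, inv_one] }, rfl⟩
  have hgen : closure ({a, b} : Set G) = ⊤ := by
    by_contra h
    obtain ⟨E, hE⟩ := hsub _ h
    have hmem : ∀ x, x ∈ E ↔ x ^ p = 1 := fun x => by rw [← SetLike.mem_coe, hE]; rfl
    have h1 := (hmem _).1 (E.mul_mem
      ((hmem ⟨a, subset_closure (by simp)⟩).2 (Subtype.ext hap))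
      ((hmem ⟨b, subset_closure (by simp)⟩).2 (Subtype.ext hbp)))
    exact hab (congrArg Subtype.val h1)
  have hquot : ∀ N : Subgroup G, N.Normal → N ≠ ⊥ → ∀ g : G, g ^ p ∈ N := by
    intro N hN hN1 g
    haveI := hN
    obtain ⟨E, hE⟩ := hquo N hN1
    have hmem : ∀ x, x ∈ E ↔ x ^ p = 1 := fun x => by rw [← SetLike.mem_coe, hE]; rfl
    have htop : closure ({a, b} : Set G) ≤ E.comap (QuotientGroup.mk' N) := by
      refine (closure_le _).2 ?_
      rintro x (rfl | rfl) <;> refine (hmem _).2 ?_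
      · rw [← map_pow, hap, map_one]
      · rw [← map_pow, hbp, map_one]
    have h := (hmem _).1 (htop (hgen ▸ mem_top g))
    rw [← map_pow] at h
    exact (QuotientGroup.eq_one_iff _).1 h
  haveI : Nontrivial G := ⟨⟨(a * b) ^ p, 1, hab⟩⟩
  haveI := hG.center_nontrivial
  have hpZ : p ∣ Nat.card (center G) := by
    obtain ⟨j, hj⟩ := IsPGroup.iff_card.1 (hG.to_subgroup (center G))
    rw [hj]
    refine dvd_pow_self p fun h => ?_
    rw [h, pow_zero] at hj
    exact (Finite.one_lt_card (α := center G)).ne' hj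
  -- central subgroups of order p contain every p-th power
  have hzn : ∀ z : center G, orderOf z = p → ∀ g : G, g ^ p ∈ zpowers (z : G) := by
    intro z hz g
    refine hquot _ ⟨fun n hn c => ?_⟩ (fun h => ?_) g
    · obtain ⟨i, rfl⟩ := mem_zpowers_iff.1 hn
      rw [mem_center_iff.1 ((center G).zpow_mem z.2 i) c, mul_inv_cancel_right]
      exact zpow_mem (mem_zpowers _) i
    · rw [zpowers_eq_bot] at h
      rw [show z = 1 from Subtype.ext h, orderOf_one] at hz
      exact hp.ne_one hz.symm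
  obtain ⟨z, hz⟩ := exists_prime_orderOf_dvd_card' p hpZ
  refine ⟨⟨a, b, hgen⟩, fun h => hreg h, ?_, ?_, ?_⟩
  · have hsq : ∀ g : G, g ^ p ^ 2 = 1 := fun g => by
      obtain ⟨i, hi⟩ := mem_zpowers_iff.1 (hzn z hz g)
      rw [pow_two, pow_mul, ← hi, ← zpow_natCast, zpow_comm, zpow_natCast,
        show ((z : G)) ^ p = 1 by rw [← hz, ← orderOf_coe]; exact pow_orderOf_eq_one _, one_zpow]
    obtain ⟨j, hj, hj'⟩ := (Nat.dvd_prime_pow hp).1 (Monoid.exponent_dvd_of_forall_pow_eq_one hsq)
    rcases Nat.lt_or_ge j 2 with h | h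
    · exfalso
      apply hab
      rw [← orderOf_dvd_iff_pow_eq_one]
      refine (Monoid.order_dvd_exponent _).trans ?_
      rw [hj']
      exact (pow_dvd_pow p (show j ≤ 1 by omega)).trans (pow_one p).dvd
    · rw [hj', show j = 2 by omega]
  · let _ : CommGroup (center G) := { (inferInstance : Group (center G)) with mul_comm := fun u v => Subtype.ext (mem_center_iff.1 v.2 u) }
    refine (CfsgLib.TwoGroups.isCyclic_of_uniqueOrderP_comm (H := center G) (p := p) (hG.to_subgroup (center G))
      fun u v hu hv => ?_)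
    by_contra hvu
    apply hab
    have h1 : (a * b) ^ p ∈ zpowers (u : G) ⊓ zpowers (v : G) := ⟨hzn u hu _, hzn v hv _⟩
    have h2 : zpowers (u : G) ⊓ zpowers (v : G) = ⊥ := by
      have h3 : Nat.card (zpowers (u : G) ⊓ zpowers (v : G) : Subgroup G) ∣ p := by
        rw [← hv, ← orderOf_coe v, ← Nat.card_zpowers]
        exact card_dvd_of_le inf_le_right
      rcases (Nat.dvd_prime hp).1 h3 with h | h
      · exact card_eq_one.1 h
      · exfalso
        apply hvu
        have h4 : zpowers (u : G) ⊓ zpowers (v : G) = zpowers (v : G) :=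
          Subgroup.eq_of_le_of_card_ge inf_le_right (by rw [h, Nat.card_zpowers, orderOf_coe, hv])
        obtain ⟨i, hi⟩ := mem_zpowers_iff.1 ((h4.ge.trans inf_le_left) (mem_zpowers (v : G)))
        exact mem_zpowers_iff.2 ⟨i, Subtype.ext (by simpa using hi)⟩
    rw [h2, mem_bot] at h1
    exact h1
  · obtain ⟨n, hn⟩ := IsPGroup.iff_card.1 hG
    rw [hn]
    refine Nat.pow_le_pow_right hp.pos ?_
    by_contra hlt
    apply hreg
    exact CfsgLib.PGroups.lowerCentralSeries_eq_bot_of_card_le hG (k := p - 1)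
      (by have := hp.two_le; omega)
      (by rw [hn]; exact Nat.pow_le_pow_right hp.pos (by omega))

end Cfsg.Agent.S3872
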