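import Cfsg.Statements.S3873
import Cfsg.Agent.Lib.HallClasses.MinimalNonClosed


set_option autoImplicit false
open Cfsg

namespace Cfsg.Agent.S3873

open Subgroup


/-- Say that a finite group is p-exponent closed when its elements of order dividing p form a subgroup. Let G be a finite group that is not p-exponent closed, but all of whose proper subgroups and proper quotients are, and suppose G is neither simple nor a p-group. Then there is a prime q ≠ p such that G has order p · q^e, where e is the multiplicative order of q modulo p, and G has a normal elementary abelian subgroup of order q^e that is a minimal normal subgroup of G. -/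
theorem result {G : Type*} [Group G] [Finite G] {p : ℕ} [Fact p.Prime]
    (hnc : ¬ (∃ H : Subgroup G, (H : Set G) = {g : G | g ^ p = 1})) (hsub : ∀ K : Subgroup G, K ≠ ⊤ → (∃ H : Subgroup ↥K, (H : Set ↥K) = {g : ↥K | g ^ p = 1}))
    (hquo : ∀ (N : Subgroup G) [N.Normal], N ≠ ⊥ → (∃ H : Subgroup (G ⧸ N), (H : Set (G ⧸ N)) = {g : (G ⧸ N) | g ^ p = 1}))
    (hns : ¬ IsSimpleGroup G) (hnp : ¬ IsPGroup p G) :
    ∃ q : ℕ, q.Prime ∧ q ≠ p ∧ Nat.card G = p * q ^ orderOf (q : ZMod p) ∧
      ∃ A : Subgroup G, A.Normal ∧ Nat.card ↥A = q ^ orderOf (q : ZMod p) ∧ Cfsg.IsElementaryAbelian q A ∧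
        ∀ B : Subgroup G, B.Normal → B ≤ A → B = ⊥ ∨ B = A := by
  classical
  have hp : p.Prime := Fact.out
  -- closedness of a proper subgroup, at the level of elements
  have hclosed : ∀ K : Subgroup G, K ≠ ⊤ → ∀ a b, a ∈ K → b ∈ K → a ^ p = 1 → b ^ p = 1 →
      (a * b) ^ p = 1 := by
    intro K hK a b ha hb hap hbp
    obtain ⟨E, hE⟩ := hsub K hK
    have hmem : ∀ x : K, x ∈ E ↔ x ^ p = 1 := fun x => by
      rw [← SetLike.mem_coe, hE]; rfl
    have h := (hmem _).1 (E.mul_mem ((hmem ⟨a, ha⟩).2 (Subtype.ext hap)) ((hmem ⟨b, hb⟩).2 (Subtype.ext hbp)))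
    exact congrArg Subtype.val h
  obtain ⟨a, b, hap, hbp, hab⟩ : ∃ a b : G, a ^ p = 1 ∧ b ^ p = 1 ∧ (a * b) ^ p ≠ 1 := by
    by_contra h
    push Not at h
    exact hnc ⟨{
      carrier := {g : G | g ^ p = 1}
      one_mem' := one_pow _
      mul_mem' := fun {x y} hx hy => h x y hx hy
      inv_mem' := fun {x} hx => by rw [Set.mem_setOf_eq, inv_pow, hx, inv_one] }, rfl⟩
  have hgen : ∀ K : Subgroup G, a ∈ K → b ∈ K → K = ⊤ := fun K ha hb => by
    by_contra h
    exact hab (hclosed K h a b ha hb hap hbp)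
  haveI : Nontrivial G := ⟨⟨(a * b) ^ p, 1, hab⟩⟩
  obtain ⟨N₀, hN₀, hN₀b, hN₀t⟩ : ∃ N : Subgroup G, N.Normal ∧ N ≠ ⊥ ∧ N ≠ ⊤ := by
    by_contra h
    push Not at h
    exact hns ⟨fun N hN => or_iff_not_imp_left.2 fun hb => h N hN hb⟩
  obtain ⟨A, hA, hAb, hAN, hAmin⟩ := CfsgLib.HallClasses.exists_minimal_normal_le N₀ hN₀b
  have hAt : A ≠ ⊤ := fun h => hN₀t (top_le_iff.1 (h ▸ hAN))
  -- the quotient has exponent p
  have hquot : ∀ g : G, g ^ p ∈ A := by
    obtain ⟨E, hE⟩ := hquo A hAb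
    have hmem : ∀ x : G ⧸ A, x ∈ E ↔ x ^ p = 1 := fun x => by rw [← SetLike.mem_coe, hE]; rfl
    have htop : E.comap (QuotientGroup.mk' A) = ⊤ :=
      hgen _ ((hmem _).2 (by rw [← map_pow, hap, map_one])) ((hmem _).2 (by rw [← map_pow, hbp, map_one]))
    intro g
    have h : QuotientGroup.mk' A g ∈ E := (htop.symm ▸ mem_top g : g ∈ E.comap (QuotientGroup.mk' A))
    rw [hmem, ← map_pow] at h
    exact (QuotientGroup.eq_one_iff _).1 h
  have hpA : ¬ p ∣ Nat.card A := by
    intro hdvd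
    obtain ⟨E, hE⟩ := hsub A hAt
    have hmem : ∀ x : A, x ∈ E ↔ x ^ p = 1 := fun x => by rw [← SetLike.mem_coe, hE]; rfl
    haveI : E.Characteristic := characteristic_iff_comap_eq.2 fun φ => Subgroup.ext fun x => by
      rw [mem_comap, hmem, hmem, ← map_pow]
      exact MulEquiv.map_eq_one_iff φ
    obtain ⟨x, hx⟩ := exists_prime_orderOf_dvd_card' p hdvd
    have hE' : E.map A.subtype = A := (hAmin _ inferInstance (map_subtype_le _)).resolve_left fun h => by
      rw [map_eq_bot_iff_of_injective _ A.subtype_injective] at h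
      have h1 : x ∈ E := (hmem x).2 (by rw [← hx]; exact pow_orderOf_eq_one x)
      rw [h, mem_bot] at h1
      rw [h1, orderOf_one] at hx
      exact hp.ne_one hx.symm
    apply hnp
    intro g
    refine ⟨2, ?_⟩
    obtain ⟨y, hy, hy'⟩ : g ^ p ∈ E.map A.subtype := hE'.symm ▸ hquot g
    rw [pow_two, pow_mul, ← hy']
    exact congrArg Subtype.val ((hmem y).1 hy)
  have hcop : ∀ X : Subgroup G, IsPGroup p X → (Nat.card X).Coprime (Nat.card A) := fun X hX => by
    obtain ⟨j, hj⟩ := IsPGroup.iff_card.1 hX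
    rw [hj]
    exact Nat.Coprime.pow_left j (hp.coprime_iff_not_dvd.2 hpA)
  -- proper subgroups `⟨x⟩ ⊔ Q` centralise
  have hcent : ∀ x : G, x ^ p = 1 → ∀ Q : Subgroup G, Q ≤ A → zpowers x ≤ normalizer (Q : Set G) →
      zpowers x ⊔ Q ≠ ⊤ → Q ≤ centralizer (zpowers x : Set G) := by
    intro x hx Q hQA hxQ hne y hy
    rw [zpowers_eq_closure, centralizer_closure, mem_centralizer_iff]
    intro z hz
    rw [Set.mem_singleton_iff] at hz
    subst hz
    have hxm : z ∈ zpowers z ⊔ Q := le_sup_left (b := Q) (mem_zpowers z)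
    have hym : y ∈ zpowers z ⊔ Q := le_sup_right (a := zpowers z) hy
    have hc : (z * y * z⁻¹ * y⁻¹) ^ p = 1 := by
      have h1 : (y * z⁻¹ * y⁻¹) ^ p = 1 := by rw [conj_pow, inv_pow, hx, inv_one, mul_one, mul_inv_cancel]
      have h2 := hclosed _ hne z (y * z⁻¹ * y⁻¹) hxm
        (mul_mem (mul_mem hym (inv_mem hxm)) (inv_mem hym)) hx h1
      rwa [← mul_assoc, ← mul_assoc] at h2
    have hmA : z * y * z⁻¹ * y⁻¹ ∈ A :=
      A.mul_mem (Normal.conj_mem inferInstance y (hQA hy) z) (A.inv_mem (hQA hy))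
    have h1 : z * y * z⁻¹ * y⁻¹ = 1 := by
      have ho : orderOf (⟨_, hmA⟩ : A) ∣ Nat.card A := orderOf_dvd_natCard _
      rw [Subgroup.orderOf_mk] at ho
      rcases (Nat.dvd_prime hp).1 (orderOf_dvd_of_pow_eq_one hc) with h | h
      · exact orderOf_eq_one_iff.1 h
      · exact absurd (h ▸ ho) hpA
    exact mul_inv_eq_iff_eq_mul.1 (mul_inv_eq_one.1 h1)
  have hzp : ∀ x : G, x ^ p = 1 → IsPGroup p (zpowers x) := fun x hx y => by
    obtain ⟨k, hk⟩ := mem_zpowers_iff.1 y.2
    exact ⟨1, Subtype.ext (by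
      show (y : G) ^ p ^ 1 = 1
      rw [pow_one, ← hk, ← zpow_natCast, ← zpow_mul, mul_comm, zpow_mul, zpow_natCast, hx, one_zpow])⟩
  -- one of the generators acts nontrivially
  obtain ⟨x, hx, hxA⟩ : ∃ x : G, x ^ p = 1 ∧ ¬ A ≤ centralizer (zpowers x : Set G) := by
    by_contra h
    push Not at h
    have hCA : ∀ x : G, x ^ p = 1 → ∀ y ∈ A, Commute y x := fun x hx y hy =>
      (mem_centralizer_iff.1 (h x hx hy) x (mem_zpowers x)).symm
    have hAc : A ≤ center G := fun y hy => by
      have htop : centralizer ({y} : Set G) = ⊤ :=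
        hgen _ (mem_centralizer_singleton_iff.2 (hCA a hap y hy).symm)
          (mem_centralizer_singleton_iff.2 (hCA b hbp y hy).symm)
      exact mem_center_iff.2 fun g => mem_centralizer_singleton_iff.1 (htop ▸ mem_top g)
    -- a Sylow subgroup is then normal and contains both generators
    let P : Sylow p G := default
    have hPA : (P : Subgroup G) ⊔ A = ⊤ := by
      have hq : IsPGroup p (G ⧸ A) := fun g => ⟨1, by
        obtain ⟨g, rfl⟩ := QuotientGroup.mk_surjective g
        rw [pow_one, ← QuotientGroup.mk_pow]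
        exact (QuotientGroup.eq_one_iff _).2 (hquot g)⟩
      have h1 : (P : Subgroup G).map (QuotientGroup.mk' A) = ⊤ :=
        ((P.mapSurjective (QuotientGroup.mk'_surjective A)).is_maximal' (hq.to_subgroup ⊤) le_top).symm
      have h2 := congrArg (Subgroup.comap (QuotientGroup.mk' A)) h1
      rwa [comap_map_eq, QuotientGroup.ker_mk', comap_top] at h2
    have hPn : (P : Subgroup G).Normal := by
      rw [← normalizer_eq_top_iff, eq_top_iff, ← hPA, sup_le_iff]
      exact ⟨le_normalizer, hAc.trans (center_le_normalizer _)⟩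
    have hin : ∀ x : G, x ^ p = 1 → x ∈ (P : Subgroup G) := fun x hx => by
      obtain ⟨Q, hQ⟩ := (hzp x hx).exists_le_sylow
      obtain ⟨g, rfl⟩ := MulAction.exists_smul_eq G P Q
      rw [Sylow.smul_eq_of_normal] at hQ
      exact hQ (mem_zpowers x)
    have : (P : Subgroup G) = ⊤ := hgen _ (hin a hap) (hin b hbp)
    exact hnp fun g => by
      obtain ⟨k, hk⟩ := P.2 ⟨g, this ▸ mem_top g⟩
      exact ⟨k, congrArg Subtype.val hk⟩
  obtain ⟨q, hq, hqp, hAq⟩ := CfsgLib.HallClasses.exists_isPGroup_of_sup (hzp x hx) hpA hxA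
    fun Q hQ h1 h2 => hcent x hx Q hQ h1 h2
  have hAel := CfsgLib.HallClasses.isElementaryAbelian_of_minimal hq hAq hAb hAmin
  have hsup : zpowers x ⊔ A = ⊤ := by
    by_contra h
    exact hxA (hcent x hx A le_rfl (by rw [normalizer_eq_top]; exact le_top) h)
  have hxo : Nat.card (zpowers x) = p := by
    rw [Nat.card_zpowers]
    refine ((Nat.dvd_prime hp).1 (orderOf_dvd_of_pow_eq_one hx)).resolve_left fun h => hxA ?_
    rw [orderOf_eq_one_iff.1 h, zpowers_one_eq_bot]
    intro y _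
    rw [mem_centralizer_iff]
    intro z hz
    rw [coe_bot, Set.mem_singleton_iff] at hz
    subst hz
    simp
  have hcompl : IsComplement' (zpowers x) A := by
    refine isComplement'_of_disjoint_and_mul_eq_univ (disjoint_iff.2 (inf_eq_bot_of_coprime (hcop _ (hzp x hx)))) ?_
    rw [← mul_normal, hsup, coe_top]
  have hidx : A.index = p := hxo ▸ hcompl.index_eq_card
  have hna : ¬ IsMulCommutative G := fun h => hxA fun y _ =>
    mem_centralizer_iff.2 fun z _ => h.is_comm.comm z y
  have hcard := CfsgLib.HallClasses.card_irreducible_index_prime hq hqp hna A hAel.1 hAel.2 hidx hAmin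
  refine ⟨q, hq, hqp, ?_, A, hA, hcard, hAel, hAmin⟩
  rw [← card_mul_index A, hcard, hidx, mul_comm]

end Cfsg.Agent.S3873
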