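import Cfsg.Statements.S3888
import Cfsg.Agent.Lib.RankTwoP.Families
import Cfsg.Agent.Lib.PGroups.MaximalClass
import Cfsg.Agent.Lib.PGroups.NormalAbelian

set_option autoImplicit false
open Cfsg

namespace Cfsg.Agent.S3888

open CfsgLib CfsgLib.RankTwoP

universe u

/-- An element outside `C` with small centralizer gives maximal class. -/
theorem lowerCentralSeries_ne_bot {G : Type u} [Group G] [Finite G] {p : ℕ} [hp : Fact p.Prime]
    {E C : Subgroup G} (h : Base p E C) (hidx : C.index = p) (hG : IsPGroup p G) {n : ℕ}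
    (hn : Nat.card G = p ^ n) {x : G} (hx : x ∉ C)
    (hcx : ∀ g ∈ C, g * x = x * g → g ∈ E) :
    2 ≤ n ∧ (⊤ : Subgroup G).lowerCentralSeries (n - 2) ≠ ⊥ := by
  have := h.normal
  set A := Subgroup.centralizer ({x} : Set G) with hA
  have hxA : x ∈ A := Subgroup.mem_centralizer_singleton_iff.2 rfl
  have hAC : A ⊓ C = E ⊓ Subgroup.center G := by
    refine le_antisymm (fun g hg => ?_) (fun g hg => ⟨Subgroup.mem_centralizer_singleton_iff.2
      (Subgroup.mem_center_iff.1 hg.2 x).symm, h.le hg.1⟩)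
    have h1 := Subgroup.mem_centralizer_singleton_iff.1 hg.1
    have hgE := hcx g hg.2 h1
    exact ⟨hgE, mem_center_of_commute h hidx hgE hx h1⟩
  have hcardA : Nat.card A = p ^ 2 := by
    have hCn := h.normalC
    have h1 := Subgroup.relIndex_mul_relIndex ⊥ (A ⊓ C) A bot_le inf_le_left
    rw [Subgroup.relIndex_bot_left, Subgroup.relIndex_bot_left, hAC, card_inf_center h hidx hG,
      ← hAC, Subgroup.inf_relIndex_left] at h1
    rcases hp.out.eq_one_or_self_of_dvd _ (hidx ▸ C.relIndex_dvd_index_of_normal A) with h2 | h2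
    · exact absurd (Subgroup.relIndex_eq_one.1 h2 hxA) hx
    · rw [← h1, h2, pow_two]
  have hself : Subgroup.centralizer (A : Set G) = A := by
    refine le_antisymm (fun g hg => ?_) ?_
    · exact Subgroup.mem_centralizer_singleton_iff.2
        (Subgroup.mem_centralizer_iff.1 hg x hxA).symm
    · have := IsPGroup.isMulCommutative_of_card_eq_prime_sq hcardA
      exact Subgroup.le_centralizer_iff_isMulCommutative.2 this
  have := hG.isNilpotent
  have hcl := PGroups.class_of_self_centralizing_sq n hn A hcardA hself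
  have h2n : 2 ≤ n := by
    have h1 := Subgroup.card_le_card_group A
    rw [hcardA, hn] at h1
    exact (Nat.pow_le_pow_iff_right hp.out.one_lt).1 h1
  refine ⟨h2n, fun hb => ?_⟩
  have := Subgroup.lowerCentralSeries_eq_bot_iff_nilpotencyClass_le.1 hb
  omega


/-- The classification of the p-groups of rank at most two for odd p. Let p be an odd prime and G a group of order p^n with no elementary abelian subgroup of order p³. Then one of the following holds: G is metacyclic; n ≥ 3 and G is generated by elements x, y, z with x^p = y^p = z^(p^(n−2)) = 1, z commuting with x and y, and x⁻¹yx = y z^(p^(n−3)); n ≥ 4 and G is generated by elements x, y, z with x^p = y^p = z^(p^(n−2)) = 1, yz = zy, x⁻¹yx = y z^(s p^(n−3)) and x⁻¹zx = yz, where s = 1 or s is a quadratic non-residue modulo p; or p = 3 and G has maximal class (nilpotency class n − 1). -/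
theorem result {G : Type*} [Group G] [Finite G] {p : ℕ} [Fact p.Prime] (hp : p ≠ 2) (n : ℕ) (hG : Nat.card G = p ^ n)
    (hrk : Cfsg.PRankLE p 2 G) :
    Cfsg.IsMetacyclic G ∨
    (3 ≤ n ∧ ∃ x y z : G, Subgroup.closure ({x, y, z} : Set G) = ⊤ ∧ x ^ p = 1 ∧ y ^ p = 1 ∧ z ^ p ^ (n - 2) = 1 ∧
        x * z = z * x ∧ y * z = z * y ∧ x⁻¹ * y * x = y * z ^ p ^ (n - 3)) ∨
    (4 ≤ n ∧ ∃ (s : ℕ) (x y z : G), (s = 1 ∨ ¬ IsSquare (s : ZMod p)) ∧ Subgroup.closure ({x, y, z} : Set G) = ⊤ ∧
        x ^ p = 1 ∧ y ^ p = 1 ∧ z ^ p ^ (n - 2) = 1 ∧ y * z = z * y ∧ x⁻¹ * y * x = y * z ^ (s * p ^ (n - 3)) ∧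
        x⁻¹ * z * x = y * z) ∨
    (p = 3 ∧ 2 ≤ n ∧ (⊤ : Subgroup G).lowerCentralSeries (n - 2) ≠ ⊥) := by
  have hp' : Fact p.Prime := ‹_›
  have hPG : IsPGroup p G := IsPGroup.of_card hG
  by_cases hcyc : IsCyclic G
  · refine Or.inl ⟨⊥, inferInstance, inferInstance, ?_⟩
    exact isCyclic_of_surjective (QuotientGroup.mk' (⊥ : Subgroup G))
      (QuotientGroup.mk'_surjective _)
  obtain ⟨E, hEn, hEel, hEcard⟩ := PGroups.exists_normal_elemAb_sq hp hPG hcyc
  set C := Subgroup.centralizer (E : Set G) with hC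
  have hb : Base p E C := by
    refine ⟨hEn, fun a ha b hb => ?_, hEel.2, hEcard, rfl, fun g hg hgp => ?_⟩
    · exact congrArg Subtype.val (hEel.1.is_comm.comm ⟨a, ha⟩ ⟨b, hb⟩)
    by_contra hgE
    set A := E ⊔ Subgroup.zpowers g
    have hle : ∀ a ∈ E, a * g = g * a := fun a ha => Subgroup.mem_centralizer_iff.1 hg a ha
    have hEA : E ≤ Subgroup.centralizer (A : Set G) := by
      intro e he
      refine Subgroup.mem_centralizer_iff.2 ?_
      have : A ≤ Subgroup.centralizer {e} := sup_le
        (fun a ha => Subgroup.mem_centralizer_singleton_iff.2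
          (congrArg Subtype.val (hEel.1.is_comm.comm ⟨a, ha⟩ ⟨e, he⟩)))
        (Subgroup.zpowers_le.2 (Subgroup.mem_centralizer_singleton_iff.2 (hle e he).symm))
      exact fun a ha => Subgroup.mem_centralizer_singleton_iff.1 (this ha)
    have hgA : g ∈ Subgroup.centralizer (A : Set G) := by
      refine Subgroup.mem_centralizer_iff.2 ?_
      have : A ≤ Subgroup.centralizer {g} := sup_le
        (fun a ha => Subgroup.mem_centralizer_singleton_iff.2 (hle a ha))
        (Subgroup.zpowers_le.2 (Subgroup.mem_centralizer_singleton_iff.2 rfl))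
      exact fun a ha => Subgroup.mem_centralizer_singleton_iff.1 (this ha)
    have hAc : IsMulCommutative A := Subgroup.le_centralizer_iff_isMulCommutative.1
      (sup_le hEA (Subgroup.zpowers_le.2 hgA))
    have hAexp : ∀ a ∈ A, a ^ p = 1 := by
      intro a ha
      obtain ⟨e, he, w, hw, rfl⟩ := Subgroup.mem_sup_of_normal_left.1 ha
      obtain ⟨i, rfl⟩ := Subgroup.mem_zpowers_iff.1 hw
      rw [(show Commute e g from hle e he).zpow_right i |>.mul_pow, hEel.2 e he, one_mul,
        ← zpow_natCast, ← zpow_mul, mul_comm, zpow_mul, zpow_natCast, hgp, one_zpow]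
    have hlt : E < A := lt_of_le_of_ne le_sup_left fun h =>
      hgE (h ▸ Subgroup.mem_sup_right (Subgroup.mem_zpowers g))
    have h1 := PGroups.prime_mul_card_le hPG hlt
    have h2 := hrk A hAc hAexp
    rw [hEcard] at h1
    have := hp'.out.two_le
    have := pow_pos hp'.out.pos 2
    nlinarith
  by_cases htop : C = ⊤
  · exact Or.inl (isMetacyclic_of_central hp _ rfl hPG E (htop ▸ hb))
  have hidx : C.index = p := by
    have h1 := PGroups.index_centralizer_le hPG 2 E hEn hEcard
    rw [show Nat.choose 2 2 = 1 from rfl, pow_one] at h1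
    obtain ⟨j, hj⟩ := hPG.index C
    rcases j with _ | _ | j
    · exact absurd (Subgroup.index_eq_one.1 (by simpa using hj)) htop
    · simpa using hj
    · rw [← hC, hj] at h1
      have h3 := Nat.pow_lt_pow_right hp'.out.one_lt (show 1 < j + 1 + 1 by omega)
      rw [pow_one] at h3
      omega
  rcases RankTwoP.outcome hp _ rfl hPG E C hb hidx with h | h | h
  · exact Or.inl h
  · obtain ⟨x, hx, hxp, c, hcC, hCc, hd⟩ := h
    exact Or.inr ((families_of_split hb hidx hPG hG hx hxp hcC hCc hd hp).imp id Or.inl)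
  · obtain ⟨h3, -, x, hx, -, hcx⟩ := h
    exact Or.inr (Or.inr (Or.inr ⟨h3, lowerCentralSeries_ne_bot hb hidx hPG hG hx hcx⟩))

end Cfsg.Agent.S3888
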