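import Cfsg.Statements.S3889
import Mathlib


set_option autoImplicit false
open Cfsg

namespace Cfsg.Agent.S3889

/-- A finite abelian group that is the union of a family of proper subgroups any two of which intersect trivially is elementary abelian: its exponent is a prime. -/
theorem result {G : Type*} [CommGroup G] [Finite G] (𝓑 : Set (Subgroup G)) (hprop : ∀ B ∈ 𝓑, B ≠ ⊤)
    (hcov : ∀ g : G, ∃ B ∈ 𝓑, g ∈ B) (hdisj : ∀ B ∈ 𝓑, ∀ C ∈ 𝓑, B ≠ C → B ⊓ C = ⊥) :
    (Monoid.exponent G).Prime := by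
  classical
  have hnt : Nontrivial G := by
    by_contra hn
    rw [not_nontrivial_iff_subsingleton] at hn
    obtain ⟨B, hB, -⟩ := hcov 1
    exact hprop B hB (Subgroup.eq_top_iff' B |>.2 fun g => Subsingleton.elim (1 : G) g ▸ one_mem B)
  -- elements in different members have the same order
  have key : ∀ B ∈ 𝓑, ∀ C ∈ 𝓑, B ≠ C → ∀ x ∈ B, ∀ y ∈ C, x ≠ 1 → y ≠ 1 →
      orderOf x ≤ orderOf y := by
    intro B hB C hC hBC x hx y hy hx1 hy1
    by_contra hlt
    obtain ⟨D, hD, hxyD⟩ := hcov (x * y)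
    have hk : x ^ orderOf y ≠ 1 := pow_ne_one_of_lt_orderOf (orderOf_pos y).ne' (not_le.1 hlt)
    have hmem : x ^ orderOf y ∈ D := by
      have := pow_mem hxyD (orderOf y)
      rwa [mul_pow, pow_orderOf_eq_one, mul_one] at this
    have hDB : D = B := by
      by_contra hne
      have h1 : x ^ orderOf y ∈ D ⊓ B := ⟨hmem, pow_mem hx _⟩
      rw [hdisj D hD B hB hne, Subgroup.mem_bot] at h1
      exact hk h1
    subst hDB
    have hyB : y ∈ D := by simpa using mul_mem (inv_mem hx) hxyD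
    have h1 : y ∈ D ⊓ C := ⟨hyB, hy⟩
    rw [hdisj D hD C hC hBC, Subgroup.mem_bot] at h1
    exact hy1 h1
  have hall : ∀ x : G, x ≠ 1 → ∀ y : G, y ≠ 1 → orderOf x = orderOf y := by
    intro x hx y hy
    obtain ⟨B, hB, hxB⟩ := hcov x
    obtain ⟨C, hC, hyC⟩ := hcov y
    by_cases hBC : B = C
    · obtain ⟨z, hz⟩ : ∃ z, z ∉ B := by
        by_contra hall'
        push Not at hall'
        exact hprop B hB ((Subgroup.eq_top_iff' B).2 hall')
      obtain ⟨D, hD, hzD⟩ := hcov z
      have hDB : B ≠ D := fun h => hz (h ▸ hzD)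
      have hz1 : z ≠ 1 := fun h => hz (h ▸ one_mem B)
      have e1 := le_antisymm (key B hB D hD hDB x hxB z hzD hx hz1) (key D hD B hB (Ne.symm hDB) z hzD x hxB hz1 hx)
      have e2 := le_antisymm (key B hB D hD hDB y (hBC ▸ hyC) z hzD hy hz1)
        (key D hD B hB (Ne.symm hDB) z hzD y (hBC ▸ hyC) hz1 hy)
      exact e1.trans e2.symm
    · exact le_antisymm (key B hB C hC hBC x hxB y hyC hx hy) (key C hC B hB (Ne.symm hBC) y hyC x hxB hy hx)
  obtain ⟨a, ha⟩ := exists_ne (1 : G)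
  set p := (orderOf a).minFac
  have hp : p.Prime := Nat.minFac_prime (fun h => ha (orderOf_eq_one_iff.1 h))
  obtain ⟨k, hk⟩ := Nat.minFac_dvd (orderOf a)
  have hb : orderOf (a ^ k) = p := by
    rw [orderOf_pow_of_dvd ?_ (Dvd.intro_left _ hk.symm)]
    · conv_lhs => rw [hk]
      exact Nat.mul_div_cancel _ (Nat.pos_of_ne_zero (by rintro rfl; simp at hk; exact (orderOf_pos a).ne' (by simpa using hk)))
    · rintro rfl
      exact (orderOf_pos a).ne' (by simpa using hk)
  have hb1 : a ^ k ≠ 1 := fun h => hp.ne_one (by rw [← hb, h, orderOf_one])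
  have : Monoid.exponent G = p := by
    refine Nat.dvd_antisymm (Monoid.exponent_dvd_of_forall_pow_eq_one fun g => ?_) (hb ▸ Monoid.order_dvd_exponent _)
    rcases eq_or_ne g 1 with rfl | hg
    · simp
    · rw [← hb, ← hall g hg _ hb1, pow_orderOf_eq_one]
  rwa [this]

end Cfsg.Agent.S3889
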