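import Cfsg.Statements.S3890
import Cfsg.Agent.Lib.HallClasses.NilpotentCover


set_option autoImplicit false
open Cfsg

namespace Cfsg.Agent.S3890

/-- A cover of a group is a finite set of proper subgroups whose union is the whole group; it is minimal when no cover has fewer members, and nilpotent when all its members are nilpotent. Let G be a finite group with trivial center admitting a nilpotent minimal cover 𝓐, and let P be an abelian Sylow p-subgroup of G that is not normal. Then either P is elementary abelian of order greater than p, or P is a Sylow p-subgroup of some member A of 𝓐, the normalizer N of P is a maximal subgroup of G, N meets each of its conjugates by elements outside N in a subgroup of order prime to p, and the centralizer of P equals A. -/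
theorem result {G : Type*} [Group G] [Finite G] (hZ : Subgroup.center G = ⊥) (𝓐 : Finset (Subgroup G))
    (h𝓐 : ((∀ A ∈ 𝓐, A ≠ ⊤) ∧ (∀ g : G, ∃ A ∈ 𝓐, g ∈ A)) ∧ (∀ 𝓑 : Finset (Subgroup G), (∀ A ∈ 𝓑, A ≠ ⊤) ∧ (∀ g : G, ∃ A ∈ 𝓑, g ∈ A) → 𝓐.card ≤ 𝓑.card) ∧ (∀ A ∈ 𝓐, Group.IsNilpotent ↥A)) {p : ℕ} [Fact p.Prime] (P : Sylow p G) (hab : IsMulCommutative ↥(P : Subgroup G))
    (hnn : ¬ (P : Subgroup G).Normal) :
    (Cfsg.IsElementaryAbelian p (P : Subgroup G) ∧ p < Nat.card ↥(P : Subgroup G)) ∨
    (∃ A ∈ 𝓐, (P : Subgroup G) ≤ A ∧ ¬ p ∣ ((P : Subgroup G).subgroupOf A).index ∧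
      IsCoatom (Subgroup.normalizer ((P : Subgroup G) : Set G)) ∧
      (∀ g : G, g ∉ Subgroup.normalizer ((P : Subgroup G) : Set G) →
        ¬ p ∣ Nat.card ↥(Subgroup.normalizer ((P : Subgroup G) : Set G) ⊓
          (Subgroup.normalizer ((P : Subgroup G) : Set G)).map (MulAut.conj g).toMonoidHom)) ∧
      Subgroup.centralizer ((P : Subgroup G) : Set G) = A) := by
  by_cases hel : Cfsg.IsElementaryAbelian p (P : Subgroup G) ∧ p < Nat.card ↥(P : Subgroup G)
  · exact Or.inl hel
  · have hP : ¬ Cfsg.IsElementaryAbelian p (P : Subgroup G) ∨ IsCyclic ↥(P : Subgroup G) := by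
      by_cases h : Cfsg.IsElementaryAbelian p (P : Subgroup G)
      · right
        obtain ⟨n, hn⟩ := IsPGroup.iff_card.1 P.2
        have hle : p ^ n ≤ p ^ 1 := by
          rw [← hn, pow_one]
          exact not_lt.1 fun hlt => hel ⟨h, hlt⟩
        rcases n with _ | _ | n
        · have := (Nat.card_eq_one_iff_unique.1 (hn.trans (pow_zero p))).1; infer_instance
        · exact isCyclic_of_prime_card (p := p) (by rw [hn, pow_one])
        · exact absurd hle (not_le.2 (Nat.pow_lt_pow_right (Fact.out : p.Prime).one_lt (by omega)))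
      · exact Or.inl h
    obtain ⟨A, hA, hPA, hAC, hco, -, hN⟩ :=
      CfsgLib.HallClasses.NilMinCover.sylow_main h𝓐 hZ P hnn hab hP
    refine Or.inr ⟨A, hA, hPA, fun hd => P.not_dvd_index (hd.trans ?_), hco, hN, hAC⟩
    exact Dvd.intro _ (Subgroup.relIndex_mul_index hPA)

end Cfsg.Agent.S3890
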