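import Cfsg.Statements.S3892
import Cfsg.Agent.Lib.HallClasses.NilpotentCover


set_option autoImplicit false
set_option maxRecDepth 20000
set_option maxHeartbeats 1000000
open Cfsg

namespace Cfsg.Agent.S3892

open Equiv
open scoped Pointwise

/-- A cyclic Sylow subgroup whose centraliser lies in a proper subgroup not normalising it excludes
a nilpotent minimal cover. -/
theorem false_of_witness {G : Type*} [Group G] [Finite G] (hZ : Subgroup.center G = ⊥)
    {𝓐 : Finset (Subgroup G)} (h : CfsgLib.HallClasses.NilMinCover 𝓐) {p : ℕ} [Fact p.Prime]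
    (s : G) (hs : orderOf s = p) (hsq : ¬ p ^ 2 ∣ Nat.card G) (M₀ : Subgroup G) (hM₀ : M₀ ≠ ⊤)
    (hC : Subgroup.centralizer ({s} : Set G) ≤ M₀) (m : G) (hm : m ∈ M₀)
    (hms : m * s * m⁻¹ ∉ Subgroup.zpowers s) : False := by
  have hU : IsPGroup p (Subgroup.zpowers s) :=
    IsPGroup.of_card (n := 1) (by rw [Nat.card_zpowers, hs, pow_one])
  obtain ⟨P, hP⟩ := hU.exists_le_sylow
  obtain ⟨k, hk⟩ := IsPGroup.iff_card.1 P.2
  have hk2 : k < 2 := by
    by_contra hlt
    exact hsq ((pow_dvd_pow p (not_lt.1 hlt)).trans (hk ▸ Subgroup.card_subgroup_dvd_card _))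
  have hPeq : Subgroup.zpowers s = (P : Subgroup G) := by
    refine Subgroup.eq_of_le_of_card_ge hP ?_
    rw [hk, Nat.card_zpowers, hs]
    calc p ^ k ≤ p ^ 1 := Nat.pow_le_pow_right (Fact.out : p.Prime).pos (by omega)
      _ = p := pow_one p
  have hsP : s ∈ (P : Subgroup G) := hPeq.le (Subgroup.mem_zpowers s)
  have hnn : ¬ (P : Subgroup G).Normal := fun hn => hms (hPeq.ge (hn.conj_mem s hsP m))
  have hcyc : IsCyclic ↥(P : Subgroup G) :=
    isCyclic_of_surjective (MulEquiv.subgroupCongr hPeq).toMonoidHom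
      (MulEquiv.subgroupCongr hPeq).surjective
  obtain ⟨A, -, -, hAC, -, huniq, -⟩ :=
    h.sylow_main hZ P hnn hcyc.commutative (Or.inr hcyc)
  obtain ⟨M, hM, hle⟩ := (eq_top_or_exists_le_coatom M₀).resolve_left hM₀
  have hMN := huniq M hM (le_trans (hAC.ge.trans ((Subgroup.centralizer_le
    (Set.singleton_subset_iff.2 hsP)).trans hC)) hle)
  exact hms (hPeq.ge ((Subgroup.mem_normalizer_iff.1 (hMN ▸ hle hm) s).1 hsP))

variable {n : ℕ} {G : Type*} [Group G] [Finite G] (f : G →* Perm (Fin n))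
  (hf : Function.Injective f) (hev : ∀ π : Perm (Fin n), Perm.sign π = 1 → π ∈ f.range)

/-- A three-cycle through three given points. -/
theorem exists_three_cycle (hev : ∀ π : Perm (Fin n), Perm.sign π = 1 → π ∈ f.range)
    {a b c : Fin n} (hab : a ≠ b) (hbc : b ≠ c) (hac : a ≠ c) :
    ∃ t : G, f t a = b ∧ f t c = a ∧ f t b = c ∧ ∀ x, x ≠ a → x ≠ b → x ≠ c → f t x = x := by
  obtain ⟨t, ht⟩ := hev (swap a b * swap b c) (by
    rw [map_mul, Perm.sign_swap hab, Perm.sign_swap hbc]; rfl)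
  refine ⟨t, ?_, ?_, ?_, fun x h1 h2 h3 => ?_⟩ <;> rw [ht]
  · simp [swap_apply_of_ne_of_ne hab hac]
  · simp
  · simp [swap_apply_of_ne_of_ne hac.symm hbc.symm]
  · simp [swap_apply_of_ne_of_ne h1 h2, swap_apply_of_ne_of_ne h2 h3]

include hf in
theorem center_eq_bot (hev : ∀ π : Perm (Fin n), Perm.sign π = 1 → π ∈ f.range) (hn : 4 ≤ n) :
    Subgroup.center G = ⊥ := by
  rw [Subgroup.eq_bot_iff_forall]
  intro z hz
  apply hf
  rw [map_one]
  ext a
  by_contra hne
  set b := f z a with hb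
  have hab : a ≠ b := fun h => hne (by rw [← h]; rfl)
  have hcard : 2 ≤ ((Finset.univ : Finset (Fin n)) \ {a, b}).card := by
    rw [Finset.card_sdiff, Finset.card_univ, Fintype.card_fin]
    have : (({a, b} : Finset (Fin n)) ∩ Finset.univ).card ≤ 2 := by
      rw [Finset.inter_univ]; exact Finset.card_le_two
    omega
  obtain ⟨c, hc, d, hd, hcd⟩ := Finset.one_lt_card.1 hcard
  simp only [Finset.mem_sdiff, Finset.mem_univ, true_and, Finset.mem_insert,
    Finset.mem_singleton, not_or] at hc hd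
  obtain ⟨t, ht1, -, -, htfix⟩ := exists_three_cycle f hev (Ne.symm hc.1) hcd (Ne.symm hd.1)
  have h1 : f (z * t) a = f (t * z) a := by rw [Subgroup.mem_center_iff.1 hz t]
  rw [map_mul, map_mul, Perm.mul_apply, Perm.mul_apply, ht1, ← hb,
    htfix b hab.symm (Ne.symm hc.2) (Ne.symm hd.2)] at h1
  exact hc.1 ((f z).injective (h1.trans hb))

/-- Some three-cycle on the support of a cycle of prime order at least five fails to normalise it. -/
theorem exists_not_normalizing (hev : ∀ π : Perm (Fin n), Perm.sign π = 1 → π ∈ f.range)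
    {q : ℕ} [Fact q.Prime] (hq5 : 5 ≤ q) (s : G) (hcyc : (f s).IsCycle)
    (hsupp : (f s).support.card = q) :
    ∃ m : G, (∀ x, x ∈ (f s).support ↔ f m x ∈ (f s).support) ∧
      Perm.sign (f m) = 1 ∧ f (m * s * m⁻¹) ∉ Subgroup.zpowers (f s) := by
  obtain ⟨a, ha⟩ : (f s).support.Nonempty := Finset.card_pos.1 (by omega)
  set b := f s a with hb
  have hbS : b ∈ (f s).support := Perm.apply_mem_support.2 ha
  have hab : a ≠ b := fun h => Perm.mem_support.1 ha h.symm
  have hcard : 3 ≤ ((f s).support \ {a, b}).card := by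
    have h1 : ({a, b} : Finset (Fin n)).card = 2 := Finset.card_pair hab
    have h2 := Finset.le_card_sdiff ({a, b} : Finset (Fin n)) (f s).support
    omega
  obtain ⟨w, hw, hwb⟩ : ∃ w ∈ (f s).support \ {a, b}, w ≠ f s b :=
    Finset.exists_mem_ne (by omega) _
  obtain ⟨u, hu, v, hv, huv⟩ : ∃ u ∈ ((f s).support \ {a, b}).erase w,
      ∃ v ∈ ((f s).support \ {a, b}).erase w, u ≠ v := by
    refine Finset.one_lt_card.1 ?_
    have := Finset.card_erase_add_one hw
    omega
  obtain ⟨hwu, hu⟩ : w ≠ u ∧ u ∈ (f s).support \ {a, b} :=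
    ⟨fun h => (Finset.mem_erase.1 hu).1 h.symm, (Finset.mem_erase.1 hu).2⟩
  obtain ⟨hwv, hv⟩ : w ≠ v ∧ v ∈ (f s).support \ {a, b} :=
    ⟨fun h => (Finset.mem_erase.1 hv).1 h.symm, (Finset.mem_erase.1 hv).2⟩
  simp only [Finset.mem_sdiff, Finset.mem_insert, Finset.mem_singleton, not_or] at hu hv hw
  obtain ⟨t, ht1, ht2, ht3, htfix⟩ :=
    exists_three_cycle f hev hab (Ne.symm hw.2.2) (Ne.symm hw.2.1)
  have hsign : Perm.sign (f t) = 1 := by
    have : f t = swap a b * swap b w := by
      ext x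
      rcases eq_or_ne x a with rfl | h1
      · rw [ht1]; simp [swap_apply_of_ne_of_ne hab (Ne.symm hw.2.1)]
      rcases eq_or_ne x b with rfl | h2
      · rw [ht3]; simp [swap_apply_of_ne_of_ne hw.2.1 hw.2.2]
      rcases eq_or_ne x w with rfl | h3
      · rw [ht2]; simp
      rw [htfix x h1 h2 h3]; simp [swap_apply_of_ne_of_ne h1 h2, swap_apply_of_ne_of_ne h2 h3]
    rw [this, map_mul, Perm.sign_swap hab, Perm.sign_swap (Ne.symm hw.2.2)]; rfl
  refine ⟨t, fun x => ?_, hsign, fun hmem => ?_⟩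
  · rcases eq_or_ne x a with rfl | h1
    · rw [ht1]; exact iff_of_true ha hbS
    rcases eq_or_ne x b with rfl | h2
    · rw [ht3]; exact iff_of_true hbS hw.1
    rcases eq_or_ne x w with rfl | h3
    · rw [ht2]; exact iff_of_true hw.1 ha
    rw [htfix x h1 h2 h3]
  · obtain ⟨k, hk⟩ := Subgroup.mem_zpowers_iff.1 hmem
    -- a power of the cycle sends `u` to `v`
    obtain ⟨i, hi⟩ := hcyc.exists_pow_eq (Perm.mem_support.1 hu.1) (Perm.mem_support.1 hv.1)
    have hfu : f t⁻¹ u = u := by
      rw [map_inv, Perm.inv_eq_iff_eq, htfix u hu.2.1 hu.2.2 hwu.symm]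
    have hord : orderOf (f s) = q := hcyc.orderOf.trans hsupp
    have key : f (t * s * t⁻¹) ^ i = f s ^ i := by
      obtain ⟨j, hj⟩ : ∃ j : ℕ, f s ^ j = f (t * s * t⁻¹) ^ i * (f s ^ i)⁻¹ := by
        have h : f (t * s * t⁻¹) ^ i * (f s ^ i)⁻¹ ∈ Subgroup.zpowers (f s) :=
          mul_mem (pow_mem hmem i) (inv_mem (pow_mem (Subgroup.mem_zpowers _) i))
        exact Submonoid.mem_powers_iff _ _ |>.1 (mem_powers_iff_mem_zpowers.2 h)
      have h1 : (f (t * s * t⁻¹) ^ i) u = v := by
        rw [← map_pow, conj_pow, map_mul, map_mul, Perm.mul_apply, Perm.mul_apply, hfu, map_pow,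
          hi, htfix v hv.2.1 hv.2.2 hwv.symm]
      have h2 : (f s ^ j) v = v := by
        rw [hj, Perm.mul_apply, Perm.inv_eq_iff_eq.2 hi.symm, h1]
      have h3 : f s ^ j = 1 := (hcyc.pow_eq_one_iff' (Perm.mem_support.1 hv.1)).2 h2
      exact mul_inv_eq_one.1 (hj.symm.trans h3)
    have hiq : (q : ℕ).Coprime i := by
      refine (Nat.Prime.coprime_iff_not_dvd Fact.out).2 fun hd => huv ?_
      rw [← hi, orderOf_dvd_iff_pow_eq_one.1 (hord.symm ▸ hd), Perm.one_apply]
    have heq : f (t * s * t⁻¹) = f s := by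
      have ho : orderOf (f (t * s * t⁻¹)) = q := by
        rw [map_mul, map_mul, map_inv]
        exact (orderOf_injective (MulAut.conj (f t)).toMonoidHom
          (MulAut.conj (f t)).injective _).trans hord
      obtain ⟨e, he, hq'⟩ := Nat.chineseRemainder (Nat.Coprime.symm hiq) 0 1
      obtain ⟨l, rfl⟩ := Nat.modEq_zero_iff_dvd.1 he
      calc f (t * s * t⁻¹) = f (t * s * t⁻¹) ^ (i * l) := by
            nth_rw 1 [← pow_one (f (t * s * t⁻¹))]
            rw [pow_eq_pow_iff_modEq, ho]; exact hq'.symm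
        _ = f s ^ (i * l) := by rw [pow_mul, key, ← pow_mul]
        _ = f s ^ 1 := by rw [pow_eq_pow_iff_modEq, hord]; exact hq'
        _ = f s := pow_one _
    have hcomm : f t * f s = f s * f t := by
      rw [map_mul, map_mul, map_inv, mul_inv_eq_iff_eq_mul] at heq
      exact heq
    have h := congrArg (fun z : Perm (Fin n) => z a) hcomm
    simp only [Perm.mul_apply, ht1, ← hb, ht3] at h
    exact hwb h

/-- Membership in a cyclic group tested on finitely many exponents. -/
theorem notMem_zpowers {H : Type*} [Group H] [Finite H] (s x : H) (p : ℕ) (hp : orderOf s = p)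
    (h : ∀ i : Fin p, s ^ (i : ℕ) ≠ x) : x ∉ Subgroup.zpowers s := by
  intro hx
  obtain ⟨k, hk⟩ := (Submonoid.mem_powers_iff _ _).1 (mem_powers_iff_mem_zpowers.2 hx)
  exact h ⟨k % p, Nat.mod_lt _ (hp ▸ orderOf_pos s)⟩ (by
    show s ^ (k % p) = x
    rw [← hp, pow_mod_orderOf, hk])

/-- The general case. -/
theorem false_of_large (hev : ∀ π : Perm (Fin n), Perm.sign π = 1 → π ∈ f.range)
    (hf : Function.Injective f) {q : ℕ} [Fact q.Prime] (hq5 : 5 ≤ q) (hqn : q < n) (hn2 : n < 2 * q)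
    {𝓐 : Finset (Subgroup G)} (h : CfsgLib.HallClasses.NilMinCover 𝓐) : False := by
  obtain ⟨σ, hσ⟩ := (Perm.exists_with_cycleType_iff (Fin n) (m := {q})).2
    ⟨by simp; omega, by simp; omega⟩
  have hcyc : σ.IsCycle := Perm.card_cycleType_eq_one.1 (by rw [hσ]; rfl)
  have hsupp : σ.support.card = q := by rw [← Perm.sum_cycleType, hσ]; simp
  obtain ⟨s, hs⟩ := hev σ (by
    rw [hcyc.sign, hsupp, ((Fact.out : q.Prime).odd_of_ne_two (by omega)).neg_one_pow, neg_neg])
  subst hs
  have hso : orderOf s = q := by rw [← orderOf_injective f hf, hcyc.orderOf, hsupp]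
  obtain ⟨m, hmS, -, hm⟩ := exists_not_normalizing f hev hq5 s hcyc hsupp
  let M₀ : Subgroup G :=
    (MulAction.stabilizer (Perm (Fin n)) (↑(f s).support : Set (Fin n))).comap f
  have hM₀mem : ∀ g : G, g ∈ M₀ ↔ ∀ x, f g x ∈ (f s).support ↔ x ∈ (f s).support := by
    intro g
    show f g ∈ MulAction.stabilizer _ _ ↔ _
    rw [MulAction.mem_stabilizer_set]
    simp [Perm.smul_def]
  have hqd : ¬ q ^ 2 ∣ Nat.card G := by
    intro hd
    have h1 := hd.trans (Subgroup.card_dvd_of_injective f hf)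
    rw [Nat.card_perm, Nat.card_fin, (Fact.out : q.Prime).pow_dvd_iff_le_factorization
      (Nat.factorial_ne_zero _)] at h1
    rw [Nat.factorization_factorial (b := 2) Fact.out (by
      exact Nat.log_lt_of_lt_pow (by omega) (by nlinarith))] at h1
    simp [Nat.div_eq_of_lt_le (show 1 * q ≤ n by omega) (show n < (1 + 1) * q by omega)] at h1
  refine false_of_witness (center_eq_bot f hf hev (by omega)) h s hso hqd M₀ ?_ ?_ m
    ((hM₀mem m).2 fun x => (hmS x).symm) ?_
  · intro htop
    obtain ⟨e, he⟩ : ((f s).supportᶜ).Nonempty :=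
      Finset.card_pos.1 (by rw [Finset.card_compl, Fintype.card_fin, hsupp]; omega)
    rw [Finset.mem_compl] at he
    obtain ⟨a, ha, c, hc, hac⟩ := Finset.one_lt_card.1 (by omega : 1 < (f s).support.card)
    obtain ⟨t, ht1, -, -, -⟩ := exists_three_cycle f hev (a := a) (b := e) (c := c)
      (fun h => he (h ▸ ha)) (fun h => he (h ▸ hc)) hac
    exact he (ht1 ▸ ((hM₀mem t).1 (htop ▸ Subgroup.mem_top t) a).2 ha)
  · intro g hg
    rw [Subgroup.mem_centralizer_singleton_iff] at hg
    refine (hM₀mem g).2 fun x => ?_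
    have hc : f g * f s = f s * f g := by rw [← map_mul, hg, map_mul]
    have hx := congrArg (fun z : Perm (Fin n) => z x) hc
    simp only [Perm.mul_apply] at hx
    rw [Perm.mem_support, Perm.mem_support, ← hx, (f g).injective.ne_iff]
  · intro hmem
    apply hm
    obtain ⟨k, hk⟩ := Subgroup.mem_zpowers_iff.1 hmem
    exact Subgroup.mem_zpowers_iff.2 ⟨k, by rw [← map_zpow, hk]⟩


/-- A cover of a group is a finite set of proper subgroups whose union is the whole group; it is minimal when no cover has fewer members, and nilpotent when all its members are nilpotent. The alternating groups of degree at least 5 and the symmetric groups of degree at least 4 have no nilpotent minimal cover. -/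
theorem result (n : ℕ) :
    (5 ≤ n → ¬ ∃ 𝓐 : Finset (Subgroup ↥(alternatingGroup (Fin n))), ((∀ A ∈ 𝓐, A ≠ ⊤) ∧ (∀ g : ↥(alternatingGroup (Fin n)), ∃ A ∈ 𝓐, g ∈ A)) ∧ (∀ 𝓑 : Finset (Subgroup ↥(alternatingGroup (Fin n))), (∀ A ∈ 𝓑, A ≠ ⊤) ∧ (∀ g : ↥(alternatingGroup (Fin n)), ∃ A ∈ 𝓑, g ∈ A) → 𝓐.card ≤ 𝓑.card) ∧ (∀ A ∈ 𝓐, Group.IsNilpotent ↥A)) ∧
    (4 ≤ n → ¬ ∃ 𝓐 : Finset (Subgroup (Equiv.Perm (Fin n))), ((∀ A ∈ 𝓐, A ≠ ⊤) ∧ (∀ g : (Equiv.Perm (Fin n)), ∃ A ∈ 𝓐, g ∈ A)) ∧ (∀ 𝓑 : Finset (Subgroup (Equiv.Perm (Fin n))), (∀ A ∈ 𝓑, A ≠ ⊤) ∧ (∀ g : (Equiv.Perm (Fin n)), ∃ A ∈ 𝓑, g ∈ A) → 𝓐.card ≤ 𝓑.card) ∧ (∀ A ∈ 𝓐, Group.IsNilpotent ↥A)) := by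
  haveI h2 : Fact (Nat.Prime 3) := ⟨Nat.prime_three⟩
  haveI h5 : Fact (Nat.Prime 5) := ⟨Nat.prime_five⟩
  have hlarge : 6 ≤ n → ∃ q : ℕ, q.Prime ∧ 5 ≤ q ∧ q < n ∧ n < 2 * q := by
    intro hn
    obtain ⟨q, hq, h1, h2⟩ := Nat.exists_prime_lt_and_le_two_mul (n / 2) (by omega)
    have hq5 : 5 ≤ q := by
      have : q ≠ 4 := fun h => absurd (h ▸ hq) (by norm_num)
      omega
    refine ⟨q, hq, hq5, ?_, by omega⟩
    by_contra hle
    have hqn : q = n := by omega
    subst hqn
    have := hq.eq_two_or_odd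
    omega
  constructor
  · rintro hn ⟨𝓐, h⟩
    have hev : ∀ π : Equiv.Perm (Fin n), Equiv.Perm.sign π = 1 →
        π ∈ (alternatingGroup (Fin n)).subtype.range := fun π h => by
      rw [Subgroup.range_subtype]; exact h
    rcases Nat.lt_or_ge n 6 with h6 | h6
    · obtain rfl : n = 5 := by omega
      let s : alternatingGroup (Fin 5) := ⟨c[0, 1, 2], Equiv.Perm.mem_alternatingGroup.2 (by decide)⟩
      let m : alternatingGroup (Fin 5) := ⟨c[0, 3] * c[1, 2], Equiv.Perm.mem_alternatingGroup.2 (by decide)⟩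
      refine false_of_witness (center_eq_bot _ Subtype.val_injective hev (by omega)) h (p := 3) s
        (orderOf_eq_prime (by decide) (by decide))
        (by rw [nat_card_alternatingGroup, Nat.card_fin]; decide)
        ((MulAction.stabilizer (Equiv.Perm (Fin 5)) (4 : Fin 5)).comap
          (alternatingGroup (Fin 5)).subtype) ?_ ?_ m ?_ ?_
      · intro htop
        have := htop ▸ Subgroup.mem_top (⟨c[0, 4, 1], Equiv.Perm.mem_alternatingGroup.2 (by decide)⟩ : alternatingGroup (Fin 5))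
        exact absurd (MulAction.mem_stabilizer_iff.1 this) (by decide)
      · intro g hg
        rw [Subgroup.mem_centralizer_singleton_iff] at hg
        have key : ∀ g : alternatingGroup (Fin 5), g * s = s * g → (g : Equiv.Perm (Fin 5)) 4 = 4 := by
          decide +revert
        exact MulAction.mem_stabilizer_iff.2 (key g hg)
      · exact MulAction.mem_stabilizer_iff.2 (by decide)
      · exact notMem_zpowers _ _ 3 (orderOf_eq_prime (by decide) (by decide)) (by decide)
    · obtain ⟨q, hq, hq5, hqn, hn2⟩ := hlarge h6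
      haveI := Fact.mk hq
      exact false_of_large _ hev Subtype.val_injective hq5 hqn hn2 h
  · rintro hn ⟨𝓐, h⟩
    have hev : ∀ π : Equiv.Perm (Fin n), Equiv.Perm.sign π = 1 →
        π ∈ (MonoidHom.id (Equiv.Perm (Fin n))).range := fun π _ => ⟨π, rfl⟩
    rcases Nat.lt_or_ge n 6 with h6 | h6
    · obtain ⟨hc, hsub⟩ : Subgroup.center (Equiv.Perm (Fin n)) = ⊥ ∧ (n = 4 ∨ n = 5) :=
        ⟨center_eq_bot _ Function.injective_id hev (by omega), by omega⟩
      rcases hsub with rfl | rfl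
      · refine false_of_witness hc h (p := 3) c[0, 1, 2]
          (orderOf_eq_prime (by decide) (by decide))
          (by rw [Nat.card_perm, Nat.card_fin]; decide)
          (alternatingGroup (Fin 4)) ?_ ?_ (c[0, 3] * c[1, 2]) (Equiv.Perm.mem_alternatingGroup.2 (by decide)) ?_
        · intro htop
          have h01 : (c[0, 1] : Equiv.Perm (Fin 4)) ∈ alternatingGroup (Fin 4) := by
            rw [htop]; trivial
          exact absurd (Equiv.Perm.mem_alternatingGroup.1 h01) (by decide)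
        · intro g hg
          rw [Subgroup.mem_centralizer_singleton_iff] at hg
          rw [Equiv.Perm.mem_alternatingGroup]
          revert g
          decide
        · exact notMem_zpowers _ _ 3 (orderOf_eq_prime (by decide) (by decide)) (by decide)
      · refine false_of_witness hc h (p := 5) c[0, 1, 2, 3, 4]
          (orderOf_eq_prime (by decide) (by decide))
          (by rw [Nat.card_perm, Nat.card_fin]; decide)
          (alternatingGroup (Fin 5)) ?_ ?_ c[0, 1, 2] (Equiv.Perm.mem_alternatingGroup.2 (by decide)) ?_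
        · intro htop
          have h01 : (c[0, 1] : Equiv.Perm (Fin 5)) ∈ alternatingGroup (Fin 5) := by
            rw [htop]; trivial
          exact absurd (Equiv.Perm.mem_alternatingGroup.1 h01) (by decide)
        · intro g hg
          rw [Subgroup.mem_centralizer_singleton_iff] at hg
          rw [Equiv.Perm.mem_alternatingGroup]
          revert g
          decide
        · exact notMem_zpowers _ _ 5 (orderOf_eq_prime (by decide) (by decide)) (by decide)
    · obtain ⟨q, hq, hq5, hqn, hn2⟩ := hlarge h6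
      haveI := Fact.mk hq
      exact false_of_large _ hev Function.injective_id hq5 hqn hn2 h

end Cfsg.Agent.S3892
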