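import Cfsg.Statements.S3893
import Cfsg.Agent.Lib.Suzuki.Centralizers
import Cfsg.Agent.Lib.Suzuki.LieBridge
import Cfsg.Agent.Lib.HallClasses.NilpotentCover

set_option autoImplicit false
open Cfsg

namespace Cfsg.Agent.S3893

/-- A cover of a group is a finite set of proper subgroups whose union is the whole group; it is minimal when no cover has fewer members, and nilpotent when all its members are nilpotent. The Suzuki groups Sz(q), q = 2^(2m+1) with m ≥ 1, have no nilpotent minimal cover. -/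
theorem result {F : Type*} [Field F] [Fintype F] (m : ℕ) (hm : 1 ≤ m) (hF : Fintype.card F = 2 ^ (2 * m + 1)) :
    ¬ ∃ 𝓐 : Finset (Subgroup ↥(Cfsg.Lie.Sz F (2 ^ (m + 1)))), ((∀ A ∈ 𝓐, A ≠ ⊤) ∧ (∀ g : ↥(Cfsg.Lie.Sz F (2 ^ (m + 1))), ∃ A ∈ 𝓐, g ∈ A)) ∧ (∀ 𝓑 : Finset (Subgroup ↥(Cfsg.Lie.Sz F (2 ^ (m + 1)))), (∀ A ∈ 𝓑, A ≠ ⊤) ∧ (∀ g : ↥(Cfsg.Lie.Sz F (2 ^ (m + 1))), ∃ A ∈ 𝓑, g ∈ A) → 𝓐.card ≤ 𝓑.card) ∧ (∀ A ∈ 𝓐, Group.IsNilpotent ↥A) := by
  classical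
  rintro ⟨𝓐, hA⟩
  have h : CfsgLib.Suzuki.Hyp F m := .of_fintype hm hF
  have := h.finite_group
  have hN : CfsgLib.HallClasses.NilMinCover 𝓐 := hA
  set ε := h.lieEquiv with hε
  have : Finite (Cfsg.Lie.Sz F (2 ^ (m + 1))) := Finite.of_equiv _ ε.toEquiv
  have hq : 1 < 2 ^ (2 * m + 1) - 1 := by
    have : 2 ^ 3 ≤ 2 ^ (2 * m + 1) := Nat.pow_le_pow_right (by norm_num) (by omega)
    omega
  have hp : (2 ^ (2 * m + 1) - 1).minFac.Prime := Nat.minFac_prime (by omega)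
  generalize hpd : (2 ^ (2 * m + 1) - 1).minFac = p at hp
  have hpdvd : p ∣ Nat.card Fˣ := by rw [h.card_units, ← hpd]; exact Nat.minFac_dvd _
  have : Fact p.Prime := ⟨hp⟩
  have hp2 : p ≠ 2 := fun e => h.card_units_odd.not_two_dvd_nat (e ▸ hpdvd)
  obtain ⟨t, hto⟩ := exists_prime_orderOf_dvd_card' (G := Fˣ) p hpdvd
  have ht : t ≠ 1 := fun e => hp.one_lt.ne' (hto.symm.trans (orderOf_eq_one_iff.2 e))
  have hdo : orderOf (h.d t) = p := by
    rw [← CfsgLib.Suzuki.Hyp.dG_apply, orderOf_injective h.dG (fun a b e => h.d_injective e), hto]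
  have hab : ∀ Q : Subgroup (Cfsg.Lie.Sz F (2 ^ (m + 1))), IsPGroup p Q → IsMulCommutative Q := by
    intro Q hQ
    have := h.isCyclic_of_odd_pGroup hp2 (Q.map ε.symm.toMonoidHom) (hQ.map _)
    have : IsCyclic Q :=
      isCyclic_of_injective (Q.equivMapOfInjective ε.symm.toMonoidHom ε.symm.injective).toMonoidHom (MulEquiv.injective _)
    let inst : CommGroup Q := IsCyclic.commGroup
    exact ⟨⟨inst.mul_comm⟩⟩
  -- a member containing a conjugate of the torus element lies in the corresponding centraliser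
  have key : ∀ k : Cfsg.Sz F m, ∃ A ∈ 𝓐, ε (k * h.d t * k⁻¹) ∈ A ∧
      ∀ a ∈ A, k⁻¹ * ε.symm a * k ∈ h.H := by
    intro k
    obtain ⟨A, hAA, hmem⟩ := hN.1.2 (ε (k * h.d t * k⁻¹))
    refine ⟨A, hAA, hmem, fun a ha => ?_⟩
    have hle := hN.le_centralizer hab hAA hmem ⟨1, by
      rw [pow_one, MulEquiv.orderOf_eq, show k * h.d t * k⁻¹ = MulAut.conj k (h.d t) by simp, MulEquiv.orderOf_eq, hdo]⟩ ha
    rw [Subgroup.mem_centralizer_singleton_iff] at hle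
    rw [← h.centralizer_d ht, Subgroup.mem_centralizer_singleton_iff]
    have hle' := congrArg ε.symm hle
    simp only [map_mul, MulEquiv.symm_apply_apply] at hle'
    calc k⁻¹ * ε.symm a * k * h.d t = k⁻¹ * (ε.symm a * (k * h.d t * k⁻¹)) * k := by group
      _ = k⁻¹ * (k * h.d t * k⁻¹ * ε.symm a) * k := by rw [hle']
      _ = h.d t * (k⁻¹ * ε.symm a * k) := by group
  obtain ⟨A, hAA, hmemA, hAle⟩ := key 1
  obtain ⟨B, hBA, hmemB, hBle⟩ := key (h.u 1 0)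
  set M : Subgroup (Cfsg.Lie.Sz F (2 ^ (m + 1))) :=
    (MulAction.stabilizer (Cfsg.Sz F m) (CfsgLib.Suzuki.oInf F m)).comap ε.symm.toMonoidHom with hM
  have hMmem : ∀ a, a ∈ M ↔ ε.symm a • CfsgLib.Suzuki.oInf F m = CfsgLib.Suzuki.oInf F m := fun _ => Iff.rfl
  have hMtop : M ≠ ⊤ := by
    intro e
    have := (hMmem (ε h.w)).1 (e.ge (Subgroup.mem_top _))
    rw [MulEquiv.symm_apply_apply, h.w_smul_inf] at this
    exact CfsgLib.Suzuki.oPt_ne_oInf _ _ this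
  have hAM : A ≤ M := by
    intro a ha
    obtain ⟨s, hs⟩ := hAle a ha
    rw [CfsgLib.Suzuki.Hyp.dG_apply, inv_one, one_mul, mul_one] at hs
    rw [hMmem, ← hs]
    exact h.d_smul_inf s
  have hBM : B ≤ M := by
    intro a ha
    rw [hMmem]
    have := h.fix_of_conj_mem_H (hBle a ha)
    rwa [h.u_smul_inf] at this
  have hAB := hN.eq_of_le hAA hBA hMtop hAM hBM
  obtain ⟨s, hs⟩ := hAle _ (hAB ▸ hmemB)
  rw [CfsgLib.Suzuki.Hyp.dG_apply, inv_one, one_mul, mul_one, MulEquiv.symm_apply_apply] at hs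
  have hs1 : s ≠ 1 := fun e => h.d_ne_one ht (conj_eq_one_iff.1 (hs.symm.trans (e ▸ h.d_one)))
  have hfix : h.d s • CfsgLib.Suzuki.oPt m (1 : F) 0 = CfsgLib.Suzuki.oPt m (1 : F) 0 := by
    have h1 : h.u 1 0 • CfsgLib.Suzuki.oPt m (0 : F) 0 = CfsgLib.Suzuki.oPt m (1 : F) 0 := h.u_smul_zero 1 0
    rw [← h1, smul_smul, hs, mul_smul, mul_smul, mul_smul, inv_smul_smul, h.d_smul_zero]
  rcases h.d_fix_cases hs1 hfix with e | e
  · exact CfsgLib.Suzuki.oPt_ne_oInf _ _ e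
  · exact one_ne_zero (CfsgLib.Suzuki.oPt_injective e).1

end Cfsg.Agent.S3893
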