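import Cfsg.Statements.S3894
import Cfsg.Agent.Lib.HallClasses.NilpotentCover


set_option autoImplicit false
open Cfsg

namespace Cfsg.Agent.S3894

open Matrix

variable {F : Type*} [Field F] [Fintype F] {n : ℕ}

/-- The subgroup fixing the line of `v`. -/
def lineStab (v : Fin n → F) : Subgroup (GL (Fin n) F) where
  carrier := {g | ∃ c : F, c ≠ 0 ∧ (g : Matrix (Fin n) (Fin n) F) *ᵥ v = c • v}
  one_mem' := ⟨1, one_ne_zero, by simp⟩
  mul_mem' := by
    rintro g h ⟨c, hc, hg⟩ ⟨d, hd, hh⟩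
    exact ⟨d * c, mul_ne_zero hd hc, by
      rw [Units.val_mul, ← mulVec_mulVec, hh, mulVec_smul, hg, smul_smul]⟩
  inv_mem' := by
    rintro g ⟨c, hc, hg⟩
    refine ⟨c⁻¹, inv_ne_zero hc, ?_⟩
    have h := congrArg (fun x => c⁻¹ • ((g⁻¹ : GL (Fin n) F) : Matrix (Fin n) (Fin n) F) *ᵥ x) hg
    simp only [mulVec_mulVec, ← Units.val_mul, inv_mul_cancel, Units.val_one, one_mulVec,
      mulVec_smul, smul_smul, inv_mul_cancel₀ hc, one_smul] at h
    exact h.symm

/-- `g` has no eigenvector in the base field. -/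
def NoEig (g : GL (Fin n) F) : Prop := ∀ v : Fin n → F, v ≠ 0 → g ∉ lineStab v

/-- A `p`-element whose fixed vectors, on either side, form a single line. -/
structure RegU (p : ℕ) (u : GL (Fin n) F) (v w : Fin n → F) : Prop where
  pow : ∃ k : ℕ, u ^ p ^ k = 1
  v_ne : v ≠ 0
  w_ne : w ≠ 0
  fix : (u : Matrix (Fin n) (Fin n) F) *ᵥ v = v
  uniq : ∀ x, (u : Matrix (Fin n) (Fin n) F) *ᵥ x = x → ∃ c : F, x = c • v
  lfix : w ᵥ* (u : Matrix (Fin n) (Fin n) F) = w
  luniq : ∀ y, y ᵥ* (u : Matrix (Fin n) (Fin n) F) = y → ∃ c : F, y = c • w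

theorem val_mul_inv (s : GL (Fin n) F) :
    (s : Matrix (Fin n) (Fin n) F) * (↑(s⁻¹ : GL (Fin n) F) : Matrix (Fin n) (Fin n) F) = 1 := by
  rw [← Units.val_mul, mul_inv_cancel, Units.val_one]

theorem val_inv_mul (s : GL (Fin n) F) :
    (↑(s⁻¹ : GL (Fin n) F) : Matrix (Fin n) (Fin n) F) * (s : Matrix (Fin n) (Fin n) F) = 1 := by
  rw [← Units.val_mul, inv_mul_cancel, Units.val_one]

theorem RegU.conj {p : ℕ} {u : GL (Fin n) F} {v w : Fin n → F} (h : RegU p u v w)
    (s : GL (Fin n) F) :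
    RegU p (s * u * s⁻¹) ((s : Matrix (Fin n) (Fin n) F) *ᵥ v)
      (w ᵥ* ((s⁻¹ : GL (Fin n) F) : Matrix (Fin n) (Fin n) F)) := by
  refine ⟨?_, ?_, ?_, ?_, ?_, ?_, ?_⟩
  · obtain ⟨k, hk⟩ := h.pow
    exact ⟨k, by rw [conj_pow, hk]; group⟩
  · intro h0
    apply h.v_ne
    rw [← one_mulVec v, ← val_inv_mul s, ← mulVec_mulVec, h0, mulVec_zero]
  · intro h0
    apply h.w_ne
    rw [← vecMul_one w, ← val_inv_mul s, ← vecMul_vecMul, h0, zero_vecMul]
  · rw [mulVec_mulVec, ← Units.val_mul, inv_mul_cancel_right, Units.val_mul, ← mulVec_mulVec, h.fix]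
  · intro x hx
    obtain ⟨c, hc⟩ := h.uniq (((s⁻¹ : GL (Fin n) F) : Matrix (Fin n) (Fin n) F) *ᵥ x) (by
      conv_rhs => rw [← hx]
      rw [mulVec_mulVec, mulVec_mulVec, ← Units.val_mul, ← Units.val_mul]
      congr 2
      group)
    exact ⟨c, by rw [← mulVec_smul, ← hc, mulVec_mulVec, val_mul_inv, one_mulVec]⟩
  · rw [vecMul_vecMul, ← Units.val_mul,
      show s⁻¹ * (s * u * s⁻¹) = u * s⁻¹ by group, Units.val_mul, ← vecMul_vecMul, h.lfix]
  · intro y hy
    obtain ⟨c, hc⟩ := h.luniq (y ᵥ* (s : Matrix (Fin n) (Fin n) F)) (by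
      conv_rhs => rw [← hy]
      rw [vecMul_vecMul, vecMul_vecMul, ← Units.val_mul, ← Units.val_mul]
      congr 2
      group)
    exact ⟨c, by rw [← smul_vecMul, ← hc, vecMul_vecMul, val_mul_inv, vecMul_one]⟩

/-- In a nilpotent matrix group, everything fixes the two lines of a regular unipotent element. -/
theorem RegU.mem_both {p f : ℕ} [Fact p.Prime] (hf0 : f ≠ 0) (hF : Fintype.card F = p ^ f)
    (hn : n ≠ 0) {u : GL (Fin n) F} {v w : Fin n → F} (h : RegU p u v w)
    {H : Subgroup (GL (Fin n) F)} (hH : Group.IsNilpotent H) (hu : u ∈ H) {a : GL (Fin n) F}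
    (ha : a ∈ H) :
    a ∈ lineStab v ∧ ∃ c : F, w ᵥ* (a : Matrix (Fin n) (Fin n) F) = c • w := by
  obtain ⟨i, j, hij, ⟨k, hk⟩, hcop⟩ :=
    CfsgLib.NormalPComplement.exists_pParts (p := p) (isOfFinOrder_of_finite a)
  obtain ⟨e, he⟩ := h.pow
  obtain ⟨e', -, he'⟩ := (Nat.dvd_prime_pow Fact.out).1 (orderOf_dvd_of_pow_eq_one he)
  -- the part of order prime to p commutes with u
  have hcomm : Commute (a ^ j) u := by
    have := CfsgLib.HallClasses.commute_of_nilpotent hH ⟨a ^ j, pow_mem ha j⟩ ⟨u, hu⟩ (by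
      rw [Subgroup.orderOf_mk, Subgroup.orderOf_mk, he']
      exact hcop.pow_right e')
    exact congrArg Subtype.val this.eq
  have hcv : ∃ c : F, ((a ^ j : GL (Fin n) F) : Matrix (Fin n) (Fin n) F) *ᵥ v = c • v :=
    h.uniq _ (by rw [mulVec_mulVec, ← Units.val_mul, ← hcomm.eq, Units.val_mul, ← mulVec_mulVec, h.fix])
  have hcw : ∃ c : F, w ᵥ* ((a ^ j : GL (Fin n) F) : Matrix (Fin n) (Fin n) F) = c • w :=
    h.luniq _ (by rw [vecMul_vecMul, ← Units.val_mul, hcomm.eq, Units.val_mul, ← vecMul_vecMul, h.lfix])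
  -- a p-group containing u and the p-part of a
  haveI := hH
  obtain ⟨S⟩ := (inferInstance : Nonempty (Sylow p H))
  have hSn : (S : Subgroup H).Normal :=
    Sylow.normal_of_normalizerCondition Group.normalizerCondition_of_isNilpotent S
  have hmemS : ∀ x : H, (∃ m : ℕ, x ^ p ^ m = 1) → x ∈ (S : Subgroup H) := by
    rintro x ⟨m, hm⟩
    obtain ⟨m', -, hm'⟩ := (Nat.dvd_prime_pow Fact.out).1 (orderOf_dvd_of_pow_eq_one hm)
    have hx : IsPGroup p (Subgroup.zpowers x) :=
      IsPGroup.of_card (n := m') (by rw [Nat.card_zpowers, hm'])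
    obtain ⟨S', hS'⟩ := hx.exists_le_sylow
    have : Subsingleton (Sylow p H) := Sylow.unique_of_normal S hSn |>.instSubsingleton
    exact (Subsingleton.elim S' S) ▸ hS' (Subgroup.mem_zpowers x)
  set P := (S : Subgroup H).map H.subtype with hP
  have hPp : IsPGroup p P := S.2.map _
  have huP : u ∈ P := ⟨⟨u, hu⟩, hmemS _ ⟨e, Subtype.ext (by simpa using he)⟩, rfl⟩
  have hbP : a ^ i ∈ P := ⟨⟨a ^ i, pow_mem ha i⟩, hmemS _ ⟨k, Subtype.ext (by
    simpa using orderOf_dvd_iff_pow_eq_one.1 hk)⟩, rfl⟩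
  have hpV : p ∣ Nat.card (Fin n → F) := by
    rw [Nat.card_fun, Nat.card_eq_fintype_card, hF, Nat.card_fin, ← pow_mul]
    exact dvd_pow_self p (Nat.mul_ne_zero hf0 hn)
  -- a nonzero fixed column vector, and a nonzero fixed row vector
  have hbv : ((a ^ i : GL (Fin n) F) : Matrix (Fin n) (Fin n) F) *ᵥ v = v := by
    letI : MulAction P (Fin n → F) :=
      { smul := fun g x => ((g : GL (Fin n) F) : Matrix (Fin n) (Fin n) F) *ᵥ x
        one_smul := fun x => one_mulVec x
        mul_smul := fun g g' x => (mulVec_mulVec x _ _).symm }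
    obtain ⟨x, hx, hx0⟩ := hPp.exists_fixed_point_of_prime_dvd_card_of_fixed_point (Fin n → F)
      hpV (a := 0) (fun g => mulVec_zero _)
    obtain ⟨c, rfl⟩ := h.uniq x (hx ⟨u, huP⟩)
    have hc : c ≠ 0 := fun hc => hx0 (by rw [hc, zero_smul])
    have h1 : ((a ^ i : GL (Fin n) F) : Matrix (Fin n) (Fin n) F) *ᵥ (c • v) = c • v :=
      hx ⟨a ^ i, hbP⟩
    rw [mulVec_smul] at h1
    exact smul_right_injective _ hc h1
  have hbw : w ᵥ* ((a ^ i : GL (Fin n) F) : Matrix (Fin n) (Fin n) F) = w := by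
    letI : MulAction P (Fin n → F) :=
      { smul := fun g x => x ᵥ* (((g⁻¹ : P) : GL (Fin n) F) : Matrix (Fin n) (Fin n) F)
        one_smul := fun x => by
          show x ᵥ* _ = x
          simp
        mul_smul := fun g g' x => by
          show x ᵥ* _ = (x ᵥ* _) ᵥ* _
          rw [vecMul_vecMul, ← Units.val_mul, ← Subgroup.coe_mul, _root_.mul_inv_rev] }
    obtain ⟨x, hx, hx0⟩ := hPp.exists_fixed_point_of_prime_dvd_card_of_fixed_point (Fin n → F)
      hpV (a := 0) (fun g => zero_vecMul _)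
    obtain ⟨c, rfl⟩ := h.luniq x (by
      have hxu := hx ⟨u, huP⟩⁻¹
      change x ᵥ* (((⟨u, huP⟩⁻¹⁻¹ : P) : GL (Fin n) F) : Matrix (Fin n) (Fin n) F) = x at hxu
      rwa [inv_inv] at hxu)
    have hc : c ≠ 0 := fun hc => hx0 (by rw [hc, zero_smul])
    have h1 := hx ⟨a ^ i, hbP⟩⁻¹
    change (c • w) ᵥ* (((⟨a ^ i, hbP⟩⁻¹⁻¹ : P) : GL (Fin n) F) : Matrix (Fin n) (Fin n) F) = c • w at h1
    rw [inv_inv, smul_vecMul] at h1
    exact smul_right_injective _ hc h1
  obtain ⟨c, hc⟩ := hcv
  obtain ⟨d, hd⟩ := hcw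
  have hav : (a : Matrix (Fin n) (Fin n) F) *ᵥ v = c • v := by
    rw [← hij, Units.val_mul, ← mulVec_mulVec, hc, mulVec_smul, hbv]
  refine ⟨⟨c, fun hc0 => h.v_ne ?_, hav⟩, d, ?_⟩
  · rw [← one_mulVec v, ← val_inv_mul a, ← mulVec_mulVec, hav, hc0, zero_smul, mulVec_zero]
  · rw [← hij, Units.val_mul, ← vecMul_vecMul, hbw, hd]

/-- Two regular unipotent elements in one nilpotent matrix group have the same fixed lines. -/
theorem RegU.same_lines {p f : ℕ} [Fact p.Prime] [CharP F p] (hf0 : f ≠ 0)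
    (hF : Fintype.card F = p ^ f) (hn : n ≠ 0) {u u' : GL (Fin n) F} {v w v' w' : Fin n → F}
    (h : RegU p u v w) (h' : RegU p u' v' w')
    {H : Subgroup (GL (Fin n) F)} (hH : Group.IsNilpotent H) (hu : u ∈ H) (hu' : u' ∈ H) :
    (∃ c : F, c • v' = v) ∧ ∃ c : F, c • w' = w := by
  obtain ⟨k, hk⟩ := h'.pow
  obtain ⟨⟨c, -, hcv⟩, d, hdw⟩ := h.mem_both hf0 hF hn hH hu hu'
  have hone : ∀ c : F, c ^ p ^ k = 1 → c = 1 := fun c hc =>
    iterateFrobenius_inj F p k (by rw [iterateFrobenius_def, iterateFrobenius_def, hc, one_pow])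
  have e1 : ∀ m : ℕ, ((u' ^ m : GL (Fin n) F) : Matrix (Fin n) (Fin n) F) *ᵥ v = c ^ m • v := by
    intro m
    induction m with
    | zero => simp
    | succ m ih => rw [pow_succ, Units.val_mul, ← mulVec_mulVec, hcv, mulVec_smul, ih, smul_smul, pow_succ']
  have e2 : ∀ m : ℕ, w ᵥ* ((u' ^ m : GL (Fin n) F) : Matrix (Fin n) (Fin n) F) = d ^ m • w := by
    intro m
    induction m with
    | zero => simp
    | succ m ih => rw [pow_succ, Units.val_mul, ← vecMul_vecMul, ih, smul_vecMul, hdw, smul_smul, pow_succ]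
  have hc1 : c = 1 := hone c (by
    have h1 := e1 (p ^ k)
    rw [hk, Units.val_one, one_mulVec] at h1
    exact (smul_left_injective F h.v_ne (h1.symm.trans (one_smul F v).symm)))
  have hd1 : d = 1 := hone d (by
    have h1 := e2 (p ^ k)
    rw [hk, Units.val_one, vecMul_one] at h1
    exact (smul_left_injective F h.w_ne (h1.symm.trans (one_smul F w).symm)))
  obtain ⟨a, ha⟩ := h'.uniq v (by rw [hcv, hc1, one_smul])
  obtain ⟨b, hb⟩ := h'.luniq w (by rw [hdw, hd1, one_smul])
  exact ⟨⟨a, ha.symm⟩, ⟨b, hb.symm⟩⟩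

/-- The basic regular unipotent matrix. -/
theorem exists_regU (p : ℕ) [Fact p.Prime] [CharP F p] (hn : n ≠ 0) :
    ∃ J : GL (Fin n) F, (J : Matrix (Fin n) (Fin n) F).det = 1 ∧
      RegU p J (Pi.single ⟨0, Nat.pos_of_ne_zero hn⟩ 1) (Pi.single ⟨n - 1, by omega⟩ 1) := by
  let N : Matrix (Fin n) (Fin n) F :=
    Matrix.of fun i j => if (j : ℕ) = (i : ℕ) + 1 then 1 else 0
  have hdet : (1 + N).det = 1 := by
    rw [Matrix.det_of_upperTriangular]
    · refine Finset.prod_eq_one fun i _ => ?_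
      simp [N, Matrix.one_apply]
    · intro i j hij
      simp only [id_eq] at hij
      have h1 : ¬ (j : ℕ) = (i : ℕ) + 1 := by
        have : (j : ℕ) < (i : ℕ) := hij
        omega
      simp [N, Matrix.one_apply, h1, ne_of_gt hij]
  have hpowN : ∀ m : ℕ, ∀ i j : Fin n, (j : ℕ) < (i : ℕ) + m → (N ^ m) i j = 0 := by
    intro m
    induction m with
    | zero => intro i j h; simp [Matrix.one_apply, Fin.ext_iff]; omega
    | succ m ih =>
      intro i j h
      rw [pow_succ, Matrix.mul_apply]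
      refine Finset.sum_eq_zero fun k _ => ?_
      by_cases hk : (k : ℕ) < (i : ℕ) + m
      · rw [ih i k hk, zero_mul]
      · simp [N, show ¬ (j : ℕ) = (k : ℕ) + 1 by omega]
  haveI : NeZero n := ⟨hn⟩
  haveI : CharP (Matrix (Fin n) (Fin n) F) p :=
    charP_of_injective_algebraMap (R := F) (RingHom.injective _) p
  have hpow : (1 + N) ^ p ^ n = 1 := by
    have hz : N ^ p ^ n = 0 := by
      ext i j
      have : n < p ^ n := Nat.lt_pow_self (Fact.out : p.Prime).one_lt
      exact hpowN _ i j (by omega)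
    rw [add_pow_char_pow_of_commute p n (Commute.one_left N), one_pow, hz, add_zero]
  let J : GL (Fin n) F := Matrix.GeneralLinearGroup.mkOfDetNeZero (1 + N) (by rw [hdet]; exact one_ne_zero)
  have hJ : (J : Matrix (Fin n) (Fin n) F) = 1 + N := rfl
  refine ⟨J, hdet, ⟨⟨n, Units.ext (by rw [Units.val_pow_eq_pow_val, hJ, hpow]; rfl)⟩, ?_, ?_, ?_, ?_, ?_, ?_⟩⟩
  · simp
  · simp
  · rw [hJ, add_mulVec, one_mulVec, add_eq_left]
    ext i
    simp [N]
  · intro x hx
    rw [hJ, add_mulVec, one_mulVec, add_eq_left] at hx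
    refine ⟨x ⟨0, Nat.pos_of_ne_zero hn⟩, ?_⟩
    ext i
    by_cases hi : (i : ℕ) = 0
    · obtain rfl : i = ⟨0, Nat.pos_of_ne_zero hn⟩ := Fin.ext hi
      simp
    · have hx' := congrFun hx ⟨(i : ℕ) - 1, by omega⟩
      rw [Matrix.mulVec, dotProduct, Finset.sum_eq_single i] at hx'
      · have : (i : ℕ) = (i : ℕ) - 1 + 1 := by omega
        simp [N, ← this] at hx'
        simp [hx', Pi.single_eq_of_ne, Fin.ext_iff, hi]
      · intro b _ hb
        simp [N, show ¬ (b : ℕ) = (i : ℕ) - 1 + 1 from fun h => hb (Fin.ext (by omega))]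
      · simp
  · rw [hJ, vecMul_add, vecMul_one, add_eq_left]
    ext j
    simp [N]
    omega
  · intro y hy
    rw [hJ, vecMul_add, vecMul_one, add_eq_left] at hy
    refine ⟨y ⟨n - 1, by omega⟩, ?_⟩
    ext i
    by_cases hi : (i : ℕ) = n - 1
    · rw [show i = (⟨n - 1, by omega⟩ : Fin n) from Fin.ext hi]
      simp
    · have hy' := congrFun hy ⟨(i : ℕ) + 1, by omega⟩
      rw [Matrix.vecMul, dotProduct, Finset.sum_eq_single i] at hy'
      · simp [N] at hy'
        simp [hy', Pi.single_eq_of_ne, Fin.ext_iff, hi]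
      · intro b _ hb
        simp [N, show ¬ (i : ℕ) = (b : ℕ) from fun h => hb (Fin.ext h.symm)]
      · simp

/-- The special linear group is transitive on non-zero vectors. -/
theorem exists_det_one_mulVec (hn : 2 ≤ n) (v : Fin n → F) (hv : v ≠ 0) :
    ∃ s : GL (Fin n) F, (s : Matrix (Fin n) (Fin n) F).det = 1 ∧
      (s : Matrix (Fin n) (Fin n) F) *ᵥ Pi.single ⟨0, by omega⟩ 1 = v := by
  set z : Fin n := ⟨0, by omega⟩ with hz
  have step : ∀ x : Fin n → F, x z ≠ 0 →
      ∃ M : Matrix (Fin n) (Fin n) F, M.det = 1 ∧ M *ᵥ Pi.single z 1 = x := by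
    intro x hx
    let o : Fin n := ⟨1, by omega⟩
    let M : Matrix (Fin n) (Fin n) F := Matrix.of fun i j =>
      if j = z then x i else if i = j then (if j = o then (x z)⁻¹ else 1) else 0
    refine ⟨M, ?_, ?_⟩
    · rw [Matrix.det_of_lowerTriangular M (by
        intro i j hij
        have hij' : (i : ℕ) < (j : ℕ) := hij
        have h1 : j ≠ z := fun h => by rw [h, hz] at hij'; simp at hij'
        have h2 : i ≠ j := fun h => by rw [h] at hij'; omega
        simp [M, h1, h2])]
      have hoz : o ≠ z := by simp [o, hz]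
      rw [Finset.prod_eq_mul z o hoz.symm (fun c _ hc => by simp [M, hc.1, hc.2]) (by simp) (by simp)]
      simp [M, hoz, hx]
    · ext i
      simp [M, Matrix.mulVec_single]
  by_cases h0 : v z = 0
  · obtain ⟨k, hk⟩ : ∃ k, v k ≠ 0 := by
      by_contra hno
      push Not at hno
      exact hv (funext hno)
    have hkz : z ≠ k := fun h => hk (h ▸ h0)
    set T := Matrix.transvection z k (1 : F) with hT
    set T' := Matrix.transvection z k (-1 : F) with hT'
    obtain ⟨M, hM, hMv⟩ := step (T *ᵥ v) (by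
      simpa [hT, Matrix.transvection, add_mulVec, single_mulVec, h0] using hk)
    refine ⟨Matrix.GeneralLinearGroup.mkOfDetNeZero (T' * M) (by
      rw [det_mul, hT', det_transvection_of_ne _ _ hkz, hM]; simp), ?_, ?_⟩
    · show (T' * M).det = 1
      rw [det_mul, hT', det_transvection_of_ne _ _ hkz, hM, one_mul]
    · show (T' * M) *ᵥ _ = v
      rw [← mulVec_mulVec, hMv, mulVec_mulVec, hT, hT', transvection_mul_transvection_same _ _ hkz,
        neg_add_cancel, transvection_zero, one_mulVec]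
  · obtain ⟨M, hM, hMv⟩ := step v h0
    exact ⟨Matrix.GeneralLinearGroup.mkOfDetNeZero M (by rw [hM]; exact one_ne_zero), hM, hMv⟩

variable (G : Subgroup (GL (Fin n) F ⧸ Subgroup.center (GL (Fin n) F)))

/-- The preimage in `GL` of a subgroup of `G`. -/
def lift (A : Subgroup ↥G) : Subgroup (GL (Fin n) F) :=
  (A.map G.subtype).comap (QuotientGroup.mk' (Subgroup.center (GL (Fin n) F)))

theorem isNilpotent_lift {A : Subgroup ↥G} (hA : Group.IsNilpotent A) :
    Group.IsNilpotent (lift G A) := by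
  haveI := hA
  haveI : Group.IsNilpotent ↥(A.map G.subtype) :=
    Group.nilpotent_of_mulEquiv (Subgroup.equivMapOfInjective A G.subtype G.subtype_injective)
  refine Subgroup.isNilpotent_of_ker_le_center
    ((QuotientGroup.mk' (Subgroup.center (GL (Fin n) F))).subgroupComap (A.map G.subtype)) ?_
  intro x hx
  have hx' : (x : GL (Fin n) F) ∈ Subgroup.center (GL (Fin n) F) :=
    (QuotientGroup.eq_one_iff _).1 (congrArg Subtype.val hx)
  exact Subgroup.mem_center_iff.2 fun y => Subtype.ext (Subgroup.mem_center_iff.1 hx' y)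

variable (hG : ((Matrix.SpecialLinearGroup.toGL : Matrix.SpecialLinearGroup (Fin n) F →* GL (Fin n) F).range).map
      (QuotientGroup.mk' (Subgroup.center (GL (Fin n) F))) ≤ G)

include hG in
theorem mk_mem_of_det {g : GL (Fin n) F} (hg : (g : Matrix (Fin n) (Fin n) F).det = 1) :
    QuotientGroup.mk' (Subgroup.center (GL (Fin n) F)) g ∈ G :=
  hG ⟨g, ⟨⟨(g : Matrix (Fin n) (Fin n) F), hg⟩, Units.ext rfl⟩, rfl⟩

/-- Comparison of a nilpotent cover with the stabilisers of points. -/
theorem false_of_extra (hn : 2 ≤ n) {p f : ℕ} [Fact p.Prime] [CharP F p] (hf0 : f ≠ 0)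
    (hF : Fintype.card F = p ^ f)
    (hG : ((Matrix.SpecialLinearGroup.toGL : Matrix.SpecialLinearGroup (Fin n) F →* GL (Fin n) F).range).map
      (QuotientGroup.mk' (Subgroup.center (GL (Fin n) F))) ≤ G)
    {𝓐 : Finset (Subgroup ↥G)} (h : CfsgLib.HallClasses.NilMinCover 𝓐)
    (Ess : GL (Fin n) F → Prop) (hess : ∀ a, Ess a → NoEig a)
    (hkeep : ∀ g, QuotientGroup.mk' (Subgroup.center (GL (Fin n) F)) g ∈ G → NoEig g →
      ∃ A ∈ 𝓐, g ∈ lift G A ∧ ∃ a ∈ lift G A, Ess a)
    (hextra : ∀ (u : Projectivization F (Fin n → F) → GL (Fin n) F)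
      (w : Projectivization F (Fin n → F) → Fin n → F),
      (∀ l, (u l : Matrix (Fin n) (Fin n) F).det = 1 ∧ RegU p (u l) l.rep (w l)) →
      ∃ A ∈ 𝓐, (∀ a ∈ lift G A, ¬ Ess a) ∧ ∀ l, u l ∉ lift G A) : False := by
  classical
  obtain ⟨J, hJd, hJ⟩ := exists_regU (F := F) (n := n) p (by omega)
  choose s hsd hs using fun l : Projectivization F (Fin n → F) =>
    exists_det_one_mulVec hn l.rep l.rep_nonzero
  obtain ⟨u, w, hu⟩ : ∃ (u : Projectivization F (Fin n → F) → GL (Fin n) F) (w : _ → Fin n → F),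
      ∀ l, (u l : Matrix (Fin n) (Fin n) F).det = 1 ∧ RegU p (u l) l.rep (w l) := by
    refine ⟨fun l => s l * J * (s l)⁻¹, fun l => _, fun l => ⟨?_, hs l ▸ hJ.conj (s l)⟩⟩
    rw [Units.val_mul, Units.val_mul, det_mul, det_mul, hJd, mul_one, ← det_mul, val_mul_inv, det_one]
  obtain ⟨⟨hprop, hcov⟩, hmin, hnil⟩ := h
  have hcovL : ∀ g, QuotientGroup.mk' (Subgroup.center (GL (Fin n) F)) g ∈ G →
      ∃ A ∈ 𝓐, g ∈ lift G A := by
    intro g hg
    obtain ⟨A, hA, hgA⟩ := hcov ⟨_, hg⟩
    exact ⟨A, hA, ⟨_, hgA, rfl⟩⟩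
  choose φ hφ huφ using fun l => hcovL (u l) (mk_mem_of_det G hG (hu l).1)
  obtain ⟨Ax, hAx, hAxE, hAxu⟩ := hextra u w hu
  -- members without essential elements
  set R := 𝓐.filter (fun A => ∀ a ∈ lift G A, ¬ Ess a) with hR
  have hφR : ∀ l, φ l ∈ R := fun l => Finset.mem_filter.2 ⟨hφ l, fun a ha hE =>
    hess a hE l.rep l.rep_nonzero
      ((hu l).2.mem_both hf0 hF (by omega) (isNilpotent_lift G (hnil _ (hφ l))) (huφ l) ha).1⟩
  have hinj : Function.Injective φ := by
    intro l m hlm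
    obtain ⟨⟨c, hc⟩, -⟩ := (hu l).2.same_lines hf0 hF (by omega) (hu m).2
      (isNilpotent_lift G (hnil _ (hφ l))) (huφ l) (hlm ▸ huφ m)
    rw [← l.mk_rep, ← m.mk_rep]
    exact (Projectivization.mk_eq_mk_iff' F _ _ _ _).2 ⟨c, hc⟩
  let inst := Fintype.ofFinite (Projectivization F (Fin n → F))
  have hRcard : Fintype.card (Projectivization F (Fin n → F)) + 1 ≤ R.card := by
    have hsub : insert Ax (Finset.univ.image φ) ⊆ R := by
      intro A hA
      rcases Finset.mem_insert.1 hA with rfl | hA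
      · exact Finset.mem_filter.2 ⟨hAx, hAxE⟩
      · obtain ⟨l, -, rfl⟩ := Finset.mem_image.1 hA
        exact hφR l
    have := Finset.card_le_card hsub
    rw [Finset.card_insert_of_notMem (by
      intro hmem
      obtain ⟨l, -, hl⟩ := Finset.mem_image.1 hmem
      exact hAxu l (hl ▸ huφ l)), Finset.card_image_of_injective _ hinj, Finset.card_univ] at this
    exact this
  set St : Projectivization F (Fin n → F) → Subgroup ↥G := fun l =>
    ((lineStab l.rep).map (QuotientGroup.mk' (Subgroup.center (GL (Fin n) F)))).subgroupOf G with hSt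
  have hscal : ∀ (x : GL (Fin n) F) (v : Fin n → F),
      x ∈ Subgroup.center (GL (Fin n) F) → x ∈ lineStab v := by
    intro x v hx
    rw [Matrix.GeneralLinearGroup.center_eq_range_scalar] at hx
    obtain ⟨c, rfl⟩ := hx
    refine ⟨(c : F), c.ne_zero, ?_⟩
    ext i
    simp [Matrix.GeneralLinearGroup.scalar, Matrix.mulVec_diagonal]
  have hle := hmin (Finset.univ.image St ∪ (𝓐 \ R)) ⟨?_, ?_⟩
  · have h1 : (Finset.univ.image St ∪ (𝓐 \ R)).card ≤
        Fintype.card (Projectivization F (Fin n → F)) + (𝓐 \ R).card :=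
      (Finset.card_union_le _ _).trans (Nat.add_le_add_right
        (Finset.card_image_le.trans_eq Finset.card_univ) _)
    have h2 : (𝓐 \ R).card + R.card = 𝓐.card :=
      Finset.card_sdiff_add_card_eq_card (Finset.filter_subset _ _)
    omega
  · intro A hA
    rcases Finset.mem_union.1 hA with hA | hA
    · obtain ⟨l, -, rfl⟩ := Finset.mem_image.1 hA
      intro htop
      -- some element of determinant one moves the line
      obtain ⟨v, hv0, hvl⟩ : ∃ v : Fin n → F, v ≠ 0 ∧ ∀ c : F, v ≠ c • l.rep := by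
        obtain ⟨k, hk⟩ : ∃ k, l.rep k ≠ 0 := by
          by_contra hno
          push Not at hno
          exact l.rep_nonzero (funext hno)
        obtain ⟨j, hj⟩ : ∃ j : Fin n, j ≠ k :=
          haveI : Nontrivial (Fin n) := Fin.nontrivial_iff_two_le.2 hn
          exists_ne k
        refine ⟨Pi.single j 1, by simp, fun c hc => ?_⟩
        have h1 := congrFun hc k
        rw [Pi.single_eq_of_ne hj.symm, Pi.smul_apply, smul_eq_mul] at h1
        have h2 := congrFun hc j
        rw [(mul_eq_zero.1 h1.symm).resolve_right hk] at h2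
        simp at h2
      obtain ⟨t, htd, ht⟩ := exists_det_one_mulVec hn v hv0
      set g := t * (s l)⁻¹ with hg
      have hgd : (g : Matrix (Fin n) (Fin n) F).det = 1 := by
        have h1 := congrArg Matrix.det (val_mul_inv (s l))
        rw [det_mul, hsd l, one_mul, det_one] at h1
        rw [hg, Units.val_mul, det_mul, htd, h1, one_mul]
      have hmem : (⟨_, mk_mem_of_det G hG hgd⟩ : ↥G) ∈ St l := htop ▸ Subgroup.mem_top _
      obtain ⟨g', hg', hgg'⟩ := Subgroup.mem_subgroupOf.1 hmem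
      have hgS : g ∈ lineStab l.rep := by
        have : g'⁻¹ * g ∈ Subgroup.center (GL (Fin n) F) := QuotientGroup.eq.1 hgg'
        simpa using mul_mem hg' (hscal _ _ this)
      obtain ⟨c, -, hc⟩ := hgS
      refine hvl c ?_
      rw [← hc, hg, Units.val_mul, ← mulVec_mulVec]
      rw [← hs l, mulVec_mulVec _ (↑((s l)⁻¹ : GL (Fin n) F) : Matrix (Fin n) (Fin n) F), val_inv_mul,
        one_mulVec, ht]
    · exact hprop A (Finset.mem_sdiff.1 hA).1
  · intro x
    obtain ⟨g, hg⟩ := QuotientGroup.mk'_surjective (Subgroup.center (GL (Fin n) F)) (x : _ ⧸ _)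
    by_cases hE : NoEig g
    · obtain ⟨A, hA, hgA, a, ha, haE⟩ := hkeep g (hg.symm ▸ x.2) hE
      refine ⟨A, Finset.mem_union_right _ (Finset.mem_sdiff.2
        ⟨hA, fun hR' => (Finset.mem_filter.1 hR').2 a ha haE⟩), ?_⟩
      obtain ⟨y, hy, hye⟩ := hgA
      have : y = x := Subtype.ext (hye.trans hg)
      exact this ▸ hy
    · unfold NoEig at hE
      push Not at hE
      obtain ⟨v, hv, c, hc, hcv⟩ := hE
      refine ⟨St (Projectivization.mk F v hv),
        Finset.mem_union_left _ (Finset.mem_image.2 ⟨_, Finset.mem_univ _, rfl⟩),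
        Subgroup.mem_subgroupOf.2 ⟨g, ?_, hg⟩⟩
      obtain ⟨a, ha⟩ := Projectivization.exists_smul_eq_mk_rep F v hv
      exact ⟨c, hc, by rw [← ha, Units.smul_def, mulVec_smul, hcv, smul_comm]⟩

include hG in
/-- Dimension at least three. -/
theorem false_of_three (hn : 3 ≤ n) {p f : ℕ} [Fact p.Prime] [CharP F p] (hf0 : f ≠ 0)
    (hF : Fintype.card F = p ^ f)
    {𝓐 : Finset (Subgroup ↥G)} (h : CfsgLib.HallClasses.NilMinCover 𝓐) : False := by
  refine false_of_extra G (by omega) hf0 hF hG h NoEig (fun _ h => h) (fun g hg hE => ?_) ?_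
  · obtain ⟨A, hA, hgA⟩ := h.1.2 ⟨_, hg⟩
    exact ⟨A, hA, ⟨_, hgA, rfl⟩, g, ⟨_, hgA, rfl⟩, hE⟩
  intro u w hu
  obtain ⟨J, hJd, hJ⟩ := exists_regU (F := F) (n := n) p (by omega)
  let z : Fin n := ⟨0, by omega⟩
  let o : Fin n := ⟨1, by omega⟩
  let e : Fin n := ⟨n - 1, by omega⟩
  have hoe : o ≠ e := by simp [o, e]; omega
  have heo : e ≠ o := Ne.symm hoe
  let T : GL (Fin n) F := ⟨Matrix.transvection e o 1, Matrix.transvection e o (-1),
    by rw [transvection_mul_transvection_same _ _ heo, add_neg_cancel, transvection_zero],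
    by rw [transvection_mul_transvection_same _ _ heo, neg_add_cancel, transvection_zero]⟩
  have hT : RegU p (T * J * T⁻¹) (Pi.single z 1)
      ((Pi.single e 1 : Fin n → F) ᵥ* Matrix.transvection e o (-1)) := by
    have h1 : Matrix.transvection e o (1 : F) *ᵥ Pi.single z 1 = Pi.single z 1 := by
      rw [Matrix.transvection, add_mulVec, one_mulVec, add_eq_left]
      ext i
      simp [o, z, Matrix.mulVec_single, Matrix.single_apply]
    have h2 := hJ.conj T
    rwa [show (T : Matrix (Fin n) (Fin n) F) *ᵥ Pi.single ⟨0, by omega⟩ 1 = Pi.single z 1 from h1] at h2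
  have hTd : (T * J * T⁻¹ : GL (Fin n) F).val.det = 1 := by
    rw [Units.val_mul, Units.val_mul, det_mul, det_mul, hJd, mul_one, ← det_mul, val_mul_inv, det_one]
  set l₀ := Projectivization.mk F (Pi.single z (1 : F) : Fin n → F) (by simp) with hl₀
  obtain ⟨a, ha⟩ := Projectivization.exists_smul_eq_mk_rep F (Pi.single z (1 : F) : Fin n → F) (by simp)
  -- one of the two special elements has a different hyperplane from the chosen one
  obtain ⟨u', v', w', hu'd, hu', hne⟩ : ∃ (u' : GL (Fin n) F) (v' w' : Fin n → F),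
      (u' : Matrix (Fin n) (Fin n) F).det = 1 ∧ RegU p u' v' w' ∧ v' = Pi.single z 1 ∧
        ∀ c : F, c • w l₀ ≠ w' := by
    by_cases hc : ∃ c : F, c • w l₀ = Pi.single e 1
    · refine ⟨T * J * T⁻¹, _, _, hTd, hT, rfl, fun d hd => ?_⟩
      obtain ⟨c, hc⟩ := hc
      have h1 := congrArg (fun x : Fin n → F => x o) (show (d • (Pi.single e 1 : Fin n → F)) =
          c • ((Pi.single e 1 : Fin n → F) ᵥ* Matrix.transvection e o (-1)) by
        rw [← hd, ← hc, smul_comm])
      simp [Matrix.transvection, vecMul_add, Matrix.vecMul, Matrix.single_apply,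
        Pi.single_eq_of_ne hoe] at h1
      have hc0 : c = 0 := h1
      rw [hc0, zero_smul] at hc
      exact one_ne_zero (α := F) (by simpa using congrFun hc.symm e)
    · exact ⟨J, _, _, hJd, hJ, rfl, fun d hd => hc ⟨d, hd⟩⟩
  obtain ⟨A, hA, huA⟩ := h.1.2 ⟨_, mk_mem_of_det G hG hu'd⟩
  have hu'A : u' ∈ lift G A := ⟨_, huA, rfl⟩
  refine ⟨A, hA, fun b hb hE => hE v' hu'.v_ne
    (hu'.mem_both hf0 hF (by omega) (isNilpotent_lift G (h.2.2 A hA)) hu'A hb).1, fun l hl => ?_⟩
  obtain ⟨⟨c, hc⟩, d, hd⟩ := hu'.same_lines hf0 hF (by omega) (hu l).2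
    (isNilpotent_lift G (h.2.2 A hA)) hu'A hl
  have hll : l = l₀ := by
    rw [← l.mk_rep, hl₀]
    exact ((Projectivization.mk_eq_mk_iff' F _ _ _ _).2 ⟨c, by rw [hc, hne.1]⟩).symm
  exact hne.2 d (hll ▸ hd)

/-- A nilpotent group with trivial centre is trivial. -/
theorem center_ne_bot {H : Type*} [Group H] (hH : Group.IsNilpotent H) [Nontrivial H] :
    Subgroup.center H ≠ ⊥ := by
  intro hc
  obtain ⟨k, hk⟩ := hH.nilpotent
  have : ∀ m, Subgroup.upperCentralSeries H m = ⊥ := by
    intro m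
    induction m with
    | zero => rfl
    | succ m ih =>
      rw [Subgroup.eq_bot_iff_forall]
      intro x hx
      have hxc : x ∈ Subgroup.center H := Subgroup.mem_center_iff.2 fun y => by
        have := (Subgroup.mem_upperCentralSeries_succ_iff).1 hx y
        rw [ih, Subgroup.mem_bot, commutatorElement_def, mul_inv_eq_one, mul_inv_eq_iff_eq_mul] at this
        exact this.symm
      rwa [hc, Subgroup.mem_bot] at hxc
  rw [this k] at hk
  exact (bot_ne_top (α := Subgroup H)) hk

/-- An element of order dividing `p ^ k` of a diagonal form is trivial. -/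
theorem diag_unipotent_eq_one {p : ℕ} [Fact p.Prime] [CharP F p] (u : GL (Fin 2) F)
    (h01 : (u : Matrix (Fin 2) (Fin 2) F) 0 1 = 0) (h10 : (u : Matrix (Fin 2) (Fin 2) F) 1 0 = 0)
    {k : ℕ} (hk : u ^ p ^ k = 1) : u = 1 := by
  have hd : (u : Matrix (Fin 2) (Fin 2) F) = Matrix.diagonal fun i => (u : Matrix (Fin 2) (Fin 2) F) i i := by
    ext i j
    fin_cases i <;> fin_cases j <;> simp [h01, h10]
  have h1 := congrArg (Units.val (α := Matrix (Fin 2) (Fin 2) F)) hk
  rw [Units.val_pow_eq_pow_val, hd, Matrix.diagonal_pow, Units.val_one] at h1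
  apply Units.ext
  rw [hd, Units.val_one, ← Matrix.diagonal_one]
  congr 1
  funext i
  have h2 := congrArg (fun M : Matrix (Fin 2) (Fin 2) F => M i i) h1
  simp only [Matrix.diagonal_apply_eq, Pi.pow_apply, Matrix.one_apply_eq] at h2
  exact iterateFrobenius_inj F p k (by rw [iterateFrobenius_def, iterateFrobenius_def, h2, one_pow])

/-- The elements commuting with a given one. -/
abbrev cg (g : GL (Fin 2) F) : Subgroup (GL (Fin 2) F) :=
  Subgroup.centralizer ({g} : Set (GL (Fin 2) F))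

variable {g : GL (Fin 2) F}

/-- A matrix commuting with a matrix without eigenvectors is determined by two scalars. -/
theorem exists_coord (hg : NoEig g) {X : Matrix (Fin 2) (Fin 2) F}
    (hX : X * (g : Matrix (Fin 2) (Fin 2) F) = (g : Matrix (Fin 2) (Fin 2) F) * X) :
    X = Matrix.scalar (Fin 2) (X 0 0 - X 1 0 / (g : Matrix (Fin 2) (Fin 2) F) 1 0 *
        (g : Matrix (Fin 2) (Fin 2) F) 0 0) +
      (X 1 0 / (g : Matrix (Fin 2) (Fin 2) F) 1 0) • (g : Matrix (Fin 2) (Fin 2) F) := by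
  set M := (g : Matrix (Fin 2) (Fin 2) F) with hM
  have hc : M 1 0 ≠ 0 := by
    intro h0
    refine hg (Pi.single 0 1) (by simp) ⟨M 0 0, ?_, ?_⟩
    · intro h00
      apply (Matrix.GeneralLinearGroup.det_ne_zero g)
      rw [← hM, Matrix.det_fin_two, h0, h00]; ring
    · ext i
      fin_cases i <;> simp [← hM, Matrix.mulVec_single, h0]
  have e00 := congrArg (fun Y : Matrix (Fin 2) (Fin 2) F => Y 0 0) hX
  have e10 := congrArg (fun Y : Matrix (Fin 2) (Fin 2) F => Y 1 0) hX
  simp only [Matrix.mul_apply, Fin.sum_univ_two] at e00 e10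
  ext i j
  fin_cases i <;> fin_cases j <;> simp
  · field_simp
    linear_combination e00
  · field_simp
  · field_simp
    linear_combination e10

/-- The centraliser of an element without eigenvectors in the group of invertible matrices has
order `q ^ 2 - 1`. -/
theorem card_cg (hg : NoEig g) : Nat.card (cg g) = Fintype.card F ^ 2 - 1 := by
  classical
  set M := (g : Matrix (Fin 2) (Fin 2) F) with hM
  let φ : F × F → Matrix (Fin 2) (Fin 2) F := fun ab => Matrix.scalar (Fin 2) ab.1 + ab.2 • M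
  have hinj : Function.Injective φ := by
    have hc : M 1 0 ≠ 0 := by
      intro h0
      refine hg (Pi.single 0 1) (by simp) ⟨M 0 0, ?_, ?_⟩
      · intro h00
        apply (Matrix.GeneralLinearGroup.det_ne_zero g)
        rw [← hM, Matrix.det_fin_two, h0, h00]; ring
      · ext i
        fin_cases i <;> simp [← hM, Matrix.mulVec_single, h0]
    rintro ⟨a, b⟩ ⟨a', b'⟩ h
    have h10 := congrArg (fun Y : Matrix (Fin 2) (Fin 2) F => Y 1 0) h
    have h00 := congrArg (fun Y : Matrix (Fin 2) (Fin 2) F => Y 0 0) h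
    simp [φ, hc] at h10
    subst h10
    simp [φ] at h00
    rw [h00]
  have hdet : ∀ ab : F × F, ab ≠ 0 → (φ ab).det ≠ 0 := by
    rintro ⟨a, b⟩ hab h0
    obtain ⟨v, hv, hv0⟩ := Matrix.exists_mulVec_eq_zero_iff.2 h0
    have hsv : (Matrix.scalar (Fin 2) a) *ᵥ v = a • v := by
      ext i; simp [Matrix.mulVec_diagonal]
    simp only [φ, add_mulVec, smul_mulVec, hsv] at hv0
    by_cases hb : b = 0
    · subst hb
      rw [zero_smul, add_zero, smul_eq_zero] at hv0
      exact hab (by simp [hv0.resolve_right hv])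
    · have hMv : M *ᵥ v = (-a / b) • v := by
        have h1 : b • (M *ᵥ v) = b • ((-a / b) • v) := by
          rw [smul_smul, mul_div_cancel₀ _ hb, neg_smul, eq_neg_iff_add_eq_zero, add_comm]
          exact hv0
        exact smul_right_injective _ hb h1
      refine hg v hv ⟨-a / b, fun h0' => hv ?_, hMv⟩
      rw [h0', zero_smul] at hMv
      rw [← one_mulVec v, ← val_inv_mul g, ← mulVec_mulVec, ← hM, hMv, mulVec_zero]
  have hmem : ∀ X : GL (Fin 2) F, X ∈ cg g ↔ ∃ ab : F × F, ab ≠ 0 ∧ φ ab = (X : Matrix (Fin 2) (Fin 2) F) := by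
    intro X
    rw [Subgroup.mem_centralizer_singleton_iff]
    constructor
    · intro h
      have h' := congrArg (Units.val (α := Matrix (Fin 2) (Fin 2) F)) h
      simp only [Units.val_mul] at h'
      refine ⟨(_, _), ?_, (exists_coord hg h').symm⟩
      intro h0
      apply Matrix.GeneralLinearGroup.det_ne_zero X
      rw [exists_coord hg h', (Prod.mk_eq_zero.1 h0).1, (Prod.mk_eq_zero.1 h0).2]
      simp
    · rintro ⟨ab, -, hab⟩
      apply Units.ext
      rw [Units.val_mul, Units.val_mul, ← hab]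
      simp only [φ, add_mul, mul_add, smul_mul_assoc, mul_smul_comm, ← hM]
      rw [(Matrix.scalar_commute ab.1 (fun r => Commute.all _ r) M).eq]
  have e : {ab : F × F // ab ≠ 0} ≃ cg g := by
    refine Equiv.ofBijective (fun ab => ⟨Matrix.GeneralLinearGroup.mkOfDetNeZero (φ ab.1) (hdet _ ab.2),
      (hmem _).2 ⟨ab.1, ab.2, rfl⟩⟩) ⟨?_, ?_⟩
    · intro a b h
      exact Subtype.ext (hinj (congrArg (fun X : cg g => ((X : GL (Fin 2) F) : Matrix (Fin 2) (Fin 2) F)) h))
    · rintro ⟨X, hX⟩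
      obtain ⟨ab, h0, hab⟩ := (hmem X).1 hX
      exact ⟨⟨ab, h0⟩, Subtype.ext (Units.ext hab)⟩
  rw [← Nat.card_congr e, Nat.card_eq_fintype_card, Fintype.card_subtype_compl,
    Fintype.card_subtype_eq, Fintype.card_prod, sq]

/-- The centraliser of an element without eigenvectors is cyclic. -/
theorem isCyclic_cg (hg : NoEig g) : IsCyclic (cg g) := by
  set M := (g : Matrix (Fin 2) (Fin 2) F) with hM
  let S : Subalgebra F (Matrix (Fin 2) (Fin 2) F) :=
    Subalgebra.centralizer F ({M} : Set (Matrix (Fin 2) (Fin 2) F))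
  have hS : ∀ X : S, (X : Matrix (Fin 2) (Fin 2) F) * M = M * X := fun X =>
    (Subalgebra.mem_centralizer_iff F).1 X.2 M rfl |>.symm
  letI : CommRing S :=
    { (inferInstance : Ring S) with
      mul_comm := fun X Y => by
        apply Subtype.ext
        show (X : Matrix (Fin 2) (Fin 2) F) * Y = Y * X
        rw [exists_coord hg (hS X), exists_coord hg (hS Y)]
        simp only [← hM, mul_add, add_mul, smul_mul_assoc, mul_smul_comm, smul_add, smul_smul]
        rw [(Matrix.scalar_commute _ (fun r => Commute.all _ r) M).eq,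
          (Matrix.scalar_commute _ (fun r => Commute.all _ r) (Matrix.scalar (Fin 2) _)).eq,
          mul_comm (_ / _) (_ / _)]
        rw [(Matrix.scalar_commute _ (fun r => Commute.all _ r) M).eq]
        abel }
  have : Nontrivial S := ⟨⟨0, 1, fun h => zero_ne_one (α := Matrix (Fin 2) (Fin 2) F)
    (congrArg Subtype.val h)⟩⟩
  have : IsDomain S := by
    refine @NoZeroDivisors.to_isDomain S _ _ ⟨fun {X Y} hXY => ?_⟩
    by_cases hY : Y = 0
    · exact Or.inr hY
    left
    have hdet : (Y : Matrix (Fin 2) (Fin 2) F).det ≠ 0 := by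
      intro h0
      obtain ⟨v, hv, hv0⟩ := Matrix.exists_mulVec_eq_zero_iff.2 h0
      rw [exists_coord hg (hS Y), add_mulVec, smul_mulVec] at hv0
      set b := (Y : Matrix (Fin 2) (Fin 2) F) 1 0 / M 1 0
      set a := (Y : Matrix (Fin 2) (Fin 2) F) 0 0 - b * M 0 0
      have hsv : (Matrix.scalar (Fin 2) a) *ᵥ v = a • v := by
        ext i; simp [Matrix.mulVec_diagonal]
      rw [hsv] at hv0
      by_cases hb : b = 0
      · rw [hb, zero_smul, add_zero, smul_eq_zero] at hv0
        apply hY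
        apply Subtype.ext
        rw [exists_coord hg (hS Y)]
        show Matrix.scalar (Fin 2) a + b • M = 0
        rw [hb, hv0.resolve_right hv]
        simp
      · have hMv : M *ᵥ v = (-a / b) • v := by
          have h1 : b • (M *ᵥ v) = b • ((-a / b) • v) := by
            rw [smul_smul, mul_div_cancel₀ _ hb, neg_smul, eq_neg_iff_add_eq_zero, add_comm]
            exact hv0
          exact smul_right_injective _ hb h1
        refine hg v hv ⟨-a / b, fun h0' => hv ?_, hMv⟩
        rw [h0', zero_smul] at hMv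
        rw [← one_mulVec v, ← val_inv_mul g, ← mulVec_mulVec, ← hM, hMv, mulVec_zero]
    apply Subtype.ext
    have h1 : (X : Matrix (Fin 2) (Fin 2) F) * Y = 0 := congrArg Subtype.val hXY
    calc (X : Matrix (Fin 2) (Fin 2) F)
        = X * ((Y : Matrix (Fin 2) (Fin 2) F) * (Y : Matrix (Fin 2) (Fin 2) F)⁻¹) := by
          rw [Matrix.mul_nonsing_inv _ (isUnit_iff_ne_zero.2 hdet), mul_one]
      _ = 0 := by rw [← mul_assoc, h1, zero_mul]
  refine isCyclic_of_injective_ringHom (R := S)
    { toFun := fun X => (⟨((X : GL (Fin 2) F) : Matrix (Fin 2) (Fin 2) F),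
        (Subalgebra.mem_centralizer_iff F).2 (fun y hy => by
          rw [Set.mem_singleton_iff.1 hy]
          exact (congrArg (Units.val (α := Matrix (Fin 2) (Fin 2) F))
            (Subgroup.mem_centralizer_singleton_iff.1 X.2)).symm)⟩ : S)
      map_one' := rfl
      map_mul' := fun _ _ => rfl } ?_
  intro X Y h
  exact Subtype.ext (Units.ext (congrArg (fun Z : S => (Z : Matrix (Fin 2) (Fin 2) F)) h))

/-- Dimension two. -/
theorem false_of_two {p f : ℕ} [Fact p.Prime] [CharP F p] (hf0 : f ≠ 0)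
    (hF : Fintype.card F = p ^ f) (hq : 4 ≤ Fintype.card F)
    (G : Subgroup (GL (Fin 2) F ⧸ Subgroup.center (GL (Fin 2) F)))
    (hG : ((Matrix.SpecialLinearGroup.toGL : Matrix.SpecialLinearGroup (Fin 2) F →* GL (Fin 2) F).range).map
      (QuotientGroup.mk' (Subgroup.center (GL (Fin 2) F))) ≤ G)
    {𝓐 : Finset (Subgroup ↥G)} (h : CfsgLib.HallClasses.NilMinCover 𝓐) : False := by
  classical
  set π := QuotientGroup.mk' (Subgroup.center (GL (Fin 2) F)) with hπ
  let Ess : GL (Fin 2) F → Prop := fun a => NoEig a ∧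
    ∀ x, π x ∈ G → x * a = a * x → x ∈ Subgroup.zpowers a
  refine false_of_extra G le_rfl hf0 hF hG h Ess (fun a ha => ha.1) ?_ ?_
  · intro x hx hxE
    haveI := isCyclic_cg hxE
    haveI : IsCyclic ↥(cg x ⊓ G.comap π) :=
      isCyclic_of_injective (Subgroup.inclusion inf_le_left) (Subgroup.inclusion_injective _)
    obtain ⟨a, ha⟩ := IsCyclic.exists_generator (α := ↥(cg x ⊓ G.comap π))
    have hgen : ∀ y ∈ cg x ⊓ G.comap π, y ∈ Subgroup.zpowers (a : GL (Fin 2) F) := fun y hy => by
      obtain ⟨k, hk⟩ := Subgroup.mem_zpowers_iff.1 (ha ⟨y, hy⟩)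
      exact Subgroup.mem_zpowers_iff.2 ⟨k, by rw [← Subgroup.coe_zpow, hk]⟩
    have hxa : x ∈ Subgroup.zpowers (a : GL (Fin 2) F) :=
      hgen x ⟨Subgroup.mem_centralizer_singleton_iff.2 rfl, hx⟩
    obtain ⟨A, hA, haA⟩ := h.1.2 ⟨π a, a.2.2⟩
    have haA' : (a : GL (Fin 2) F) ∈ lift G A := ⟨_, haA, rfl⟩
    refine ⟨A, hA, (Subgroup.zpowers_le.2 haA') hxa, (a : GL (Fin 2) F), haA', ?_, ?_⟩
    · intro v hv hav
      exact hxE v hv ((Subgroup.zpowers_le.2 hav) hxa)
    · intro y hy hya
      refine hgen y ⟨Subgroup.mem_centralizer_singleton_iff.2 ?_, hy⟩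
      obtain ⟨k, hk⟩ := Subgroup.mem_zpowers_iff.1 hxa
      rw [← hk]
      exact (Commute.zpow_right (show Commute y a from hya) k).eq
  intro u w hu
  -- a diagonal element that lies in no member with a unipotent element
  obtain ⟨t, ht0, ht⟩ : ∃ t : F, t ≠ 0 ∧ t ^ 2 ≠ 1 ∧ (Fintype.card F ≠ 5 → t ^ 4 ≠ 1) := by
    obtain ⟨r, hr⟩ := IsCyclic.exists_ofOrder_eq_natCard (α := Fˣ)
    rw [Nat.card_eq_fintype_card, Fintype.card_units] at hr
    refine ⟨(r : F), r.ne_zero, fun h2 => ?_, fun h5 h4 => ?_⟩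
    · have : orderOf r ≤ 2 := orderOf_le_of_pow_eq_one two_pos (Units.ext (by simpa using h2))
      omega
    · have hd : orderOf r ∣ 4 := orderOf_dvd_of_pow_eq_one (Units.ext (by simpa using h4))
      have h3 : orderOf r ≠ 3 := fun h3 => by rw [h3] at hd; norm_num at hd
      have : orderOf r ≤ 4 := Nat.le_of_dvd (by norm_num) hd
      omega
  obtain ⟨ht2, ht4⟩ := ht
  have htt : t ≠ t⁻¹ := fun h' => ht2 (by
    rw [sq]; nth_rw 2 [h']; exact mul_inv_cancel₀ ht0)
  let D : GL (Fin 2) F := Matrix.GeneralLinearGroup.mkOfDetNeZero !![t, 0; 0, t⁻¹]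
    (by simp [Matrix.det_fin_two, ht0])
  have hDv : (D : Matrix (Fin 2) (Fin 2) F) = !![t, 0; 0, t⁻¹] := rfl
  have hDd : (D : Matrix (Fin 2) (Fin 2) F).det = 1 := by simp [hDv, Matrix.det_fin_two, ht0]
  have hDord : (orderOf D).Coprime p := by
    have h1 : D ^ (Fintype.card F - 1) = 1 := by
      apply Units.ext
      rw [Units.val_pow_eq_pow_val, hDv, show (!![t, 0; 0, t⁻¹] : Matrix (Fin 2) (Fin 2) F) =
        Matrix.diagonal ![t, t⁻¹] by ext i j; fin_cases i <;> fin_cases j <;> simp,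
        Matrix.diagonal_pow, Units.val_one, ← Matrix.diagonal_one]
      congr 1
      funext i
      fin_cases i <;> simp [FiniteField.pow_card_sub_one_eq_one, ht0]
    refine Nat.Coprime.coprime_dvd_left (orderOf_dvd_of_pow_eq_one h1) ?_
    rw [Nat.coprime_comm, (Fact.out : p.Prime).coprime_iff_not_dvd]
    intro hd
    have h2 : p ∣ Fintype.card F := hF ▸ dvd_pow_self p hf0
    have h3 := Nat.dvd_sub h2 hd
    rw [show Fintype.card F - (Fintype.card F - 1) = 1 by omega] at h3
    exact (Fact.out : p.Prime).ne_one (Nat.dvd_one.1 h3)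
  have hcommD : ∀ x : GL (Fin 2) F, x * D = D * x →
      (x : Matrix (Fin 2) (Fin 2) F) 0 1 = 0 ∧ (x : Matrix (Fin 2) (Fin 2) F) 1 0 = 0 := by
    intro x hx
    have h' := congrArg (Units.val (α := Matrix (Fin 2) (Fin 2) F)) hx
    simp only [Units.val_mul, hDv] at h'
    have e01 := congrArg (fun Y : Matrix (Fin 2) (Fin 2) F => Y 0 1) h'
    have e10 := congrArg (fun Y : Matrix (Fin 2) (Fin 2) F => Y 1 0) h'
    simp [Matrix.mul_apply, Fin.sum_univ_two] at e01 e10
    constructor
    · exact (mul_eq_zero.1 (show (x : Matrix (Fin 2) (Fin 2) F) 0 1 * (t - t⁻¹) = 0 by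
        linear_combination -e01)).resolve_right (sub_ne_zero.2 htt)
    · exact (mul_eq_zero.1 (show (x : Matrix (Fin 2) (Fin 2) F) 1 0 * (t - t⁻¹) = 0 by
        linear_combination e10)).resolve_right (sub_ne_zero.2 htt)
  obtain ⟨A, hA, hDA⟩ := h.1.2 ⟨π D, mk_mem_of_det G hG hDd⟩
  have hD : D ∈ lift G A := ⟨_, hDA, rfl⟩
  have hnilA := isNilpotent_lift G (h.2.2 A hA)
  have hcop : ∀ x ∈ lift G A, (orderOf x).Coprime (orderOf D) → x * D = D * x := fun x hx hc =>
    congrArg Subtype.val (CfsgLib.HallClasses.commute_of_nilpotent hnilA ⟨x, hx⟩ ⟨D, hD⟩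
      (by simpa [Subgroup.orderOf_mk] using hc)).eq
  refine ⟨A, hA, ?_, ?_⟩
  swap
  · intro l hl
    obtain ⟨k, hk⟩ := (hu l).2.pow
    obtain ⟨h01, h10⟩ := hcommD (u l) (hcop _ hl ((Nat.Coprime.pow_right k hDord).symm.coprime_dvd_left
      (orderOf_dvd_of_pow_eq_one hk)))
    have hu1 := diag_unipotent_eq_one (u l) h01 h10 hk
    obtain ⟨a, ha⟩ := (hu l).2.uniq (Pi.single 0 1) (by rw [hu1, Units.val_one, one_mulVec])
    obtain ⟨b, hb⟩ := (hu l).2.uniq (Pi.single 1 1) (by rw [hu1, Units.val_one, one_mulVec])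
    have a0 := congrFun ha 0
    have a1 := congrFun ha 1
    have b1 := congrFun hb 1
    simp at a0 a1 b1
    rcases a1 with h1 | h1
    · rw [h1, zero_mul] at a0; exact one_ne_zero a0
    · rw [h1, mul_zero] at b1; exact one_ne_zero b1
  rintro g hgA ⟨hgE, hgC⟩
  -- the elements of determinant one commuting with g
  set δ : cg g →* Fˣ := Matrix.GeneralLinearGroup.det.comp (cg g).subtype with hδ
  have hK : Fintype.card F + 1 ≤ Nat.card δ.ker ∧
      Nat.card δ.ker * Nat.card δ.range = Fintype.card F ^ 2 - 1 ∧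
      Nat.card δ.range ∣ Fintype.card F - 1 := by
    have h1 : Nat.card δ.ker * Nat.card δ.range = Fintype.card F ^ 2 - 1 := by
      rw [← card_cg hgE, ← Subgroup.card_mul_index δ.ker, Subgroup.index_ker]
    have h2 : Nat.card δ.range ∣ Fintype.card F - 1 := by
      rw [← Fintype.card_units, ← Nat.card_eq_fintype_card]
      exact Subgroup.card_subgroup_dvd_card _
    refine ⟨?_, h1, h2⟩
    have h3 : Nat.card δ.range ≤ Fintype.card F - 1 := Nat.le_of_dvd (by omega) h2
    have h4 : Fintype.card F ^ 2 - 1 = (Fintype.card F + 1) * (Fintype.card F - 1) := by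
      rw [← Nat.sq_sub_sq, one_pow]
    have h5 := Nat.mul_le_mul_left (Nat.card δ.ker) h3
    rw [h1, h4] at h5
    exact Nat.le_of_mul_le_mul_right h5 (by omega)
  have hkerz : ∀ x : cg g, x ∈ δ.ker → (x : GL (Fin 2) F) ∈ Subgroup.zpowers g := fun x hx =>
    hgC _ (mk_mem_of_det G hG (congrArg Units.val (MonoidHom.mem_ker.1 hx)))
      (Subgroup.mem_centralizer_singleton_iff.1 x.2)
  have hzA : Subgroup.zpowers g ≤ lift G A := Subgroup.zpowers_le.2 hgA
  have hgdiag : ¬ ((g : Matrix (Fin 2) (Fin 2) F) 1 0 = 0) := by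
    intro h0
    refine hgE (Pi.single 0 1) (by simp) ⟨(g : Matrix (Fin 2) (Fin 2) F) 0 0, fun h00 => ?_, ?_⟩
    · apply Matrix.GeneralLinearGroup.det_ne_zero g
      rw [Matrix.det_fin_two, h0, h00]; ring
    · ext i
      fin_cases i <;> simp [Matrix.mulVec_single, h0]
  by_cases h5 : Fintype.card F = 5
  · -- an element of order three commuting with g
    have h3 : 3 ∣ Nat.card δ.ker := by
      have hr : Nat.card δ.range ∣ 4 := by simpa [h5] using hK.2.2
      refine (Nat.Coprime.dvd_of_dvd_mul_right ?_ (hK.2.1.symm ▸ by rw [h5]; norm_num :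
        3 ∣ Nat.card δ.ker * Nat.card δ.range))
      exact Nat.Coprime.coprime_dvd_right hr (by norm_num)
    haveI : Fact (Nat.Prime 3) := ⟨Nat.prime_three⟩
    obtain ⟨x, hx⟩ := exists_prime_orderOf_dvd_card' 3 h3
    set y : GL (Fin 2) F := ((x : cg g) : GL (Fin 2) F) with hy
    have hy3 : orderOf y = 3 := by rw [hy, Subgroup.orderOf_coe, Subgroup.orderOf_coe, hx]
    have hDo : (orderOf y).Coprime (orderOf D) := by
      rw [hy3]
      refine Nat.Coprime.coprime_dvd_right (orderOf_dvd_of_pow_eq_one (n := 4) ?_) (by norm_num)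
      apply Units.ext
      rw [Units.val_pow_eq_pow_val, hDv, show (!![t, 0; 0, t⁻¹] : Matrix (Fin 2) (Fin 2) F) =
        Matrix.diagonal ![t, t⁻¹] by ext i j; fin_cases i <;> fin_cases j <;> simp,
        Matrix.diagonal_pow, Units.val_one, ← Matrix.diagonal_one]
      congr 1
      funext i
      have hpow : ∀ s : F, s ≠ 0 → s ^ 4 = 1 := fun s hs => by
        have := FiniteField.pow_card_sub_one_eq_one s hs
        rwa [h5] at this
      fin_cases i <;> simp [hpow, ht0]
    obtain ⟨y01, y10⟩ := hcommD y (hcop y (hzA (hkerz _ x.2)) hDo)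
    have hygc : y * g = g * y := Subgroup.mem_centralizer_singleton_iff.1 (x : cg g).2
    have hne : (y : Matrix (Fin 2) (Fin 2) F) 0 0 ≠ (y : Matrix (Fin 2) (Fin 2) F) 1 1 := by
      intro heq
      have hdet : (y : Matrix (Fin 2) (Fin 2) F).det = 1 := congrArg Units.val (MonoidHom.mem_ker.1 x.2)
      rw [Matrix.det_fin_two, y01, ← heq, zero_mul, sub_zero, ← sq] at hdet
      have hy2 : y ^ 2 = 1 := by
        apply Units.ext
        rw [Units.val_pow_eq_pow_val, Units.val_one, sq]
        ext i j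
        fin_cases i <;> fin_cases j <;> simp [Matrix.mul_apply, y01, y10, ← heq, ← sq, hdet]
      have := orderOf_dvd_of_pow_eq_one hy2
      rw [hy3] at this
      norm_num at this
    have h' := congrArg (fun Y : GL (Fin 2) F => (Y : Matrix (Fin 2) (Fin 2) F) 1 0) hygc
    simp [Matrix.mul_apply, Fin.sum_univ_two, y10, y01] at h'
    exact hne (mul_left_cancel₀ hgdiag
      (show (g : Matrix (Fin 2) (Fin 2) F) 1 0 * (y : Matrix (Fin 2) (Fin 2) F) 0 0 =
        (g : Matrix (Fin 2) (Fin 2) F) 1 0 * (y : Matrix (Fin 2) (Fin 2) F) 1 1 by linear_combination -h'))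
  · -- an element central in the member, up to scalars
    haveI := h.2.2 A hA
    set Abar := A.map G.subtype with hAbar
    haveI : Group.IsNilpotent ↥Abar :=
      Group.nilpotent_of_mulEquiv (Subgroup.equivMapOfInjective A G.subtype G.subtype_injective)
    have hD1 : π D ≠ 1 := by
      intro h1
      have hc := (QuotientGroup.eq_one_iff D).1 h1
      rw [Matrix.GeneralLinearGroup.center_eq_range_scalar] at hc
      obtain ⟨c, hc⟩ := hc
      have e0 := congrArg (fun Y : GL (Fin 2) F => (Y : Matrix (Fin 2) (Fin 2) F) 0 0) hc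
      have e1 := congrArg (fun Y : GL (Fin 2) F => (Y : Matrix (Fin 2) (Fin 2) F) 1 1) hc
      simp [hDv, Matrix.GeneralLinearGroup.scalar] at e0 e1
      exact htt (e0.symm.trans e1)
    haveI : Nontrivial ↥Abar := ⟨⟨⟨_, hD⟩, 1, fun h' => hD1 (congrArg Subtype.val h')⟩⟩
    obtain ⟨z', hz', hz1⟩ := (Subgroup.bot_or_exists_ne_one (Subgroup.center ↥Abar)).resolve_left
      (center_ne_bot ‹_›)
    obtain ⟨z, hz⟩ := QuotientGroup.mk'_surjective (Subgroup.center (GL (Fin 2) F)) (z' : _ ⧸ _)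
    have hlam : ∀ x : GL (Fin 2) F, x ∈ lift G A → ∃ c : F, c ≠ 0 ∧
        (x : Matrix (Fin 2) (Fin 2) F) * z = c • ((z : Matrix (Fin 2) (Fin 2) F) * x) := by
      intro x hx
      have h1 := congrArg Subtype.val (Subgroup.mem_center_iff.1 hz' ⟨_, hx⟩)
      simp only [Subgroup.coe_mul] at h1
      rw [← hz] at h1
      have h2 : π (x * z * (z * x)⁻¹) = 1 := by
        rw [map_mul, map_inv, mul_inv_eq_one, map_mul, map_mul]
        exact h1
      have hc := (QuotientGroup.eq_one_iff _).1 h2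
      rw [Matrix.GeneralLinearGroup.center_eq_range_scalar] at hc
      obtain ⟨c, hc⟩ := hc
      refine ⟨c, c.ne_zero, ?_⟩
      have h3 : x * z = Matrix.GeneralLinearGroup.scalar (Fin 2) c * (z * x) := by rw [hc]; group
      rw [← Units.val_mul, h3, Units.val_mul, Units.val_mul]
      ext i j
      simp [Matrix.GeneralLinearGroup.scalar]
    have hznsc : ¬ ((z : Matrix (Fin 2) (Fin 2) F) 0 1 = 0 ∧ (z : Matrix (Fin 2) (Fin 2) F) 1 0 = 0 ∧
        (z : Matrix (Fin 2) (Fin 2) F) 0 0 = (z : Matrix (Fin 2) (Fin 2) F) 1 1) := by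
      rintro ⟨h01, h10, heq⟩
      refine hz1 (Subtype.ext ?_)
      rw [← hz]
      refine (QuotientGroup.eq_one_iff z).2 (Subgroup.mem_center_iff.2 fun x => Units.ext ?_)
      rw [Units.val_mul, Units.val_mul]
      ext i j
      fin_cases i <;> fin_cases j <;> simp [Matrix.mul_apply, Fin.sum_univ_two, h01, h10, heq, mul_comm]
    obtain ⟨μ, hμ0, hμ⟩ := hlam D hD
    have m00 := congrArg (fun Y : Matrix (Fin 2) (Fin 2) F => Y 0 0) hμ
    have m01 := congrArg (fun Y : Matrix (Fin 2) (Fin 2) F => Y 0 1) hμ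
    have m10 := congrArg (fun Y : Matrix (Fin 2) (Fin 2) F => Y 1 0) hμ
    have m11 := congrArg (fun Y : Matrix (Fin 2) (Fin 2) F => Y 1 1) hμ
    simp [hDv, Matrix.mul_apply, Fin.sum_univ_two] at m00 m01 m10 m11
    set z00 := (z : Matrix (Fin 2) (Fin 2) F) 0 0 with hz00
    set z01 := (z : Matrix (Fin 2) (Fin 2) F) 0 1 with hz01
    set z10 := (z : Matrix (Fin 2) (Fin 2) F) 1 0 with hz10
    set z11 := (z : Matrix (Fin 2) (Fin 2) F) 1 1 with hz11
    -- z is diagonal
    obtain ⟨h01, h10⟩ : z01 = 0 ∧ z10 = 0 := by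
      have key : μ = 1 → z01 = 0 ∧ z10 = 0 := by
        intro h1
        rw [h1, one_mul] at m01 m10
        exact ⟨(mul_eq_zero.1 (show z01 * (t - t⁻¹) = 0 by linear_combination m01)).resolve_right
          (sub_ne_zero.2 htt), (mul_eq_zero.1 (show z10 * (t - t⁻¹) = 0 by
            linear_combination -m10)).resolve_right (sub_ne_zero.2 htt)⟩
      by_cases h1 : μ = 1
      · exact key h1
      · constructor
        · by_contra hne
          -- then μ = t ^ 2, and the other entries vanish unless μ = t ^ (-2)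
          have hμt : μ = t ^ 2 := by
            have : z01 * t = z01 * (μ * t⁻¹) := by linear_combination m01
            have h2 := mul_left_cancel₀ hne this
            rw [sq]; nth_rw 1 [h2]; field_simp
          have h10' : z10 = 0 := by
            by_contra hne'
            have : z10 * t⁻¹ = z10 * (μ * t) := by linear_combination m10
            have h2 := mul_left_cancel₀ hne' this
            refine ht4 h5 ?_
            rw [hμt] at h2
            field_simp at h2
            linear_combination -h2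
          have h00 : z00 = 0 := (mul_eq_zero.1 (show z00 * (t * (1 - μ)) = 0 by
            linear_combination m00)).resolve_right (mul_ne_zero ht0 (sub_ne_zero.2 (Ne.symm h1)))
          apply Matrix.GeneralLinearGroup.det_ne_zero z
          rw [Matrix.det_fin_two, ← hz00, ← hz10, h00, h10']; ring
        · by_contra hne
          have hμt : μ = (t ^ 2)⁻¹ := by
            have : z10 * t⁻¹ = z10 * (μ * t) := by linear_combination m10
            have h2 := mul_left_cancel₀ hne this
            rw [sq, mul_inv]; nth_rw 1 [h2]; field_simp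
          have h01' : z01 = 0 := by
            by_contra hne'
            have : z01 * t = z01 * (μ * t⁻¹) := by linear_combination m01
            have h2 := mul_left_cancel₀ hne' this
            refine ht4 h5 ?_
            rw [hμt] at h2
            field_simp at h2
            linear_combination h2
          have h00 : z00 = 0 := (mul_eq_zero.1 (show z00 * (t * (1 - μ)) = 0 by
            linear_combination m00)).resolve_right (mul_ne_zero ht0 (sub_ne_zero.2 (Ne.symm h1)))
          apply Matrix.GeneralLinearGroup.det_ne_zero z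
          rw [Matrix.det_fin_two, ← hz00, ← hz01, h00, h01']; ring
    have hcd : z00 ≠ z11 := fun he => hznsc ⟨h01, h10, he⟩
    obtain ⟨lam, hlam0, hl⟩ := hlam g hgA
    have l00 := congrArg (fun Y : Matrix (Fin 2) (Fin 2) F => Y 0 0) hl
    have l01 := congrArg (fun Y : Matrix (Fin 2) (Fin 2) F => Y 0 1) hl
    have l10 := congrArg (fun Y : Matrix (Fin 2) (Fin 2) F => Y 1 0) hl
    have l11 := congrArg (fun Y : Matrix (Fin 2) (Fin 2) F => Y 1 1) hl
    simp [Matrix.mul_apply, Fin.sum_univ_two, ← hz00, ← hz01, ← hz10, ← hz11, h01, h10] at l00 l01 l10 l11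
    set M := (g : Matrix (Fin 2) (Fin 2) F) with hM
    have hg01 : M 0 1 ≠ 0 := by
      intro h0
      refine hgE (Pi.single 1 1) (by simp) ⟨M 1 1, fun h11 => ?_, ?_⟩
      · apply Matrix.GeneralLinearGroup.det_ne_zero g
        rw [← hM, Matrix.det_fin_two, h0, h11]; ring
      · ext i
        fin_cases i <;> simp [← hM, Matrix.mulVec_single, h0]
    have hd : z11 = lam * z00 := mul_left_cancel₀ hg01 (by linear_combination l01)
    have hc : z00 = lam * z11 := mul_left_cancel₀ hgdiag (by linear_combination l10)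
    have hlam1 : lam ≠ 1 := fun h1 => hcd (by rw [hd, h1, one_mul])
    have hz00ne : z00 ≠ 0 := fun h0 => hcd (by rw [hd, h0, mul_zero])
    have g00 : M 0 0 = 0 := (mul_eq_zero.1 (show M 0 0 * (z00 * (1 - lam)) = 0 by
      linear_combination l00)).resolve_right (mul_ne_zero hz00ne (sub_ne_zero.2 (Ne.symm hlam1)))
    have g11 : M 1 1 = 0 := (mul_eq_zero.1 (show M 1 1 * (z11 * (1 - lam)) = 0 by
      linear_combination l11)).resolve_right
        (mul_ne_zero (fun h0 => hcd (by rw [hc, h0, mul_zero])) (sub_ne_zero.2 (Ne.symm hlam1)))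
    -- so every element of determinant one commuting with g has order dividing four
    haveI := isCyclic_cg hgE
    have h4 : ∀ x ∈ δ.ker, x ^ 4 = 1 := by
      intro x hx
      have hX : ((x : GL (Fin 2) F) : Matrix (Fin 2) (Fin 2) F) * M = M * _ :=
        congrArg (Units.val (α := Matrix (Fin 2) (Fin 2) F)) (Subgroup.mem_centralizer_singleton_iff.1 x.2)
      have hdet : ((x : GL (Fin 2) F) : Matrix (Fin 2) (Fin 2) F).det = 1 :=
        congrArg Units.val (MonoidHom.mem_ker.1 hx)
      obtain ⟨k, hk⟩ := Subgroup.mem_zpowers_iff.1 (hkerz x hx)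
      -- g squares to a scalar
      set e := M 0 1 * M 1 0 with he
      have hgg : M * M = e • (1 : Matrix (Fin 2) (Fin 2) F) := by
        ext i j
        fin_cases i <;> fin_cases j <;> simp [Matrix.mul_apply, Fin.sum_univ_two, g00, g11, he, mul_comm]
      have hgg' : g ^ (2 : ℤ) ∈ Subgroup.center (GL (Fin 2) F) := by
        refine Subgroup.mem_center_iff.2 fun y => Units.ext ?_
        simp only [zpow_two, Units.val_mul, ← hM, hgg, mul_smul_comm, smul_mul_assoc, mul_one,
          one_mul]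
      rw [Matrix.GeneralLinearGroup.center_eq_range_scalar] at hgg'
      obtain ⟨c, hc'⟩ := hgg'
      set m := k / 2
      have hkm : k = 2 * m + k % 2 := (Int.mul_ediv_add_emod k 2).symm
      have hxv : (x : GL (Fin 2) F) = Matrix.GeneralLinearGroup.scalar (Fin 2) (c ^ m) * g ^ (k % 2) := by
        rw [← hk, map_zpow, hc', ← _root_.zpow_mul, ← _root_.zpow_add, ← hkm]
      apply Subtype.ext
      rw [Subgroup.coe_pow, Subgroup.coe_one]
      apply Units.ext
      rw [Units.val_pow_eq_pow_val, Units.val_one]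
      generalize c ^ m = d at hxv
      set a : F := ((d : Fˣ) : F) with ha
      rcases Int.emod_two_eq_zero_or_one k with h2 | h2 <;> rw [h2] at hxv
      · rw [zpow_zero, mul_one] at hxv
        have hXs : ((x : GL (Fin 2) F) : Matrix (Fin 2) (Fin 2) F) = a • 1 := by
          rw [hxv]; ext i j; fin_cases i <;> fin_cases j <;> simp [Matrix.GeneralLinearGroup.scalar, ha]
        rw [hXs, Matrix.det_smul, det_one, mul_one, Fintype.card_fin] at hdet
        rw [hXs, _root_.smul_pow, one_pow, show a ^ 4 = (a ^ 2) ^ 2 by ring, hdet, one_pow, one_smul]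
      · rw [zpow_one] at hxv
        have hXs : ((x : GL (Fin 2) F) : Matrix (Fin 2) (Fin 2) F) = a • M := by
          rw [hxv, Units.val_mul]
          ext i j; fin_cases i <;> fin_cases j <;> simp [Matrix.GeneralLinearGroup.scalar, ha, hM]
        rw [hXs, Matrix.det_smul, Fintype.card_fin, Matrix.det_fin_two, g00, g11] at hdet
        rw [hXs, _root_.smul_pow, show M ^ 4 = (M * M) * (M * M) by noncomm_ring, hgg, smul_mul_assoc,
          one_mul, smul_smul, smul_smul,
          show a ^ 4 * e * e = (a ^ 2 * (0 * 0 - M 0 1 * M 1 0)) ^ 2 by ring, hdet, one_pow, one_smul]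
    obtain ⟨k0, hk0⟩ := IsCyclic.exists_generator (α := δ.ker)
    have hle : Nat.card δ.ker ≤ 4 := by
      rw [← orderOf_eq_card_of_forall_mem_zpowers hk0]
      exact orderOf_le_of_pow_eq_one (by norm_num) (Subtype.ext (h4 _ k0.2))
    have := hK.1
    omega


/-- A cover of a group is a finite set of proper subgroups whose union is the whole group; it is minimal when no cover has fewer members, and nilpotent when all its members are nilpotent. Let F be a finite field with q elements and n ≥ 3, or n = 2 and q ≥ 4. Then no subgroup of PGL_n(F) = GL_n(F)/Z(GL_n(F)) containing the image of SL_n(F) has a nilpotent minimal cover. -/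
theorem result {F : Type*} [Field F] [Fintype F] (n : ℕ) (hn : 3 ≤ n ∨ (n = 2 ∧ 4 ≤ Fintype.card F))
    (G : Subgroup (GL (Fin n) F ⧸ Subgroup.center (GL (Fin n) F)))
    (hG : ((Matrix.SpecialLinearGroup.toGL : Matrix.SpecialLinearGroup (Fin n) F →* GL (Fin n) F).range).map
      (QuotientGroup.mk' (Subgroup.center (GL (Fin n) F))) ≤ G) :
    ¬ ∃ 𝓐 : Finset (Subgroup ↥G), ((∀ A ∈ 𝓐, A ≠ ⊤) ∧ (∀ g : ↥G, ∃ A ∈ 𝓐, g ∈ A)) ∧ (∀ 𝓑 : Finset (Subgroup ↥G), (∀ A ∈ 𝓑, A ≠ ⊤) ∧ (∀ g : ↥G, ∃ A ∈ 𝓑, g ∈ A) → 𝓐.card ≤ 𝓑.card) ∧ (∀ A ∈ 𝓐, Group.IsNilpotent ↥A) := by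
  obtain ⟨p, hchar⟩ := CharP.exists F
  haveI := hchar
  obtain ⟨f, hp, hF⟩ := FiniteField.card F p
  haveI := Fact.mk hp
  rintro ⟨𝓐, h⟩
  rcases hn with hn | ⟨rfl, hq⟩
  · exact false_of_three G hG hn (PNat.ne_zero f) hF h
  · exact false_of_two (PNat.ne_zero f) hF hq G hG h

end Cfsg.Agent.S3894
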