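import Cfsg.Statements.S4016
import Cfsg.Agent.Lib.SchurExt.CyclicAbelian
-- import your own Cfsg.Agent.* helpers here

set_option autoImplicit false
open Cfsg

namespace Cfsg.Agent.S4016

open Subgroup
open CfsgLib.SchurExt.MixedPrimes CfsgLib.SchurExt.CyclicAbelian

universe u

private theorem main (p : ℕ) [hp : Fact p.Prime] : ∀ (n : ℕ) (G : Type u) [Group G] [Finite G],
    Nat.card G = n → (∀ P : Sylow p G, IsCyclic P) →
    (∀ H : Subgroup G, ¬ p ∣ Nat.card H → IsMulCommutative H) →
    Cfsg.HasNormalPComplement p G ∨ ∀ P : Sylow p G, (P : Subgroup G).Normal := by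
  intro n
  induction n using Nat.strong_induction_on with
  | _ n ih =>
  intro G _ _ hn hcyc hab
  by_contra hcon
  push Not at hcon
  obtain ⟨hnc, P₀, hP₀⟩ := hcon
  have hdich : ∀ H : Subgroup G, H ≠ ⊤ → Dich p H := by
    intro H hH
    have hlt : Nat.card H < n := by
      rw [← hn]
      exact lt_of_le_of_ne (Subgroup.card_le_card_group H) fun e => hH (Subgroup.eq_top_of_card_eq H e)
    have hcycH : ∀ P : Sylow p H, IsCyclic P := by
      intro P
      obtain ⟨P', hP'⟩ := (P.isPGroup'.map H.subtype).exists_le_sylow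
      haveI := hcyc P'
      exact isCyclic_of_injective ((Subgroup.inclusion hP').comp
        (Subgroup.equivMapOfInjective (P : Subgroup H) H.subtype H.subtype_injective).toMonoidHom)
        ((Subgroup.inclusion_injective hP').comp (MulEquiv.injective _))
    have habH : ∀ K : Subgroup H, ¬ p ∣ Nat.card K → IsMulCommutative K := by
      intro K hK
      have h1 := hab (K.map H.subtype)
        (by rw [Subgroup.card_map_of_injective H.subtype_injective]; exact hK)
      refine ⟨⟨fun a b => ?_⟩⟩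
      have h2 := congrArg Subtype.val (h1.is_comm.comm
        (⟨_, a.1, a.2, rfl⟩ : K.map H.subtype) ⟨_, b.1, b.2, rfl⟩)
      exact Subtype.ext (Subtype.ext h2)
    rcases ih _ hlt H rfl hcycH habH with ⟨S, N, hN, hc⟩ | hS
    · refine Or.inl ⟨N.map H.subtype, map_subtype_le N, ?_, ?_, ?_⟩
      · intro x hx
        rw [mem_normalizer_iff]
        intro y
        constructor
        · rintro ⟨z, hz, rfl⟩
          exact ⟨⟨x, hx⟩ * z * ⟨x, hx⟩⁻¹, hN.conj_mem z hz _, rfl⟩
        · rintro ⟨z, hz, e⟩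
          refine ⟨⟨x, hx⟩⁻¹ * z * ⟨x, hx⟩⁻¹⁻¹, hN.conj_mem z hz _, ?_⟩
          show x⁻¹ * (z : G) * x⁻¹⁻¹ = y
          rw [show (z : G) = x * y * x⁻¹ from e]
          group
      · rw [Subgroup.card_map_of_injective H.subtype_injective, ← hc.index_eq_card]
        exact S.not_dvd_index
      · intro x hx hxc
        refine ⟨⟨x, hx⟩, ?_, rfl⟩
        show (⟨x, hx⟩ : H) ∈ N
        rw [← QuotientGroup.eq_one_iff]
        obtain ⟨i, hi⟩ := IsPGroup.iff_card.1 S.isPGroup'
        refine orderOf_eq_one_iff.1 (Nat.eq_one_of_dvd_coprimes (hxc.pow_right i) ?_ ?_)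
        · exact (orderOf_map_dvd (QuotientGroup.mk' N) _).trans (dvd_of_eq (Subgroup.orderOf_mk x hx))
        · rw [← hi, ← hc.symm.index_eq_card]
          exact orderOf_dvd_natCard _
    · obtain ⟨S⟩ := (inferInstance : Nonempty (Sylow p H))
      haveI := hS S
      refine Or.inr ⟨(S : Subgroup H).map H.subtype, S.isPGroup'.map _, map_subtype_le _, ?_, ?_⟩
      · intro x hx
        rw [mem_normalizer_iff]
        intro y
        constructor
        · rintro ⟨z, hz, rfl⟩
          exact ⟨⟨x, hx⟩ * z * ⟨x, hx⟩⁻¹, (hS S).conj_mem z hz _, rfl⟩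
        · rintro ⟨z, hz, e⟩
          refine ⟨⟨x, hx⟩⁻¹ * z * ⟨x, hx⟩⁻¹⁻¹, (hS S).conj_mem z hz _, ?_⟩
          show x⁻¹ * (z : G) * x⁻¹⁻¹ = y
          rw [show (z : G) = x * y * x⁻¹ from e]
          group
      · intro x hx hxp
        refine ⟨⟨x, hx⟩, ?_, rfl⟩
        have hxp' : Pel p (⟨x, hx⟩ : H) := hxp.imp fun k hk => Subtype.ext (by simpa using hk)
        exact ((IsPGroup.inf_normalizer_sylow hxp'.isPGroup S).le
          ⟨mem_zpowers _, by
            show (⟨x, hx⟩ : H) ∈ normalizer ((S : Subgroup H) : Set H)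
            rw [normalizer_eq_top_iff.2 (hS S)]; exact mem_top _⟩).2
  have hy : ∀ P : Sylow p G, ∃ y ∈ normalizer (P : Set G), (orderOf y).Coprime p ∧
      ∃ u ∈ P, y * u ≠ u * y := by
    intro P
    by_contra hno
    push Not at hno
    apply hnc
    refine CfsgLib.Transfer.hasNormalPComplement_of_le_centralizer P fun n hn' => ?_
    rw [mem_centralizer_iff]
    intro u hu
    obtain ⟨a, c, hac, hpa, hcc⟩ := exists_parts (p := p) n
    have h1 : n ^ a ∈ P :=
      ((IsPGroup.inf_normalizer_sylow hpa.isPGroup P).le ⟨mem_zpowers _, pow_mem hn' a⟩).2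
    exact (mem_centralizer_singleton_iff.1 (mem_of_two_pows hac
      (mem_centralizer_singleton_iff.2 (commute_of_sylow (hcyc P) h1 hu))
      (mem_centralizer_singleton_iff.2 (hno _ (pow_mem hn' c) hcc u hu)))).symm
  have hpG : p ∣ Nat.card G := by
    obtain ⟨y, -, -, u, hu, hne⟩ := hy P₀
    obtain ⟨k, hk⟩ := pel_of_mem P₀.isPGroup' hu
    have hu1 : u ≠ 1 := fun e => hne (by rw [e, mul_one, one_mul])
    obtain ⟨j, -, hj⟩ := (Nat.dvd_prime_pow hp.out).1 (orderOf_dvd_of_pow_eq_one hk)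
    have hj0 : j ≠ 0 := fun e => hu1 (orderOf_eq_one_iff.1 (by rw [hj, e, pow_zero]))
    exact ((dvd_pow_self p hj0).trans hj.symm.dvd).trans (orderOf_dvd_natCard u)
  have hexP : ∀ x : G, Pel p x → ∃ P : Sylow p G, x ∈ P := fun x hx => by
    obtain ⟨P, hP⟩ := hx.isPGroup.exists_le_sylow
    exact ⟨P, hP (mem_zpowers x)⟩
  have hPcent : ∀ N : Subgroup G, N.Normal → ¬ p ∣ Nat.card N → ∀ x : G, Pel p x →
      x ∈ centralizer (N : Set G) := by
    intro N hN hpN x hx
    haveI := hN
    obtain ⟨P, hxP⟩ := hexP x hx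
    obtain ⟨y, hy', hyc, u, hu, hne⟩ := hy P
    have hpS : ¬ p ∣ Nat.card ↥(zpowers y ⊔ N) := by
      intro hd
      have h1 := hd.trans (Dvd.intro _ (CfsgLib.NormalPComplement.card_sup_mul_card_inf
        (A := zpowers y) (B := N) (by rw [normalizer_eq_top_iff.2 hN]; exact le_top)))
      rcases (Nat.Prime.dvd_mul hp.out).1 h1 with h' | h'
      · rw [Nat.card_zpowers] at h'
        exact hp.out.ne_one (Nat.eq_one_of_dvd_coprimes hyc h' dvd_rfl)
      · exact hpN h'
    have hyN : y ∈ centralizer (N : Set G) := mem_centralizer_iff.2 fun m hm =>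
      congrArg Subtype.val ((hab _ hpS).is_comm.comm
        (⟨m, mem_sup_right hm⟩ : ↥(zpowers y ⊔ N)) ⟨y, mem_sup_left (mem_zpowers y)⟩)
    haveI : (centralizer (N : Set G)).Normal := Subgroup.normal_centralizer
    have hmem : ∀ w ∈ P, y * w * y⁻¹ * w⁻¹ ∈ P := fun w hw =>
      (P : Subgroup G).mul_mem ((mem_normalizer_iff.1 hy' w).1 hw) ((P : Subgroup G).inv_mem hw)
    have hinj : Function.Injective fun w : P => (⟨y * w * y⁻¹ * (w : G)⁻¹, hmem _ w.2⟩ : P) := by
      intro w w' e
      have e' : y * (w : G) * y⁻¹ * (w : G)⁻¹ = y * w' * y⁻¹ * (w' : G)⁻¹ := congrArg Subtype.val e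
      by_contra hww
      set d := (w' : G)⁻¹ * w with hd
      have hd1 : d ≠ 1 := fun e0 => hww (Subtype.ext (inv_mul_eq_one.1 e0).symm)
      have hdy : y * d = d * y := by
        have hc := commute_of_sylow (hcyc P) ((mem_normalizer_iff.1 hy' _).1 w.2) (inv_mem w'.2)
        calc y * d = (y * (w' : G) * y⁻¹)⁻¹ * (y * w * y⁻¹ * (w : G)⁻¹) * w * y := by rw [hd]; group
          _ = (y * (w' : G) * y⁻¹)⁻¹ * (y * w' * y⁻¹ * (w' : G)⁻¹) * w * y := by rw [e']
          _ = d * y := by rw [hd]; group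
      exact hne (fix_all_of_cyclic (hcyc P) hy' hyc ((P : Subgroup G).mul_mem (inv_mem w'.2) w.2) hd1 hdy u hu)
    obtain ⟨w, hw⟩ := (Finite.injective_iff_surjective.1 hinj) ⟨x, hxP⟩
    rw [← show y * (w : G) * y⁻¹ * (w : G)⁻¹ = x from congrArg Subtype.val hw,
      show y * (w : G) * y⁻¹ * (w : G)⁻¹ = y * ((w : G) * y⁻¹ * (w : G)⁻¹) by group]
    exact mul_mem hyN (Subgroup.Normal.conj_mem inferInstance _ (inv_mem hyN) _)
  set W := Subgroup.closure {x : G | Pel p x} with hW
  have hWn : W.Normal := by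
    refine ⟨fun x hx g => ?_⟩
    have hle : W.map (MulAut.conj g).toMonoidHom ≤ W := by
      rw [hW, MonoidHom.map_closure]
      exact Subgroup.closure_mono (by rintro - ⟨z, hz, rfl⟩; exact Pel.conj hz g)
    exact hle ⟨x, hx, rfl⟩
  have hWtop : W = ⊤ := by
    by_contra hWt
    apply hP₀
    have hPW : (P₀ : Subgroup G) ≤ W := fun x hx => Subgroup.subset_closure (pel_of_mem P₀.isPGroup' hx)
    suffices hall : ∀ x, Pel p x → x ∈ P₀ by
      exact ⟨fun x hx g => hall _ ((pel_of_mem P₀.isPGroup' hx).conj g)⟩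
    rcases hdich W hWt with ⟨K, hKW, hWK, hpK, hallK⟩ | ⟨U, hU, -, -, hallU⟩
    · have hKn : K.Normal := ⟨fun k hk g => hallK _ (hWn.conj_mem k (hKW hk) g) (by
        rw [show orderOf (g * k * g⁻¹) = orderOf k from MulEquiv.orderOf_eq (MulAut.conj g) k]
        exact coprime_of_mem hpK hk)⟩
      set M := W ⊓ normalizer ((P₀ : Subgroup G) : Set G) with hM
      have hWM : W ≤ M := by
        rw [← relIndex_eq_one]
        by_contra hne
        obtain ⟨r, hr, hrd⟩ := Nat.exists_prime_and_dvd hne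
        haveI := Fact.mk hr
        by_cases hrp : r = p
        · subst hrp
          have hPM : (P₀ : Subgroup G) ≤ M := le_inf hPW le_normalizer
          exact P₀.not_dvd_index (hrd.trans ((Dvd.intro_left _ (relIndex_mul_relIndex _ M W hPM inf_le_left)).trans
            (relIndex_dvd_index_of_le hPW)))
        · obtain ⟨R⟩ := (inferInstance : Nonempty (Sylow r W))
          have hRM : (R : Subgroup W).map W.subtype ≤ M := by
            rintro - ⟨x, hx, rfl⟩
            refine ⟨x.2, ?_⟩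
            have hxK : (x : G) ∈ K := hallK _ x.2 (by
              obtain ⟨i, hi⟩ := R.isPGroup' ⟨x, hx⟩
              have h1 : (x : G) ^ r ^ i = 1 := congrArg (fun t : (R : Subgroup W) => ((t : W) : G)) hi
              exact (((Nat.coprime_primes hr hp.out).2 hrp).pow_left i).coprime_dvd_left (orderOf_dvd_of_pow_eq_one h1))
            exact centralizer_le_normalizer _ (mem_centralizer_iff.2 fun v hv =>
              (mem_centralizer_iff.1 (hPcent K hKn hpK v (pel_of_mem P₀.isPGroup' hv)) _ hxK).symm)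
          have h1 : ((R : Subgroup W).map W.subtype).relIndex W = (R : Subgroup W).index := by
            rw [relIndex, ← Subgroup.comap_subtype, comap_map_eq_self_of_injective W.subtype_injective]
          exact R.not_dvd_index (h1 ▸ hrd.trans (Dvd.intro_left _ (relIndex_mul_relIndex _ M W hRM inf_le_left)))
      intro x hx
      exact ((IsPGroup.inf_normalizer_sylow hx.isPGroup P₀).le
        ⟨mem_zpowers x, (hWM (Subgroup.subset_closure hx)).2⟩).2
    · intro x hx
      have hUP : U = (P₀ : Subgroup G) :=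
        P₀.3 hU fun z hz => hallU z (hPW hz) (pel_of_mem P₀.isPGroup' hz)
      exact hUP.le (hallU x (Subgroup.subset_closure hx) hx)
  have hcentral : ∀ N : Subgroup G, N.Normal → ¬ p ∣ Nat.card N → ∀ g : G, ∀ m ∈ N, m * g = g * m := by
    intro N hN hpN g m hm
    have h1 : W ≤ centralizer (N : Set G) := (Subgroup.closure_le _).2 fun x hx => hPcent N hN hpN x hx
    exact mem_centralizer_iff.1 (h1 (hWtop ▸ mem_top g)) m hm
  have hNbot : ∀ N : Subgroup G, N.Normal → ¬ p ∣ Nat.card N → N = ⊥ := by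
    intro N hN hpN
    by_contra hne
    obtain ⟨r, hr, hrd⟩ := Nat.exists_prime_and_dvd (fun e => hne (Subgroup.card_eq_one.1 e))
    haveI := Fact.mk hr
    obtain ⟨⟨m, hm⟩, hmo⟩ := exists_prime_orderOf_dvd_card' r hrd
    rw [Subgroup.orderOf_mk] at hmo
    have hrp : r ≠ p := fun e => hpN (e ▸ hrd)
    obtain ⟨R, hR⟩ := (IsPGroup.of_card (n := 1)
      (by rw [Nat.card_zpowers, hmo, pow_one]) : IsPGroup r (zpowers m)).exists_le_sylow
    have hRab : IsMulCommutative R := by
      refine hab _ fun hd => ?_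
      obtain ⟨i, hi⟩ := IsPGroup.iff_card.1 R.isPGroup'
      rw [hi] at hd
      exact hrp ((Nat.prime_dvd_prime_iff_eq hp.out hr).1 (hp.out.dvd_of_dvd_pow hd)).symm
    have hres : Cfsg.pResidual r G = ⊤ := by
      rw [eq_top_iff, ← hWtop, hW, Subgroup.closure_le]
      rintro x ⟨k, hk⟩
      exact Subgroup.subset_closure
        ((((Nat.coprime_primes hp.out hr).2 hrp.symm).pow_left k).coprime_dvd_left (orderOf_dvd_of_pow_eq_one hk))
    have h2 := (CfsgLib.Transfer.abelian_decomp R hRab).1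
    have h3 := CfsgLib.Transfer.abelian_inf_pResidual R hRab
    rw [hres, inf_top_eq] at h3
    have h4 : m ∈ ((R : Subgroup G) ⊓ centralizer (normalizer (R : Set G) : Set G)) ⊓
        ⁅(R : Subgroup G), normalizer (R : Set G)⁆ :=
      ⟨⟨hR (mem_zpowers m), mem_centralizer_iff.2 fun y _ => (hcentral N hN hpN y m hm).symm⟩,
        h3 ▸ hR (mem_zpowers m)⟩
    rw [h2, mem_bot] at h4
    rw [h4, orderOf_one] at hmo
    exact hr.ne_one hmo.symm
  refine (CfsgLib.SchurExt.CyclicAbelian.Hyp.absurd' (p := p) ⟨hcyc, hab, hdich, ?_, hpG, hy⟩)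
  intro M hM
  by_contra hno
  push Not at hno
  obtain ⟨hM1, hMt⟩ := hno
  obtain ⟨U, hUn, hU, hU1⟩ : ∃ U : Subgroup G, U.Normal ∧ IsPGroup p U ∧ U ≠ ⊥ := by
    rcases hdich M hMt with ⟨K, hKM, -, hpK, hall⟩ | ⟨U, hU, hUM, hMU, hall⟩
    · have hKn : K.Normal := ⟨fun k hk g => hall _ (hM.conj_mem k (hKM hk) g) (by
        rw [show orderOf (g * k * g⁻¹) = orderOf k from MulEquiv.orderOf_eq (MulAut.conj g) k]
        exact coprime_of_mem hpK hk)⟩
      have hK := hNbot K hKn hpK
      refine ⟨M, hM, isPGroup_of_primes fun r hr hd => ?_, hM1⟩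
      haveI := Fact.mk hr
      by_contra hrp
      obtain ⟨⟨m, hm⟩, hmo⟩ := exists_prime_orderOf_dvd_card' r hd
      rw [Subgroup.orderOf_mk] at hmo
      have h5 := hall m hm (by rw [hmo]; exact (Nat.coprime_primes hr hp.out).2 hrp)
      rw [hK, mem_bot] at h5
      rw [h5, orderOf_one] at hmo
      exact hr.ne_one hmo.symm
    · refine ⟨U, ⟨fun k hk g => hall _ (hM.conj_mem k (hUM hk) g) ((pel_of_mem hU hk).conj g)⟩, hU, fun e => hM1 ?_⟩
      refine hNbot M hM fun hd => ?_
      obtain ⟨⟨m, hm⟩, hmo⟩ := exists_prime_orderOf_dvd_card' p hd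
      rw [Subgroup.orderOf_mk] at hmo
      have h5 := hall m hm ⟨1, by rw [pow_one, ← hmo, pow_orderOf_eq_one]⟩
      rw [e, mem_bot] at h5
      rw [h5, orderOf_one] at hmo
      exact hp.out.ne_one hmo.symm
  haveI := hUn
  obtain ⟨P, hUP⟩ := hU.exists_le_sylow
  obtain ⟨y, hy', hyc, u, hu, hne⟩ := hy P
  obtain ⟨v, hv, hv1⟩ := (Subgroup.bot_or_exists_ne_one _).resolve_left hU1
  have h1 : W ≤ centralizer (U : Set G) := (Subgroup.closure_le _).2 fun x hx => by
    obtain ⟨P', hxP'⟩ := hexP x hx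
    rw [SetLike.mem_coe, mem_centralizer_iff]
    intro a ha
    have haP' : a ∈ P' := by
      obtain ⟨g, rfl⟩ := MulAction.exists_smul_eq G P P'
      show a ∈ ((g • P : Sylow p G) : Subgroup G)
      rw [Sylow.coe_subgroup_smul]
      refine ⟨g⁻¹ * a * g, hUP ?_, ?_⟩
      · have := hUn.conj_mem a ha g⁻¹
        rwa [inv_inv] at this
      · show g * (g⁻¹ * a * g) * g⁻¹ = a
        group
    exact commute_of_sylow (hcyc P') haP' hxP'
  exact hne (fix_all_of_cyclic (hcyc P) hy' hyc (hUP hv) hv1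
    (mem_centralizer_iff.1 (h1 (hWtop ▸ mem_top y)) v hv).symm u hu)

/-- Let G be a finite group and p a prime such that a Sylow p-subgroup P of G is cyclic and every subgroup of G of order prime to p is abelian. Then G has a normal p-complement or P is normal in G. -/
theorem result {G : Type*} [Group G] [Finite G] {p : ℕ}
    [Fact p.Prime] (P : Sylow p G) (hcyc : IsCyclic P)
    (hab : ∀ H : Subgroup G, ¬ p ∣ Nat.card H → IsMulCommutative H) :
    Cfsg.HasNormalPComplement p G ∨ (P : Subgroup G).Normal := by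
  have hcycall : ∀ Q : Sylow p G, IsCyclic Q := fun Q => (Sylow.equiv P Q).isCyclic.1 hcyc
  rcases main p _ G rfl hcycall hab with h | h
  · exact Or.inl h
  · exact Or.inr (h P)

end Cfsg.Agent.S4016
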