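import Cfsg.Statements.S4017
import Cfsg.Agent.Lib.SchurExt.MixedPrimes
import Cfsg.Agent.Lib.NormalPComplement.Replacement
-- import your own Cfsg.Agent.* helpers here

set_option autoImplicit false
open Cfsg

namespace Cfsg.Agent.S4017

open Subgroup
open CfsgLib.SchurExt.MixedPrimes

universe u

private def Cond (p q : ℕ) (G : Type u) [Group G] : Prop :=
  (∀ H : Subgroup G, H ≠ ⊤ → ¬ IsPGroup q H → q ∣ Nat.card H → p ∣ Nat.card H) ∧
  (q ^ (Nat.card G).factorization q - 1 < p ∨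
    (p = q ^ (Nat.card G).factorization q - 1 ∧ ∀ P : Sylow p G, IsMulCommutative P))

private theorem main (p q : ℕ) [hp : Fact p.Prime] [hq : Fact q.Prime] (hpq : p ≠ q) (hp2 : p ≠ 2) : ∀ (n : ℕ) (G : Type u)
    [Group G] [Finite G], Nat.card G = n → p ∣ Nat.card G → q ∣ Nat.card G → Cond p q G →
    ∀ r : ℕ, r.Prime → r ∣ Nat.card G → r = p ∨ r = q := by
  intro n
  induction n using Nat.strong_induction_on with
  | _ n ih =>
  intro G _ _ hn hpG hqG hc
  obtain ⟨hmix, hlarge⟩ := hc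
  by_contra hcon
  push Not at hcon
  obtain ⟨r₀, hr₀, hr₀d, hr₀p, hr₀q⟩ := hcon
  set b := (Nat.card G).factorization q with hb
  have hprim : ∀ H : Subgroup G, H ≠ ⊤ → q ∣ Nat.card H → ∀ r : ℕ, r.Prime → r ∣ Nat.card H → r = p ∨ r = q := by
    intro H hH hqH r hr hrH
    by_cases hHq : IsPGroup q H
    · obtain ⟨i, hi⟩ := IsPGroup.iff_card.1 hHq
      rw [hi] at hrH
      exact Or.inr ((Nat.prime_dvd_prime_iff_eq hr hq.out).1 (hr.dvd_of_dvd_pow hrH))
    refine ih (Nat.card H) ?_ H rfl (hmix H hH hHq hqH) hqH ⟨?_, ?_⟩ r hr hrH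
    · rw [← hn]
      exact lt_of_le_of_ne (Subgroup.card_le_card_group H) fun e => hH (Subgroup.eq_top_of_card_eq H e)
    · intro K hK hKq hqK
      have e : Nat.card (K.map H.subtype) = Nat.card K :=
        (Nat.card_congr (Subgroup.equivMapOfInjective K _ H.subtype_injective).toEquiv).symm
      rw [← e]
      refine hmix _ (fun et => hH (top_le_iff.1 (et ▸ Subgroup.map_subtype_le K))) (fun hp' => hKq ?_) (e ▸ hqK)
      exact hp'.of_equiv (Subgroup.equivMapOfInjective K _ H.subtype_injective).symm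
    · have hle : (Nat.card H).factorization q ≤ b :=
        (Nat.factorization_le_iff_dvd Nat.card_pos.ne' Nat.card_pos.ne').2 H.card_subgroup_dvd_card q
      have hpow : q ^ (Nat.card H).factorization q ≤ q ^ b := Nat.pow_le_pow_right hq.out.pos hle
      rcases hlarge with hlt | ⟨heq, hab⟩
      · exact Or.inl (lt_of_le_of_lt (Nat.sub_le_sub_right hpow 1) hlt)
      · rcases hle.lt_or_eq with hlt | he
        · refine Or.inl ?_
          have h1 : q ^ (Nat.card H).factorization q < q ^ b := Nat.pow_lt_pow_right hq.out.one_lt hlt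
          have h2 : 0 < q ^ (Nat.card H).factorization q := pow_pos hq.out.pos _
          omega
        · refine Or.inr ⟨by rw [he]; exact heq, fun P => ?_⟩
          obtain ⟨P', hP'⟩ := (P.isPGroup'.map H.subtype).exists_le_sylow
          refine ⟨⟨fun x y => ?_⟩⟩
          have e1 := congrArg Subtype.val ((hab P').is_comm.comm
            (⟨_, hP' ⟨x.1, x.2, rfl⟩⟩ : (P' : Subgroup G)) ⟨_, hP' ⟨y.1, y.2, rfl⟩⟩)
          exact Subtype.ext (Subtype.ext e1)
  -- no subgroup of order prime to `p` is mixed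
  have hnm : ∀ H : Subgroup G, ¬ p ∣ Nat.card H → q ∣ Nat.card H → IsPGroup q H := by
    intro H hpH hqH
    by_contra hH
    exact hpH (hmix H (fun e => hpH (by rw [e, Subgroup.card_top]; exact hpG)) hH hqH)
  have hN1 : ∀ r : ℕ, r.Prime → r ≠ p → r ≠ q → ∀ R : Subgroup G, IsPGroup r R → R ≠ ⊥ →
      ∀ S : Subgroup G, IsPGroup q S → S ≠ ⊥ → ¬ (S ≤ normalizer (R : Set G) ∨ R ≤ normalizer (S : Set G)) := by
    intro r hr hrp hrq R hR hR1 S hS hS1 hor
    haveI := Fact.mk hr
    obtain ⟨i, hi⟩ := IsPGroup.iff_card.1 hR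
    obtain ⟨j, hj⟩ := IsPGroup.iff_card.1 hS
    have hcard : Nat.card ↥(S ⊔ R) * Nat.card ↥(S ⊓ R) = Nat.card S * Nat.card R := by
      rcases hor with h | h
      · exact CfsgLib.NormalPComplement.card_sup_mul_card_inf h
      · rw [sup_comm, inf_comm, mul_comm (Nat.card S)]
        exact CfsgLib.NormalPComplement.card_sup_mul_card_inf h
    have hpH : ¬ p ∣ Nat.card ↥(S ⊔ R) := fun hd => by
      have h1 := hd.trans (Dvd.intro _ hcard)
      rw [hi, hj] at h1
      rcases (Nat.Prime.dvd_mul hp.out).1 h1 with h | h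
      · exact hpq ((Nat.prime_dvd_prime_iff_eq hp.out hq.out).1 (hp.out.dvd_of_dvd_pow h))
      · exact hrp ((Nat.prime_dvd_prime_iff_eq hp.out hr).1 (hp.out.dvd_of_dvd_pow h)).symm
    have hi0 : i ≠ 0 := fun e => hR1 (Subgroup.card_eq_one.1 (by rw [hi, e, pow_zero]))
    have hj0 : j ≠ 0 := fun e => hS1 (Subgroup.card_eq_one.1 (by rw [hj, e, pow_zero]))
    obtain ⟨k, hk⟩ := IsPGroup.iff_card.1 (hnm _ hpH
      (((dvd_pow_self q hj0).trans hj.symm.dvd).trans (Subgroup.card_dvd_of_le le_sup_left)))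
    have h1 : r ∣ q ^ k := hk ▸ ((dvd_pow_self r hi0).trans hi.symm.dvd).trans (Subgroup.card_dvd_of_le le_sup_right)
    exact hrq ((Nat.prime_dvd_prime_iff_eq hr hq.out).1 (hr.dvd_of_dvd_pow h1))
  have hcyc : ∀ r : ℕ, r.Prime → r ∣ Nat.card G → ∃ x : G, orderOf x = r ∧ IsPGroup r (zpowers x) ∧ zpowers x ≠ ⊥ := by
    intro r hr hd
    haveI := Fact.mk hr
    obtain ⟨x, hx⟩ := exists_prime_orderOf_dvd_card' r hd
    refine ⟨x, hx, IsPGroup.of_card (n := 1) (by rw [Nat.card_zpowers, hx, pow_one]), fun e => ?_⟩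
    rw [zpowers_eq_bot] at e
    rw [e, orderOf_one] at hx
    exact hr.ne_one hx.symm
  -- normalizers of `q`-subgroups
  have hNq : ∀ S : Subgroup G, IsPGroup q S → S ≠ ⊥ → normalizer (S : Set G) ≠ ⊤ ∧
      ∀ r : ℕ, r.Prime → r ∣ Nat.card (normalizer (S : Set G)) → r = p ∨ r = q := by
    intro S hS hS1
    have hne : normalizer (S : Set G) ≠ ⊤ := fun e => by
      obtain ⟨x, -, hx, hx1⟩ := hcyc r₀ hr₀ hr₀d
      exact hN1 r₀ hr₀ hr₀p hr₀q _ hx hx1 S hS hS1 (Or.inr (e ▸ le_top))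
    refine ⟨hne, hprim _ hne ?_⟩
    obtain ⟨j, hj⟩ := IsPGroup.iff_card.1 hS
    have hj0 : j ≠ 0 := fun e => hS1 (Subgroup.card_eq_one.1 (by rw [hj, e, pow_zero]))
    exact ((dvd_pow_self q hj0).trans hj.symm.dvd).trans (Subgroup.card_dvd_of_le le_normalizer)
  -- proper normal subgroups are `p`-groups
  have hnorm : ∀ M : Subgroup G, M.Normal → M ≠ ⊤ → IsPGroup p M := by
    intro M hM hMt
    haveI := hM
    have hfr : ∀ (l : ℕ) [Fact l.Prime] (P : Sylow l M),
        Nat.card G ∣ Nat.card (normalizer ((P : Subgroup M).map M.subtype : Set G)) * Nat.card M := by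
      intro l _ P
      have h1 := Sylow.normalizer_sup_eq_top P
      have h2 := CfsgLib.NormalPComplement.card_sup_mul_card_inf
        (A := normalizer ((P : Subgroup M).map M.subtype : Set G)) (B := M)
        (by rw [normalizer_eq_top_iff.2 hM]; exact le_top)
      rw [h1, Subgroup.card_top] at h2
      exact Dvd.intro _ h2
    have hmapne : ∀ (l : ℕ) [Fact l.Prime] (P : Sylow l M), l ∣ Nat.card M →
        (P : Subgroup M).map M.subtype ≠ ⊥ := fun l _ P hl e =>
      P.ne_bot_of_dvd_card hl ((Subgroup.map_eq_bot_iff_of_injective _ M.subtype_injective).1 e)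
    have hqM : ¬ q ∣ Nat.card M := by
      intro hd
      obtain ⟨P⟩ := (inferInstance : Nonempty (Sylow q M))
      rcases (Nat.Prime.dvd_mul hr₀).1 (hr₀d.trans (hfr q P)) with h | h
      · rcases (hNq _ (P.isPGroup'.map _) (hmapne q P hd)).2 r₀ hr₀ h with e | e
        exacts [hr₀p e, hr₀q e]
      · rcases hprim M hMt hd r₀ hr₀ h with e | e
        exacts [hr₀p e, hr₀q e]
    refine isPGroup_of_primes fun r hr hd => ?_
    by_contra hrp
    have hrq : r ≠ q := fun e => hqM (e ▸ hd)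
    haveI := Fact.mk hr
    obtain ⟨P⟩ := (inferInstance : Nonempty (Sylow r M))
    have h := ((Nat.Prime.dvd_mul hq.out).1 (hqG.trans (hfr r P))).resolve_right hqM
    obtain ⟨⟨z, hzN⟩, hz⟩ := exists_prime_orderOf_dvd_card' q h
    rw [Subgroup.orderOf_mk] at hz
    refine hN1 r hr hrp hrq _ (P.isPGroup'.map _) (hmapne r P hd) (zpowers z)
      (IsPGroup.of_card (n := 1) (by rw [Nat.card_zpowers, hz, pow_one]))
      (fun e => hq.out.ne_one (by rw [← hz, zpowers_eq_bot.1 e, orderOf_one])) (Or.inl (zpowers_le.2 hzN))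
  -- some `p`-element acts on a `q`-subgroup
  have hfrob : ¬ CfsgLib.NormalPComplement.FrobeniusCondition q G := by
    intro hF
    obtain ⟨S, N, hN, hNc⟩ := CfsgLib.NormalPComplement.hasNormalPComplement_of_frobeniusCondition hF
    have h1 : Nat.card N * Nat.card (S : Subgroup G) = Nat.card G := hNc.card_mul
    obtain ⟨j, hj⟩ := IsPGroup.iff_card.1 S.isPGroup'
    have hNt : N ≠ ⊤ := fun e => by
      rw [e, Subgroup.card_top] at h1
      have h2 : Nat.card (S : Subgroup G) = 1 := Nat.eq_of_mul_eq_mul_left Nat.card_pos (h1.trans (mul_one _).symm)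
      exact S.ne_bot_of_dvd_card hqG (Subgroup.card_eq_one.1 h2)
    obtain ⟨i, hi⟩ := IsPGroup.iff_card.1 (hnorm N hN hNt)
    rw [← h1, hi, hj] at hr₀d
    rcases (Nat.Prime.dvd_mul hr₀).1 hr₀d with h | h
    · exact hr₀p ((Nat.prime_dvd_prime_iff_eq hr₀ hp.out).1 (hr₀.dvd_of_dvd_pow h))
    · exact hr₀q ((Nat.prime_dvd_prime_iff_eq hr₀ hq.out).1 (hr₀.dvd_of_dvd_pow h))
  unfold CfsgLib.NormalPComplement.FrobeniusCondition at hfrob
  push Not at hfrob
  obtain ⟨Q₀, hQ₀, g, hg, hgcop, hgc⟩ := hfrob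
  obtain ⟨c, hcQ, hgc'⟩ : ∃ c ∈ Q₀, c * g ≠ g * c := by
    by_contra hno
    push Not at hno
    exact hgc (mem_centralizer_iff.2 hno)
  have hc1 : c ≠ 1 := fun e => hgc' (by rw [e, one_mul, mul_one])
  have hQ1 : Q₀ ≠ ⊥ := fun e => hc1 (mem_bot.1 (e ▸ hcQ))
  have hgp : Pel p g := by
    have h1 : IsPGroup p (zpowers g) := isPGroup_of_primes fun r hr hd => by
      rw [Nat.card_zpowers] at hd
      refine ((hNq Q₀ hQ₀ hQ1).2 r hr (hd.trans ?_)).resolve_right fun e => ?_
      · exact (Subgroup.orderOf_mk g hg) ▸ orderOf_dvd_natCard _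
      · subst e
        exact hr.ne_one (Nat.eq_one_of_dvd_coprimes hgcop hd dvd_rfl)
    exact pel_of_mem h1 (mem_zpowers g)
  haveI : Finite (ConjAct G) := Finite.of_equiv G ConjAct.toConjAct.toEquiv
  set O := MulAction.orbit (zpowers (ConjAct.toConjAct g)) c with hO
  obtain ⟨Q, hQQ⟩ := hQ₀.exists_le_sylow
  have hQcard : Nat.card (Q : Subgroup G) = q ^ b := Q.card_eq_multiplicity
  have hOk : ∀ d ∈ O, ∃ k : ℤ, g ^ k * c * (g ^ k)⁻¹ = d := by
    rintro d ⟨⟨σ, i, rfl⟩, rfl⟩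
    refine ⟨i, ?_⟩
    show _ = (ConjAct.toConjAct g) ^ i • c
    rw [← map_zpow, ConjAct.toConjAct_smul]
  have hOsub : O ⊆ (Q₀ : Set G) \ {1} := by
    intro d hd
    obtain ⟨k, rfl⟩ := hOk d hd
    exact ⟨(mem_normalizer_iff.1 (zpow_mem hg k) c).1 hcQ, fun e => hc1 (conj_eq_one_iff.1 e)⟩
  have hOp : p ≤ O.ncard := by
    obtain ⟨k, hk⟩ := hgp
    have hKp : IsPGroup p (zpowers (ConjAct.toConjAct g)) :=
      Pel.isPGroup ⟨k, by rw [← map_pow, hk, map_one]⟩
    obtain ⟨i, hi⟩ := hKp.index (MulAction.stabilizer (zpowers (ConjAct.toConjAct g)) c)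
    rw [MulAction.index_stabilizer] at hi
    rw [hO, hi]
    refine Nat.le_self_pow (fun e0 => hgc' ?_) p
    rw [e0, pow_zero, Set.ncard_eq_one] at hi
    obtain ⟨e, he⟩ := hi
    have h1 : c ∈ O := MulAction.mem_orbit_self c
    have h2 : g * c * g⁻¹ ∈ O := ⟨⟨_, mem_zpowers _⟩, ConjAct.toConjAct_smul g c⟩
    rw [hO, he, Set.mem_singleton_iff] at h1 h2
    rw [← h1] at h2
    exact (mul_inv_eq_iff_eq_mul.1 h2).symm
  have hQ₀card : Nat.card Q₀ ≤ q ^ b := hQcard ▸ Subgroup.card_le_of_le hQQ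
  have hcard1 : ((Q₀ : Set G) \ {1}).ncard = Nat.card Q₀ - 1 := by
    rw [Set.ncard_diff_singleton_of_mem (one_mem Q₀), ← Nat.card_coe_set_eq]
    rfl
  have hOle : O.ncard ≤ Nat.card Q₀ - 1 := (Set.ncard_le_ncard hOsub).trans hcard1.le
  have hnlt : ¬ q ^ b - 1 < p := by omega
  obtain ⟨hpb, hab⟩ := hlarge.resolve_left hnlt
  have hqb : 0 < q ^ b := pow_pos hq.out.pos _
  have hC : 0 < Nat.card Q₀ := Nat.card_pos
  have hp2' := hp.out.two_le
  have hQeq : Q₀ = (Q : Subgroup G) := Subgroup.eq_of_le_of_card_ge hQQ (by rw [hQcard]; omega)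
  have hOeq : O = (Q₀ : Set G) \ {1} := Set.eq_of_subset_of_ncard_le hOsub (by rw [hcard1]; omega)
  have hpb' : p + 1 = q ^ b := by omega
  have hq2 : q = 2 := by
    have h1 : Even (q ^ b) := hpb' ▸ (hp.out.odd_of_ne_two hp2).add_one
    exact hq.out.even_iff.1 (Nat.even_pow.1 h1).1
  subst hq2
  have htr₀ : ∀ a ∈ Q, a ≠ 1 → ∃ k : ℤ, g ^ k * c * (g ^ k)⁻¹ = a := fun a ha ha1 =>
    hOk a (hOeq ▸ ⟨hQeq ▸ ha, ha1⟩)
  have hexp₀ : ∀ a ∈ Q, a * a = 1 := by
    intro a ha
    by_cases ha1 : a = 1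
    · rw [ha1, mul_one]
    obtain ⟨⟨e, heQ⟩, he⟩ := exists_prime_orderOf_dvd_card' 2
      (show 2 ∣ Nat.card (Q : Subgroup G) by rw [hQcard]; exact dvd_pow_self 2 (fun e => by
        have := hp.out.two_le
        rw [e, pow_zero] at hpb'; omega))
    rw [Subgroup.orderOf_mk] at he
    have he1 : e ≠ 1 := fun h => by rw [h, orderOf_one] at he; omega
    obtain ⟨k, hk⟩ := htr₀ a ha ha1
    obtain ⟨k', hk'⟩ := htr₀ e heQ he1
    have h1 : orderOf a = orderOf c := by
      rw [← hk]; exact MulEquiv.orderOf_eq (MulAut.conj (g ^ k)) c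
    have h2 : orderOf e = orderOf c := by
      rw [← hk']; exact MulEquiv.orderOf_eq (MulAut.conj (g ^ k')) c
    rw [← sq, ← show orderOf a = 2 from h1.trans (h2.symm.trans he), pow_orderOf_eq_one]
  have hgN : g ∈ normalizer ((Q : Subgroup G) : Set G) := by rw [← hQeq]; exact hg
  have hQne : (Q : Subgroup G) ≠ ⊥ := hQeq ▸ hQ1
  have hyp : CfsgLib.SchurExt.MixedPrimes.Hyp G p b := by
    refine ⟨hp.out, hp2, hpb', hpG, fun Q' => Q'.card_eq_multiplicity, ?_, hab, ?_, ?_, hprim, ?_⟩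
    · intro Q' a ha
      obtain ⟨x, rfl⟩ := MulAction.exists_smul_eq G Q Q'
      have ha' : a ∈ ((x • Q : Sylow 2 G) : Subgroup G) := ha
      rw [Sylow.coe_subgroup_smul] at ha'
      obtain ⟨d, hd, rfl⟩ := ha'
      show x * d * x⁻¹ * (x * d * x⁻¹) = 1
      calc x * d * x⁻¹ * (x * d * x⁻¹) = x * (d * d) * x⁻¹ := by group
        _ = 1 := by rw [hexp₀ d hd]; group
    · intro M hM
      by_contra hno
      push Not at hno
      obtain ⟨hM1, hMt⟩ := hno
      haveI := hM
      have hMp := hnorm M hM hMt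
      have hres : Cfsg.pResidual p G = ⊤ := by
        by_contra hne
        have h1 := hnorm _ CfsgLib.Transfer.pResidual_normal hne
        obtain ⟨a, ha, ha1⟩ := (Subgroup.bot_or_exists_ne_one _).resolve_left hQne
        obtain ⟨j, hj⟩ := h1 ⟨a, Subgroup.subset_closure (by
          show Nat.Coprime (orderOf a) p
          rw [orderOf_eq_prime (by rw [sq, hexp₀ a ha]) ha1]
          exact (Nat.coprime_primes Nat.prime_two hp.out).2 hp2.symm)⟩
        exact ha1 (mem_bot.1 (mem_of_two_pows (S := ⊥)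
          (((Nat.coprime_primes Nat.prime_two hp.out).2 hp2.symm).pow_right j)
          (mem_bot.2 (by rw [sq, hexp₀ a ha])) (mem_bot.2 (congrArg Subtype.val hj))))
      obtain ⟨P, hP⟩ := hMp.exists_le_sylow
      have hPC : ∀ y ∈ P, y ∈ centralizer (M : Set G) := fun y hy => mem_centralizer_iff.2 fun m hm =>
        congrArg Subtype.val ((hab P).is_comm.comm (⟨m, hP hm⟩ : (P : Subgroup G)) ⟨y, hy⟩)
      haveI : (centralizer (M : Set G)).Normal := Subgroup.normal_centralizer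
      by_cases hCt : centralizer (M : Set G) = ⊤
      · have h2 := (CfsgLib.Transfer.abelian_decomp P (hab P)).1
        have h3 := CfsgLib.Transfer.abelian_inf_pResidual P (hab P)
        rw [hres, inf_top_eq] at h3
        refine hM1 ((Subgroup.eq_bot_iff_forall _).2 fun m hm => ?_)
        have h4 : m ∈ ((P : Subgroup G) ⊓ centralizer (normalizer (P : Set G) : Set G)) ⊓
            ⁅(P : Subgroup G), normalizer (P : Set G)⁆ :=
          ⟨⟨hP hm, mem_centralizer_iff.2 fun y _ =>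
            ((mem_centralizer_iff.1 (hCt ▸ mem_top y)) m hm).symm⟩, h3 ▸ hP hm⟩
        rw [h2, mem_bot] at h4
        exact h4
      · have hPeq : (P : Subgroup G) = centralizer (M : Set G) :=
          (P.3 (hnorm _ inferInstance hCt) hPC).symm
        haveI : (P : Subgroup G).Normal := hPeq ▸ inferInstance
        have hcop : (Nat.card (P : Subgroup G)).Coprime (P : Subgroup G).index := P.card_coprime_index
        obtain ⟨L, hL⟩ := Subgroup.exists_right_complement'_of_coprime hcop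
        have hLc : Nat.card L = (P : Subgroup G).index := hL.symm.index_eq_card.symm
        have hpL : ¬ p ∣ Nat.card L := hLc ▸ P.not_dvd_index
        have hdiv : ∀ l : ℕ, l.Prime → l ≠ p → l ∣ Nat.card G → l ∣ Nat.card L := by
          intro l hl hlp hlG
          rw [← hL.card_mul] at hlG
          refine ((Nat.Prime.dvd_mul hl).1 hlG).resolve_left fun h => hlp ?_
          obtain ⟨i, hi⟩ := IsPGroup.iff_card.1 P.isPGroup'
          rw [hi] at h
          exact (Nat.prime_dvd_prime_iff_eq hl hp.out).1 (hl.dvd_of_dvd_pow h)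
        obtain ⟨k, hk⟩ := IsPGroup.iff_card.1 (hnm L hpL (hdiv 2 Nat.prime_two hp2.symm hqG))
        have h5 := hdiv r₀ hr₀ hr₀p hr₀d
        rw [hk] at h5
        exact hr₀q ((Nat.prime_dvd_prime_iff_eq hr₀ Nat.prime_two).1 (hr₀.dvd_of_dvd_pow h5))
    · intro Q' a ha d hd ha1 hd1
      obtain ⟨x, rfl⟩ := MulAction.exists_smul_eq G Q Q'
      have ha' : a ∈ ((x • Q : Sylow 2 G) : Subgroup G) := ha
      have hd' : d ∈ ((x • Q : Sylow 2 G) : Subgroup G) := hd
      rw [Sylow.coe_subgroup_smul] at ha' hd'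
      obtain ⟨a₁, ha₁, rfl⟩ := ha'
      obtain ⟨d₁, hd₁, rfl⟩ := hd'
      obtain ⟨k, hk⟩ := htr₀ a₁ ha₁ fun e => ha1 (by simp [e])
      obtain ⟨k', hk'⟩ := htr₀ d₁ hd₁ fun e => hd1 (by simp [e])
      refine ⟨x * g ^ (k' - k) * x⁻¹, ?_, ?_, ?_⟩
      · show x * g ^ (k' - k) * x⁻¹ ∈ normalizer ((x • Q : Sylow 2 G) : Set G)
        rw [← Sylow.smul_eq_iff_mem_normalizer, ← mul_smul, inv_mul_cancel_right, mul_smul,
          Sylow.smul_eq_iff_mem_normalizer.2 (zpow_mem hgN _)]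
      · exact (pel_of_mem hgp.isPGroup (zpow_mem (mem_zpowers g) _)).conj x
      · show x * g ^ (k' - k) * x⁻¹ * (x * a₁ * x⁻¹) * (x * g ^ (k' - k) * x⁻¹)⁻¹ = x * d₁ * x⁻¹
        rw [← hk, ← hk']
        group
    · intro x hx hxp hx2 z hz hzx
      haveI := Fact.mk hx
      refine hN1 (orderOf x) hx hxp hx2 (zpowers x)
        (IsPGroup.of_card (n := 1) (by rw [Nat.card_zpowers, pow_one]))
        (fun e => hx.ne_one (by rw [zpowers_eq_bot.1 e, orderOf_one]))
        (zpowers z) (Pel.isPGroup ⟨1, by rw [pow_one, sq, hz.1]⟩)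
        (fun e => hz.2 (zpowers_eq_bot.1 e))
        (Or.inl (zpowers_le.2 (mem_normalizer_zpowers (Or.inl hzx) hz.1)))
  exact hyp.absurd'

/-- Let G be a finite group and let p and q be distinct primes dividing the order of G, with p odd. Suppose that p divides the order of every proper subgroup of G that is neither a q-group nor of order prime to q. Let q^a be the q-part of the order of G. If p > q^a − 1, or if p = q^a − 1 and the Sylow p-subgroups of G are abelian, then p and q are the only primes dividing the order of G. -/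
theorem result {G : Type*} [Group G] [Finite G]
    {p q : ℕ} (hp : p.Prime) (hq : q.Prime) (hpq : p ≠ q) (hp2 : p ≠ 2)
    (hpG : p ∣ Nat.card G) (hqG : q ∣ Nat.card G)
    (hmix : ∀ H : Subgroup G, H ≠ ⊤ → ¬ IsPGroup q H → q ∣ Nat.card H → p ∣ Nat.card H)
    (hlarge : q ^ (Nat.card G).factorization q - 1 < p ∨
      (p = q ^ (Nat.card G).factorization q - 1 ∧ ∀ P : Sylow p G, IsMulCommutative P)) :
    ∀ r : ℕ, r.Prime → r ∣ Nat.card G → r = p ∨ r = q := by
  haveI := Fact.mk hp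
  haveI := Fact.mk hq
  exact main p q hpq hp2 _ G rfl hpG hqG ⟨hmix, hlarge⟩

end Cfsg.Agent.S4017
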