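import Cfsg.Statements.S4039
import Cfsg.Agent.Lib.Subnormal.NilpotentMaximal
import Cfsg.Agent.Lib.Subnormal.Subnormalizer
import Cfsg.Agent.Lib.BGAppendix.FittingHall
-- import your own Cfsg.Agent.* helpers here

set_option autoImplicit false
open Cfsg

namespace Cfsg.Agent.S4039

open scoped commutatorElement
universe u

/-- The local hypothesis in a core-free group with a nilpotent maximal subgroup. -/
theorem local_npc {G : Type u} [Group G] [Finite G] (M : Subgroup G) (p : ℕ) [Fact p.Prime]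
    (hnil : Group.IsNilpotent M) (hp : p ∣ Nat.card M)
    (hN : ∀ R : Subgroup G, R ≠ ⊥ → R ≤ M → M ≤ Subgroup.normalizer (R : Set G) →
      Subgroup.normalizer (R : Set G) = M) :
    ∃ S : Sylow p G, (S : Subgroup G) ≤ M ∧ M ≤ Subgroup.normalizer ((S : Subgroup G) : Set G) ∧
      ∀ R : Subgroup G, R ≤ (S : Subgroup G) → R ≠ ⊥ →
        (S : Subgroup G) ≤ Subgroup.normalizer (R : Set G) →
          HasNormalPComplement p ↥(Subgroup.normalizer (R : Set G)) := by
  obtain ⟨P⟩ : Nonempty (Sylow p M) := inferInstance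
  have hPn : (P : Subgroup M).Normal :=
    (Group.isNilpotent_of_finite_tfae.out 0 3 rfl rfl).mp hnil p ‹_› P
  set P' := (P : Subgroup M).map M.subtype with hP'
  have hP1 : P' ≠ ⊥ := fun h => P.ne_bot_of_dvd_card hp
    ((Subgroup.map_eq_bot_iff_of_injective _ M.subtype_injective).mp h)
  have hMN : M ≤ Subgroup.normalizer (P' : Set G) := by
    refine le_trans ?_ (Subgroup.le_normalizer_map M.subtype)
    rw [Subgroup.normalizer_eq_top_iff.mpr hPn, ← MonoidHom.range_eq_map, Subgroup.range_subtype]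
  obtain ⟨S, hS⟩ := (P.2.map M.subtype).exists_le_sylow
  have heq : (S : Subgroup G) = P' := by
    refine CfsgLib.Subnormal.normalizerCondition_eq S.2 hS ?_
    rw [hN _ hP1 (Subgroup.map_subtype_le _) hMN]
    rintro x ⟨hxS, hxM⟩
    refine ⟨⟨x, hxM⟩, ?_, rfl⟩
    rw [← P.3 S.2.comap_subtype (fun t ht => Subgroup.mem_subgroupOf.mpr (hS ⟨t, ht, rfl⟩))]
    exact Subgroup.mem_subgroupOf.mpr hxS
  refine ⟨S, heq ▸ Subgroup.map_subtype_le _, heq ▸ hMN, fun R hR hR1 hSR => ?_⟩
  have hRM : R ≤ M := hR.trans (heq ▸ Subgroup.map_subtype_le _)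
  have hMR : M ≤ Subgroup.normalizer (R : Set G) := by
    intro m hm
    obtain ⟨a, b, hab, ⟨k, hk⟩, hb⟩ := CfsgLib.NormalPComplement.exists_pParts (p := p)
      (isOfFinOrder_of_finite (⟨m, hm⟩ : M))
    have ha : (⟨m, hm⟩ : M) ^ a ∈ (P : Subgroup M) := by
      obtain ⟨T, hT⟩ := (IsPGroup.of_card_dvd_pow (n := k)
        (G := Subgroup.zpowers ((⟨m, hm⟩ : M) ^ a)) (by rw [Nat.card_zpowers]; exact hk)).exists_le_sylow
      have := Sylow.unique_of_normal P hPn
      exact (Subsingleton.elim T P) ▸ hT (Subgroup.mem_zpowers _)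
    have h1 : (((⟨m, hm⟩ : M) ^ a : M) : G) ∈ Subgroup.normalizer (R : Set G) :=
      hSR (heq ▸ ⟨_, ha, rfl⟩)
    have h2 : (((⟨m, hm⟩ : M) ^ b : M) : G) ∈ Subgroup.normalizer (R : Set G) := by
      refine Subgroup.centralizer_le_normalizer _ (Subgroup.mem_centralizer_iff.mpr fun r hr => ?_)
      obtain ⟨r', hr', rfl⟩ := heq ▸ hR hr
      obtain ⟨e, he⟩ := P.2 ⟨r', hr'⟩
      have hd : orderOf r' ∣ p ^ e := orderOf_dvd_of_pow_eq_one (by simpa using congrArg Subtype.val he)
      have := hnil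
      exact congrArg Subtype.val (CfsgLib.BGAppendix.commute_of_coprime_orderOf M r' _
        ((hb.symm.pow_left e).coprime_dvd_left hd)).eq
    have := mul_mem h1 h2
    rwa [← Subgroup.coe_mul, hab] at this
  rw [hN R hR1 hRM hMR]
  exact CfsgLib.FixedPointFree.hasNormalPComplement_of_isNilpotent p hnil


/-- A finite group possessing a maximal subgroup that is nilpotent of class at most 2 is solvable. -/
theorem result {G : Type*} [Group G] [Finite G]
    (M : Subgroup G) (hmax : IsCoatom M) (hnil : Group.IsNilpotent M) (hcl : Group.nilpotencyClass ↥M ≤ 2) :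
    Group.IsSolvable G := by
  refine CfsgLib.Subnormal.isSolvable_of_nilpotent_maximal
    (fun G _ M => ∀ a ∈ M, ∀ b ∈ M, ∀ c ∈ M, ⁅a, b⁆ * c = c * ⁅a, b⁆)
    (fun G _ _ N M _ _ hM => ?_) (fun G _ _ M p _ hM hnil hp hN => ?_) G M hmax hnil ?_
  · rintro _ ⟨a, ha, rfl⟩ _ ⟨b, hb, rfl⟩ _ ⟨c, hc, rfl⟩
    rw [← map_commutatorElement, ← map_mul, ← map_mul, hM a ha b hb c hc]
  · obtain ⟨S, hSM, hMS, hloc⟩ := local_npc M p hnil hp hN
    exact CfsgLib.Subnormal.hasNormalPComplement_of_classTwo S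
      (fun a ha b hb c hc => hM a (hSM ha) b (hSM hb) c (hSM hc)) hloc
  · have := hnil
    intro a ha b hb c hc
    exact congrArg Subtype.val (Subgroup.mem_center_iff.mp
      (CfsgLib.Subnormal.commutatorElement_mem_center_of_class_two hcl (⟨a, ha⟩ : M) ⟨b, hb⟩)
      ⟨c, hc⟩).symm

end Cfsg.Agent.S4039
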