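import Cfsg.Statements.S4044
import Cfsg.Agent.Lib.HallNumber.EightSeven.Final
import Cfsg.Agent.Lib.HallNumber.Counterexamples
import Cfsg.Agent.Lib.HallNumber.Small
import Cfsg.Agent.Lib.HallNumber.Sixty
import Cfsg.Agent.S0483

set_option autoImplicit false
open Cfsg

namespace Cfsg.Agent.S4044

/-- For an integer m ≥ 2 the following are equivalent: (a) every finite group whose order n is divisible by m with gcd(m, n/m) = 1 has a subgroup of order m; (b) m is a prime power, or m ≡ 2 (mod 4), or m ∈ {12, 24, 60}. -/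
theorem result (m : ℕ) (hm : 2 ≤ m) :
    (∀ (G : Type) [Group G] [Finite G], m ∣ Nat.card G → m.Coprime (Nat.card G / m) →
        ∃ H : Subgroup G, Nat.card H = m) ↔
    (IsPrimePow m ∨ m % 4 = 2 ∨ m = 12 ∨ m = 24 ∨ m = 60) := by
  constructor
  · intro hall
    by_contra hlist
    obtain ⟨G, iG, iF, hd, hc, hno⟩ := CfsgLib.HallNumber.exists_counterexample m hm hlist
    obtain ⟨H, hH⟩ := @hall G iG iF hd hc
    exact hno H hH
  · intro hlist G _ _ hd hc
    rcases hlist with h | h | h | h | h
    · exact CfsgLib.HallNumber.exists_card_of_easy hd hc (Or.inl h)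
    · exact CfsgLib.HallNumber.exists_card_of_easy hd hc (Or.inr (Or.inl h))
    · exact CfsgLib.HallNumber.exists_card_of_easy hd hc (Or.inr (Or.inr h))
    · subst h
      exact CfsgLib.HallNumber.exists_card_twentyfour (fun X _ _ E hE => hE.nine_dvd) hd hc
    · subst h
      exact CfsgLib.HallNumber.exists_card_sixty
        (fun _ _ _ _ ⟨S, n, hn, hS⟩ => Cfsg.Agent.S0483.result S n hn hS) hd hc

end Cfsg.Agent.S4044
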