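import Cfsg.Statements.S5748
import Cfsg.Agent.S0182
import Cfsg.Agent.Lib.OutAut.CAInvMain
import Cfsg.Agent.Lib.Signalizer.UniqueInvolution
import Cfsg.Agent.Lib.SL2.BinaryPSL

set_option autoImplicit false
set_option linter.style.haveILetI false
open Cfsg

namespace Cfsg.Agent.S5748

/-- A finite non-abelian simple group in which commuting is a transitive relation on the non-identity elements (equivalently, every non-identity element has abelian centraliser) is isomorphic to PSL₂ over a field with 2^f elements for some f ≥ 2; conversely these groups have that property. -/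
theorem result {G : Type*} [Group G] [Finite G] [IsSimpleGroup G] (hG : ¬ IsMulCommutative G) :
    (∀ a b c : G, a ≠ 1 → b ≠ 1 → c ≠ 1 → Commute a b → Commute b c → Commute a c) ↔
    ∃ (F : Type) (_ : Field F) (_ : Fintype F) (f : ℕ), 2 ≤ f ∧ Fintype.card F = 2 ^ f ∧ Nonempty (G ≃* Matrix.ProjectiveSpecialLinearGroup (Fin 2) F) := by
  classical
  constructor
  · intro htr
    have hCA : ∀ x : G, x ≠ 1 → ∀ a ∈ Subgroup.centralizer ({x} : Set G),
        ∀ b ∈ Subgroup.centralizer ({x} : Set G), a * b = b * a := by
      intro x hx a ha b hb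
      rcases eq_or_ne a 1 with rfl | ha1
      · simp
      rcases eq_or_ne b 1 with rfl | hb1
      · simp
      exact htr a x b ha1 hx hb1 (Subgroup.mem_centralizer_singleton_iff.1 ha)
        (Subgroup.mem_centralizer_singleton_iff.1 hb).symm
    have hnab : ¬ ∀ a b : G, a * b = b * a := fun h => hG ⟨⟨h⟩⟩
    have : Nontrivial G := IsSimpleGroup.toNontrivial
    have hnsol : ¬ Group.IsSolvable G := fun h =>
      hnab fun a b => IsSimpleGroup.comm_iff_isSolvable.2 h a b
    have heven : Even (Nat.card G) := by
      by_contra hodd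
      exact hnsol (Cfsg.Agent.S0182.result (Nat.not_even_iff_odd.1 hodd) hCA)
    have : Fact (Nat.Prime 2) := ⟨Nat.prime_two⟩
    obtain ⟨P⟩ : Nonempty (Sylow 2 G) := inferInstance
    have hnc : ¬ IsCyclic (P : Subgroup G) := by
      intro hc
      obtain ⟨K, hK⟩ := CfsgLib.Involutions.exists_index_two_of_cyclic_sylow heven P hc
      have hn : K.Normal := Subgroup.normal_of_index_eq_two hK
      rcases hn.eq_bot_or_eq_top with e | e <;> rw [e] at hK
      · rw [Subgroup.index_bot] at hK
        have : IsCyclic G := isCyclic_of_prime_card hK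
        exact hnab fun a b => (IsCyclic.commGroup (α := G)).mul_comm a b
      · rw [Subgroup.index_top] at hK
        omega
    have hnn : ¬ (P : Subgroup G).Normal := by
      intro hn
      rcases hn.eq_bot_or_eq_top with e | e
      · exact hnc (e ▸ inferInstance)
      · have hp : IsPGroup 2 G := by
          have h := P.isPGroup'
          rw [e] at h
          exact h.of_equiv Subgroup.topEquiv
        have := hp.isNilpotent
        exact hnsol inferInstance
    have hcomm : ∀ t : G, orderOf t = 2 → IsMulCommutative (Subgroup.centralizer ({t} : Set G)) := fun t ht =>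
      ⟨⟨fun a b => Subtype.ext (hCA t (fun e => by rw [e, orderOf_one] at ht; omega) a a.2 b b.2)⟩⟩
    obtain ⟨F, iF, iT, A, iA, fA, hchar, hodd, ⟨e⟩⟩ :=
      CfsgLib.OutAut.caHyp_main _ G rfl P ⟨hnc, hnn, hcomm⟩
    -- the odd abelian factor is trivial
    have h2 : (2 : F) = 0 := CharTwo.two_eq_zero
    let φ : Matrix.SpecialLinearGroup (Fin 2) F →* G :=
      e.symm.toMonoidHom.comp (MonoidHom.inl (Matrix.SpecialLinearGroup (Fin 2) F) A)
    have hφinj : Function.Injective φ := e.symm.injective.comp fun a b h => (Prod.ext_iff.1 h).1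
    have hrange : φ.range = ((MonoidHom.snd (Matrix.SpecialLinearGroup (Fin 2) F) A).comp e.toMonoidHom).ker := by
      ext g
      constructor
      · rintro ⟨s, rfl⟩
        show (e (e.symm (s, 1))).2 = 1
        rw [e.apply_symm_apply]
      · intro hg
        refine ⟨(e g).1, ?_⟩
        show e.symm ((e g).1, 1) = g
        rw [show ((e g).1, (1 : A)) = e g from Prod.ext rfl hg.symm, e.symm_apply_apply]
    have hn : φ.range.Normal := hrange ▸ inferInstance
    have hsurj : φ.range = ⊤ := by
      rcases hn.eq_bot_or_eq_top with h | h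
      · exfalso
        have : (CfsgLib.ClassicalLinear.upS (1 : F) : Matrix.SpecialLinearGroup (Fin 2) F) = 1 :=
          hφinj (by
            have hm : φ (CfsgLib.ClassicalLinear.upS (1 : F)) ∈ φ.range := ⟨_, rfl⟩
            rw [h, Subgroup.mem_bot] at hm
            rw [map_one]; exact hm)
        exact one_ne_zero (CfsgLib.ClassicalLinear.upS_injective (this.trans CfsgLib.SL2.upS_zero.symm))
      · exact h
    let ψ : Matrix.SpecialLinearGroup (Fin 2) F ≃* G :=
      MulEquiv.ofBijective φ ⟨hφinj, MonoidHom.range_eq_top.1 hsurj⟩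
    obtain ⟨f, -, hf⟩ := FiniteField.card F 2
    refine ⟨F, iF, iT, f, ?_, hf, ⟨ψ.symm.trans (MulEquiv.ofBijective CfsgLib.SL2.Dickson.proj
      ⟨CfsgLib.SL2.Binary.proj_injective_two h2, CfsgLib.SL2.Dickson.proj_surjective⟩)⟩⟩
    by_contra hlt
    have hf1 : (f : ℕ) = 1 := by have := f.pos; omega
    -- over two elements the group is solvable
    have hcard : Nat.card G = 6 := by
      rw [← Nat.card_congr ψ.toEquiv, CfsgLib.SL2.card_SL, Nat.card_eq_fintype_card, hf, hf1]
      norm_num
    obtain ⟨g, hg⟩ := exists_prime_orderOf_dvd_card' (G := G) 3 (hp := ⟨Nat.prime_three⟩) (by omega)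
    have hidx : (Subgroup.zpowers g).index = 2 := by
      have := (Subgroup.zpowers g).card_mul_index
      rw [Nat.card_zpowers, hg, hcard] at this
      omega
    rcases (Subgroup.normal_of_index_eq_two hidx).eq_bot_or_eq_top with h | h <;> rw [h] at hidx
    · rw [Subgroup.index_bot, hcard] at hidx; omega
    · rw [Subgroup.index_top] at hidx; omega
  · rintro ⟨F, _, _, f, hf, hF, ⟨e⟩⟩ a b c ha hb hc hab hbc
    have h2 : (2 : F) = 0 := by
      have h := CfsgLib.SL2.cast_card_zero (F := F)
      rw [Nat.card_eq_fintype_card, hF, Nat.cast_pow] at h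
      exact eq_zero_of_pow_eq_zero (by exact_mod_cast h)
    have hi := CfsgLib.SL2.Binary.proj_injective_two h2
    obtain ⟨A, hA⟩ := CfsgLib.SL2.Dickson.proj_surjective (e a)
    obtain ⟨B, hB⟩ := CfsgLib.SL2.Dickson.proj_surjective (e b)
    obtain ⟨C, hC⟩ := CfsgLib.SL2.Dickson.proj_surjective (e c)
    have hBc : B ∉ Subgroup.center (Matrix.SpecialLinearGroup (Fin 2) F) := fun h =>
      hb (e.injective (by rw [map_one, ← hB]; exact (CfsgLib.SL2.Binary.proj_eq_one_iff B).2 h))
    have hA' : A ∈ Subgroup.centralizer ({B} : Set (Matrix.SpecialLinearGroup (Fin 2) F)) :=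
      Subgroup.mem_centralizer_singleton_iff.2 (hi (by
        rw [map_mul, map_mul, hA, hB, ← map_mul, ← map_mul, hab.eq]))
    have hC' : C ∈ Subgroup.centralizer ({B} : Set (Matrix.SpecialLinearGroup (Fin 2) F)) :=
      Subgroup.mem_centralizer_singleton_iff.2 (hi (by
        rw [map_mul, map_mul, hC, hB, ← map_mul, ← map_mul, hbc.symm.eq]))
    refine e.injective ?_
    rw [map_mul, map_mul, ← hA, ← hC, ← map_mul, ← map_mul, CfsgLib.SL2.centralizer_mulComm hBc hA' hC']

end Cfsg.Agent.S5748
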