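import Cfsg.Statements.S4073
import Cfsg.Agent.S4039
import Cfsg.Agent.S4071
import Cfsg.Agent.S4072
import Cfsg.Agent.S4075
import Cfsg.Agent.S5748
import Cfsg.Agent.S0182
import Cfsg.Agent.Lib.SL2.Normalizer
import Cfsg.Agent.Lib.SL2.Sylow
import Cfsg.Agent.Lib.SL2.BinaryPSL
import Cfsg.Agent.Lib.Frobenius.SquarefreeComplement
-- import your own Cfsg.Agent.* helpers here

set_option autoImplicit false
open Cfsg

namespace Cfsg.Agent.S4073

open Subgroup
open scoped commutatorElement

universe u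

/-- Every non-abelian subgroup is self-normalizing. -/
def SelfNorm (G : Type*) [Group G] : Prop :=
  ∀ H : Subgroup G, ¬ IsMulCommutative H → normalizer (H : Set G) = H

lemma comm_iff {G : Type*} [Group G] {H : Subgroup G} :
    IsMulCommutative H ↔ ∀ a ∈ H, ∀ b ∈ H, a * b = b * a :=
  ⟨fun h a ha b hb => congrArg Subtype.val (h.is_comm.comm ⟨a, ha⟩ ⟨b, hb⟩),
    fun h => ⟨⟨fun a b => Subtype.ext (h a a.2 b b.2)⟩⟩⟩

lemma selfNorm_of_injective {K G : Type*} [Group K] [Group G] (φ : K →* G)
    (hφ : Function.Injective φ) (h : SelfNorm G) : SelfNorm K := by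
  intro H hH
  refine le_antisymm (fun x hx => ?_) le_normalizer
  have hne : ¬ IsMulCommutative (H.map φ) := fun hc => hH (comm_iff.2 fun a ha b hb => hφ (by
    rw [map_mul, map_mul]
    exact comm_iff.1 hc _ (mem_map_of_mem φ ha) _ (mem_map_of_mem φ hb)))
  have hm : φ x ∈ normalizer ((H.map φ : Subgroup G) : Set G) :=
    le_normalizer_map φ (mem_map_of_mem φ hx)
  rw [h _ hne] at hm
  obtain ⟨y, hy, he⟩ := mem_map.1 hm
  exact hφ he ▸ hy

/-- In a minimal non-abelian `p`-group the nilpotency class is at most two. -/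
lemma class_le_two {P : Type*} [Group P] [Finite P] [Group.IsNilpotent P]
    (hna : ¬ IsMulCommutative P) (hmin : ∀ H : Subgroup P, H ≠ ⊤ → IsMulCommutative H) :
    Group.nilpotencyClass P ≤ 2 := by
  have hA : ∀ A : Subgroup P, IsCoatom A → A.Normal ∧ commutator P ≤ A := by
    intro A hA
    have hn : A.Normal := Subgroup.NormalizerCondition.normal_of_coatom A
      (Group.normalizerCondition_of_isNilpotent) hA
    refine ⟨hn, ?_⟩
    have hcyc : ∀ q : P ⧸ A, q ≠ 1 → zpowers q = ⊤ := by
      intro q hq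
      have hle : A ≤ (zpowers q).comap (QuotientGroup.mk' A) := by
        intro a ha
        rw [mem_comap, show QuotientGroup.mk' A a = 1 from (QuotientGroup.eq_one_iff a).2 ha]
        exact one_mem _
      rcases hle.eq_or_lt with h | h
      · exfalso
        obtain ⟨z, rfl⟩ := QuotientGroup.mk'_surjective A q
        exact hq ((QuotientGroup.eq_one_iff z).2 (h ▸ mem_zpowers _))
      · rw [← map_comap_eq_self_of_surjective (QuotientGroup.mk'_surjective A) (zpowers q),
          hA.2 _ h, map_top_of_surjective _ (QuotientGroup.mk'_surjective A)]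
    rw [← Subgroup.Normal.quotient_commutative_iff_commutator_le]
    refine ⟨⟨fun a b => ?_⟩⟩
    by_cases ha : a = 1
    · simp [ha]
    obtain ⟨k, rfl⟩ := mem_zpowers_iff.1 ((hcyc a ha).symm ▸ mem_top b)
    exact (Commute.refl a).zpow_right k
  obtain ⟨a, b, hab⟩ : ∃ a b : P, a * b ≠ b * a := by
    by_contra! h
    exact hna ⟨⟨h⟩⟩
  have hcl : ∀ z : P, ∃ A : Subgroup P, IsCoatom A ∧ z ∈ A := by
    intro z
    rcases IsCoatomic.eq_top_or_exists_le_coatom (zpowers z) with h | ⟨A, hA', hle⟩
    · obtain ⟨i, rfl⟩ := mem_zpowers_iff.1 (h.symm ▸ mem_top a)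
      obtain ⟨j, rfl⟩ := mem_zpowers_iff.1 (h.symm ▸ mem_top b)
      exact absurd ((Commute.refl z).zpow_zpow i j).eq hab
    · exact ⟨A, hA', hle (mem_zpowers z)⟩
  obtain ⟨A, hA1, haA⟩ := hcl a
  obtain ⟨B, hB1, hbB⟩ := hcl b
  have hAab := comm_iff.1 (hmin A hA1.1)
  have hBab := comm_iff.1 (hmin B hB1.1)
  have hne : A ≠ B := fun h => hab (hAab a haA b (h ▸ hbB))
  have hc : commutator P ≤ center P := by
    intro z hz
    have hzA := (hA A hA1).2 hz
    have hzB := (hA B hB1).2 hz
    have hAB : A ⊔ B ≤ centralizer ({z} : Set P) := sup_le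
      (fun w hw => mem_centralizer_singleton_iff.2 (hAab w hw z hzA))
      (fun w hw => mem_centralizer_singleton_iff.2 (hBab w hw z hzB))
    have htop : A ⊔ B = ⊤ := by
      have hlt : A < A ⊔ B := lt_of_le_of_ne le_sup_left fun h => by
        have hBA : B ≤ A := h.symm ▸ le_sup_right
        exact hne (hBA.eq_or_lt.elim (fun e => e.symm) fun l => absurd (hB1.2 _ l) hA1.1)
      exact hA1.2 _ hlt
    rw [mem_center_iff]
    intro w
    exact mem_centralizer_singleton_iff.1 (hAB (htop.symm ▸ mem_top w))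
  rw [← Subgroup.upperCentralSeries_eq_top_iff_nilpotencyClass_le, eq_top_iff]
  intro g _
  rw [Subgroup.mem_upperCentralSeries_succ_iff, Subgroup.upperCentralSeries_one]
  intro q
  exact hc (commutator_mem_commutator (mem_top g) (mem_top q))

section Forward

variable {G : Type u} [Group G] [Finite G]

/-- The shape of a solvable subgroup. -/
lemma solvable_shape (hS : SelfNorm G) (M : Subgroup G) [Group.IsSolvable M]
    (hM : ¬ IsMulCommutative M) :
    (∃ r : ℕ, r.Prime ∧ IsPGroup r M ∧ ∀ H : Subgroup M, H ≠ ⊤ → IsMulCommutative H) ∨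
    ∃ (x : M) (A : Subgroup M) (r : ℕ), r.Prime ∧ A.Normal ∧ IsMulCommutative A ∧
      (∃ k : ℕ, orderOf x = r ^ k) ∧ ¬ r ∣ Nat.card A ∧ (zpowers x).IsComplement' A ∧
      x ^ r ∈ center M ∧ ∀ a : M, a ∈ A → a ≠ 1 → x * a * x⁻¹ ≠ a := by
  have hSM : SelfNorm M := selfNorm_of_injective M.subtype (subtype_injective M) hS
  by_cases hn : Group.IsNilpotent M
  · left
    rcases (Cfsg.Agent.S4075.result (G := M)).1 hSM with h | ⟨hpp, -, hmin⟩
    · exact absurd h hM
    · obtain ⟨r, k, hr, -, hk⟩ := hpp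
      exact ⟨r, Nat.prime_iff.2 hr, IsPGroup.of_card hk.symm, hmin⟩
  · exact Or.inr ((Cfsg.Agent.S4071.result hn).1 hSM)

/-- A subgroup of prime power order in a subgroup of semidirect shape is abelian. -/
lemma pgroup_comm_of_shape {M : Type*} [Group M] [Finite M] {x : M} {A : Subgroup M} {r p : ℕ}
    (hr : r.Prime) [hp : Fact p.Prime] [A.Normal] (hA : IsMulCommutative A)
    (hxk : ∃ k : ℕ, orderOf x = r ^ k) (hrA : ¬ r ∣ Nat.card A)
    (hc : (zpowers x).IsComplement' A) (P : Subgroup M) (hP : IsPGroup p P) :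
    IsMulCommutative P := by
  have hpow : ∀ q : M ⧸ A, ∃ i : ℤ, q = QuotientGroup.mk' A x ^ i := by
    intro q
    obtain ⟨z, rfl⟩ := QuotientGroup.mk'_surjective A q
    obtain ⟨⟨⟨u, hu⟩, ⟨a, ha⟩⟩, he⟩ := hc.2 z
    obtain ⟨i, rfl⟩ := mem_zpowers_iff.1 hu
    refine ⟨i, ?_⟩
    change x ^ i * a = z at he
    rw [← he, map_mul, map_zpow,
      show QuotientGroup.mk' A a = 1 from (QuotientGroup.eq_one_iff a).2 ha, mul_one]
  by_cases hpr : p = r
  · subst hpr
    refine comm_iff.2 fun a ha b hb => ?_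
    have hm : ⁅a, b⁆ ∈ A := by
      obtain ⟨i, hi⟩ := hpow (QuotientGroup.mk' A a)
      obtain ⟨j, hj⟩ := hpow (QuotientGroup.mk' A b)
      refine (QuotientGroup.eq_one_iff _).1 ?_
      rw [← QuotientGroup.mk'_apply, map_commutatorElement, hi, hj,
        commutatorElement_eq_one_iff_mul_comm]
      exact ((Commute.refl _).zpow_zpow i j).eq
    have hmP : ⁅a, b⁆ ∈ P := by
      rw [commutatorElement_def]
      exact mul_mem (mul_mem (mul_mem ha hb) (inv_mem ha)) (inv_mem hb)
    obtain ⟨k, hk⟩ := IsPGroup.iff_orderOf.1 hP ⟨_, hmP⟩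
    rw [orderOf_mk] at hk
    have hd : orderOf ⁅a, b⁆ ∣ Nat.card A := by
      have := orderOf_dvd_natCard (⟨_, hm⟩ : A)
      rwa [orderOf_mk] at this
    refine (commutatorElement_eq_one_iff_mul_comm).1 (orderOf_eq_one_iff.1 ?_)
    exact Nat.eq_one_of_dvd_one (by
      have hco : Nat.Coprime (p ^ k) (Nat.card A) :=
        Nat.Coprime.pow_left k ((hp.out.coprime_iff_not_dvd).2 hrA)
      rw [← hco.gcd_eq_one]
      exact Nat.dvd_gcd hk.dvd hd)
  · have hle : P ≤ A := by
      intro a ha
      refine (QuotientGroup.eq_one_iff a).1 ?_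
      obtain ⟨k, hk⟩ := IsPGroup.iff_orderOf.1 hP ⟨a, ha⟩
      rw [orderOf_mk] at hk
      obtain ⟨l, hl⟩ := hxk
      have h1 : orderOf (QuotientGroup.mk' A a) ∣ p ^ k := hk ▸ orderOf_map_dvd _ a
      have h2 : orderOf (QuotientGroup.mk' A a) ∣ r ^ l := by
        obtain ⟨i, hi⟩ := hpow (QuotientGroup.mk' A a)
        rw [hi]
        exact (orderOf_dvd_of_mem_zpowers (mem_zpowers_iff.2 ⟨i, rfl⟩)).trans
          (hl ▸ orderOf_map_dvd _ x)
      have hco : Nat.Coprime (p ^ k) (r ^ l) :=
        Nat.Coprime.pow k l ((Nat.coprime_primes hp.out hr).2 hpr)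
      exact orderOf_eq_one_iff.1 (Nat.eq_one_of_dvd_one (hco.gcd_eq_one ▸ Nat.dvd_gcd h1 h2))
    exact comm_iff.2 fun a ha b hb => comm_iff.1 hA a (hle ha) b (hle hb)

lemma sylow_comm : ∀ (n : ℕ) (G : Type u) [Group G] [Finite G], Nat.card G = n → SelfNorm G →
    ¬ Group.IsSolvable G → ∀ (p : ℕ) [Fact p.Prime] (P : Sylow p G),
      IsMulCommutative (P : Subgroup G) := by
  intro n
  induction n using Nat.strong_induction_on with
  | _ n ih =>
    intro G _ _ hn hS hns p hp P
    by_contra hP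
    have hPtop : (P : Subgroup G) ≠ ⊤ := fun h => hns (by
      have := P.isPGroup'.isNilpotent
      have hG : IsPGroup p G := by
        have := P.isPGroup'
        rw [h] at this
        exact this.of_equiv topEquiv
      have := hG.isNilpotent
      infer_instance)
    -- every proper overgroup of `P` is `P`
    have hkey : ∀ M : Subgroup G, (P : Subgroup G) ≤ M → M ≠ ⊤ →
        M = P ∧ ∀ H : Subgroup M, H ≠ ⊤ → IsMulCommutative H := by
      intro M hPM hM
      have hMna : ¬ IsMulCommutative M := fun h =>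
        hP (comm_iff.2 fun a ha b hb => comm_iff.1 h a (hPM ha) b (hPM hb))
      have hPna : ¬ IsMulCommutative ((P : Subgroup G).subgroupOf M) := fun h =>
        hP (comm_iff.2 fun a ha b hb => congrArg Subtype.val
          (comm_iff.1 h ⟨a, hPM ha⟩ ha ⟨b, hPM hb⟩ hb))
      by_cases hMs : Group.IsSolvable M
      · rcases solvable_shape hS M hMna with ⟨r, hr, hMr, hmin⟩ | ⟨x, A, r, hr, hAn, hA, hk, hrA, hc, -, -⟩
        · refine ⟨?_, hmin⟩
          have : r = p := by
            by_contra hne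
            have hne1 : (P : Subgroup G) ≠ ⊥ := fun h => hP (comm_iff.2 fun a ha b hb => by
              rw [h, mem_bot] at ha hb; rw [ha, hb])
            obtain ⟨k, hk⟩ := P.isPGroup'.exists_card_eq
            have hp' : p ∣ Nat.card (P : Subgroup G) := by
              rcases Nat.eq_zero_or_pos k with h0 | h0
              · exact absurd (eq_bot_of_card_eq _ (by rw [hk, h0, pow_zero])) hne1
              · rw [hk]; exact dvd_pow_self p h0.ne'
            haveI := Fact.mk hr
            obtain ⟨l, hl⟩ := hMr.exists_card_eq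
            have hd := hp'.trans (card_dvd_of_le hPM)
            rw [hl] at hd
            exact hne ((Nat.prime_dvd_prime_iff_eq hp.out hr).1 (hp.out.dvd_of_dvd_pow hd)).symm
          subst this
          exact P.is_maximal' hMr hPM
        · exact absurd (pgroup_comm_of_shape hr hA hk hrA hc _
            (P.isPGroup'.comap_subtype)) hPna
      · have hlt : Nat.card M < n := hn ▸ lt_of_le_of_ne (card_le_card_group M)
          fun h => hM (eq_top_of_card_eq M h)
        have hab := ih _ hlt M rfl (selfNorm_of_injective M.subtype (subtype_injective M) hS) hMs p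
          (P.subtype hPM)
        exact absurd hab hPna
    have hcoatom : IsCoatom (P : Subgroup G) := ⟨hPtop, fun M hlt => by
      by_contra hM
      exact hlt.ne (hkey M hlt.le hM).1.symm⟩
    have hnil : Group.IsNilpotent (P : Subgroup G) := P.isPGroup'.isNilpotent
    exact hns (Cfsg.Agent.S4039.result (P : Subgroup G) hcoatom hnil
      (class_le_two hP (hkey P le_rfl hPtop).2))

/-- In a simple group with the property all centralisers are abelian. -/
lemma centralizer_comm [IsSimpleGroup G] (hG : ¬ IsMulCommutative G) (hS : SelfNorm G) {y : G}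
    (hy : y ≠ 1) : IsMulCommutative (centralizer ({y} : Set G)) := by
  classical
  have hnab : ¬ ∀ a b : G, a * b = b * a := fun h => hG ⟨⟨h⟩⟩
  have hns : ¬ Group.IsSolvable G := fun h =>
    hnab fun a b => IsSimpleGroup.comm_iff_isSolvable.2 h a b
  by_contra hM
  set M := centralizer ({y} : Set G) with hMdef
  have hyM : y ∈ M := mem_centralizer_singleton_iff.2 rfl
  let y' : M := ⟨y, hyM⟩
  have hy'c : y' ∈ center M := mem_center_iff.2 fun g =>
    Subtype.ext (mem_centralizer_singleton_iff.1 g.2)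
  have hMs : Group.IsSolvable M := by
    rcases Cfsg.Agent.S4072.result (selfNorm_of_injective M.subtype (subtype_injective M) hS) with h | h
    · exact h
    · rcases (inferInstance : (center M).Normal).eq_bot_or_eq_top with e | e
      · exfalso
        rw [e, mem_bot] at hy'c
        exact hy (congrArg Subtype.val hy'c)
      · exact absurd (comm_iff.2 fun a ha b hb => congrArg Subtype.val
          (mem_center_iff.1 (e.symm ▸ mem_top (⟨b, hb⟩ : M)) ⟨a, ha⟩)) hM
  rcases solvable_shape hS M hM with ⟨r, hr, hMr, -⟩ | ⟨x, A, r, hr, hAn, hA, ⟨k, hk⟩, hrA, hc, hxr, hfix⟩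
  · haveI := Fact.mk hr
    obtain ⟨Q, hQ⟩ := hMr.exists_le_sylow
    have := sylow_comm _ G rfl hS hns r Q
    exact hM (comm_iff.2 fun a ha b hb => comm_iff.1 this a (hQ ha) b (hQ hb))
  haveI := Fact.mk hr
  -- the centraliser of `x` in `M`
  have hCx : ∀ z : M, z * x = x * z → z ∈ zpowers x := by
    intro z hz
    obtain ⟨⟨⟨w, hw⟩, ⟨a, ha⟩⟩, he⟩ := hc.2 z
    change w * a = z at he
    obtain ⟨i, rfl⟩ := mem_zpowers_iff.1 hw
    by_cases ha1 : a = 1
    · exact mem_zpowers_iff.2 ⟨i, by rw [← he, ha1, mul_one]⟩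
    refine absurd ?_ (hfix a ha ha1)
    have h1 : Commute z x := hz
    have h2 : Commute (x ^ i) x := (Commute.refl x).zpow_left i
    have h3 : Commute a x := by
      rw [show a = (x ^ i)⁻¹ * z by rw [← he]; group]
      exact h2.inv_left.mul_left h1
    rw [← h3.eq, mul_inv_cancel_right]
  have hyx : y' ∈ zpowers x := hCx y' (mem_center_iff.1 hy'c x).symm
  obtain ⟨i, hi⟩ := mem_zpowers_iff.1 hyx
  -- the Sylow subgroup is `⟨x⟩`
  set X := (zpowers x).map M.subtype with hX
  have hXr : IsPGroup r X := by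
    refine IsPGroup.map ?_ _
    exact IsPGroup.of_card (n := k) (by rw [Nat.card_zpowers, hk])
  obtain ⟨P, hXP⟩ := hXr.exists_le_sylow
  have hPab := comm_iff.1 (sylow_comm _ G rfl hS hns r P)
  have hyX : y ∈ X := ⟨y', hyx, rfl⟩
  have hPM : (P : Subgroup G) ≤ M := fun a ha =>
    mem_centralizer_singleton_iff.2 (hPab a ha y (hXP hyX))
  have hPX : (P : Subgroup G) = X := by
    refine le_antisymm (fun a ha => ?_) hXP
    refine ⟨⟨a, hPM ha⟩, hCx _ (Subtype.ext ?_), rfl⟩
    exact hPab a ha _ (hXP ⟨x, mem_zpowers x, rfl⟩)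
  have hCP : centralizer ((P : Subgroup G) : Set G) ≤ (P : Subgroup G) := by
    intro a ha
    have haM : a ∈ M := mem_centralizer_singleton_iff.2 (mem_centralizer_iff.1 ha y (hXP hyX)).symm
    rw [hPX]
    refine ⟨⟨a, haM⟩, hCx _ (Subtype.ext ?_), rfl⟩
    exact (mem_centralizer_iff.1 ha _ (hXP ⟨x, mem_zpowers x, rfl⟩)).symm
  -- Burnside
  have hP1 : (P : Subgroup G) ≠ ⊥ := fun h => hy (by
    have := hXP hyX; rwa [h, mem_bot] at this)
  obtain ⟨z, hzN, hzP⟩ : ∃ z ∈ normalizer ((P : Subgroup G) : Set G), z ∉ (P : Subgroup G) := by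
    by_contra! h
    obtain ⟨Q, K, hKn, hKc⟩ := CfsgLib.Frobenius.hasNormalPComplement_of_burnside P
      (fun a ha => mem_centralizer_iff.2 fun b hb => hPab b hb a (h a ha))
    rcases hKn.eq_bot_or_eq_top with e | e
    · subst e
      have hQ : (Q : Subgroup G) = ⊤ := isComplement'_bot_left.1 hKc
      have hG : IsPGroup r G := by
        have := Q.isPGroup'
        rw [hQ] at this
        exact this.of_equiv topEquiv
      have := hG.isNilpotent
      exact hns inferInstance
    · subst e
      have hQ : (Q : Subgroup G) = ⊥ := isComplement'_top_left.1 hKc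
      apply hP1
      apply eq_bot_of_card_eq
      rw [P.card_eq_multiplicity, ← Q.card_eq_multiplicity, hQ, card_bot]
  have hzN' := mem_normalizer_iff.1 hzN
  obtain ⟨u, hu, hue⟩ : z * (x : G) * z⁻¹ ∈ X := by
    rw [← hPX]; exact (hzN' _).1 (hXP ⟨x, mem_zpowers x, rfl⟩)
  obtain ⟨j, rfl⟩ := mem_zpowers_iff.1 hu
  have hzy : z * y * z⁻¹ = y ^ j := by
    have e1 : (y : G) = (x : G) ^ i := by
      rw [← SubgroupClass.coe_zpow, hi]
    rw [e1, ← zpow_mul, mul_comm, zpow_mul, ← conj_zpow, ← hue]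
    rfl
  have hzM : z ∈ M := by
    rw [← hS M hM]
    refine mem_normalizer_of_mapsTo_aux ?_
    intro a ha
    have hay : a * y = y * a := mem_centralizer_singleton_iff.1 ha
    have hc1 : Commute a (z * y * z⁻¹) := hzy ▸ Commute.zpow_right (show Commute a y from hay) j
    exact mem_centralizer_singleton_iff.2 (by
      have h := hc1.eq
      calc z⁻¹ * a * z * y = z⁻¹ * (a * (z * y * z⁻¹)) * z := by group
        _ = z⁻¹ * ((z * y * z⁻¹) * a) * z := by rw [h]
        _ = y * (z⁻¹ * a * z) := by group)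
  -- an element of `M` normalising `⟨x⟩` lies in it
  obtain ⟨⟨⟨w, hw⟩, ⟨a, ha⟩⟩, he⟩ := hc.2 ⟨z, hzM⟩
  change w * a = ⟨z, hzM⟩ at he
  have haX : a * x * a⁻¹ ∈ zpowers x := by
    have h1 : z * (x : G) * z⁻¹ ∈ X := ⟨_, hu, hue⟩
    obtain ⟨v, hv, hve⟩ := h1
    have h2 : (⟨z, hzM⟩ : M) * x * (⟨z, hzM⟩ : M)⁻¹ = v := Subtype.ext hve.symm
    rw [← he] at h2
    have : a * x * a⁻¹ = w⁻¹ * v * w := by rw [← h2]; group
    rw [this]
    exact mul_mem (mul_mem (inv_mem hw) hv) hw
  have h4 : a * x * a⁻¹ * x⁻¹ ∈ zpowers x := mul_mem haX (inv_mem (mem_zpowers x))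
  have h5 : a * x * a⁻¹ * x⁻¹ ∈ A := by
    rw [show a * x * a⁻¹ * x⁻¹ = a * (x * a⁻¹ * x⁻¹) by group]
    exact mul_mem ha (hAn.conj_mem _ (inv_mem ha) x)
  have h6 : a * x * a⁻¹ * x⁻¹ = 1 := by
    have := (isComplement'_disjoint_aux hc)
    exact this _ h4 h5
  have hax : a * x = x * a := by
    have := mul_inv_eq_one.1 h6
    exact mul_inv_eq_iff_eq_mul.1 this
  have ha1 : a = 1 := by
    by_contra h
    exact hfix a ha h (by rw [← hax, mul_inv_cancel_right])
  apply hzP
  rw [hPX]
  refine ⟨⟨z, hzM⟩, ?_, rfl⟩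
  rw [← he, ha1, mul_one]
  exact hw
where
  mem_normalizer_of_mapsTo_aux {H : Subgroup G} {z : G} (h : ∀ a ∈ H, z⁻¹ * a * z ∈ H) :
      z ∈ normalizer (H : Set G) := by
    have : z⁻¹ ∈ normalizer (H : Set G) :=
      mem_normalizer_fintype (fun a ha => by simpa using h a ha)
    exact inv_mem_iff.1 this
  isComplement'_disjoint_aux {M : Type u} [Group M] {K A : Subgroup M} (hc : K.IsComplement' A) :
      ∀ a, a ∈ K → a ∈ A → a = 1 := fun _ h1 h2 => disjoint_def.1 hc.disjoint h1 h2

end Forward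

section Linear

open CfsgLib.SL2
open scoped Matrix
open CfsgLib.ClassicalLinear (upS upperSL mem_upperSL upS_coe)
open scoped MatrixGroups

variable {F : Type} [Field F] [Finite F]

local notation "SLF" => Matrix.SpecialLinearGroup (Fin 2) F

omit [Finite F] in
lemma sq_ne_one {a : F} (h2 : (2 : F) = 0) (ha : a ≠ 1) : a ^ 2 ≠ 1 := by
  intro h
  refine ha (sub_eq_zero.1 ((pow_eq_zero_iff two_ne_zero).1 ?_))
  linear_combination h - (a - 1) * h2

omit [Finite F] in
lemma notMem_center (h2 : (2 : F) = 0) {g : SLF} (hg : g ≠ 1) :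
    g ∉ center SLF := fun h => hg (CfsgLib.SL2.Binary.center_eq_one h2 h)

/-- The primality forced on the torus. -/
lemma torus_prime (h2 : (2 : F) = 0) (h4 : 4 ≤ Nat.card F) (hS : SelfNorm SLF) :
    (Nat.card F - 1).Prime := by
  have hcu : Nat.card Fˣ = Nat.card F - 1 := Nat.card_units F
  have hall : ∀ d : Fˣ, d ≠ 1 → zpowers d = ⊤ := by
    intro d hd
    let D := zpowers d
    let HD : Subgroup SLF :=
      { carrier := {g | g ∈ borel F ∧ ∃ e ∈ D, ((e : Fˣ) : F) = (g : Matrix (Fin 2) (Fin 2) F) 0 0}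
        one_mem' := ⟨one_mem _, 1, one_mem _, by simp⟩
        mul_mem' := by
          rintro a b ⟨ha, e, he, hea⟩ ⟨hb, e', he', heb⟩
          refine ⟨mul_mem ha hb, e * e', mul_mem he he', ?_⟩
          have hb0 := mem_borel.1 hb
          simp [Matrix.mul_apply, hea, heb, hb0]
        inv_mem' := by
          rintro a ⟨ha, e, he, hea⟩
          refine ⟨inv_mem ha, e⁻¹, inv_mem he, ?_⟩
          have ha0 := mem_borel.1 ha
          have hd := det_eq a
          rw [ha0, mul_zero, sub_zero, ← hea] at hd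
          simp [Matrix.adjugate_fin_two, Units.val_inv_eq_inv_val]
          exact (eq_inv_of_mul_eq_one_right hd).symm }
    have hd2 : (d : F) ^ 2 ≠ 1 := sq_ne_one h2 fun h => hd (Units.ext h)
    have hdm : diag d ∈ HD := ⟨diag_mem_borel d, d, mem_zpowers d, by simp [diag_coe]⟩
    have hum : (upS 1 : SLF) ∈ HD := ⟨upS_mem_borel 1, 1, one_mem _, by simp [upS_coe]⟩
    have hna : ¬ IsMulCommutative HD := fun hc => by
      have h := comm_iff.1 hc _ hdm _ hum
      have h1 : diag d * upS 1 * (diag d)⁻¹ = upS 1 := by rw [h, mul_inv_cancel_right]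
      rw [conj_diag_upS, mul_one] at h1
      exact hd2 (CfsgLib.ClassicalLinear.upS_injective h1)
    refine eq_top_iff.2 fun e _ => ?_
    have he : diag e ∈ normalizer (HD : Set SLF) := by
      refine mem_normalizer_fintype ?_
      rintro a ⟨ha, e', he', hea⟩
      refine ⟨mul_mem (mul_mem (diag_mem_borel e) ha) (inv_mem (diag_mem_borel e)), e', he', ?_⟩
      have ha0 := mem_borel.1 ha
      simp [Matrix.mul_apply, Matrix.vecMul, dotProduct, diag_coe, Matrix.adjugate_fin_two, ha0, ← hea]
      field_simp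
    rw [hS HD hna] at he
    obtain ⟨-, e', he', hee⟩ := he
    have : e' = e := Units.ext (by simpa [diag_coe] using hee)
    exact this ▸ he'
  obtain ⟨r, hr, hrd⟩ := Nat.exists_prime_and_dvd (show Nat.card Fˣ ≠ 1 by omega)
  haveI := Fact.mk hr
  obtain ⟨d, hd⟩ := exists_prime_orderOf_dvd_card' r hrd
  have := hall d fun h => by rw [h, orderOf_one] at hd; exact hr.ne_one hd.symm
  rw [← hcu, ← card_top, ← this, Nat.card_zpowers, hd]
  exact hr

/-- A non-abelian subgroup containing a translation and a torus element contains the Borel group. -/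
lemma borel_le (h2 : (2 : F) = 0) (hprime : (Nat.card F - 1).Prime) {H : Subgroup SLF} {b : F}
    (hb : b ≠ 0) (hbH : upS b ∈ H) {h : SLF} (hhH : h ∈ H) (hhB : h ∈ borel F)
    (hh : h * upS b * h⁻¹ ≠ upS b) : borel F ≤ H := by
  obtain ⟨d, c, rfl, -⟩ := borel_exists hhB
  have hd1 : d ≠ 1 := fun h => hh (by
    subst h
    rw [diag_one, one_mul, ← CfsgLib.ClassicalLinear.upS_add, add_comm,
      CfsgLib.ClassicalLinear.upS_add, mul_inv_cancel_right])
  have htop : zpowers d = ⊤ := by
    haveI := Fact.mk hprime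
    exact zpowers_eq_top_of_prime_card (p := Nat.card F - 1) (Nat.card_units F) hd1
  have hconj : ∀ x : F, upS x ∈ H → upS ((d : F) ^ 2 * x) ∈ H := by
    intro x hx
    have hm := mul_mem (mul_mem hhH hx) (inv_mem hhH)
    have he : diag d * upS c * upS x * (diag d * upS c)⁻¹ = diag d * upS x * (diag d)⁻¹ := by
      rw [mul_inv_rev, show diag d * upS c * upS x = diag d * (upS x * upS c) by
        rw [mul_assoc, ← CfsgLib.ClassicalLinear.upS_add, add_comm,
          CfsgLib.ClassicalLinear.upS_add]]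
      group
    rw [he, conj_diag_upS] at hm
    exact hm
  have hpow : ∀ n : ℕ, upS (((d : F) ^ 2) ^ n * b) ∈ H := by
    intro n
    induction n with
    | zero => simpa using hbH
    | succ n ih => rw [pow_succ', mul_assoc]; exact hconj _ ih
  have hall : ∀ x : F, upS x ∈ H := by
    intro x
    by_cases hx : x = 0
    · rw [hx, upS_zero]; exact one_mem H
    -- every unit is a square, and every unit is a power of `d`
    have hcomm : ∀ u v : F, (u + v) ^ 2 = u ^ 2 + v ^ 2 := fun u v => by
      linear_combination (u * v) * h2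
    have hinj : Function.Injective fun u : F => u ^ 2 := by
      intro u v huv
      have : (u + v) ^ 2 = 0 := by
        rw [hcomm, show u ^ 2 = v ^ 2 from huv]; linear_combination (v ^ 2) * h2
      have := (pow_eq_zero_iff two_ne_zero).1 this
      linear_combination this - v * h2
    obtain ⟨w, hw⟩ := Finite.surjective_of_injective hinj (x / b)
    have hw0 : w ≠ 0 := by
      rintro rfl
      change (0 : F) ^ 2 = x / b at hw
      rw [zero_pow two_ne_zero, eq_comm, div_eq_zero_iff] at hw
      exact hw.elim hx hb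
    obtain ⟨n, hn⟩ := (mem_powers_iff_mem_zpowers).2 (htop.symm ▸ mem_top (Units.mk0 w hw0) :
      Units.mk0 w hw0 ∈ zpowers d)
    have hn' : (d : F) ^ n = w := by
      have := congrArg (fun u : Fˣ => (u : F)) hn
      simpa using this
    have := hpow n
    rw [← pow_mul, mul_comm 2 n, pow_mul, hn'] at this
    change w ^ 2 = x / b at hw
    rwa [hw, div_mul_cancel₀ _ hb] at this
  have hd : diag d ∈ H := by
    have := mul_mem hhH (inv_mem (hall c))
    rwa [mul_inv_cancel_right] at this
  intro g hg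
  obtain ⟨e, x, rfl, -⟩ := borel_exists hg
  refine mul_mem ?_ (hall x)
  obtain ⟨n, rfl⟩ := mem_zpowers_iff.1 (htop.symm ▸ mem_top e : e ∈ zpowers d)
  have : diag (d ^ n) = diag d ^ n :=
    map_zpow (MonoidHom.mk' (diag : Fˣ → SLF) diag_mul) d n
  rw [this]
  exact zpow_mem hd n

theorem selfNorm_sl (h2 : (2 : F) = 0) (hprime : (Nat.card F - 1).Prime) : SelfNorm SLF := by
  classical
  haveI : Fact (Nat.Prime 2) := ⟨Nat.prime_two⟩
  haveI : CharP F 2 := CharTwo.of_one_ne_zero_of_two_eq_zero one_ne_zero h2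
  haveI : Fintype F := Fintype.ofFinite F
  have h2F : 2 ∣ Nat.card F := by
    obtain ⟨p, hp, hc, hd⟩ := exists_charP (F := F)
    rwa [CharP.eq F hc (show CharP F 2 by assumption)] at hd
  intro H hH
  refine le_antisymm (fun x hx => ?_) le_normalizer
  have hxH := mem_normalizer_iff.1 hx
  let Q : Sylow 2 H := default
  by_cases hb : normalizer ((Q : Subgroup H) : Set H) ≤ centralizer ((Q : Subgroup H) : Set H)
  · -- a normal subgroup of odd order
    obtain ⟨Q', K, hKn, hKc⟩ := CfsgLib.Frobenius.hasNormalPComplement_of_burnside Q hb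
    have hodd : Odd (Nat.card K) := by
      rw [← Nat.not_even_iff_odd, even_iff_two_dvd]
      intro hd
      have hm := hKc.card_mul
      have hidx : Nat.card K = (Q' : Subgroup H).index := by
        have := (Q' : Subgroup H).card_mul_index
        rw [← hm, mul_comm] at this
        exact (Nat.eq_of_mul_eq_mul_right Nat.card_pos this).symm
      exact Q'.not_dvd_index (hidx ▸ hd)
    have hmemK : ∀ g : H, Odd (orderOf g) → g ∈ K := by
      intro g hg
      obtain ⟨⟨⟨k, hk⟩, ⟨q, hq⟩⟩, he⟩ := hKc.2 g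
      change k * q = g at he
      have hgq : QuotientGroup.mk' K g = QuotientGroup.mk' K q := by
        rw [← he, map_mul, show QuotientGroup.mk' K k = 1 from (QuotientGroup.eq_one_iff k).2 hk,
          one_mul]
      obtain ⟨n, hn⟩ := IsPGroup.iff_orderOf.1 Q'.isPGroup' ⟨q, hq⟩
      rw [orderOf_mk] at hn
      have h1 : orderOf (QuotientGroup.mk' K g) ∣ orderOf g := orderOf_map_dvd _ g
      have h2 : orderOf (QuotientGroup.mk' K g) ∣ 2 ^ n := hgq ▸ hn ▸ orderOf_map_dvd _ q
      have hco : Nat.Coprime (orderOf g) (2 ^ n) := (Nat.coprime_two_right.2 hg).pow_right n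
      exact (QuotientGroup.eq_one_iff g).1
        (orderOf_eq_one_iff.1 (Nat.eq_one_of_dvd_one (hco.gcd_eq_one ▸ Nat.dvd_gcd h1 h2)))
    have hCA : ∀ g : SLF, g ≠ 1 → ∀ a ∈ centralizer ({g} : Set SLF),
        ∀ b ∈ centralizer ({g} : Set SLF), a * b = b * a :=
      fun g hg a ha b hb => centralizer_mulComm (notMem_center h2 hg) ha hb
    have hK : K ≠ ⊥ := by
      rintro rfl
      apply hH
      have hQ : (Q' : Subgroup H) = ⊤ := isComplement'_bot_left.1 hKc
      have hp : IsPGroup 2 H := by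
        have := Q'.isPGroup'
        rw [hQ] at this
        exact this.of_equiv topEquiv
      obtain ⟨P, hP⟩ := hp.exists_le_sylow
      obtain ⟨g, hg⟩ := CfsgLib.ClassicalLinear.exists_conj_upperSL (p := 2) P
      refine comm_iff.2 fun a ha b hb => ?_
      obtain ⟨s, hs⟩ := mem_upperSL.1 ((hg a).1 (hP ha))
      obtain ⟨t, ht⟩ := mem_upperSL.1 ((hg b).1 (hP hb))
      have hab : (g⁻¹ * a * g) * (g⁻¹ * b * g) = (g⁻¹ * b * g) * (g⁻¹ * a * g) := by
        rw [← hs, ← ht, ← CfsgLib.ClassicalLinear.upS_add, add_comm,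
          CfsgLib.ClassicalLinear.upS_add]
      calc a * b = g * ((g⁻¹ * a * g) * (g⁻¹ * b * g)) * g⁻¹ := by group
        _ = g * ((g⁻¹ * b * g) * (g⁻¹ * a * g)) * g⁻¹ := by rw [hab]
        _ = b * a := by group
    have hKsol : Group.IsSolvable K := by
      refine Cfsg.Agent.S0182.result hodd fun g hg a ha b hb => ?_
      have hg1 : ((g : H) : SLF) ≠ 1 := fun h => hg (Subtype.ext (Subtype.ext h))
      refine Subtype.ext (Subtype.ext ?_)
      exact hCA _ hg1 _ (mem_centralizer_singleton_iff.2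
          (congrArg (fun z : K => ((z : H) : SLF)) (mem_centralizer_singleton_iff.1 ha))) _
        (mem_centralizer_singleton_iff.2
          (congrArg (fun z : K => ((z : H) : SLF)) (mem_centralizer_singleton_iff.1 hb)))
    -- an abelian subgroup invariant under the normaliser
    let ι : K →* SLF := H.subtype.comp K.subtype
    let D : ℕ → Subgroup SLF := fun n => (derivedSeries K n).map ι
    have hD0 : ∀ a, a ∈ D 0 → ∀ y ∈ normalizer (H : Set SLF), y * a * y⁻¹ ∈ D 0 := by
      rintro _ ⟨a, -, rfl⟩ y hy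
      have hyH := (mem_normalizer_iff.1 hy _).1 (a : H).2
      refine ⟨⟨⟨_, hyH⟩, hmemK _ ?_⟩, by simp [derivedSeries_zero], rfl⟩
      rw [← orderOf_injective H.subtype (subtype_injective H)]
      change Odd (orderOf (y * ((a : H) : SLF) * y⁻¹))
      rw [show y * ((a : H) : SLF) * y⁻¹ = MulAut.conj y ((a : H) : SLF) from rfl,
        MulEquiv.orderOf_eq, orderOf_coe, orderOf_coe]
      exact hodd.of_dvd_nat (orderOf_dvd_natCard a)
    have hDn : ∀ n, ∀ y ∈ normalizer (H : Set SLF),
        (D n).map (MulAut.conj y).toMonoidHom ≤ D n := by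
      intro n
      induction n with
      | zero => rintro y hy _ ⟨a, ha, rfl⟩; exact hD0 a ha y hy
      | succ n ih =>
        intro y hy
        have e : D (n + 1) = ⁅D n, D n⁆ := by
          simp only [D, derivedSeries_succ, map_commutator]
        rw [e, map_commutator]
        exact commutator_mono (ih y hy) (ih y hy)
    obtain ⟨hex, hn⟩ : ∃ n, derivedSeries K n = ⊥ := hKsol.solvable
    have hmin := Nat.find_spec (p := fun n => derivedSeries K n = ⊥) ⟨hex, hn⟩
    set N := Nat.find (p := fun n => derivedSeries K n = ⊥) ⟨hex, hn⟩ with hN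
    have hN0 : N ≠ 0 := fun h => hK (by
      rw [h, derivedSeries_zero] at hmin
      rw [eq_bot_iff]
      intro k hk
      have : (⟨k, hk⟩ : K) ∈ (⊥ : Subgroup K) := hmin ▸ mem_top _
      rw [mem_bot] at this ⊢
      exact congrArg Subtype.val this)
    obtain ⟨m, hm⟩ := Nat.exists_eq_succ_of_ne_zero hN0
    have hm0 : derivedSeries K m ≠ ⊥ := Nat.find_min _ (by omega : m < N)
    obtain ⟨a₀, ha₀, ha₀1⟩ := (ne_bot_iff_exists_ne_one).1 hm0 |> fun ⟨⟨a, h⟩, h'⟩ =>
      (⟨a, h, fun e => h' (Subtype.ext e)⟩ : ∃ a, a ∈ derivedSeries K m ∧ a ≠ 1)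
    set a : SLF := ι a₀ with ha
    have haH : a ∈ H := (a₀ : H).2
    have ha1 : a ≠ 1 := fun h => ha₀1 (Subtype.ext (Subtype.ext h))
    have haodd : Odd (orderOf a) := by
      rw [ha, orderOf_injective ι (fun u v e => Subtype.ext (Subtype.ext e))]
      exact hodd.of_dvd_nat (orderOf_dvd_natCard a₀)
    have htr : tr a ^ 2 ≠ 4 := tr_sq_ne_four_of_coprime (p := 2)
      (Nat.Coprime.mul_right (Nat.coprime_two_right.2 haodd) (Nat.coprime_two_right.2 haodd)) ha1
    have hinv : ∀ y ∈ normalizer (H : Set SLF), y * a * y⁻¹ = a ∨ y * a * y⁻¹ = a⁻¹ := by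
      intro y hy
      obtain ⟨b, hb, hbe⟩ := hDn m y hy (mem_map_of_mem _ (mem_map_of_mem ι ha₀))
      have hab : a₀ * b = b * a₀ := by
        have : ⁅a₀, b⁆ ∈ derivedSeries K (m + 1) := commutator_mem_commutator ha₀ hb
        rw [show derivedSeries K (m + 1) = ⊥ from (congrArg (derivedSeries K) hm).symm.trans hmin, mem_bot,
          commutatorElement_eq_one_iff_mul_comm] at this
        exact this
      have hbe' : ι b = y * a * y⁻¹ := hbe
      refine eq_or_eq_inv htr ?_ (tr_conj a y)
      rw [mem_centralizer_singleton_iff, ← hbe', ha, ← map_mul, ← map_mul, hab]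
    have hnc := notMem_center_of_tr htr
    -- an element of `H` inverting `a`
    obtain ⟨s, hsH, hs⟩ : ∃ s ∈ H, s * a * s⁻¹ = a⁻¹ := by
      by_contra! h
      apply hH
      refine comm_iff.2 fun u hu v hv => centralizer_mulComm hnc ?_ ?_ <;>
        rw [mem_centralizer_singleton_iff, ← mul_inv_eq_iff_eq_mul]
      · exact (hinv u (le_normalizer hu)).resolve_right (h u hu)
      · exact (hinv v (le_normalizer hv)).resolve_right (h v hv)
    have hcent : ∀ c ∈ normalizer (H : Set SLF), c * a * c⁻¹ = a → c ∈ H := by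
      intro c hc hca
      have hcC : c ∈ centralizer ({a} : Set SLF) :=
        mem_centralizer_singleton_iff.2 (mul_inv_eq_iff_eq_mul.1 hca)
      have hsc := conj_eq_inv_of_inverts hnc hs hcC
      have h1 : c * s * c⁻¹ * s⁻¹ ∈ H :=
        mul_mem ((mem_normalizer_iff.1 hc s).1 hsH) (inv_mem hsH)
      have h2' : c * s * c⁻¹ * s⁻¹ = c ^ 2 := by
        calc c * s * c⁻¹ * s⁻¹ = c * (s * c * s⁻¹)⁻¹ := by group
          _ = c ^ 2 := by rw [hsc, inv_inv, sq]
      rw [h2'] at h1
      have hcodd : Odd (orderOf c) := by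
        have hd : orderOf c ∣ Nat.card (centralizer ({a} : Set SLF)) := by
          have := orderOf_dvd_natCard (⟨c, hcC⟩ : centralizer ({a} : Set SLF))
          rwa [orderOf_mk] at this
        refine Odd.of_dvd_nat ?_ hd
        obtain ⟨k, hk⟩ := h2F
        have hpos : 1 < Nat.card F := Finite.one_lt_card
        rcases card_centralizer_or htr with e | e <;> rw [e, hk]
        · exact ⟨k - 1, by omega⟩
        · exact ⟨k, rfl⟩
      obtain ⟨k, hk⟩ := hcodd
      have : c = (c ^ 2) ^ (k + 1) := by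
        rw [← pow_mul, show 2 * (k + 1) = orderOf c + 1 by omega, pow_succ, pow_orderOf_eq_one,
          one_mul]
      rw [this]
      exact pow_mem h1 _
    rcases hinv x hx with h | h
    · exact hcent x hx h
    · have hxs : x * s ∈ H := hcent _ (mul_mem hx (le_normalizer hsH)) (by
        calc x * s * a * (x * s)⁻¹ = x * (s * a * s⁻¹) * x⁻¹ := by group
          _ = (x * a * x⁻¹)⁻¹ := by rw [hs]; group
          _ = a := by rw [h, inv_inv])
      have := mul_mem hxs (inv_mem hsH)
      rwa [mul_inv_cancel_right] at this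
  · -- a subgroup containing a Borel group
    obtain ⟨h, hhN, hhC⟩ := SetLike.not_le_iff_exists.1 hb
    rw [mem_centralizer_iff] at hhC
    push Not at hhC
    obtain ⟨q, hq, hqh⟩ := hhC
    obtain ⟨P, hP⟩ := (Q.isPGroup'.map H.subtype).exists_le_sylow
    obtain ⟨g, hg⟩ := CfsgLib.ClassicalLinear.exists_conj_upperSL (p := 2) P
    let φ : SLF →* SLF := (MulAut.conj g⁻¹).toMonoidHom
    have hφ : ∀ z, φ z = g⁻¹ * z * g := fun z => by simp [φ]
    have hφinj : Function.Injective φ := (MulAut.conj g⁻¹).injective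
    set H' := H.map φ with hH'
    obtain ⟨b, hb'⟩ := mem_upperSL.1 ((hg _).1 (hP (mem_map_of_mem H.subtype hq)))
    change upS b = g⁻¹ * (q : SLF) * g at hb'
    rw [← hφ] at hb'
    have hb0 : b ≠ 0 := fun h0 => hqh (by
      rw [h0, upS_zero, eq_comm, ← map_one φ] at hb'
      have : q = 1 := Subtype.ext (hφinj hb')
      simp [this])
    have hhB : φ h ∈ borel F := by
      obtain ⟨b', hb''⟩ := mem_upperSL.1 ((hg _).1 (hP (mem_map_of_mem H.subtype
        ((mem_normalizer_iff.1 hhN q).1 hq))))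
      change upS b' = g⁻¹ * ((h : SLF) * (q : SLF) * (h : SLF)⁻¹) * g at hb''
      rw [← hφ, map_mul, map_mul, map_inv, ← hb'] at hb''
      exact CfsgLib.ClassicalLinear.upper_of_conj_upS hb0 (hb'' ▸ mem_upperSL.2 ⟨b', rfl⟩)
    have hle : borel F ≤ H' := borel_le h2 hprime hb0 (hb' ▸ mem_map_of_mem φ q.2)
      (mem_map_of_mem φ h.2) hhB (by
        rw [hb', ← map_inv, ← map_mul, ← map_mul]
        intro e
        have e' : (h : SLF) * q * (h : SLF)⁻¹ = q := hφinj e
        exact hqh (Subtype.ext (mul_inv_eq_iff_eq_mul.1 e').symm))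
    have hx' : φ x ∈ H' := by
      by_cases hsub : H' ≤ borel F
      · have heq : H' = borel F := le_antisymm hsub hle
        have hn : φ x ∈ normalizer ((H' : Subgroup SLF) : Set SLF) :=
          le_normalizer_map φ (mem_map_of_mem φ hx)
        rw [heq] at hn ⊢
        have hu := (mem_normalizer_iff.1 hn (upS 1)).1 (upS_mem_borel 1)
        obtain ⟨ε, hε, t, ht⟩ := borel_unipotent hu (by rw [tr_conj, tr_upS]; norm_num)
        rw [CfsgLib.SL2.Binary.center_eq_one h2 hε, one_mul] at ht
        exact mem_borel.2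
          (CfsgLib.ClassicalLinear.upper_of_conj_upS one_ne_zero (ht ▸ mem_upperSL.2 ⟨t, rfl⟩))
      · obtain ⟨k, hk, hkb⟩ := SetLike.not_le_iff_exists.1 hsub
        have htop : H'.map Dickson.proj = ⊤ :=
          CfsgLib.SL2.Binary.eq_top_of_upS (fun b => mem_map_of_mem _ (hle (upS_mem_borel b)))
            (mem_map_of_mem _ hk) hkb
        obtain ⟨w, hw, hwe⟩ := mem_map.1 (htop.symm ▸ mem_top (Dickson.proj (φ x)))
        exact CfsgLib.SL2.Binary.proj_injective_two h2 hwe ▸ hw
    obtain ⟨w, hw, hwe⟩ := mem_map.1 hx'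
    exact hφinj hwe ▸ hw

end Linear

/-- Let G be a finite non-abelian simple group. Every non-abelian subgroup of G is self-normalizing if and only if G is isomorphic to PSL₂(2ⁿ) for some n ≥ 2 with 2ⁿ − 1 prime (this includes the alternating group of degree 5 as PSL₂(4)). -/
theorem result {G : Type*} [Group G] [Finite G] [IsSimpleGroup G]
    (hna : ¬ IsMulCommutative G) :
    (∀ H : Subgroup G, ¬ IsMulCommutative H → Subgroup.normalizer (H : Set G) = H) ↔
    ∃ n : ℕ, 2 ≤ n ∧ (2 ^ n - 1).Prime ∧ Nonempty (G ≃* Matrix.ProjectiveSpecialLinearGroup (Fin 2) (GaloisField 2 n)) := by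
  constructor
  · intro hS
    have htr : ∀ a b c : G, a ≠ 1 → b ≠ 1 → c ≠ 1 → Commute a b → Commute b c → Commute a c :=
      fun a b c _ hb _ hab hbc => comm_iff.1 (centralizer_comm hna hS hb)
        a (mem_centralizer_singleton_iff.2 hab.eq) c
        (mem_centralizer_singleton_iff.2 hbc.symm.eq)
    obtain ⟨F, iF, iT, f, hf, hF, ⟨e⟩⟩ := (Cfsg.Agent.S5748.result hna).1 htr
    have hcard : Nat.card F = 2 ^ f := by rw [Nat.card_eq_fintype_card, hF]
    have h2 : (2 : F) = 0 := by
      have h := CfsgLib.SL2.cast_card_zero (F := F)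
      rw [hcard, Nat.cast_pow] at h
      exact eq_zero_of_pow_eq_zero (by exact_mod_cast h)
    have h4 : 4 ≤ Nat.card F := hcard ▸ (by
      calc 4 = 2 ^ 2 := by norm_num
        _ ≤ 2 ^ f := Nat.pow_le_pow_right (by norm_num) hf)
    have hsl : SelfNorm (Matrix.SpecialLinearGroup (Fin 2) F) :=
      selfNorm_of_injective (e.symm.toMonoidHom.comp CfsgLib.SL2.Dickson.proj)
        (e.symm.injective.comp (CfsgLib.SL2.Binary.proj_injective_two h2)) hS
    refine ⟨f, hf, hcard ▸ torus_prime h2 h4 hsl, ?_⟩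
    haveI : Fintype (GaloisField 2 f) := Fintype.ofFinite _
    refine ⟨e.trans (CfsgLib.ClassicalLinear.pslCongr (FiniteField.ringEquivOfCardEq ?_))⟩
    rw [hF, ← Nat.card_eq_fintype_card, GaloisField.card 2 f (by omega)]
  · rintro ⟨n, hn, hp, ⟨e⟩⟩
    let F := GaloisField 2 n
    have h2 : (2 : F) = 0 := CharTwo.two_eq_zero
    have hc : (Nat.card F - 1).Prime := by rwa [GaloisField.card 2 n (by omega)]
    let ψ := MulEquiv.ofBijective (CfsgLib.SL2.Dickson.proj (F := F))
      ⟨CfsgLib.SL2.Binary.proj_injective_two h2, CfsgLib.SL2.Dickson.proj_surjective⟩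
    exact selfNorm_of_injective (e.trans ψ.symm).toMonoidHom (e.trans ψ.symm).injective
      (selfNorm_sl h2 hc)

end Cfsg.Agent.S4073
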