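import Cfsg.Statements.S4113

set_option autoImplicit false
open Cfsg

namespace Cfsg.Agent.S4113

theorem mem_conj_of_not_mem {G : Type*} [Group G] [Finite G] (N H : Subgroup G) [N.Normal]
    (hsup : H ⊔ N = ⊤) (hTI : ∀ g : G, g ∉ H → H ⊓ H.map (MulAut.conj g).toMonoidHom ≤ N)
    (x : G) (hx : x ∉ N) : ∃ g : G, ∃ y ∈ H, g * y * g⁻¹ = x := by
  classical
  let E := N.subgroupOf H
  let S := {y : H // y ∉ E}
  let f : (G ⧸ H) × S → {x : G // x ∉ N} := fun p => ⟨p.1.out * (p.2.1 : G) * (p.1.out)⁻¹, fun h => by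
    refine p.2.2 ?_
    have h' := (inferInstance : N.Normal).conj_mem _ h (p.1.out)⁻¹
    simpa [E, Subgroup.mem_subgroupOf, mul_assoc] using h'⟩
  have hf : Function.Injective f := by
    rintro ⟨q, y, hy⟩ ⟨q', y', hy'⟩ h
    have h1 : q.out * (y : G) * (q.out)⁻¹ = q'.out * (y' : G) * (q'.out)⁻¹ := congrArg Subtype.val h
    have hq : q = q' := by
      rw [← QuotientGroup.out_eq' q, ← QuotientGroup.out_eq' q', QuotientGroup.eq]
      by_contra hc
      refine hy (Subgroup.mem_subgroupOf.2 (hTI _ hc ⟨y.2, y', y'.2, ?_⟩))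
      show (q.out)⁻¹ * q'.out * (y' : G) * ((q.out)⁻¹ * q'.out)⁻¹ = (y : G)
      calc (q.out)⁻¹ * q'.out * (y' : G) * ((q.out)⁻¹ * q'.out)⁻¹
          = (q.out)⁻¹ * (q'.out * (y' : G) * (q'.out)⁻¹) * q.out := by group
        _ = y := by rw [← h1]; group
    subst hq
    have : (y : G) = y' := mul_left_cancel (mul_right_cancel h1)
    obtain rfl := Subtype.ext this
    rfl
  have hi : E.index = N.index := by
    show N.relIndex H = N.index
    rw [← Subgroup.relIndex_top_right, ← hsup, sup_comm, Subgroup.relIndex_sup_left]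
  have hS : Nat.card E + Nat.card S = Nat.card H := by
    rw [← Nat.card_congr (Equiv.sumCompl (· ∈ E)), Nat.card_sum]
  have hT : Nat.card N + Nat.card {x : G // x ∉ N} = Nat.card G := by
    rw [← Nat.card_congr (Equiv.sumCompl (· ∈ N)), Nat.card_sum]
  have hN : H.index * Nat.card E = Nat.card N := by
    refine Nat.eq_of_mul_eq_mul_right (Nat.pos_of_ne_zero (Subgroup.index_ne_zero_of_finite (H := N))) ?_
    rw [N.card_mul_index, mul_assoc, ← hi, E.card_mul_index, H.index_mul_card]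
  have hc : Nat.card {x : G // x ∉ N} ≤ Nat.card ((G ⧸ H) × S) := by
    rw [Nat.card_prod, ← Subgroup.index_eq_card]
    have h1 := H.index_mul_card
    rw [← hS, mul_add, hN] at h1
    omega
  obtain ⟨⟨q, y⟩, h⟩ := (hf.bijective_of_nat_card_le hc).surjective ⟨x, hx⟩
  exact ⟨q.out, y.1.1, y.1.2, congrArg Subtype.val h⟩

/-- Let G be a finite group, M ≤ N non-trivial proper normal subgroups, and H a subgroup with HM = G and H ∩ M = 1. Then every element of G outside N acts fixed-point-freely on M (C_G(x) ≤ N for every x ∈ M, x ≠ 1) if and only if H ∩ gHg⁻¹ ≤ H ∩ N for every g outside H, with H proper and non-trivial and H ∩ N proper in H. -/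
theorem result {G : Type*} [Group G] [Finite G] (N M : Subgroup G) [N.Normal] [M.Normal] (hMN : M ≤ N) (hM1 : M ≠ ⊥) (hN2 : N ≠ ⊤)
    (H : Subgroup G) (hHM : H ⊔ M = ⊤) (hHM' : H ⊓ M = ⊥) :
    (∀ x ∈ M, x ≠ 1 → Subgroup.centralizer ({x} : Set G) ≤ N) ↔
      (H ≠ ⊥ ∧ H ≠ ⊤ ∧ H ⊓ N < H ∧ ∀ g : G, g ∉ H → H ⊓ H.map (MulAut.conj g).toMonoidHom ≤ N) := by
  have hsup : H ⊔ N = ⊤ := eq_top_iff.2 (hHM.ge.trans (sup_le_sup_left hMN H))
  constructor
  · intro hc
    refine ⟨fun h => hN2 ?_, fun h => hM1 ?_, lt_of_le_of_ne inf_le_left fun h => hN2 ?_, fun g hg => ?_⟩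
    · rw [← hsup, h, bot_sup_eq]
    · rw [← hHM', h, top_inf_eq]
    · rw [← hsup, sup_eq_right.2 (h ▸ inf_le_right)]
    · have hgm : g ∈ M ⊔ H := sup_comm H M ▸ hHM ▸ Subgroup.mem_top g
      obtain ⟨m, hm, h, hh, rfl⟩ := Subgroup.mem_sup_of_normal_left.1 hgm
      rintro y ⟨hy, b, hb, hby⟩
      have hm1 : m ≠ 1 := fun e => hg (by rw [e, one_mul]; exact hh)
      let b' := h * b * h⁻¹
      have hb' : b' ∈ H := mul_mem (mul_mem hh hb) (inv_mem hh)
      have e : m * b' * m⁻¹ = y := by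
        rw [← hby]
        show _ = m * h * b * (m * h)⁻¹
        simp only [b']; group
      have hmem : y * b'⁻¹ ∈ M := by
        rw [← e, show m * b' * m⁻¹ * b'⁻¹ = m * (b' * m⁻¹ * b'⁻¹) by group]
        exact M.mul_mem hm ((inferInstance : M.Normal).conj_mem _ (M.inv_mem hm) b')
      have h1 : y * b'⁻¹ ∈ H ⊓ M := ⟨H.mul_mem hy (H.inv_mem hb'), hmem⟩
      rw [hHM', Subgroup.mem_bot, mul_inv_eq_one] at h1
      refine hc m hm hm1 (Subgroup.mem_centralizer_singleton_iff.2 ?_)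
      rw [← h1] at e
      exact (mul_inv_eq_iff_eq_mul.1 e).symm
  · rintro ⟨-, -, -, hTI⟩ x hx hx1 c hc
    by_contra hcN
    obtain ⟨g, y, hy, rfl⟩ := mem_conj_of_not_mem N H hsup hTI c hcN
    rw [Subgroup.mem_centralizer_singleton_iff] at hc
    have hx' : g⁻¹ * x * g ∈ M := by
      simpa using (inferInstance : M.Normal).conj_mem _ hx g⁻¹
    have hxH : g⁻¹ * x * g ∉ H := fun h => hx1 (by
      have h2 : g⁻¹ * x * g ∈ H ⊓ M := ⟨h, hx'⟩
      rw [hHM', Subgroup.mem_bot] at h2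
      calc x = g * (g⁻¹ * x * g) * g⁻¹ := by group
        _ = 1 := by rw [h2]; group)
    have hyN : y ∈ N := hTI _ hxH ⟨hy, y, hy, by
      show g⁻¹ * x * g * y * (g⁻¹ * x * g)⁻¹ = y
      calc g⁻¹ * x * g * y * (g⁻¹ * x * g)⁻¹ = g⁻¹ * (x * (g * y * g⁻¹)) * x⁻¹ * g := by group
        _ = g⁻¹ * (g * y * g⁻¹ * x) * x⁻¹ * g := by rw [hc]
        _ = y := by group⟩
    exact hcN ((inferInstance : N.Normal).conj_mem _ hyN g)

end Cfsg.Agent.S4113
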