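import Cfsg.Statements.S4190
import Cfsg.Agent.Lib.ClassLower.Reduction
-- import your own Cfsg.Agent.* helpers here

set_option autoImplicit false
open Cfsg

namespace Cfsg.Agent.S4190

/-- Let G be a finite solvable group and p a prime dividing the index of the Fitting subgroup of G. Then the number of conjugacy classes of G is at least p/(3·log₂ p). -/
theorem result {G : Type*} [Group G] [Finite G] (hG : Group.IsSolvable G) (p : ℕ) [Fact p.Prime] (hp : p ∣ (Cfsg.fittingSubgroup G).index) : (p : ℝ) / (3 * Real.logb 2 p) ≤ Nat.card (ConjClasses G) := by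
  classical
  obtain ⟨P⟩ : Nonempty (Sylow p G) := inferInstance
  have hP : ¬ (P : Subgroup G).Normal := by
    intro hPn
    have hle : (P : Subgroup G) ≤ Cfsg.fittingSubgroup G :=
      le_sSup ⟨hPn, P.isPGroup'.isNilpotent⟩
    exact P.not_dvd_index (hp.trans (Subgroup.index_dvd_of_le hle))
  have h := CfsgLib.ClassLower.two_pow_le_of_sylow_not_normal p _ G rfl P hP
  set k := Nat.card (ConjClasses G)
  have hp1 : (1 : ℝ) < p := by exact_mod_cast (Fact.out : p.Prime).one_lt
  have hL : 0 < Real.logb 2 p := Real.logb_pos (by norm_num) hp1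
  have h' : (2 : ℝ) ^ p ≤ (p : ℝ) ^ (3 * k) := by exact_mod_cast h
  have h2 := Real.logb_le_logb_of_le (b := 2) (by norm_num) (by positivity) h'
  rw [Real.logb_pow, Real.logb_pow, Real.logb_self_eq_one (by norm_num), mul_one] at h2
  rw [div_le_iff₀ (by positivity)]
  push_cast at h2
  linarith

end Cfsg.Agent.S4190
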