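import Cfsg.Statements.S4231
import Cfsg.Agent.S2930
import Cfsg.Agent.S2119

set_option autoImplicit false
open Cfsg

namespace Cfsg.Agent.S4231

open Equiv Equiv.Perm CfsgLib.StronglyPEmbedded

theorem perm_eq_of_isPGroup {n q : ℕ} [Fact q.Prime] (hq : n < q ^ 2) (H : Subgroup (Perm (Fin n)))
    (hH : IsPGroup q H) {a b : Perm (Fin n)} (ha : a ∈ H) (hb : b ∈ H) : a * b = b * a := by
  refine Equiv.ext fun x => ?_
  set O := MulAction.orbit H x with hO
  obtain ⟨k, hk⟩ := hH.card_orbit x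
  have hle : q ^ k ≤ n := by
    rw [← hk]; exact (Nat.card_le_card_of_injective _ Subtype.val_injective).trans (by simp)
  have hk1 : k ≤ 1 := by
    by_contra h
    have := Nat.pow_le_pow_right (Fact.out : q.Prime).pos (show 2 ≤ k by omega)
    omega
  -- the group induced on the orbit has order dividing `q`
  let φ : H →* Perm O := MulAction.toPermHom H O
  have hcard : Nat.card φ.range ≤ q := by
    obtain ⟨j, hj⟩ := IsPGroup.iff_card.mp (hH.of_surjective φ.rangeRestrict φ.rangeRestrict_surjective)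
    have hd : q ^ j ∣ (q ^ k).factorial := by
      rw [← hj]
      refine (Subgroup.card_subgroup_dvd_card _).trans ?_
      rw [Nat.card_perm, hO, hk]
    have hj1 : j ≤ 1 := by
      by_contra h
      have h2 : q ^ 2 ∣ q.factorial := by
        refine (pow_dvd_pow q (show 2 ≤ j by omega)).trans (hd.trans ?_)
        exact Nat.factorial_dvd_factorial ((Nat.pow_le_pow_right (Fact.out : q.Prime).pos hk1).trans_eq (pow_one q))
      rw [← Nat.mul_factorial_pred (Fact.out : q.Prime).ne_zero, sq] at h2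
      have h3 := Nat.dvd_of_mul_dvd_mul_left (Fact.out : q.Prime).pos h2
      rw [(Fact.out : q.Prime).dvd_factorial] at h3
      have := (Fact.out : q.Prime).two_le
      omega
    rw [hj]
    exact (Nat.pow_le_pow_right (Fact.out : q.Prime).pos hj1).trans_eq (pow_one q)
  have hcomm : φ (⟨a, ha⟩ * ⟨b, hb⟩) = φ (⟨b, hb⟩ * ⟨a, ha⟩) := by
    have : IsCyclic φ.range := by
      obtain ⟨j, hj⟩ := IsPGroup.iff_card.mp (hH.of_surjective φ.rangeRestrict φ.rangeRestrict_surjective)
      rcases j with - | j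
      · have : Subsingleton φ.range := (Nat.card_eq_one_iff_unique.mp (by simpa using hj)).1
        infer_instance
      · refine isCyclic_of_prime_card (p := q) (le_antisymm hcard ?_)
        rw [hj]; exact Nat.le_self_pow (Nat.succ_ne_zero j) q
    rw [map_mul, map_mul]
    exact congrArg Subtype.val (IsCyclic.commGroup.mul_comm (⟨φ ⟨a, ha⟩, _, rfl⟩ : φ.range) ⟨φ ⟨b, hb⟩, _, rfl⟩)
  exact congrArg (fun e : Perm O => ((e ⟨x, MulAction.mem_orbit_self x⟩ : O) : Fin n)) hcomm

theorem sylow_comm {n : ℕ} (hn : 5 ≤ n) {q : ℕ} [Fact q.Prime] (hq2 : q ≠ 2) (hq : n < q ^ 2)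
    (G : Subgroup (MulAut (alternatingGroup (Fin n)))) (P : Sylow q G) :
    IsMulCommutative (P : Subgroup G) := by
  set c : Perm (Fin n) →* MulAut (alternatingGroup (Fin n)) := MulAut.conjNormal with hc
  have hinj : Function.Injective c := Cfsg.Agent.S2119.conjNormal_injective (by omega)
  set H := ((P : Subgroup G).map G.subtype).comap c with hH
  have hHp : IsPGroup q H := (P.isPGroup'.map G.subtype).comap_of_injective c hinj
  have hlift : ∀ σ : (P : Subgroup G), ∃ π ∈ H, c π = ((σ : G) : MulAut (alternatingGroup (Fin n))) := by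
    intro σ
    obtain ⟨k, hk⟩ := P.isPGroup' σ
    have hσ : ((σ : G) : MulAut (alternatingGroup (Fin n))) ^ q ^ k = 1 :=
      congrArg (fun z : (P : Subgroup G) => ((z : G) : MulAut (alternatingGroup (Fin n)))) hk
    obtain ⟨π, hπ⟩ := exists_perm_of_preserves (α := Fin n) (by simpa using hn)
      ((σ : G) : MulAut (alternatingGroup (Fin n))).toMonoidHom (MulEquiv.injective _)
      (fun x hx => Cfsg.Agent.S2930.preserves_threeCycle hn _
        (((Fact.out : q.Prime).odd_of_ne_two hq2).pow) hσ x hx)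
    have e : c π = ((σ : G) : MulAut (alternatingGroup (Fin n))) :=
      MulEquiv.ext fun x => Subtype.ext ((MulAut.conjNormal_apply π x).trans (hπ x).symm)
    exact ⟨π, ⟨σ, σ.2, e.symm⟩, e⟩
  refine IsMulCommutative.of_comm fun σ τ => ?_
  obtain ⟨π, hπ, e1⟩ := hlift σ
  obtain ⟨ρ, hρ, e2⟩ := hlift τ
  refine Subtype.ext (Subtype.ext ?_)
  show ((σ : G) : MulAut (alternatingGroup (Fin n))) * ((τ : G) : MulAut (alternatingGroup (Fin n))) = _
  rw [← e1, ← e2, ← map_mul, perm_eq_of_isPGroup hq H hHp hπ hρ, map_mul, e1, e2]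
  rfl

theorem exists_orderOf {n : ℕ} (hn : 5 ≤ n) (G : Subgroup (MulAut (alternatingGroup (Fin n))))
    (hG : (MulAut.conj : alternatingGroup (Fin n) →* MulAut (alternatingGroup (Fin n))).range ≤ G)
    (m : Multiset ℕ) (hm : m.sum ≤ n) (hm2 : ∀ a ∈ m, 2 ≤ a) (heven : Even (m.sum + Multiset.card m)) :
    ∃ g : G, orderOf g = m.lcm := by
  obtain ⟨s, hs⟩ := (Equiv.Perm.exists_with_cycleType_iff (α := Fin n) (m := m)).2 ⟨by simpa using hm, hm2⟩
  have hsA : s ∈ alternatingGroup (Fin n) := Equiv.Perm.mem_alternatingGroup.mpr (by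
    rw [sign_of_cycleType, hs]; exact heven.neg_one_pow)
  have hinj : Function.Injective (MulAut.conj : alternatingGroup (Fin n) →* MulAut (alternatingGroup (Fin n))) := by
    intro a b hab
    refine Subtype.ext (Cfsg.Agent.S2119.conjNormal_injective (n := n) (by omega) (MulEquiv.ext fun x => ?_))
    refine Subtype.ext ?_
    rw [MulAut.conjNormal_apply, MulAut.conjNormal_apply]
    exact congrArg (fun f : MulAut (alternatingGroup (Fin n)) => ((f x : alternatingGroup (Fin n)) : Perm (Fin n))) hab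
  refine ⟨⟨MulAut.conj ⟨s, hsA⟩, hG ⟨_, rfl⟩⟩, ?_⟩
  rw [Subgroup.orderOf_mk, orderOf_injective _ hinj, Subgroup.orderOf_mk, ← lcm_cycleType, hs]

/-- Let n ≥ 5 and let G be a group of automorphisms of the alternating group of degree n containing all inner automorphisms. If p ≠ q are primes and G has no element of order pq, then every Sylow p-subgroup of G is abelian or every Sylow q-subgroup of G is abelian. -/
theorem result (n : ℕ) (hn : 5 ≤ n) (G : Subgroup (MulAut (alternatingGroup (Fin n))))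
    (hG : (MulAut.conj : alternatingGroup (Fin n) →* MulAut (alternatingGroup (Fin n))).range ≤ G)
    (p q : ℕ) [Fact p.Prime] [Fact q.Prime] (hpq : p ≠ q) (h : ∀ g : G, orderOf g ≠ p * q) :
    (∀ P : Sylow p G, IsMulCommutative (P : Subgroup G)) ∨ (∀ Q : Sylow q G, IsMulCommutative (Q : Subgroup G)) := by
  have hp := (Fact.out : p.Prime)
  have hq := (Fact.out : q.Prime)
  by_cases hp' : p ≠ 2 ∧ n < p ^ 2
  · exact Or.inl (sylow_comm hn hp'.1 hp'.2 G)
  by_cases hq' : q ≠ 2 ∧ n < q ^ 2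
  · exact Or.inr (sylow_comm hn hq'.1 hq'.2 G)
  exfalso
  have key : ∀ r : ℕ, r.Prime → r ≠ 2 → r ^ 2 ≤ n → 3 ≤ r ∧ r + 4 ≤ n ∧ r * 3 ≤ n := by
    intro r hr hr2 hrn
    have h3 : 3 ≤ r := by have := hr.two_le; omega
    have : r * 3 ≤ r ^ 2 := by rw [sq]; exact Nat.mul_le_mul_left r h3
    omega
  rcases eq_or_ne p 2 with rfl | hp2
  · have hq2 : q ≠ 2 := Ne.symm hpq
    obtain ⟨h3, h4, -⟩ := key q hq hq2 (not_lt.mp fun h => hq' ⟨hq2, h⟩)
    obtain ⟨g, hg⟩ := exists_orderOf hn G hG {2, 2, q} (by simp; omega)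
      (by intro a ha; simp at ha; omega) (by
        obtain ⟨j, hj⟩ := hq.odd_of_ne_two hq2
        exact ⟨j + 4, by simp; omega⟩)
    refine h g (hg.trans ?_)
    simp only [Multiset.insert_eq_cons, Multiset.lcm_cons, Multiset.lcm_singleton, lcm_eq_nat_lcm]
    rw [normalize_eq, ← Nat.lcm_assoc, Nat.lcm_self, ((Nat.coprime_primes hp hq).mpr hpq).lcm_eq_mul]
  rcases eq_or_ne q 2 with rfl | hq2
  · obtain ⟨h3, h4, -⟩ := key p hp hp2 (not_lt.mp fun h => hp' ⟨hp2, h⟩)
    obtain ⟨g, hg⟩ := exists_orderOf hn G hG {2, 2, p} (by simp; omega)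
      (by intro a ha; simp at ha; omega) (by
        obtain ⟨j, hj⟩ := hp.odd_of_ne_two hp2
        exact ⟨j + 4, by simp; omega⟩)
    refine h g (hg.trans ?_)
    simp only [Multiset.insert_eq_cons, Multiset.lcm_cons, Multiset.lcm_singleton, lcm_eq_nat_lcm]
    rw [normalize_eq, ← Nat.lcm_assoc, Nat.lcm_self, ((Nat.coprime_primes hq hp).mpr hpq.symm).lcm_eq_mul,
      mul_comm]
  · obtain ⟨hp3, -, hp9⟩ := key p hp hp2 (not_lt.mp fun h => hp' ⟨hp2, h⟩)
    obtain ⟨hq3, -, hq9⟩ := key q hq hq2 (not_lt.mp fun h => hq' ⟨hq2, h⟩)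
    obtain ⟨g, hg⟩ := exists_orderOf hn G hG {p, q} (by simp; omega)
      (by intro a ha; simp at ha; omega) (by
        obtain ⟨i, hi⟩ := hp.odd_of_ne_two hp2
        obtain ⟨j, hj⟩ := hq.odd_of_ne_two hq2
        exact ⟨i + j + 2, by simp; omega⟩)
    refine h g (hg.trans ?_)
    simp only [Multiset.insert_eq_cons, Multiset.lcm_cons, Multiset.lcm_singleton, lcm_eq_nat_lcm]
    rw [normalize_eq, ((Nat.coprime_primes hp hq).mpr hpq).lcm_eq_mul]

end Cfsg.Agent.S4231
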