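import Cfsg.Statements.S4347
-- import your own Cfsg.Agent.* helpers here

set_option autoImplicit false
open Cfsg

namespace Cfsg.Agent.S4347

open scoped Pointwise

/-- Let G be a finite group and p a prime. Say a Sylow p-subgroup Q is redundant when every element of p-power order lies in some Sylow p-subgroup other than Q. Then G has no redundant Sylow p-subgroup if and only if some element of p-power order lies in exactly one Sylow p-subgroup. -/
theorem result {G : Type*} [Group G] [Finite G]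
    (p : ℕ) [Fact p.Prime] :
    (¬ ∃ Q : Sylow p G, ∀ x : G, (∃ k : ℕ, orderOf x = p ^ k) → ∃ P : Sylow p G, P ≠ Q ∧ x ∈ P) ↔
      ∃ x : G, (∃ k : ℕ, orderOf x = p ^ k) ∧ ∃! P : Sylow p G, x ∈ P := by
  have hconj : ∀ (g x : G), orderOf (g * x * g⁻¹) = orderOf x := fun g x =>
    orderOf_injective (MulAut.conj g).toMonoidHom (MulAut.conj g).injective x
  constructor
  · intro h
    obtain ⟨Q⟩ : Nonempty (Sylow p G) := inferInstance
    by_contra hc
    push Not at hc
    refine h ⟨Q, fun x hx => ?_⟩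
    by_contra hne
    push Not at hne
    obtain ⟨k, hk⟩ := hx
    have hxp : IsPGroup p (Subgroup.zpowers x) :=
      IsPGroup.of_card (n := k) (by rw [Nat.card_zpowers, hk])
    obtain ⟨R, hR⟩ := hxp.exists_le_sylow
    have hxR : x ∈ R := hR (Subgroup.mem_zpowers x)
    have hRQ : R = Q := by
      by_contra hRQ
      exact hne R hRQ hxR
    refine hc x ⟨k, hk⟩ ⟨Q, hRQ ▸ hxR, fun P hP => ?_⟩
    by_contra hPQ
    exact hne P hPQ hP
  · rintro ⟨x, ⟨k, hk⟩, P, hP, huniq⟩ ⟨Q, hQ⟩
    obtain ⟨g, rfl⟩ := MulAction.exists_smul_eq G P Q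
    obtain ⟨R, hRne, hR⟩ := hQ (g * x * g⁻¹) ⟨k, by rw [hconj, hk]⟩
    apply hRne
    have : g⁻¹ • R = P := by
      apply huniq
      show x ∈ ((g⁻¹ • R : Sylow p G) : Set G)
      rw [Sylow.coe_smul]
      exact ⟨g * x * g⁻¹, hR, by simp [mul_assoc]⟩
    rw [← this, smul_inv_smul]

end Cfsg.Agent.S4347
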