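import Cfsg.Statements.S4348
import Cfsg.Agent.Lib.Cores.PCore
-- import your own Cfsg.Agent.* helpers here

set_option autoImplicit false
open Cfsg

namespace Cfsg.Agent.S4348

open scoped Pointwise

/-- Let G be a finite group, p a prime and P a Sylow p-subgroup of G, and let O_p(G) be the largest normal p-subgroup of G. If P/O_p(G) is cyclic, then some element of p-power order of G lies in exactly one Sylow p-subgroup. -/
theorem result {G : Type*} [Group G] [Finite G]
    (p : ℕ) [Fact p.Prime] (P : Sylow p G)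
    [hn : ((Cfsg.pCore p G).subgroupOf (P : Subgroup G)).Normal]
    (hc : IsCyclic ((P : Subgroup G) ⧸ (Cfsg.pCore p G).subgroupOf (P : Subgroup G))) :
    ∃ x : G, (∃ k : ℕ, orderOf x = p ^ k) ∧ ∃! Q : Sylow p G, x ∈ Q := by
  obtain ⟨c, hc⟩ := hc.exists_generator
  obtain ⟨⟨x, hx⟩, rfl⟩ := QuotientGroup.mk_surjective c
  refine ⟨x, ?_, P, hx, fun Q hQ => ?_⟩
  · obtain ⟨k, hk⟩ := P.2.exists_orderOf_eq_pow ⟨x, hx⟩
    exact ⟨k, by simpa [Subgroup.orderOf_coe] using hk⟩
  apply Sylow.ext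
  refine (P.3 Q.2 ?_)
  intro y hy
  obtain ⟨n, hn⟩ := hc (QuotientGroup.mk ⟨y, hy⟩)
  simp only at hn
  rw [← QuotientGroup.mk_zpow, QuotientGroup.eq, Subgroup.mem_subgroupOf] at hn
  have h1 := CfsgLib.Cores.pCore_le_sylow Q hn
  simp at h1
  have h2 := mul_mem (zpow_mem hQ n) h1
  show y ∈ Q
  simpa using h2

end Cfsg.Agent.S4348
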