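import Cfsg.Statements.S4349
import Cfsg.Agent.Lib.OutAut.SymSylowStructure
-- import your own Cfsg.Agent.* helpers here

set_option autoImplicit false
open Cfsg

namespace Cfsg.Agent.S4349

open scoped Pointwise

open Equiv

section

variable {α : Type*}

/-- The points of period exactly `2 ^ (k + 1)`. -/
def layer (x : Perm α) (k : ℕ) : Set α :=
  {a | (x ^ 2 ^ (k + 1)) a = a ∧ (x ^ 2 ^ k) a ≠ a}

/-- At most two fixed points, and at most one orbit of each size. -/
def Good (x : Perm α) : Prop :=
  Set.ncard {a : α | x a = a} ≤ 2 ∧ ∀ k, (layer x k).ncard ≤ 2 ^ (k + 1)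

theorem period_dvd {x : Perm α} {a : α} (m : ℕ) (hm : (x ^ m) a = a) (j : ℕ) :
    (x ^ (m * j)) a = a := by
  induction j with
  | zero => simp
  | succ j ih => rw [Nat.mul_succ, pow_add, Perm.mul_apply, hm, ih]

theorem minimal_two_pow {x : Perm α} {a : α} {k : ℕ} (h1 : (x ^ 2 ^ (k + 1)) a = a)
    (h0 : (x ^ 2 ^ k) a ≠ a) (j : ℕ) (hj : (x ^ j) a = a) : 2 ^ (k + 1) ∣ j := by
  have hdvd := (Nat.gcd_dvd_left (2 ^ (k + 1)) j)
  obtain ⟨i, hi, hgi⟩ := (Nat.dvd_prime_pow Nat.prime_two).1 hdvd
  rcases Nat.lt_or_ge i (k + 1) with hlt | hge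
  · exfalso
    refine h0 ?_
    obtain ⟨c, hc⟩ : Nat.gcd (2 ^ (k + 1)) j ∣ 2 ^ k := hgi ▸ pow_dvd_pow 2 (by omega)
    rw [hc]
    refine period_dvd _ ?_ c
    have h2 : Function.IsPeriodicPt x (Nat.gcd (2 ^ (k + 1)) j) a :=
      Function.IsPeriodicPt.gcd (by
        show (x : α → α)^[2 ^ (k + 1)] a = a
        rw [← Perm.coe_pow]; exact h1) (by
        show (x : α → α)^[j] a = a
        rw [← Perm.coe_pow]; exact hj)
    have h3 : (x : α → α)^[Nat.gcd (2 ^ (k + 1)) j] a = a := h2
    rwa [← Perm.coe_pow] at h3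
  · have : i = k + 1 := le_antisymm hi hge
    rw [← this, ← hgi]
    exact Nat.gcd_dvd_right _ _

theorem exists_layer {x : Perm α} {a : α} {N : ℕ} (hN : x ^ 2 ^ N = 1) (ha : x a ≠ a) :
    ∃ k, a ∈ layer x k := by
  by_contra hc
  push Not at hc
  have : ∀ j, (x ^ 2 ^ j) a ≠ a := by
    intro j
    induction j with
    | zero => rwa [pow_zero, pow_one]
    | succ j ih => exact fun h => hc j ⟨h, ih⟩
  exact this N (by rw [hN]; rfl)

theorem mem_layer_of_commute {x g : Perm α} (h : Commute g x) {k : ℕ} {a : α}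
    (ha : a ∈ layer x k) : g a ∈ layer x k := by
  have e : ∀ m, (x ^ m) (g a) = g ((x ^ m) a) := fun m =>
    (Perm.ext_iff.1 (h.pow_right m).eq a).symm
  exact ⟨by rw [e, ha.1], by rw [e]; exact fun he => ha.2 (g.injective he)⟩

theorem layer_eq_orbit [Finite α] {x : Perm α} (hx : Good x) {k : ℕ} {a : α} (ha : a ∈ layer x k)
    {b : α} (hb : b ∈ layer x k) : ∃ j, (x ^ j) a = b := by
  classical
  let S : Set α := Set.range fun j : Fin (2 ^ (k + 1)) => (x ^ (j : ℕ)) a
  have hS : S ⊆ layer x k := by
    rintro _ ⟨j, rfl⟩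
    exact mem_layer_of_commute ((Commute.refl x).pow_left _) ha
  have hle : ∀ i j : Fin (2 ^ (k + 1)), (i : ℕ) ≤ j → (x ^ (i : ℕ)) a = (x ^ (j : ℕ)) a →
      (i : ℕ) = j := by
    intro i j hij he
    have h1 : (x ^ ((j : ℕ) - i)) a = a := by
      apply (x ^ (i : ℕ)).injective
      rw [← Perm.mul_apply, ← pow_add, Nat.add_sub_cancel' hij, he]
    have h2 := minimal_two_pow ha.1 ha.2 _ h1
    have h3 : (j : ℕ) - i = 0 := Nat.eq_zero_of_dvd_of_lt h2 (by omega)
    omega
  have hinj : Function.Injective fun j : Fin (2 ^ (k + 1)) => (x ^ (j : ℕ)) a := by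
    intro i j he
    rcases le_total (i : ℕ) j with h | h
    · exact Fin.ext (hle i j h he)
    · exact Fin.ext (hle j i h he.symm).symm
  have hSc : S.ncard = 2 ^ (k + 1) := by
    rw [← Nat.card_coe_set_eq, Nat.card_range_of_injective hinj, Nat.card_fin]
  have hEq : S = layer x k := Set.eq_of_subset_of_ncard_le hS (hSc ▸ hx.2 k)
  obtain ⟨j, hj⟩ := hEq ▸ hb
  exact ⟨j, hj⟩

/-- An involution with at most one fixed point commuting with a good element is determined. -/
theorem flip_unique [Finite α] {x z z' : Perm α} {N : ℕ} (hN : x ^ 2 ^ N = 1) (hx : Good x)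
    (hz : ∀ a, z (z a) = a) (hzx : Commute z x) (hzf : ∀ a b, z a = a → z b = b → a = b)
    (hz' : ∀ a, z' (z' a) = a) (hzx' : Commute z' x) (hzf' : ∀ a b, z' a = a → z' b = b → a = b) :
    z = z' := by
  have key : ∀ (w : Perm α), (∀ a, w (w a) = a) → Commute w x →
      (∀ a b, w a = a → w b = b → a = b) → ∀ k a, a ∈ layer x k → w a = (x ^ 2 ^ k) a := by
    intro w hw hwx hwf k a ha
    obtain ⟨j, hj⟩ := layer_eq_orbit hx ha (mem_layer_of_commute hwx ha)
    have h2 : (x ^ (j + j)) a = a := by
      rw [pow_add, Perm.mul_apply, hj, ← Perm.mul_apply, ← (hwx.pow_right j).eq, Perm.mul_apply, hj,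
        hw]
    obtain ⟨c, hc⟩ := minimal_two_pow ha.1 ha.2 _ h2
    have hj2 : j = 2 ^ k * c := by rw [pow_succ] at hc; nlinarith
    rcases Nat.even_or_odd c with ⟨d, rfl⟩ | ⟨d, rfl⟩
    · exfalso
      have hwa : w a = a := by
        rw [← hj, hj2, show 2 ^ k * (d + d) = 2 ^ (k + 1) * d by ring]
        exact period_dvd _ ha.1 d
      have hwxa : w (x a) = x a := by
        rw [← Perm.mul_apply, hwx.eq, Perm.mul_apply, hwa]
      have h := hwf _ _ hwxa hwa
      refine ha.2 ?_
      have := period_dvd (x := x) (a := a) 1 (by rwa [pow_one]) (2 ^ k)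
      rwa [one_mul] at this
    · rw [← hj, hj2, show 2 ^ k * (2 * d + 1) = 2 ^ k + 2 ^ (k + 1) * d by ring, pow_add,
        Perm.mul_apply, period_dvd _ ha.1 d]
  refine Equiv.ext fun a => ?_
  by_cases ha : x a = a
  · have hmem : ∀ w : Perm α, Commute w x → x (w a) = w a := fun w hwx => by
      rw [← Perm.mul_apply, ← hwx.eq, Perm.mul_apply, ha]
    have hthree : ∀ b c : α, x b = b → x c = c → b ≠ a → c ≠ a → b = c := by
      intro b c hb hc hba hca
      by_contra hbc
      have h3 : ({a, b, c} : Set α) ⊆ {a | x a = a} := by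
        intro t ht
        rcases ht with rfl | rfl | rfl <;> assumption
      have := (Set.ncard_le_ncard h3).trans hx.1
      rw [Set.ncard_insert_of_notMem (by simp; exact ⟨Ne.symm hba, Ne.symm hca⟩), Set.ncard_pair hbc]
        at this
      omega
    by_cases h1 : z a = a
    · rw [h1]
      by_contra h2
      have h2' : z' a ≠ a := Ne.symm h2
      refine h2' (hzf (z' a) a ?_ h1)
      by_contra h3
      exact h3 (hthree _ _ (by rw [← Perm.mul_apply, ← hzx.eq, Perm.mul_apply, hmem z' hzx'])
        (hmem z' hzx') (fun h => h2' (z.injective (h.trans h1.symm))) h2')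
    · by_cases h2 : z' a = a
      · exfalso
        refine h1 (hzf' (z a) a ?_ h2)
        by_contra h3
        exact h3 (hthree _ _ (by rw [← Perm.mul_apply, ← hzx'.eq, Perm.mul_apply, hmem z hzx])
          (hmem z hzx) (fun h => h1 (z'.injective (h.trans h2.symm))) h1)
      · exact hthree _ _ (hmem z hzx) (hmem z' hzx') h1 h2
  · obtain ⟨k, hk⟩ := exists_layer hN ha
    rw [key z hz hzx hzf k a hk, key z' hz' hzx' hzf' k a hk]

end

section

variable {α : Type} [Finite α]

theorem isPGroup_two_of_sq {G : Type*} [Group G] {H : Subgroup G} (h : ∀ g ∈ H, g ^ 2 = 1) :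
    IsPGroup 2 H := fun g => ⟨1, Subtype.ext (by simpa using h g g.2)⟩

end

/-- The orbit relation of an involution. -/
def pairSetoid {α : Type} (z : Perm α) (hz : ∀ a, z (z a) = a) : Setoid α where
  r a b := b = a ∨ b = z a
  iseqv := ⟨fun _ => Or.inl rfl, fun {a b} h => by rcases h with rfl | rfl <;> simp [hz],
    fun {a b c} h h' => by rcases h with rfl | rfl <;> rcases h' with rfl | rfl <;> simp [hz]⟩

/-- The action on the pairs of an involution. -/
def pairHom {α : Type} (z : Perm α) (hz : ∀ a, z (z a) = a) :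
    Subgroup.centralizer ({z} : Set (Perm α)) →* Perm (Quotient (pairSetoid z hz)) :=
  have hc : ∀ (g : Subgroup.centralizer ({z} : Set (Perm α))) a b,
      (pairSetoid z hz).r a b → (pairSetoid z hz).r ((g : Perm α) a) ((g : Perm α) b) := by
    rintro g a b (rfl | rfl)
    · exact Or.inl rfl
    · exact Or.inr (Perm.ext_iff.1 (Subgroup.mem_centralizer_iff.1 g.2 z rfl) a).symm
  { toFun := fun g =>
      { toFun := Quotient.map (g : Perm α) (hc g)
        invFun := Quotient.map ((g⁻¹ : Subgroup.centralizer ({z} : Set (Perm α))) : Perm α) (hc g⁻¹)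
        left_inv := by
          intro q
          induction q using Quotient.inductionOn with
          | _ a => simp
        right_inv := by
          intro q
          induction q using Quotient.inductionOn with
          | _ a => simp }
    map_one' := by
      refine Equiv.ext fun q => ?_
      induction q using Quotient.inductionOn with
      | _ a => rfl
    map_mul' := by
      intro g h
      refine Equiv.ext fun q => ?_
      induction q using Quotient.inductionOn with
      | _ a => rfl }

theorem good_imp_unique : ∀ (n : ℕ) (α : Type) [Fintype α], Fintype.card α ≤ n →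
    ∀ (x : Perm α) (N : ℕ), x ^ 2 ^ N = 1 → Good x → ∃! P : Sylow 2 (Perm α), x ∈ P := by
  intro n
  induction n with
  | zero =>
    intro α _ hcard x N hN _
    haveI : IsEmpty α := Fintype.card_eq_zero_iff.1 (Nat.le_zero.1 hcard)
    obtain ⟨P⟩ : Nonempty (Sylow 2 (Perm α)) := inferInstance
    exact ⟨P, (Subsingleton.elim 1 x) ▸ one_mem (P : Subgroup (Perm α)),
      fun Q _ => Sylow.ext (Subsingleton.elim _ _)⟩
  | succ n ih =>
    intro α _ hcard x N hN hgood
    classical
    haveI := Fact.mk Nat.prime_two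
    obtain ⟨P₀, hP₀⟩ := (IsPGroup.iff_orderOf.2 fun g : Subgroup.zpowers x => by
      obtain ⟨i, hi⟩ := Subgroup.mem_zpowers_iff.1 g.2
      have : (g : Perm α) ^ 2 ^ N = 1 := by
        rw [← hi, ← zpow_natCast, ← zpow_mul, mul_comm, zpow_mul, zpow_natCast, hN, one_zpow]
      obtain ⟨j, -, hj⟩ := (Nat.dvd_prime_pow Nat.prime_two).1
        (orderOf_dvd_of_pow_eq_one (Subtype.ext (by simpa using this) : g ^ 2 ^ N = 1))
      exact ⟨j, hj⟩).exists_le_sylow
    have hxP₀ : x ∈ P₀ := hP₀ (Subgroup.mem_zpowers x)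
    by_cases hsmall : Fintype.card α ≤ 1
    · haveI : Subsingleton α := Fintype.card_le_one_iff_subsingleton.1 hsmall
      exact ⟨P₀, hxP₀, fun Q _ => Sylow.ext (Subsingleton.elim _ _)⟩
    have data : ∀ P : Sylow 2 (Perm α), x ∈ P → ∃ z : Perm α, (∀ a, z (z a) = a) ∧ Commute z x ∧
        (∀ a b, z a = a → z b = b → a = b) ∧
        (P : Subgroup (Perm α)) ≤ Subgroup.centralizer {z} := by
      intro P hxP
      obtain ⟨z, h1, h2, -, h4⟩ := CfsgLib.OutAut.hasFlip_sylow P
      refine ⟨z, h1, Equiv.ext fun a => (h2 x hxP a).symm, ?_, fun t ht => ?_⟩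
      · intro a b ha hb
        rcases h4 with h4 | ⟨p, hp, -⟩
        · exact absurd ha (h4 a)
        · exact ((hp a).1 ha).trans ((hp b).1 hb).symm
      · rw [Subgroup.mem_centralizer_iff]
        rintro _ rfl
        exact Equiv.ext fun a => (h2 t ht a).symm
    obtain ⟨z, hz, hzx, hzf, hzP₀⟩ := data P₀ hxP₀
    refine ⟨P₀, hxP₀, fun P hxP => ?_⟩
    obtain ⟨z', hz', hzx', hzf', hzP⟩ := data P hxP
    obtain rfl := flip_unique hN hgood hz hzx hzf hz' hzx' hzf'
    let s := pairSetoid z hz
    letI : Fintype (Quotient s) := Fintype.ofFinite _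
    have hxc : x ∈ Subgroup.centralizer ({z} : Set (Perm α)) := hzP₀ hxP₀
    let C := Subgroup.centralizer ({z} : Set (Perm α))
    let π : C →* Perm (Quotient s) := pairHom z hz
    let y : Perm (Quotient s) := π ⟨x, hxc⟩
    have hy : ∀ (m : ℕ) (a : α), (y ^ m) (Quotient.mk s a) = Quotient.mk s ((x ^ m) a) := by
      intro m a
      show ((π ⟨x, hxc⟩) ^ m) _ = _
      rw [← map_pow]
      rfl
    have hlt : Fintype.card (Quotient s) ≤ n := by
      have h1 : Fintype.card (Quotient s) < Fintype.card α := by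
        refine Fintype.card_lt_of_surjective_not_injective (Quotient.mk s) Quotient.mk_surjective ?_
        intro hinj
        obtain ⟨a, b, hab⟩ := Fintype.exists_pair_of_one_lt_card (not_le.1 hsmall)
        have h3 : ∀ c, z c = c := fun c => (hinj (Quotient.sound (Or.inr rfl : s.r c (z c)))).symm
        exact hab (hzf a b (h3 a) (h3 b))
      omega
    have hgy : Good y := by
      have him : ∀ k, layer y k ⊆ Quotient.mk s '' layer x (k + 1) := by
        intro k q hq
        induction q using Quotient.inductionOn with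
        | _ a =>
          refine ⟨a, ?_, rfl⟩
          have h1 := hq.1
          have h0 := hq.2
          rw [hy] at h0 h1
          have hx0 : (x ^ 2 ^ k) a ≠ a := fun h => h0 (by rw [h])
          have hxa : x a ≠ a := fun h => hx0 (by
            have := period_dvd (x := x) (a := a) 1 (by rwa [pow_one]) (2 ^ k)
            rwa [one_mul] at this)
          obtain ⟨l, hl⟩ := exists_layer hN hxa
          have hhalf : z a = (x ^ 2 ^ l) a := by
            obtain ⟨j, hj⟩ := layer_eq_orbit hgood hl (mem_layer_of_commute hzx hl)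
            have h2 : (x ^ (j + j)) a = a := by
              rw [pow_add, Perm.mul_apply, hj, ← Perm.mul_apply, ← (hzx.pow_right j).eq, Perm.mul_apply,
                hj, hz]
            obtain ⟨c, hc⟩ := minimal_two_pow hl.1 hl.2 _ h2
            have hj2 : j = 2 ^ l * c := by rw [pow_succ] at hc; nlinarith
            rcases Nat.even_or_odd c with ⟨d, rfl⟩ | ⟨d, rfl⟩
            · exfalso
              have hza : z a = a := by
                rw [← hj, hj2, show 2 ^ l * (d + d) = 2 ^ (l + 1) * d by ring]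
                exact period_dvd _ hl.1 d
              exact hxa (hzf (x a) a (by rw [← Perm.mul_apply, hzx.eq, Perm.mul_apply, hza]) hza)
            · rw [← hj, hj2, show 2 ^ l * (2 * d + 1) = 2 ^ l + 2 ^ (l + 1) * d by ring, pow_add,
                Perm.mul_apply, period_dvd _ hl.1 d]
          have hl1 : k + 1 ≤ l := by
            by_contra hlk
            apply h0
            rcases Nat.lt_or_ge l k with hlk' | hlk'
            · obtain ⟨c, hc⟩ := pow_dvd_pow 2 (show l + 1 ≤ k by omega)
              rw [hc, period_dvd _ hl.1 c]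
            · obtain rfl : l = k := by omega
              exact Quotient.sound (Or.inr (by rw [← Perm.mul_apply, (hzx.pow_right _).eq, Perm.mul_apply,
                hhalf, ← Perm.mul_apply, ← pow_add, ← two_mul, ← pow_succ', hl.1]))
          have hl2 : l ≤ k + 1 := by
            rcases Quotient.exact h1 with hh | hh
            · have := minimal_two_pow hl.1 hl.2 _ hh.symm
              have := (Nat.pow_dvd_pow_iff_le_right (le_refl 2)).1 this
              omega
            · have h3 : (x ^ 2 ^ (k + 2)) a = a := by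
                rw [show 2 ^ (k + 2) = 2 ^ (k + 1) + 2 ^ (k + 1) by ring, pow_add, Perm.mul_apply]
                set b := (x ^ 2 ^ (k + 1)) a with hb
                rw [show b = z a by rw [hh, hz], ← Perm.mul_apply, ← (hzx.pow_right _).eq, Perm.mul_apply,
                  ← hb, ← hh]
              have := minimal_two_pow hl.1 hl.2 _ h3
              have := (Nat.pow_dvd_pow_iff_le_right (le_refl 2)).1 this
              omega
          obtain rfl : l = k + 1 := le_antisymm hl2 hl1
          exact hl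
      refine ⟨?_, fun k => ?_⟩
      · have hfix : {q : Quotient s | y q = q} ⊆
            Quotient.mk s '' {a | x a = a} ∪ Quotient.mk s '' layer x 0 := by
          intro q hq
          induction q using Quotient.inductionOn with
          | _ a =>
            have h := hy 1 a
            simp only [pow_one] at h
            rcases Quotient.exact (h.symm.trans hq) with hh | hh
            · exact Or.inl ⟨a, hh.symm, rfl⟩
            · by_cases hxa : x a = a
              · exact Or.inl ⟨a, hxa, rfl⟩
              refine Or.inr ⟨a, ⟨?_, by rwa [pow_zero, pow_one]⟩, rfl⟩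
              have e : z a = x a := by
                conv_lhs => rw [hh]
                rw [hz]
              rw [show (2 : ℕ) ^ (0 + 1) = 1 + 1 from rfl, pow_add, pow_one, Perm.mul_apply, ← e,
                ← Perm.mul_apply, ← hzx.eq, Perm.mul_apply, ← e, hz]
        refine (Set.ncard_le_ncard hfix).trans ((Set.ncard_union_le _ _).trans (?_ : _ ≤ 1 + 1))
        refine add_le_add ?_ ?_
        · rw [Set.ncard_le_one]
          rintro _ ⟨a, ha, rfl⟩ _ ⟨b, hb, rfl⟩
          by_contra hab
          have hab' : a ≠ b := fun h => hab (by rw [h])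
          have hza : z a ≠ b := fun h => hab (Quotient.sound (Or.inr h.symm))
          have hzb : z b ≠ a := fun h => hab (Quotient.sound (Or.inr (show b = z a by rw [← h, hz])))
          have hfa : z a = a := by
            by_contra hfa
            have h3 : ({a, b, z a} : Set α) ⊆ {a | x a = a} := by
              intro t ht
              rcases ht with rfl | rfl | rfl
              · exact ha
              · exact hb
              · show x (z a) = z a
                rw [← Perm.mul_apply, ← hzx.eq, Perm.mul_apply, ha]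
            have := (Set.ncard_le_ncard h3).trans hgood.1
            rw [Set.ncard_insert_of_notMem (by simp; exact ⟨hab', Ne.symm hfa⟩),
              Set.ncard_pair (Ne.symm hza)] at this
            omega
          have hfb : z b = b := by
            by_contra hfb
            have h3 : ({a, b, z b} : Set α) ⊆ {a | x a = a} := by
              intro t ht
              rcases ht with rfl | rfl | rfl
              · exact ha
              · exact hb
              · show x (z b) = z b
                rw [← Perm.mul_apply, ← hzx.eq, Perm.mul_apply, hb]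
            have := (Set.ncard_le_ncard h3).trans hgood.1
            rw [Set.ncard_insert_of_notMem (by simp; exact ⟨hab', Ne.symm hzb⟩),
              Set.ncard_pair (Ne.symm hfb)] at this
            omega
          exact hab' (hzf a b hfa hfb)
        · rw [Set.ncard_le_one]
          rintro _ ⟨a, ha, rfl⟩ _ ⟨b, hb, rfl⟩
          obtain ⟨j, hj⟩ := layer_eq_orbit hgood ha hb
          obtain ⟨i, hi⟩ := layer_eq_orbit hgood ha (mem_layer_of_commute hzx ha)
          refine Quotient.sound ?_
          rcases Nat.even_or_odd j with ⟨d, rfl⟩ | ⟨d, rfl⟩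
          · left
            rw [← hj, ← two_mul, period_dvd (x := x) (a := a) 2 ha.1 d]
          · rcases Nat.even_or_odd i with ⟨e, rfl⟩ | ⟨e, rfl⟩
            · exfalso
              have hza : z a = a := by
                rw [← hi, ← two_mul, period_dvd (x := x) (a := a) 2 ha.1 e]
              refine ha.2 ?_
              rw [pow_zero, pow_one]
              exact hzf (x a) a (by rw [← Perm.mul_apply, hzx.eq, Perm.mul_apply, hza]) hza
            · right
              rw [← hj, ← hi, add_comm (2 * d), add_comm (2 * e), pow_add, pow_add, Perm.mul_apply,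
                Perm.mul_apply, period_dvd (x := x) (a := a) 2 ha.1 d,
                period_dvd (x := x) (a := a) 2 ha.1 e]
      · refine (Set.ncard_le_ncard (him k)).trans ?_
        by_cases hne : (layer x (k + 1)).Nonempty
        swap
        · rw [Set.not_nonempty_iff_eq_empty.1 hne]
          simp
        obtain ⟨a, ha⟩ := hne
        have hsub : Quotient.mk s '' layer x (k + 1) ⊆
            Set.range fun j : Fin (2 ^ (k + 1)) => Quotient.mk s ((x ^ (j : ℕ)) a) := by
          rintro _ ⟨b, hb, rfl⟩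
          obtain ⟨j, hj⟩ := layer_eq_orbit hgood ha hb
          obtain ⟨i, hi⟩ := layer_eq_orbit hgood ha (mem_layer_of_commute hzx ha)
          refine ⟨⟨j % 2 ^ (k + 1), Nat.mod_lt _ (Nat.two_pow_pos _)⟩, ?_⟩
          have hper : (y ^ 2 ^ (k + 1)) (Quotient.mk s a) = Quotient.mk s a := by
            rw [hy]
            refine Quotient.sound (Or.inr ?_)
            have h2 : (x ^ (i + i)) a = a := by
              rw [pow_add, Perm.mul_apply, hi, ← Perm.mul_apply, ← (hzx.pow_right i).eq,
                Perm.mul_apply, hi, hz]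
            obtain ⟨c, hc⟩ := minimal_two_pow ha.1 ha.2 _ h2
            have hi2 : i = 2 ^ (k + 1) * c := by rw [pow_succ _ (k + 1)] at hc; nlinarith
            rcases Nat.even_or_odd c with ⟨d, rfl⟩ | ⟨d, rfl⟩
            · exfalso
              have hza : z a = a := by
                rw [← hi, hi2, show 2 ^ (k + 1) * (d + d) = 2 ^ (k + 1 + 1) * d by ring]
                exact period_dvd _ ha.1 d
              refine ha.2 ?_
              have hxa := hzf (x a) a (by rw [← Perm.mul_apply, hzx.eq, Perm.mul_apply, hza]) hza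
              have := period_dvd (x := x) (a := a) 1 (by rwa [pow_one]) (2 ^ (k + 1))
              rwa [one_mul] at this
            · have hzv : z a = (x ^ 2 ^ (k + 1)) a := by
                rw [← hi, hi2, show 2 ^ (k + 1) * (2 * d + 1) = 2 ^ (k + 1) + 2 ^ (k + 1 + 1) * d by ring,
                  pow_add, Perm.mul_apply, period_dvd _ ha.1 d]
              rw [← hzv, hz]
          show Quotient.mk s ((x ^ (j % 2 ^ (k + 1))) a) = _
          rw [← hy, ← hj, ← hy]
          conv_rhs => rw [← Nat.mod_add_div j (2 ^ (k + 1)), pow_add, Perm.mul_apply,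
            period_dvd _ hper]
        refine (Set.ncard_le_ncard hsub).trans ?_
        rw [← Nat.card_coe_set_eq]
        exact (Finite.card_range_le _).trans (by rw [Nat.card_fin])
    obtain ⟨Q, -, hQu⟩ := ih (Quotient s) hlt y N (by rw [← map_pow]; exact (congrArg π (Subtype.ext (by simpa using hN) : (⟨x, hxc⟩ : C) ^ 2 ^ N = 1)).trans π.map_one) hgy
    let R : Subgroup (Perm α) := ((Q : Subgroup (Perm (Quotient s))).comap π).map C.subtype
    have hker : IsPGroup 2 π.ker := isPGroup_two_of_sq fun g hg => Subtype.ext (Equiv.ext fun a => by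
      have hk : ∀ b, (g : Perm α) b = b ∨ (g : Perm α) b = z b := fun b => by
        have h := Equiv.ext_iff.1 (MonoidHom.mem_ker.1 hg) (Quotient.mk s b)
        rcases Quotient.exact h with hh | hh
        · exact Or.inl hh.symm
        · exact Or.inr (by conv_rhs => rw [hh]
                           rw [hz])
      show (g : Perm α) (((g : Perm α) * 1) a) = a
      rw [mul_one]
      rcases hk a with h | h
      · rw [h, h]
      · rw [h, ← Perm.mul_apply, ← Subgroup.mem_centralizer_iff.1 g.2 z rfl, Perm.mul_apply, h, hz])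
    have hR : IsPGroup 2 R :=
      ((Q.isPGroup'.comap_of_ker_isPGroup π hker)).map C.subtype
    have hmax : ∀ P' : Sylow 2 (Perm α), x ∈ P' → (P' : Subgroup (Perm α)) ≤ C →
        (P' : Subgroup (Perm α)) = R := by
      intro P' hxP' hP'C
      refine (P'.is_maximal' hR fun t ht => ?_).symm
      obtain ⟨Q', hQ'⟩ := ((P'.isPGroup'.comap_of_injective C.subtype C.subtype_injective).map π).exists_le_sylow
      have hQQ : Q' = Q := hQu Q' (hQ' ⟨⟨x, hxc⟩, hxP', rfl⟩)
      refine ⟨⟨t, hP'C ht⟩, ?_, rfl⟩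
      show π ⟨t, hP'C ht⟩ ∈ (Q : Subgroup (Perm (Quotient s)))
      rw [← hQQ]
      exact hQ' ⟨⟨t, hP'C ht⟩, ht, rfl⟩
    exact Sylow.ext ((hmax P hxP hzP).trans (hmax P₀ hxP₀ hzP₀).symm)

/-- Orbit points of a two element pair of cycles. -/
theorem not_unique_of_normalizer {G : Type*} [Group G] {x t : G} (P : Sylow 2 G)
    (huniq : ∀ Q : Sylow 2 G, x ∈ Q → Q = P)
    (hself : Subgroup.normalizer ((P : Subgroup G) : Set G) = P)
    (V : Subgroup G) (hV : IsPGroup 2 V) (hx : x ∈ V)
    (ht : t ∈ Subgroup.normalizer (V : Set G)) (ht3 : t ^ 3 = 1) (ht1 : t ≠ 1) : False := by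
  haveI := Fact.mk Nat.prime_two
  obtain ⟨Q, hQ⟩ := hV.exists_le_sylow
  obtain rfl := huniq Q (hQ hx)
  have h1 : x ∈ (t • Q : Sylow 2 G) := by
    show x ∈ MulAut.conj t • (Q : Subgroup G)
    rw [Subgroup.mem_pointwise_smul_iff_inv_smul_mem]
    refine hQ ?_
    have := (Subgroup.mem_normalizer_iff.1 (inv_mem ht) x).1 hx
    simpa [MulAut.smul_def] using this
  have h2 := Sylow.smul_eq_iff_mem_normalizer.1 (huniq _ h1)
  replace h2 : t ∈ (Q : Subgroup G) := hself.le h2
  obtain ⟨k, hk⟩ := Q.isPGroup' ⟨t, h2⟩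
  have h2' : t ^ 2 ^ k = 1 := by simpa using congrArg Subtype.val hk
  refine ht1 (orderOf_eq_one_iff.1 (Nat.eq_one_of_dvd_coprimes
    (Nat.Coprime.pow_left k (by norm_num : Nat.Coprime 2 3))
    (orderOf_dvd_of_pow_eq_one h2') (orderOf_dvd_of_pow_eq_one ht3)))


theorem mod_eq_of_apply {α : Type*} {x : Perm α} {a : α} {k : ℕ} (ha : a ∈ layer x k) {i j : ℕ}
    (h : (x ^ i) a = (x ^ j) a) : i % 2 ^ (k + 1) = j % 2 ^ (k + 1) := by
  wlog hij : i ≤ j generalizing i j
  · exact (this h.symm (le_of_not_ge hij)).symm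
  have h1 : (x ^ (j - i)) a = a := by
    apply (x ^ i).injective
    rw [← Perm.mul_apply, ← pow_add, Nat.add_sub_cancel' hij, h]
  exact ((Nat.modEq_iff_dvd' hij).2 (minimal_two_pow ha.1 ha.2 _ h1))

theorem apply_of_mod {α : Type*} {x : Perm α} {a : α} {k : ℕ} (ha : a ∈ layer x k) {i j : ℕ}
    (h : i % 2 ^ (k + 1) = j % 2 ^ (k + 1)) : (x ^ i) a = (x ^ j) a := by
  have e : ∀ i, (x ^ i) a = (x ^ (i % 2 ^ (k + 1))) a := fun i => by
    conv_lhs => rw [← Nat.mod_add_div i (2 ^ (k + 1))]
    rw [pow_add x (i % _), Perm.mul_apply, period_dvd _ ha.1]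
  rw [e i, h, ← e j]

/-- An automorphism of order 3 of the four group. -/
def phi : Perm (ZMod 2 × ZMod 2) where
  toFun q := (q.2, q.1 + q.2)
  invFun q := (q.2 + q.1, q.1)
  left_inv := by decide
  right_inv := by decide

theorem phi_three : ∀ q, phi (phi (phi q)) = q := by decide

theorem phi_add : ∀ q d, phi (q + d) = phi q + phi d := by decide

theorem phi_ne : (1, 0) ≠ phi (1, 0) := by decide

/-- Two orbits of the same size give a 2-group containing `x` normalised by an element of order 3. -/
theorem two_cycles {α : Type*} [Finite α] (x : Perm α) {N k : ℕ} (hN : x ^ 2 ^ N = 1) {a b : α}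
    (ha : a ∈ layer x k) (hb : b ∈ layer x k) (hne : ∀ j, (x ^ j) a ≠ b) :
    ∃ (V : Subgroup (Perm α)) (t : Perm α), IsPGroup 2 V ∧ x ∈ V ∧
      t ∈ Subgroup.normalizer (V : Set (Perm α)) ∧ t ^ 3 = 1 ∧ t ≠ 1 := by
  classical
  haveI : NeZero (2 ^ k) := ⟨(Nat.two_pow_pos k).ne'⟩
  let base : ZMod 2 → α := fun q => if q = 0 then a else b
  have hbase : ∀ q, base q ∈ layer x k := fun q => by dsimp only [base]; split_ifs <;> assumption
  have hbne : ∀ q q' i j, (x ^ i) (base q) = (x ^ j) (base q') → q = q' := by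
    have key : ∀ i j, (x ^ i) a ≠ (x ^ j) b := by
      intro i j h
      refine hne (i + (2 ^ (k + 1) - 1) * j) ?_
      rw [add_comm, pow_add, Perm.mul_apply, h, ← Perm.mul_apply, ← pow_add,
        show (2 ^ (k + 1) - 1) * j + j = 2 ^ (k + 1) * j by
          rw [← Nat.succ_mul, Nat.succ_eq_add_one, Nat.sub_add_cancel (Nat.one_le_two_pow)]]
      exact period_dvd _ hb.1 j
    intro q q' i j h
    dsimp only [base] at h
    fin_cases q <;> fin_cases q' <;> first
      | rfl
      | exact absurd h (key i j)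
      | exact absurd h.symm (key j i)
  let e : (ZMod 2 × ZMod 2) × ZMod (2 ^ k) → α := fun p =>
    (x ^ (p.1.1.val + 2 * p.2.val)) (base p.1.2)
  have hM : 2 ^ (k + 1) = 2 * 2 ^ k := pow_succ' 2 k
  have heinj : Function.Injective e := by
    rintro ⟨⟨i, q⟩, r⟩ ⟨⟨i', q'⟩, r'⟩ h
    have hq : q = q' := hbne _ _ _ _ h
    subst hq
    have hm : (i.val + 2 * r.val) % 2 ^ (k + 1) = (i'.val + 2 * r'.val) % 2 ^ (k + 1) :=
      mod_eq_of_apply (hbase q) h
    have b1 := ZMod.val_lt i
    have b2 := ZMod.val_lt i'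
    have b3 := ZMod.val_lt r
    have b4 := ZMod.val_lt r'
    rw [Nat.mod_eq_of_lt (by rw [hM]; omega), Nat.mod_eq_of_lt (by rw [hM]; omega)] at hm
    simp only [Prod.mk.injEq, and_true]
    exact ⟨ZMod.val_injective _ (by omega), ZMod.val_injective _ (by omega)⟩
  have hstep : ∀ d r, x (e (d, r)) = e (d + (1, 0), r + if d.1 = 1 then 1 else 0) := by
    rintro ⟨i, q⟩ r
    show x ((x ^ _) _) = _
    rw [← Perm.mul_apply, ← pow_succ']
    simp only [Prod.mk_add_mk, add_zero, e]
    refine apply_of_mod (hbase q) ?_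
    obtain rfl | rfl : i = 0 ∨ i = 1 := by revert i; decide
    · rw [if_neg zero_ne_one, add_zero, zero_add, ZMod.val_zero, ZMod.val_one]
      congr 1
      omega
    · rw [if_pos rfl, show (1 + 1 : ZMod 2) = 0 from rfl, ZMod.val_zero, ZMod.val_one, ZMod.val_add,
        hM, zero_add, ← Nat.mul_mod_mul_left, Nat.mod_mod, ZMod.val_one_eq_one_mod, mul_add,
        ← Nat.mul_mod_mul_left, Nat.add_mod_mod]
      congr 1
      omega
  have hout : ∀ v, v ∉ Set.range e → x v ∉ Set.range e := by
    rintro v hv ⟨⟨⟨i, q⟩, r⟩, h⟩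
    apply hv
    have h1 := hstep (i + 1, q) (r - if (i + 1) = 1 then 1 else 0)
    simp only [Prod.mk_add_mk, add_zero, sub_add_cancel] at h1
    rw [show i + 1 + 1 = i by fin_cases i <;> rfl, h] at h1
    exact ⟨_, x.injective h1⟩
  have houtn : ∀ (n : ℕ) v, v ∉ Set.range e → (x ^ n) v ∉ Set.range e := by
    intro n
    induction n with
    | zero => exact fun v hv => hv
    | succ n ih => intro v hv; rw [pow_succ, Perm.mul_apply]; exact ih _ (hout v hv)
  let Mem : Perm α → Prop := fun g =>
    ∃ (d : ZMod 2 × ZMod 2) (f : ZMod 2 × ZMod 2 → ZMod (2 ^ k)) (i : ℕ),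
      (∀ q r, g (e (q, r)) = e (q + d, r + f q)) ∧ ∀ v, v ∉ Set.range e → g v = (x ^ i) v
  have hmul : ∀ g g', Mem g → Mem g' → Mem (g * g') := by
    rintro g g' ⟨d, f, i, h1, h2⟩ ⟨d', f', i', h1', h2'⟩
    refine ⟨d' + d, fun q => f' q + f (q + d'), i + i', fun q r => ?_, fun v hv => ?_⟩
    · rw [Perm.mul_apply, h1', h1, add_assoc, add_assoc]
    · rw [Perm.mul_apply, h2' v hv, h2 _ (houtn i' v hv), pow_add, Perm.mul_apply]
  have hone : Mem 1 := ⟨0, 0, 0, fun q r => by simp, fun v _ => by simp⟩
  have hpow : ∀ g, Mem g → ∀ n : ℕ, Mem (g ^ n) := by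
    intro g hg n
    induction n with
    | zero => simpa using hone
    | succ n ih => rw [pow_succ]; exact hmul _ _ ih hg
  have hord : ∀ g, Mem g → g ^ 2 ^ (N + k + 1) = 1 := by
    rintro g ⟨d, f, i, h1, h2⟩
    have hd2 : ∀ d : ZMod 2 × ZMod 2, d + d = 0 := by decide
    have hsq : ∀ (n : ℕ) q r, ((g ^ 2) ^ n) (e (q, r)) = e (q, r + n • (f q + f (q + d))) := by
      intro n
      induction n with
      | zero => simp
      | succ n ih =>
        intro q r
        rw [pow_succ, Perm.mul_apply, show (g ^ 2) (e (q, r)) = e (q, r + (f q + f (q + d))) by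
          rw [sq, Perm.mul_apply, h1, h1, add_assoc q, hd2, add_zero, add_assoc r], ih]
        congr 2
        rw [succ_nsmul]
        abel
    have hno : ∀ (n : ℕ) v, v ∉ Set.range e → (g ^ n) v = (x ^ (i * n)) v := by
      intro n
      induction n with
      | zero => simp
      | succ n ih =>
        intro v hv
        rw [pow_succ', Perm.mul_apply, ih v hv, h2 _ (houtn _ v hv), ← Perm.mul_apply, ← pow_add]
        congr 2
        ring
    refine Equiv.ext fun v => ?_
    by_cases hv : v ∈ Set.range e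
    · obtain ⟨⟨q, r⟩, rfl⟩ := hv
      rw [pow_succ', pow_mul, hsq, pow_add, mul_nsmul', ZModModule.char_nsmul_eq_zero (n := 2 ^ k),
        smul_zero, add_zero]
      rfl
    · rw [hno _ v hv, mul_comm, pow_add, pow_add, mul_assoc, mul_assoc, pow_mul, hN, one_pow]
  let V : Subgroup (Perm α) :=
    { carrier := {g | Mem g}
      one_mem' := hone
      mul_mem' := fun ha hb => hmul _ _ ha hb
      inv_mem' := fun {g} hg => by
        have : g⁻¹ = g ^ (2 ^ (N + k + 1) - 1) := by
          rw [inv_eq_iff_mul_eq_one, ← pow_succ', Nat.sub_add_cancel Nat.one_le_two_pow, hord g hg]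
        show Mem g⁻¹
        rw [this]
        exact hpow g hg _ }
  let φ' : Perm ((ZMod 2 × ZMod 2) × ZMod (2 ^ k)) := phi.prodCongr (Equiv.refl _)
  let t : Perm α := φ'.extendDomain (Equiv.ofInjective e heinj)
  have ht1 : ∀ q r, t (e (q, r)) = e (phi q, r) := fun q r => by
    show φ'.extendDomain (Equiv.ofInjective e heinj) ((Equiv.ofInjective e heinj) (q, r) : α) = _
    rw [Perm.extendDomain_apply_image]
    rfl
  have ht0 : ∀ v, v ∉ Set.range e → t v = v := fun v hv =>
    Perm.extendDomain_apply_not_subtype _ _ hv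
  have ht3 : t ^ 3 = 1 := by
    refine Equiv.ext fun v => ?_
    by_cases hv : v ∈ Set.range e
    · obtain ⟨⟨q, r⟩, rfl⟩ := hv
      simp only [show (3 : ℕ) = 1 + 1 + 1 from rfl, pow_add, pow_one, Perm.mul_apply, ht1]
      rw [phi_three]
      rfl
    · simp only [show (3 : ℕ) = 1 + 1 + 1 from rfl, pow_add, pow_one, Perm.mul_apply, ht0 v hv]
      rfl
  have hconj : ∀ g, Mem g → Mem (t * g * t⁻¹) := by
    rintro g ⟨d, f, i, h1, h2⟩
    refine ⟨phi d, fun q => f (phi.symm q), i, fun q r => ?_, fun v hv => ?_⟩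
    · obtain ⟨q, rfl⟩ := phi.surjective q
      have hinv : t⁻¹ (e (phi q, r)) = e (q, r) := by rw [← ht1]; simp
      rw [Perm.mul_apply, Perm.mul_apply, hinv, h1, ht1, phi_add]
      simp only [Equiv.symm_apply_apply]
    · have : t⁻¹ v = v := by
        conv_lhs => rw [← ht0 v hv]
        simp
      rw [Perm.mul_apply, Perm.mul_apply, this, h2 v hv, ht0 _ (houtn i v hv)]
  refine ⟨V, t, ?_, ⟨(1, 0), fun q => if q.1 = 1 then 1 else 0, 1, fun q r => hstep q r,
    fun v _ => by rw [pow_one]⟩, Subgroup.mem_normalizer_iff.2 fun g => ⟨hconj g, fun hg => ?_⟩,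
    ht3, fun h => ?_⟩
  · intro g
    exact ⟨N + k + 1, Subtype.ext (by simpa using hord g g.2)⟩
  · have h2 := hconj _ (hconj _ hg)
    have e2 : t * (t * (t * g * t⁻¹) * t⁻¹) * t⁻¹ = t ^ 3 * g * (t ^ 3)⁻¹ := by rw [pow_three]; group
    rw [e2, ht3, one_mul, inv_one, mul_one] at h2
    exact h2
  · have h1 := ht1 ((1, 0)) 0
    rw [h, Perm.one_apply] at h1
    exact phi_ne (congrArg Prod.fst (heinj h1))

theorem unique_imp_good {α : Type} [Fintype α] [DecidableEq α] (x : Perm α) {N : ℕ}
    (hN : x ^ 2 ^ N = 1) (huniq : ∃! P : Sylow 2 (Perm α), x ∈ P) : Good x := by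
  haveI := Fact.mk Nat.prime_two
  obtain ⟨P, -, hu⟩ := huniq
  have hself := CfsgLib.OutAut.sylowTwo_perm_normalizer P
  refine ⟨?_, fun k => ?_⟩
  · by_contra hc
    obtain ⟨a, ha, b, hb, c, hc', hab, hac, hbc⟩ := (Set.two_lt_ncard (Set.toFinite _)).1 (not_le.1 hc)
    let t : Perm α := Equiv.swap a b * Equiv.swap a c
    have htc : Commute t x := by
      have : ∀ u v : α, x u = u → x v = v → Commute (Equiv.swap u v) x := fun u v hu hv => by
        have := Equiv.swap_mul_eq_mul_swap x u v
        rw [show (x⁻¹ : Perm α) u = u by rw [Perm.inv_eq_iff_eq, hu],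
          show (x⁻¹ : Perm α) v = v by rw [Perm.inv_eq_iff_eq, hv]] at this
        exact this
      exact (this a b ha hb).mul_left (this a c ha hc')
    have h3 : orderOf t = 3 := (Equiv.Perm.isThreeCycle_swap_mul_swap_same hab hac hbc).orderOf
    refine not_unique_of_normalizer P hu hself (Subgroup.zpowers x) ?_ (Subgroup.mem_zpowers x)
      (t := t) ?_ (h3 ▸ pow_orderOf_eq_one t) (fun h => by rw [h, orderOf_one] at h3; omega)
    · intro g
      obtain ⟨i, hi⟩ := Subgroup.mem_zpowers_iff.1 g.2
      refine ⟨N, Subtype.ext ?_⟩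
      show (g : Perm α) ^ 2 ^ N = 1
      rw [← hi, ← zpow_natCast, ← zpow_mul, mul_comm, zpow_mul, zpow_natCast, hN, one_zpow]
    · refine Subgroup.mem_normalizer_iff.2 fun g => ?_
      constructor
      · rintro ⟨i, rfl⟩
        exact ⟨i, by rw [(htc.zpow_right i).eq, mul_inv_cancel_right]⟩
      · rintro ⟨i, hi⟩
        refine ⟨i, ?_⟩
        rw [← mul_left_cancel_iff (a := t), (htc.zpow_right i).eq]
        exact (eq_mul_inv_iff_mul_eq.1 hi)
  · by_contra hk
    obtain ⟨a, ha⟩ : (layer x k).Nonempty :=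
      Set.nonempty_of_ncard_ne_zero fun h0 => hk (by rw [h0]; exact Nat.zero_le _)
    obtain ⟨b, hb, hbS⟩ : ∃ b ∈ layer x k, ∀ j, (x ^ j) a ≠ b := by
      by_contra hc
      push Not at hc
      refine hk ((Set.ncard_le_ncard (t := Set.range fun j : Fin (2 ^ (k + 1)) => (x ^ (j : ℕ)) a)
        fun b hb => ?_).trans ?_)
      · obtain ⟨j, hj⟩ := hc b hb
        refine ⟨⟨j % 2 ^ (k + 1), Nat.mod_lt _ (Nat.two_pow_pos _)⟩, ?_⟩
        show (x ^ (j % 2 ^ (k + 1))) a = b
        rw [← hj]
        conv_rhs => rw [← Nat.mod_add_div j (2 ^ (k + 1)), pow_add, Perm.mul_apply,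
          period_dvd _ ha.1]
      · rw [← Nat.card_coe_set_eq]
        exact (Finite.card_range_le _).trans (by rw [Nat.card_fin])
    obtain ⟨V, t, hV, hxV, ht, ht3, ht1⟩ := two_cycles x hN ha hb hbS
    exact not_unique_of_normalizer P hu hself V hV hxV ht ht3 ht1


theorem layer_iff {α : Type} [Fintype α] [DecidableEq α] (x : Perm α) {k : ℕ} {a : α} :
    a ∈ layer x k ↔ x a ≠ a ∧ (x.cycleOf a).support.card = 2 ^ (k + 1) := by
  constructor
  · intro ha
    have hxa : x a ≠ a := fun h => ha.2 (by
      have := period_dvd (x := x) (a := a) 1 (by rwa [pow_one]) (2 ^ k)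
      rwa [one_mul] at this)
    refine ⟨hxa, Nat.dvd_antisymm ?_ ?_⟩
    · exact ((Perm.isCycle_cycleOf x hxa).pow_eq_one_iff' (n := 2 ^ (k + 1)) (x := a)
        (by rw [Perm.cycleOf_apply_self]; exact hxa)).2
        (by rw [Perm.cycleOf_pow_apply_self]; exact ha.1) |> fun h =>
          (Perm.isCycle_cycleOf x hxa).orderOf ▸ orderOf_dvd_of_pow_eq_one h
    · refine minimal_two_pow ha.1 ha.2 _ ?_
      rw [← Perm.cycleOf_pow_apply_self, ← (Perm.isCycle_cycleOf x hxa).orderOf, pow_orderOf_eq_one]
      rfl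
  · rintro ⟨hxa, hc⟩
    have h1 : ∀ n, (x ^ n) a = a ↔ 2 ^ (k + 1) ∣ n := fun n => by
      rw [← Perm.cycleOf_pow_apply_self, ← hc, ← (Perm.isCycle_cycleOf x hxa).orderOf,
        orderOf_dvd_iff_pow_eq_one, (Perm.isCycle_cycleOf x hxa).pow_eq_one_iff' (x := a)
          (by rw [Perm.cycleOf_apply_self]; exact hxa)]
    refine ⟨(h1 _).2 dvd_rfl, fun h => ?_⟩
    have := (Nat.pow_dvd_pow_iff_le_right (le_refl 2)).1 ((h1 _).1 h)
    omega

theorem fix_card {α : Type} [Fintype α] [DecidableEq α] (x : Perm α) :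
    Set.ncard {a : α | x a = a} = Fintype.card α - x.support.card := by
  rw [show {a : α | x a = a} = ((x.supportᶜ : Finset α) : Set α) by ext; simp,
    Set.ncard_coe_finset, Finset.card_compl]

theorem cycleType_imp_good {n : ℕ} (x : Perm (Fin n))
    (h : n ≤ x.support.card + 2 ∧ x.cycleType.Nodup) : Good x := by
  refine ⟨by rw [fix_card, Fintype.card_fin]; omega, fun k => ?_⟩
  rcases (layer x k).eq_empty_or_nonempty with he | ⟨a, ha⟩
  · simp [he]
  have hsub : layer x k ⊆ (x.cycleOf a).support := by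
    intro b hb
    obtain ⟨hxa, hca⟩ := (layer_iff x).1 ha
    obtain ⟨hxb, hcb⟩ := (layer_iff x).1 hb
    have hnd := h.2
    rw [Perm.cycleType_def] at hnd
    have heq : x.cycleOf b = x.cycleOf a := Multiset.inj_on_of_nodup_map hnd _
      (Finset.mem_val.symm ▸ (Perm.cycleOf_mem_cycleFactorsFinset_iff.2 (Perm.mem_support.2 hxb))) _
      (Finset.mem_val.symm ▸ (Perm.cycleOf_mem_cycleFactorsFinset_iff.2 (Perm.mem_support.2 hxa)))
      (by rw [Function.comp_apply, Function.comp_apply, hcb, hca])
    show b ∈ (x.cycleOf a).support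
    rw [← heq, Perm.mem_support, Perm.cycleOf_apply_self]
    exact hxb
  exact (Set.ncard_le_ncard hsub).trans
    (by rw [Set.ncard_coe_finset, ((layer_iff x).1 ha).2])

theorem good_imp_cycleType {n : ℕ} (x : Perm (Fin n)) {N : ℕ} (hN : x ^ 2 ^ N = 1) (h : Good x) :
    n ≤ x.support.card + 2 ∧ x.cycleType.Nodup := by
  refine ⟨?_, ?_⟩
  · have := h.1
    rw [fix_card, Fintype.card_fin] at this
    omega
  rw [Perm.cycleType_def]
  refine Multiset.Nodup.map_on ?_ x.cycleFactorsFinset.nodup
  intro c hc d hd hcd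
  rw [Finset.mem_val] at hc hd
  obtain ⟨a, ha, -⟩ := (Perm.mem_cycleFactorsFinset_iff.1 hc).1
  obtain ⟨b, hb, -⟩ := (Perm.mem_cycleFactorsFinset_iff.1 hd).1
  have hca := (Perm.cycle_is_cycleOf (Perm.mem_support.2 ha) hc)
  have hdb := (Perm.cycle_is_cycleOf (Perm.mem_support.2 hb) hd)
  have hxa : x a ≠ a := by
    rw [← (Perm.mem_cycleFactorsFinset_iff.1 hc).2 a (Perm.mem_support.2 ha)]; exact ha
  have hxb : x b ≠ b := by
    rw [← (Perm.mem_cycleFactorsFinset_iff.1 hd).2 b (Perm.mem_support.2 hb)]; exact hb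
  obtain ⟨k, hk⟩ := exists_layer hN hxa
  have h1 := ((layer_iff x).1 hk).2
  rw [← hca] at h1
  have hk' : b ∈ layer x k := (layer_iff x).2 ⟨hxb, by
    rw [← hdb]
    exact (Eq.symm hcd).trans h1⟩
  obtain ⟨j, hj⟩ := layer_eq_orbit h hk hk'
  have hs : x.SameCycle a b := ⟨j, by rw [zpow_natCast]; exact hj⟩
  rw [hca, hdb, hs.cycleOf_eq]


/-- Let n ≥ 2 and let x be an element of 2-power order of the symmetric group of degree n. Then x lies in exactly one Sylow 2-subgroup if and only if x has at most two fixed points and the nontrivial cycles of x have pairwise different lengths. -/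
theorem result (n : ℕ) (hn : 2 ≤ n)
    (x : Equiv.Perm (Fin n)) (hx : ∃ k : ℕ, orderOf x = 2 ^ k) :
    (∃! P : Sylow 2 (Equiv.Perm (Fin n)), x ∈ P) ↔ (n ≤ x.support.card + 2 ∧ x.cycleType.Nodup) := by
  classical
  obtain ⟨N, hN⟩ := hx
  have hxN : x ^ 2 ^ N = 1 := by rw [← hN, pow_orderOf_eq_one]
  constructor
  · intro huniq
    exact good_imp_cycleType x hxN (unique_imp_good x hxN huniq)
  · intro hct
    exact good_imp_unique (Fintype.card (Fin n)) (Fin n) le_rfl x N hxN (cycleType_imp_good x hct)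

end Cfsg.Agent.S4349
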