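import Cfsg.Statements.S4351
import Cfsg.Agent.Lib.CNStruct.Structure
import Cfsg.Agent.Lib.CNStruct.CIT
import Cfsg.Agent.Lib.SuzukiModule.Group
import Cfsg.Agent.Lib.Suzuki.LieBridge
import Cfsg.Agent.S3050

set_option autoImplicit false
open Cfsg CfsgLib.CNStruct CfsgLib.CIT
open scoped MatrixGroups

namespace Cfsg.Agent.S4351

/-- Let G be a finite non-solvable group in which the centralizer of every non-identity element is nilpotent. Then G is a non-abelian simple group; or G has a normal subgroup of index 2 isomorphic to PSL(2, 9); or G has a nontrivial normal elementary abelian 2-subgroup N such that G/N is isomorphic to PSL(2, q) for some q = 2ⁿ ≥ 4 or is a simple group of Suzuki type (simple, of the order of a Suzuki group). -/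
theorem result {G : Type*} [Group G] [Finite G] (hG : ¬ Group.IsSolvable G)
    (hCN : ∀ x : G, x ≠ 1 → Group.IsNilpotent (Subgroup.centralizer ({x} : Set G))) :
    (IsSimpleGroup G ∧ ¬ IsMulCommutative G) ∨
    (∃ (N : Subgroup G), N.Normal ∧ N.index = 2 ∧ ∃ (F : Type) (_ : Field F) (_ : Fintype F), Fintype.card F = 9 ∧
        Nonempty (N ≃* Matrix.ProjectiveSpecialLinearGroup (Fin 2) F)) ∨
    (∃ (N : Subgroup G) (_ : N.Normal), N ≠ ⊥ ∧ IsPGroup 2 N ∧ IsMulCommutative N ∧ (∀ x ∈ N, x * x = 1) ∧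
        ((∃ (F : Type) (_ : Field F) (_ : Fintype F), CharP F 2 ∧ 4 ≤ Fintype.card F ∧
            Nonempty (G ⧸ N ≃* Matrix.ProjectiveSpecialLinearGroup (Fin 2) F)) ∨ Cfsg.IsSuzuki (G ⧸ N))) := by
  have hcit : IsCIT G := isCIT_of_isCN hG hCN
  have h2 := two_dvd_card hG
  rcases eq_or_ne (pCore 2 G) ⊥ with hO | hO
  · rcases core_trivial_cases hcit hG h2 hO with h | h
    · exact Or.inl h
    · exact Or.inr (Or.inl h)
  refine Or.inr (Or.inr ⟨pCore 2 G, inferInstance, hO, ?_⟩)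
  have : Fact (Nat.Prime 2) := ⟨Nat.prime_two⟩
  have : Fact (Nat.Prime 3) := ⟨Nat.prime_three⟩
  have hE : IsPGroup 2 (pCore 2 G) := CfsgLib.Cores.isPGroup_pCore 2 G
  refine ⟨hE, ?_⟩
  rcases core_ne_bot_cases hcit hG h2 hO with ⟨F, _, _, h20, hcard, ⟨e⟩⟩ | ⟨hS, hiso⟩
  · have : CharP F 2 := CharTwo.of_one_ne_zero_of_two_eq_zero one_ne_zero h20
    obtain ⟨⟨n, hn⟩, -, hq⟩ := FiniteField.card F 2
    have hc : Subgroup.center SL(2, F) = ⊥ := (Subgroup.eq_bot_iff_forall _).2 fun z hz => by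
      rcases (CfsgLib.SL2.mem_center_iff z).1 hz with e' | e'
      · exact e'
      · rw [e']
        ext i j
        have hneg : (-1 : F) = 1 := CharTwo.neg_eq 1
        fin_cases i <;> fin_cases j <;> simp [hneg]
    have e' : G ⧸ pCore 2 G ≃* Matrix.ProjectiveSpecialLinearGroup (Fin 2) F :=
      e.trans ((QuotientGroup.quotientMulEquivOfEq hc).trans QuotientGroup.quotientBot).symm
    have h3 : 3 ∣ Nat.card G := by
      refine dvd_trans ?_ (Subgroup.card_quotient_dvd_card (pCore 2 G))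
      rw [Nat.card_congr e'.toEquiv]
      exact three_dvd_card_psl
    obtain ⟨x, hx⟩ := exists_prime_orderOf_dvd_card' (G := G) 3 h3
    have hx1 : x ≠ 1 := fun e1 => by rw [e1, orderOf_one] at hx; omega
    have hn2 : 2 ≤ n := by
      by_contra hlt
      interval_cases n <;> simp at hq <;> omega
    obtain ⟨⟨hc', hsq⟩, -⟩ := Cfsg.Agent.S3050.result (pCore 2 G) hE n hn2 F hq e x hx
      (fun q hq' hq1 => hcit.fpf hE hq' (by rw [hx]; decide) hx1 (mul_inv_eq_iff_eq_mul.1 hq1).symm)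
    exact ⟨hc', fun z hz => by rw [← pow_two]; exact hsq z hz, Or.inl ⟨F, _, _, this, hcard, ⟨e'⟩⟩⟩
  · obtain ⟨F, _, m, h, ⟨φ⟩⟩ := CfsgLib.Suzuki.isoSuzuki_spec hiso
    have hp : orderOf (h.u 0 1 * h.w) = 5 := by
      obtain ⟨e1, e2, e3⟩ := h.five_powers
      obtain ⟨i1, -, -, -⟩ := h.five_points_inv
      have : Fact (Nat.Prime 5) := ⟨by norm_num⟩
      refine orderOf_eq_prime ?_ fun e1' => ?_
      · rw [pow_succ', pow_succ', pow_succ', pow_two, e1, e2, e3, ← i1, mul_inv_cancel]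
      · have := congrArg (fun g : Cfsg.Sz F m =>
          ((g : Matrix.SpecialLinearGroup (Fin 4) F) : Matrix (Fin 4) (Fin 4) F) 0 1) e1'
        simp [CfsgLib.Suzuki.Hyp.u, CfsgLib.Suzuki.Hyp.w, CfsgLib.Suzuki.uMat, Cfsg.suzukiForm,
          CfsgLib.Suzuki.fz] at this
    obtain ⟨x, hx, hxo⟩ := CfsgLib.Subnormal.exists_odd_lift (QuotientGroup.mk'_surjective (pCore 2 G))
      (k := φ.symm (h.u 0 1 * h.w)) (by rw [MulEquiv.orderOf_eq, hp]; decide)
    have hφx : φ (QuotientGroup.mk x) = h.u 0 1 * h.w := by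
      rw [show (QuotientGroup.mk x : G ⧸ pCore 2 G) = φ.symm (h.u 0 1 * h.w) from hx, φ.apply_symm_apply]
    have hx1 : x ≠ 1 := fun e1 => by
      rw [e1, QuotientGroup.mk_one, map_one] at hφx
      rw [← hφx, orderOf_one] at hp
      omega
    have hmain := h.elementary_of_fpf _ G (pCore 2 G) le_rfl hE φ x hφx
      (fun q hq hq1 => hcit.fpf hE hq hxo hx1 (mul_inv_eq_iff_eq_mul.1 hq1).symm)
    exact ⟨⟨⟨fun a b => Subtype.ext ((hmain a a.2).2 b b.2)⟩⟩, fun z hz => (hmain z hz).1, Or.inr hS⟩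

end Cfsg.Agent.S4351
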