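import Cfsg.Statements.S4357
import Cfsg.Agent.Lib.SL2.SylowTwo
-- import your own Cfsg.Agent.* helpers here

set_option autoImplicit false
open Cfsg

namespace Cfsg.Agent.S4357

open scoped Pointwise

open CfsgLib.SL2
open scoped MatrixGroups

/-- Some `p`-element lies in only one Sylow subgroup. -/
def Uniq (G : Type*) [Group G] (p : ℕ) : Prop :=
  ∃ g : G, (∃ k, orderOf g = p ^ k) ∧ ∃ P : Sylow p G, g ∈ P ∧ ∀ P' : Sylow p G, g ∈ P' → P' = P

/-- Every `p`-element lies in two Sylow subgroups. -/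
def Multi (G : Type*) [Group G] (p : ℕ) : Prop :=
  ∀ g : G, (∃ k, orderOf g = p ^ k) → ∃ P P' : Sylow p G, P ≠ P' ∧ g ∈ P ∧ g ∈ P'

/-- The condition on the field. -/
def Cond (q p : ℕ) : Prop :=
  p = 2 ∧ (¬ ∃ k : ℕ, q + 1 = 2 ^ k) ∧ (¬ ∃ k : ℕ, q = 2 ^ k) ∧ ¬ ∃ k : ℕ, q = 2 ^ k + 1

theorem redundant_iff {G : Type*} [Group G] [Finite G] {p : ℕ} [Fact p.Prime] {C : Prop}
    (h : (C → Multi G p) ∧ (¬ C → Uniq G p)) :
    (∃ Q : Sylow p G, ∀ x : G, (∃ k : ℕ, orderOf x = p ^ k) →
      ∃ P : Sylow p G, P ≠ Q ∧ x ∈ P) ↔ C := by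
  constructor
  · rintro ⟨Q, hQ⟩
    by_contra hC
    obtain ⟨g, ⟨k, hk⟩, P, hgP, huniq⟩ := h.2 hC
    obtain ⟨c, hc⟩ := MulAction.exists_smul_eq G P Q
    obtain ⟨R, hRQ, hR⟩ := hQ (c * g * c⁻¹) ⟨k, by
      rw [← hk]; exact orderOf_injective (MulAut.conj c).toMonoidHom (MulAut.conj c).injective g⟩
    refine hRQ ?_
    have h1 : (c⁻¹ • R : Sylow p G) = P := huniq _ (by
      show g ∈ MulAut.conj c⁻¹ • (R : Subgroup G)
      rw [Subgroup.mem_pointwise_smul_iff_inv_smul_mem, map_inv, inv_inv]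
      exact hR)
    rw [← hc, ← h1, smul_inv_smul]
  · intro hC
    obtain ⟨Q⟩ : Nonempty (Sylow p G) := inferInstance
    refine ⟨Q, fun x hx => ?_⟩
    obtain ⟨P, P', hne, h1, h2⟩ := h.1 hC x hx
    by_cases hP : P = Q
    · exact ⟨P', fun h' => hne (hP.trans h'.symm), h2⟩
    · exact ⟨P, hP, h1⟩

theorem exists_sylow_mem {G : Type*} [Group G] [Finite G] {p : ℕ} [Fact p.Prime] {g : G}
    (hg : ∃ k, orderOf g = p ^ k) : ∃ P : Sylow p G, g ∈ P := by
  obtain ⟨k, hk⟩ := hg
  obtain ⟨P, hP⟩ := (IsPGroup.of_card (G := Subgroup.zpowers g) (p := p) (n := k)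
    (by rw [Nat.card_zpowers, hk])).exists_le_sylow
  exact ⟨P, hP (Subgroup.mem_zpowers g)⟩

variable {F : Type*} [Field F] [Finite F]

/-- Abelian Sylow subgroups are TI modulo the centre. -/
theorem uniq_of_coprime_center {p : ℕ} [hp : Fact p.Prime]
    (hco : (Nat.card (Subgroup.center (SL(2, F)))).Coprime p) : Uniq (SL(2, F)) p := by
  obtain ⟨P⟩ : Nonempty (Sylow p (SL(2, F))) := inferInstance
  rcases (P : Subgroup (SL(2, F))).bot_or_exists_ne_one with hb | ⟨y, hy, hy1⟩
  · refine ⟨1, ⟨0, by rw [orderOf_one, pow_zero]⟩, P, one_mem _, fun P' _ => ?_⟩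
    obtain ⟨c, hc⟩ := MulAction.exists_smul_eq (SL(2, F)) P P'
    rw [← hc]
    ext1
    rw [Sylow.coe_subgroup_smul, hb, Subgroup.smul_bot]
  have hab : ∀ R : Sylow p (SL(2, F)), ∀ z ∈ R, z ≠ 1 → (∀ r ∈ R, r * z = z * r) →
      z ∉ Subgroup.center (SL(2, F)) := by
    intro R z hz hz1 _ hzc
    obtain ⟨k, hk⟩ := IsPGroup.iff_orderOf.1 R.isPGroup' ⟨z, hz⟩
    refine hz1 (orderOf_eq_one_iff.1 (Nat.eq_one_of_dvd_coprimes (hco.pow_right k)
      (Subgroup.orderOf_dvd_natCard _ hzc) ?_))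
    rw [Subgroup.orderOf_mk] at hk
    rw [hk]
  have hexists : ∀ R : Sylow p (SL(2, F)), (R : Subgroup (SL(2, F))) ≠ ⊥ →
      ∀ r ∈ R, ∀ s ∈ R, r * s = s * r := by
    intro R hR
    haveI : Nontrivial (R : Subgroup (SL(2, F))) := (Subgroup.nontrivial_iff_ne_bot _).2 hR
    haveI := R.isPGroup'.center_nontrivial
    obtain ⟨⟨z, hzc⟩, hz1⟩ := exists_ne (1 : Subgroup.center (R : Subgroup (SL(2, F))))
    have hcomm : ∀ r ∈ R, r * (z : SL(2, F)) = z * r := fun r hr =>
      congrArg Subtype.val (Subgroup.mem_center_iff.1 hzc ⟨r, hr⟩)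
    have hz := hab R z z.2 (fun h => hz1 (Subtype.ext (Subtype.ext h))) hcomm
    intro r hr s hs
    exact centralizer_mulComm hz (Subgroup.mem_centralizer_singleton_iff.2 (hcomm r hr))
      (Subgroup.mem_centralizer_singleton_iff.2 (hcomm s hs))
  have hPne : (P : Subgroup (SL(2, F))) ≠ ⊥ := fun h => hy1 (by rwa [h, Subgroup.mem_bot] at hy)
  have hcP := hexists P hPne
  have hyc := hab P y hy hy1 fun r hr => hcP r hr y hy
  refine ⟨y, ?_, P, hy, fun P' hy' => ?_⟩
  · obtain ⟨k, hk⟩ := IsPGroup.iff_orderOf.1 P.isPGroup' ⟨y, hy⟩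
    exact ⟨k, by rwa [Subgroup.orderOf_mk] at hk⟩
  have hcP' := hexists P' fun h => hy1 (by
    rw [← SetLike.mem_coe, ← Sylow.coe_coe, SetLike.mem_coe, h, Subgroup.mem_bot] at hy'
    exact hy')
  have hin : ∀ R : Sylow p (SL(2, F)), y ∈ R → (∀ r ∈ R, ∀ s ∈ R, r * s = s * r) →
      (R : Subgroup (SL(2, F))) ≤ Subgroup.centralizer {y} := fun R hyR hc r hr =>
    Subgroup.mem_centralizer_singleton_iff.2 (hc r hr y hyR)
  refine Sylow.ext (P.is_maximal' (Q := (P : Subgroup (SL(2, F))) ⊔ P') ?_ le_sup_left ▸ ?_ :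
    (P' : Subgroup (SL(2, F))) = P)
  · refine IsPGroup.to_sup_of_normal_right' P.isPGroup' P'.isPGroup' ?_
    intro r hr
    rw [Subgroup.mem_normalizer_iff]
    intro s
    have key : ∀ s ∈ P', r * s * r⁻¹ = s := fun s hs => by
      rw [centralizer_mulComm hyc (hin P hy hcP hr) (hin P' hy' hcP' hs), mul_inv_cancel_right]
    constructor
    · intro hs
      rw [key s hs]; exact hs
    · intro hs
      have h1 := key _ hs
      rw [mul_left_inj, mul_right_inj] at h1
      rwa [h1] at hs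
  · exact le_antisymm le_sup_right (sup_le (fun r hr => by
      have hp' : IsPGroup p ((P : Subgroup (SL(2, F))) ⊔ P' : Subgroup (SL(2, F))) := by
        refine IsPGroup.to_sup_of_normal_right' P.isPGroup' P'.isPGroup' ?_
        intro r hr
        rw [Subgroup.mem_normalizer_iff]
        intro s
        have key : ∀ s ∈ P', r * s * r⁻¹ = s := fun s hs => by
          rw [centralizer_mulComm hyc (hin P hy hcP hr) (hin P' hy' hcP' hs), mul_inv_cancel_right]
        constructor
        · intro hs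
          rw [key s hs]; exact hs
        · intro hs
          have h1 := key _ hs
          rw [mul_left_inj, mul_right_inj] at h1
          rwa [h1] at hs
      exact P'.is_maximal' hp' le_sup_right ▸ Subgroup.mem_sup_left hr) le_rfl)

omit [Finite F] in
theorem tr_eq_zero {y : SL(2, F)} (hy : y * y = -1) (hyc : y ∉ Subgroup.center (SL(2, F))) :
    tr y = 0 := by
  have h := mul_self_eq y
  have h2 : (y : Matrix (Fin 2) (Fin 2) F) * y = -1 := by
    simpa using congrArg (fun z : SL(2, F) => (z : Matrix (Fin 2) (Fin 2) F)) hy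
  rw [h2] at h
  by_contra ht
  apply hyc
  rw [mem_center_iff_isScalarMat]
  have h01 := congrFun (congrFun h 0) 1
  have h10 := congrFun (congrFun h 1) 0
  have h00 := congrFun (congrFun h 0) 0
  have h11 := congrFun (congrFun h 1) 1
  simp at h01 h10 h00 h11
  exact ⟨h01.resolve_left ht, h10.resolve_left ht, mul_left_cancel₀ ht (by linear_combination h11 - h00)⟩

theorem odd_facts (hodd : Nat.card F % 2 = 1) : (2 : F) ≠ 0 := by
  haveI := Fintype.ofFinite F
  exact two_ne_zero_of_odd (Nat.odd_iff.2 (by rwa [← Nat.card_eq_fintype_card]))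

/-- The structure of a Sylow 2-subgroup with its torus. -/
theorem torus_data (hodd : Nat.card F % 2 = 1) : ∃ (S : Sylow 2 (SL(2, F))) (g t : SL(2, F)) (a : ℕ),
    tr g ^ 2 ≠ 4 ∧ 4 ∣ Nat.card (Subgroup.centralizer ({g} : Set (SL(2, F)))) ∧
    (S : Subgroup (SL(2, F))) ≤ Subgroup.normalizer
      ((Subgroup.centralizer ({g} : Set (SL(2, F))) : Subgroup (SL(2, F))) : Set (SL(2, F))) ∧
    Nat.card (S : Subgroup (SL(2, F))) = 2 * 2 ^ a ∧ 2 ≤ a ∧
    a = (Nat.card (Subgroup.centralizer ({g} : Set (SL(2, F))))).factorization 2 ∧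
    orderOf t = 2 ^ a ∧ t ∈ Subgroup.centralizer ({g} : Set (SL(2, F))) ∧ t ∈ S ∧
    (∀ s ∈ S, s ∈ Subgroup.centralizer ({g} : Set (SL(2, F))) → s ∈ Subgroup.zpowers t) ∧
    t ∉ Subgroup.center (SL(2, F)) := by
  haveI := Fact.mk Nat.prime_two
  obtain ⟨S⟩ : Nonempty (Sylow 2 (SL(2, F))) := inferInstance
  obtain ⟨g, hg, h4, hle, hcard⟩ := sylow_two_exists_torus hodd S
  set T := Subgroup.centralizer ({g} : Set (SL(2, F))) with hT
  set a := (Nat.card T).factorization 2 with ha
  have ha2 : 2 ≤ a :=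
    (Nat.prime_two.pow_dvd_iff_le_factorization Nat.card_pos.ne').1 (by simpa using h4)
  haveI := isCyclic_centralizer hg
  haveI hST : IsCyclic ((S : Subgroup (SL(2, F))) ⊓ T : Subgroup (SL(2, F))) :=
    isCyclic_of_injective (Subgroup.inclusion inf_le_right) (Subgroup.inclusion_injective _)
  obtain ⟨t, ht⟩ := (Subgroup.isCyclic_iff_exists_zpowers_eq_top _).1 hST
  have htm : t ∈ (S : Subgroup (SL(2, F))) ⊓ T := ht ▸ Subgroup.mem_zpowers t
  have hct : Nat.card ((S : Subgroup (SL(2, F))) ⊓ T : Subgroup (SL(2, F))) = 2 ^ a := by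
    obtain ⟨i, hi⟩ := IsPGroup.iff_card.1 (S.isPGroup'.to_le (inf_le_left : _ ⊓ T ≤ _))
    have hdvd := Subgroup.card_dvd_of_le (inf_le_right : (S : Subgroup (SL(2, F))) ⊓ T ≤ T)
    rw [hi] at hdvd ⊢
    have h1 : i ≤ a := (Nat.prime_two.pow_dvd_iff_le_factorization Nat.card_pos.ne').1 hdvd
    have hNT := card_normalizer hg
    have h2 : Nat.card (S : Subgroup (SL(2, F))) * Nat.card T ≤
        Nat.card ((S : Subgroup (SL(2, F))) ⊓ T : Subgroup (SL(2, F))) * (2 * Nat.card T) := by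
      rw [← hNT, hT]
      have h3 : T.relIndex (S : Subgroup (SL(2, F))) ∣ 2 := by
        have h4 : T.relIndex (Subgroup.normalizer (T : Set (SL(2, F)))) = 2 := by
          have h5 := Subgroup.card_mul_index (T.subgroupOf (Subgroup.normalizer (T : Set (SL(2, F)))))
          rw [← Subgroup.relIndex, Nat.card_congr (Subgroup.subgroupOfEquivOfLe
            Subgroup.le_normalizer).toEquiv, hNT, mul_comm 2] at h5
          exact Nat.eq_of_mul_eq_mul_left Nat.card_pos h5
        haveI : (T.subgroupOf (Subgroup.normalizer (T : Set (SL(2, F))))).Normal :=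
          Subgroup.normal_in_normalizer
        have h7 := Subgroup.relIndex_dvd_index_of_normal
          (T.subgroupOf (Subgroup.normalizer (T : Set (SL(2, F)))))
          ((S : Subgroup (SL(2, F))).subgroupOf (Subgroup.normalizer (T : Set (SL(2, F)))))
        rw [Subgroup.relIndex_subgroupOf hle, ← Subgroup.relIndex] at h7
        exact h7.trans (dvd_of_eq h4)
      have h6 : Nat.card (S : Subgroup (SL(2, F))) =
          Nat.card ((S : Subgroup (SL(2, F))) ⊓ T : Subgroup (SL(2, F))) *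
            T.relIndex (S : Subgroup (SL(2, F))) := by
        rw [← Subgroup.card_mul_index (T.subgroupOf (S : Subgroup (SL(2, F)))), ← Subgroup.relIndex]
        congr 1
        rw [← Subgroup.card_map_of_injective (S : Subgroup (SL(2, F))).subtype_injective,
          Subgroup.subgroupOf_map_subtype, inf_comm]
      rw [h6, ← hT, hNT, mul_assoc]
      exact Nat.mul_le_mul_left _ (Nat.mul_le_mul_right _ (Nat.le_of_dvd (by norm_num) h3))
    rw [hcard, hi, ← mul_assoc] at h2
    have h3 := Nat.le_of_mul_le_mul_right h2 Nat.card_pos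
    have h4 : 2 ^ a ≤ 2 ^ i := by omega
    rw [le_antisymm h1 ((Nat.pow_le_pow_iff_right (by norm_num)).1 h4)]
  have hord : orderOf t = 2 ^ a := by rw [← hct, ← ht, Nat.card_zpowers]
  refine ⟨S, g, t, a, hg, h4, hle, hcard, ha2, rfl, hord, htm.2, htm.1,
    fun s hs hsT => ht ▸ ⟨hs, hsT⟩, fun hc => ?_⟩
  have h2 := Subgroup.orderOf_dvd_natCard _ hc
  rw [hord, center_card_eq_gcd] at h2
  have h3 := Nat.le_of_dvd (by norm_num) (h2.trans (Nat.gcd_dvd_left 2 _))
  have h5 : 2 ^ 2 ≤ 2 ^ a := Nat.pow_le_pow_right (by norm_num) ha2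
  omega

theorem uniq_two (hodd : Nat.card F % 2 = 1)
    (hbad : (∃ k : ℕ, Nat.card F + 1 = 2 ^ k) ∨ ∃ k : ℕ, Nat.card F = 2 ^ k + 1) :
    Uniq (SL(2, F)) 2 := by
  haveI := Fact.mk Nat.prime_two
  obtain ⟨S, g, t, a, hg, h4, hle, hcard, ha2, ha, hord, htT, htS, -, htc⟩ := torus_data hodd
  set T := Subgroup.centralizer ({g} : Set (SL(2, F))) with hT
  have hT2 : Nat.card T = 2 ^ a := by
    have hpow : ∃ k, Nat.card T = 2 ^ k := by
      have hq : 1 < Nat.card F := Finite.one_lt_card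
      have hev : ∀ k, 2 ≤ k → 4 ∣ 2 ^ k := fun k hk => pow_dvd_pow 2 hk
      rcases hbad with ⟨k, hk⟩ | ⟨k, hk⟩
      · have hk2 : 2 ≤ k := by
          by_contra hlt
          interval_cases k <;> simp_all
        rcases card_centralizer_or hg with h | h
        · exfalso
          have := hev k hk2
          rw [← hT] at h
          omega
        · exact ⟨k, by rw [h, hk]⟩
      · rcases k with _ | _ | k
        · rw [pow_zero] at hk; omega
        · rcases card_centralizer_or hg with h | h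
          · exfalso
            rw [← hT] at h
            simp at hk
            omega
          · exact ⟨2, by rw [h, hk]; norm_num⟩
        · rcases card_centralizer_or hg with h | h
          · exact ⟨k + 1 + 1, by rw [h, hk, Nat.add_sub_cancel]⟩
          · exfalso
            have h22 : 2 ^ (k + 2) = 4 * 2 ^ k := by ring
            have := hev (k + 2) (by omega)
            rw [← hT] at h
            omega
    obtain ⟨k, hk⟩ := hpow
    rw [ha, hk, Nat.prime_two.factorization_pow, Finsupp.single_eq_same]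
  refine ⟨t, ⟨a, hord⟩, S, htS, fun S' hS' => ?_⟩
  have hzle : Subgroup.zpowers t ≤ (S' : Subgroup (SL(2, F))) := Subgroup.zpowers_le.2 hS'
  have hidx : ((Subgroup.zpowers t).subgroupOf (S' : Subgroup (SL(2, F)))).index = 2 := by
    have h1 := Subgroup.card_mul_index ((Subgroup.zpowers t).subgroupOf (S' : Subgroup (SL(2, F))))
    rw [Nat.card_congr (Subgroup.subgroupOfEquivOfLe hzle).toEquiv, Nat.card_zpowers, hord,
      S'.card_eq_multiplicity, ← S.card_eq_multiplicity, hcard, mul_comm 2] at h1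
    exact Nat.eq_of_mul_eq_mul_left (Nat.two_pow_pos a) h1
  have hnorm := (Subgroup.normal_subgroupOf_iff_le_normalizer hzle).1
    (Subgroup.normal_of_index_eq_two hidx)
  have hS'N : (S' : Subgroup (SL(2, F))) ≤ Subgroup.normalizer (T : Set (SL(2, F))) := by
    intro s hs
    rw [mem_normalizer_iff hg]
    have hst : s * t * s⁻¹ ∈ T :=
      (Subgroup.zpowers_le.2 htT) ((Subgroup.mem_normalizer_iff.1 (hnorm hs) t).1 (Subgroup.mem_zpowers t))
    have hstc : s * t * s⁻¹ ∉ Subgroup.center (SL(2, F)) := fun h => htc (by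
      have := (inferInstance : (Subgroup.center (SL(2, F))).Normal).conj_mem _ h s⁻¹
      simpa [mul_assoc] using this)
    have hgnc := notMem_center_of_tr hg
    have e2 := centralizer_eq_of_mem hgnc hst hstc
    have e1 := centralizer_eq_of_mem hgnc htT htc
    refine eq_or_eq_inv hg ?_ (tr_conj g s)
    show s * g * s⁻¹ ∈ T
    rw [hT, ← e2, Subgroup.mem_centralizer_singleton_iff]
    have hgt : g * t = t * g := (Subgroup.mem_centralizer_singleton_iff.1 htT).symm
    calc s * g * s⁻¹ * (s * t * s⁻¹) = s * (g * t) * s⁻¹ := by group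
      _ = s * t * s⁻¹ * (s * g * s⁻¹) := by rw [hgt]; group
  have hN : IsPGroup 2 (Subgroup.normalizer (T : Set (SL(2, F)))) :=
    IsPGroup.of_card (n := a + 1) (by rw [card_normalizer hg, ← hT, hT2, pow_succ, mul_comm])
  exact Sylow.ext ((S'.is_maximal' hN hS'N).symm.trans (S.is_maximal' hN hle))

theorem multi_two (hodd : Nat.card F % 2 = 1)
    (h1 : ¬ ∃ k : ℕ, Nat.card F + 1 = 2 ^ k) (h3 : ¬ ∃ k : ℕ, Nat.card F = 2 ^ k + 1) :
    Multi (SL(2, F)) 2 := by
  haveI := Fact.mk Nat.prime_two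
  obtain ⟨S, g, t, a, hg, h4, hle, hcard, ha2, ha, hord, htT, htS, hST, htc⟩ := torus_data hodd
  set T := Subgroup.centralizer ({g} : Set (SL(2, F))) with hT
  have hgnc := notMem_center_of_tr hg
  have h2F := odd_facts hodd
  -- an odd order element of the torus
  obtain ⟨r, hr, hrT, hr2⟩ : ∃ r, r.Prime ∧ r ∣ Nat.card T ∧ r ≠ 2 := by
    by_contra hc
    push Not at hc
    have hp : Nat.card T = 2 ^ (Nat.card T).primeFactorsList.length :=
      Nat.eq_prime_pow_of_unique_prime_dvd Nat.card_pos.ne' fun {d} hd hdd => hc d hd hdd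
    have hq : 1 < Nat.card F := Finite.one_lt_card
    rcases card_centralizer_or hg with h | h
    · exact h3 ⟨_, by rw [← hp]; rw [← hT] at h; omega⟩
    · exact h1 ⟨_, h.symm.trans hp⟩
  haveI := Fact.mk hr
  obtain ⟨⟨x, hxT⟩, hx⟩ := exists_prime_orderOf_dvd_card' (G := T) r hrT
  rw [Subgroup.orderOf_mk] at hx
  have hxS : (x • S : Sylow 2 (SL(2, F))) ≠ S := by
    intro he
    have hxN := Sylow.smul_eq_iff_mem_normalizer.1 he
    obtain ⟨s, hsS, hsT⟩ : ∃ s ∈ (S : Subgroup (SL(2, F))), s ∉ T := by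
      by_contra hc
      push Not at hc
      have h2 := Subgroup.card_le_of_le (show (S : Subgroup (SL(2, F))) ≤ Subgroup.zpowers t from
        fun s hs => hST s hs (hc s hs))
      rw [hcard, Nat.card_zpowers, hord] at h2
      have := Nat.two_pow_pos a
      omega
    have hinv := conj_eq_inv_of_inverts hgnc
      (conj_eq_inv_of_mem_normalizer hg (hle hsS) hsT) hxT
    have hmem : x * x ∈ (S : Subgroup (SL(2, F))) := by
      have h2 := mul_mem ((Subgroup.mem_normalizer_iff.1 hxN s).1 hsS) (inv_mem hsS)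
      have h3 : x * s * x⁻¹ * s⁻¹ = x * (s * x * s⁻¹)⁻¹ := by group
      rwa [h3, hinv, inv_inv] at h2
    obtain ⟨k, hk⟩ := S.isPGroup' ⟨x * x, hmem⟩
    have hk' : x ^ 2 ^ (k + 1) = 1 := by
      rw [pow_succ', pow_mul, pow_two]
      simpa using congrArg Subtype.val hk
    have := (Nat.prime_dvd_prime_iff_eq hr Nat.prime_two).1
      (hr.dvd_of_dvd_pow (hx ▸ orderOf_dvd_of_pow_eq_one hk'))
    exact hr2 this
  have htx : t ∈ (x • S : Sylow 2 (SL(2, F))) := by
    show t ∈ MulAut.conj x • (S : Subgroup (SL(2, F)))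
    rw [Subgroup.mem_pointwise_smul_iff_inv_smul_mem, MulAut.smul_def]
    have : (MulAut.conj x)⁻¹ t = t := by
      have hc := centralizer_mulComm hgnc hxT htT
      rw [← map_inv, MulAut.conj_apply, inv_inv, mul_assoc, ← hc, inv_mul_cancel_left]
    rw [this]
    exact htS
  have key : ∀ y : SL(2, F), (∃ c, c * y * c⁻¹ ∈ Subgroup.zpowers t) →
      ∃ P P' : Sylow 2 (SL(2, F)), P ≠ P' ∧ y ∈ P ∧ y ∈ P' := by
    rintro y ⟨c, hc⟩
    refine ⟨c⁻¹ • S, c⁻¹ • (x • S : Sylow 2 (SL(2, F))), fun h => hxS (by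
      have := congrArg (c • ·) h
      simpa using this.symm), ?_, ?_⟩
    · show y ∈ MulAut.conj c⁻¹ • (S : Subgroup (SL(2, F)))
      rw [Subgroup.mem_pointwise_smul_iff_inv_smul_mem, map_inv, inv_inv]
      exact Subgroup.zpowers_le.2 htS hc
    · show y ∈ MulAut.conj c⁻¹ • ((x • S : Sylow 2 (SL(2, F))) : Subgroup (SL(2, F)))
      rw [Subgroup.mem_pointwise_smul_iff_inv_smul_mem, map_inv, inv_inv]
      exact Subgroup.zpowers_le.2 (show t ∈ ((x • S : Sylow 2 (SL(2, F))) : Subgroup _) from htx) hc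
  intro y hy
  obtain ⟨P, hP⟩ := exists_sylow_mem hy
  obtain ⟨c, hc⟩ := MulAction.exists_smul_eq (SL(2, F)) P S
  have hy' : c * y * c⁻¹ ∈ S := by
    rw [← hc]
    exact Subgroup.smul_mem_pointwise_smul y (MulAut.conj c) _ hP
  by_cases hyT : c * y * c⁻¹ ∈ T
  · exact key y ⟨c, hST _ hy' hyT⟩
  · have hy2 := mul_self_eq_neg_one hgnc (conj_eq_inv_of_mem_normalizer hg (hle hy') hyT)
    have hync : c * y * c⁻¹ ∉ Subgroup.center (SL(2, F)) :=
      fun h => hyT (center_le_centralizer g h)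
    obtain ⟨b, hb⟩ : ∃ b, a = b + 2 := ⟨a - 2, by omega⟩
    have how : orderOf (t ^ 2 ^ b) = 4 := by
      rw [orderOf_pow' _ (Nat.two_pow_pos b).ne', hord, hb,
        Nat.gcd_eq_right (pow_dvd_pow 2 (show b ≤ b + 2 by omega)), pow_add,
        Nat.mul_div_cancel_left _ (Nat.two_pow_pos b)]
      norm_num
    have hwne : (t ^ 2 ^ b) ^ 2 ≠ 1 := fun h => by
      have := orderOf_dvd_of_pow_eq_one h
      rw [how] at this
      norm_num at this
    have hw2 : t ^ 2 ^ b * t ^ 2 ^ b = -1 := by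
      rw [← pow_two]
      refine eq_neg_one_of_sq_eq_one h2F ?_ hwne
      rw [← pow_mul, show (2 : ℕ) * 2 = 4 from rfl, ← how, pow_orderOf_eq_one]
    have hwnc : t ^ 2 ^ b ∉ Subgroup.center (SL(2, F)) := fun h => by
      rcases (mem_center_iff _).1 h with h' | h'
      · exact hwne (by rw [h', one_pow])
      · exact hwne (by rw [h', pow_two, neg_mul_neg, one_mul])
    have htw := tr_eq_zero hw2 hwnc
    have hty := tr_eq_zero hy2 hync
    have h4F : (4 : F) ≠ 0 := by
      rw [show (4 : F) = 2 * 2 by norm_num]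
      exact mul_ne_zero h2F h2F
    obtain ⟨d, hd⟩ := isConj_iff.1 (isConj_of_tr_eq (g := c * y * c⁻¹) (h := t ^ 2 ^ b)
      (by rw [hty]; simpa using h4F.symm) (by rw [htw, hty]))
    refine key y ⟨d * c, ?_⟩
    rw [show d * c * y * (d * c)⁻¹ = d * (c * y * c⁻¹) * d⁻¹ by group, hd]
    exact Subgroup.npow_mem_zpowers t _

theorem sl2_dichotomy [Fintype F] (p : ℕ) [hp : Fact p.Prime] :
    (Cond (Fintype.card F) p → Multi (SL(2, F)) p) ∧
      (¬ Cond (Fintype.card F) p → Uniq (SL(2, F)) p) := by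
  rw [← Nat.card_eq_fintype_card]
  obtain ⟨r, hr⟩ := CharP.exists F
  obtain ⟨n, hrp, hn⟩ := FiniteField.card F r
  rw [← Nat.card_eq_fintype_card] at hn
  constructor
  · rintro ⟨rfl, h1, h2, h3⟩
    refine multi_two ?_ h1 h3
    rcases hrp.eq_two_or_odd with rfl | hodd
    · exact absurd ⟨_, hn⟩ h2
    · rw [hn, Nat.pow_mod, hodd]; simp
  · intro hc
    by_cases hcop : (Nat.card (Subgroup.center (SL(2, F)))).Coprime p
    · exact uniq_of_coprime_center hcop
    rw [center_card_eq_gcd, Nat.coprime_comm, hp.out.coprime_iff_not_dvd, not_not] at hcop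
    obtain rfl := (Nat.prime_dvd_prime_iff_eq hp.out Nat.prime_two).1 (hcop.trans (Nat.gcd_dvd_left 2 _))
    have hev := hcop.trans (Nat.gcd_dvd_right 2 _)
    have hq : 1 < Nat.card F := Finite.one_lt_card
    have hodd : Nat.card F % 2 = 1 := by omega
    refine uniq_two hodd ?_
    by_contra hno
    push Not at hno
    refine hc ⟨rfl, not_exists.2 hno.1, ?_, not_exists.2 hno.2⟩
    rintro ⟨k, hk⟩
    rcases k with _ | k
    · rw [pow_zero] at hk; omega
    · rw [pow_succ] at hk; omega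

/-- Let F be a finite field with q elements, p a prime and G = SL(2, F). Say a Sylow p-subgroup Q of G is redundant when every element of p-power order lies in some Sylow p-subgroup other than Q. Then G has a redundant Sylow p-subgroup if and only if p = 2 and q is not of any of the forms 2ᵏ - 1, 2ᵏ, 2ᵏ + 1. -/
theorem result {F : Type*} [Field F] [Fintype F] (p : ℕ) [Fact p.Prime] :
    (∃ Q : Sylow p (Matrix.SpecialLinearGroup (Fin 2) F), ∀ x : Matrix.SpecialLinearGroup (Fin 2) F,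
        (∃ k : ℕ, orderOf x = p ^ k) → ∃ P : Sylow p (Matrix.SpecialLinearGroup (Fin 2) F), P ≠ Q ∧ x ∈ P) ↔
      (p = 2 ∧ (¬ ∃ k : ℕ, Fintype.card F + 1 = 2 ^ k) ∧ (¬ ∃ k : ℕ, Fintype.card F = 2 ^ k) ∧
        ¬ ∃ k : ℕ, Fintype.card F = 2 ^ k + 1) := by
  exact redundant_iff (sl2_dichotomy (F := F) p)

end Cfsg.Agent.S4357
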