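import Cfsg.Statements.S4356
import Cfsg.Agent.S4357
-- import your own Cfsg.Agent.* helpers here

set_option autoImplicit false
open Cfsg

namespace Cfsg.Agent.S4356

open scoped Pointwise

open Cfsg.Agent.S4357 in
theorem quotient_dichotomy {G : Type*} [Group G] [Finite G] {p : ℕ} [hp : Fact p.Prime] {C : Prop}
    (h : (C → Multi G p) ∧ (¬ C → Uniq G p)) :
    (C ∧ ¬ IsPGroup p (Subgroup.center G) → False) →
    (C → Multi (G ⧸ Subgroup.center G) p) ∧ (¬ C → Uniq (G ⧸ Subgroup.center G) p) := by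
  intro hcp
  set π := QuotientGroup.mk' (Subgroup.center G)
  have hπ : Function.Surjective π := QuotientGroup.mk'_surjective _
  constructor
  · intro hC g hg
    have hZ : IsPGroup p (Subgroup.center G) := by
      by_contra h'; exact hcp ⟨hC, h'⟩
    obtain ⟨k, hk⟩ := hg
    obtain ⟨x, rfl⟩ := hπ g
    obtain ⟨m, hm⟩ := hZ ⟨x ^ p ^ k, by
      rw [← QuotientGroup.eq_one_iff]
      show π (x ^ p ^ k) = 1
      rw [map_pow, ← hk, pow_orderOf_eq_one]⟩
    obtain ⟨i, -, hi⟩ := (Nat.dvd_prime_pow hp.out).1 (orderOf_dvd_of_pow_eq_one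
      (show x ^ p ^ (k + m) = 1 by
        rw [pow_add, pow_mul]; simpa using congrArg Subtype.val hm))
    obtain ⟨P, P', hne, h1, h2⟩ := h.1 hC x ⟨i, hi⟩
    refine ⟨P.mapSurjective hπ, P'.mapSurjective hπ, fun he => hne ?_, ⟨x, h1, rfl⟩, ⟨x, h2, rfl⟩⟩
    have he' : (P : Subgroup G).map π = (P' : Subgroup G).map π :=
      congrArg (fun R : Sylow p (G ⧸ Subgroup.center G) => (R : Subgroup (G ⧸ Subgroup.center G))) he
    have hker : ∀ R : Sylow p G, π.ker ≤ (R : Subgroup G) := fun R => by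
      rw [QuotientGroup.ker_mk']
      have : IsPGroup p ((R : Subgroup G) ⊔ Subgroup.center G : Subgroup G) :=
        IsPGroup.to_sup_of_normal_right R.isPGroup' hZ
      exact R.is_maximal' this le_sup_left ▸ le_sup_right
    have h3 := congrArg (Subgroup.comap π) he'
    rw [Subgroup.comap_map_eq_self (hker P), Subgroup.comap_map_eq_self (hker P')] at h3
    exact Sylow.ext h3
  · intro hC
    obtain ⟨g, ⟨k, hk⟩, P, hgP, hu⟩ := h.2 hC
    obtain ⟨i, -, hi⟩ := (Nat.dvd_prime_pow hp.out).1 (hk ▸ orderOf_map_dvd π g)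
    refine ⟨π g, ⟨i, hi⟩, P.mapSurjective hπ, ⟨g, hgP, rfl⟩, fun R hR => ?_⟩
    obtain ⟨P', rfl⟩ := Sylow.mapSurjective_surjective hπ p R
    rw [hu P' ?_]
    obtain ⟨x, hx, hxg⟩ := hR
    have hz : x⁻¹ * g ∈ Subgroup.center G := QuotientGroup.eq.1 hxg
    have hcomm : Commute x (x⁻¹ * g) := Subgroup.mem_center_iff.1 hz x
    -- the central factor is a `p`-element, hence in every Sylow subgroup
    obtain ⟨j, hj⟩ := P'.isPGroup' ⟨x, hx⟩
    have hx1 : x ^ p ^ j = 1 := by simpa using congrArg Subtype.val hj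
    have hz1 : (x⁻¹ * g) ^ p ^ (j + k) = 1 := by
      have hxg : Commute x g := by
        have h := (Commute.refl x).mul_right hcomm
        rwa [mul_inv_cancel_left] at h
      rw [hxg.inv_left.mul_pow]
      rw [inv_pow, pow_add, pow_mul x, hx1, one_pow, inv_one, one_mul, mul_comm (p ^ j), pow_mul g,
        ← hk, pow_orderOf_eq_one, one_pow]
    obtain ⟨l, -, hl⟩ := (Nat.dvd_prime_pow hp.out).1 (orderOf_dvd_of_pow_eq_one hz1)
    haveI : (Subgroup.zpowers (x⁻¹ * g)).Normal := ⟨fun a ha b => by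
      have : a ∈ Subgroup.center G := Subgroup.zpowers_le.2 hz ha
      rwa [Subgroup.mem_center_iff.1 this b, mul_inv_cancel_right]⟩
    have hzP : x⁻¹ * g ∈ (P' : Subgroup G) :=
      P'.is_maximal' (IsPGroup.to_sup_of_normal_right P'.isPGroup'
        (IsPGroup.of_card (G := Subgroup.zpowers (x⁻¹ * g)) (p := p) (n := l)
          (by rw [Nat.card_zpowers, hl]))) le_sup_left ▸
        Subgroup.mem_sup_right (Subgroup.mem_zpowers _)
    show g ∈ (P' : Subgroup G)
    have := mul_mem (show x ∈ (P' : Subgroup G) from hx) hzP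
    rwa [mul_inv_cancel_left] at this

/-- Let F be a finite field with q elements, p a prime and G = PSL(2, F). Say a Sylow p-subgroup Q of G is redundant when every element of p-power order lies in some Sylow p-subgroup other than Q. Then G has a redundant Sylow p-subgroup if and only if p = 2 and q is not of any of the forms 2ᵏ - 1, 2ᵏ, 2ᵏ + 1. -/
theorem result {F : Type*} [Field F] [Fintype F] (p : ℕ) [Fact p.Prime] :
    (∃ Q : Sylow p (Matrix.ProjectiveSpecialLinearGroup (Fin 2) F), ∀ x : Matrix.ProjectiveSpecialLinearGroup (Fin 2) F,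
        (∃ k : ℕ, orderOf x = p ^ k) → ∃ P : Sylow p (Matrix.ProjectiveSpecialLinearGroup (Fin 2) F), P ≠ Q ∧ x ∈ P) ↔
      (p = 2 ∧ (¬ ∃ k : ℕ, Fintype.card F + 1 = 2 ^ k) ∧ (¬ ∃ k : ℕ, Fintype.card F = 2 ^ k) ∧
        ¬ ∃ k : ℕ, Fintype.card F = 2 ^ k + 1) := by
  refine Cfsg.Agent.S4357.redundant_iff (quotient_dichotomy
    (Cfsg.Agent.S4357.sl2_dichotomy (F := F) p) ?_)
  rintro ⟨⟨rfl, -⟩, hn⟩
  refine hn ?_
  have h := CfsgLib.SL2.center_card_eq_gcd (F := F)
  obtain ⟨i, -, hi⟩ := (Nat.dvd_prime_pow Nat.prime_two).1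
    ((h ▸ Nat.gcd_dvd_left 2 _ : Nat.card (Subgroup.center _) ∣ 2).trans (pow_one 2).symm.dvd)
  exact IsPGroup.of_card hi

end Cfsg.Agent.S4356
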