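import Cfsg.Statements.S4358
import Mathlib
-- import your own Cfsg.Agent.* helpers here

set_option autoImplicit false
open Cfsg

namespace Cfsg.Agent.S4358

open scoped Pointwise

open Matrix

variable {F : Type*} [Field F] {p : ℕ}

/-- The monomial matrix with entries `d` and shift `k`. -/
def mm (d : Fin p → F) (k : Fin p) : Matrix (Fin p) (Fin p) F :=
  fun i j => if j = i + k then d i else 0

/-- Roots of unity of order dividing `p`. -/
abbrev Mu (F : Type*) [Field F] (p : ℕ) : Type _ := {x : F // x ^ p = 1}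

theorem mm_apply (d : Fin p → F) (k : Fin p) (i j : Fin p) :
    mm d k i j = if j = i + k then d i else 0 := rfl

theorem mm_mul_apply (d : Fin p → F) (k : Fin p) (A : Matrix (Fin p) (Fin p) F) (i j : Fin p) :
    (mm d k * A) i j = d i * A (i + k) j := by
  rw [Matrix.mul_apply, Finset.sum_eq_single (i + k) (fun b _ hb => by simp [mm_apply, hb])
    (fun h => absurd (Finset.mem_univ _) h), mm_apply, if_pos rfl]

theorem mm_mul (d e : Fin p → F) (k l : Fin p) :
    mm d k * mm e l = mm (fun i => d i * e (i + k)) (k + l) := by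
  ext i j
  rw [mm_mul_apply, mm_apply, mm_apply, mul_ite, mul_zero, add_assoc]

variable [hp : Fact p.Prime]

theorem mm_one : mm (fun _ => (1 : F)) (0 : Fin p) = 1 := by
  ext i j
  simp [mm_apply, Matrix.one_apply, eq_comm]

theorem mm_zero (d : Fin p → F) : mm d 0 = Matrix.diagonal d := by
  ext i j
  simp [mm_apply, Matrix.diagonal_apply, eq_comm]

/-- The elements of the monomial group. -/
noncomputable def elt (x : Fin p × (Fin p → Mu F p)) : GL (Fin p) F where
  val := mm (fun i => (x.2 i : F)) x.1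
  inv := mm (fun i => ((x.2 (i - x.1) : F))⁻¹) (-x.1)
  val_inv := by
    have h0 : ∀ i, (x.2 i : F) ≠ 0 := fun i h => by
      have := (x.2 i).2; rw [h, zero_pow hp.out.ne_zero] at this; exact zero_ne_one this
    rw [mm_mul, add_neg_cancel]
    simp only [add_sub_cancel_right]
    simp [h0, mm_one]
  inv_val := by
    have h0 : ∀ i, (x.2 i : F) ≠ 0 := fun i h => by
      have := (x.2 i).2; rw [h, zero_pow hp.out.ne_zero] at this; exact zero_ne_one this
    rw [mm_mul, neg_add_cancel]
    simp only [← sub_eq_add_neg]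
    simp [h0, mm_one]

theorem coe_elt (x : Fin p × (Fin p → Mu F p)) :
    (elt x : Matrix (Fin p) (Fin p) F) = mm (fun i => (x.2 i : F)) x.1 := rfl

theorem elt_injective : Function.Injective (elt (F := F) (p := p)) := by
  rintro ⟨k, d⟩ ⟨l, e⟩ h
  have h' : mm (fun i => (d i : F)) k = mm (fun i => (e i : F)) l :=
    congrArg (fun g : GL (Fin p) F => (g : Matrix (Fin p) (Fin p) F)) h
  have h0 : ∀ i, (d i : F) ≠ 0 := fun i hi => by
    have := (d i).2; rw [hi, zero_pow hp.out.ne_zero] at this; exact zero_ne_one this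
  have hkl : k = l := by
    have := congrFun (congrFun h' 0) k
    by_contra hne
    simp [mm_apply, hne, h0] at this
  subst hkl
  refine Prod.ext rfl (funext fun i => Subtype.ext ?_)
  simpa [mm_apply] using congrFun (congrFun h' i) (i + k)

variable (F p) in
/-- The monomial Sylow subgroup. -/
noncomputable def mono : Subgroup (GL (Fin p) F) where
  carrier := Set.range (elt (F := F) (p := p))
  one_mem' := ⟨(0, fun _ => ⟨1, one_pow p⟩), Units.ext (by rw [coe_elt]; exact mm_one)⟩
  mul_mem' := by
    rintro _ _ ⟨x, rfl⟩ ⟨y, rfl⟩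
    exact ⟨(x.1 + y.1, fun i => ⟨x.2 i * y.2 (i + x.1), by
      rw [mul_pow, (x.2 i).2, (y.2 _).2, one_mul]⟩), Units.ext (by
      rw [Units.val_mul, coe_elt, coe_elt, coe_elt, mm_mul])⟩
  inv_mem' := by
    rintro _ ⟨x, rfl⟩
    exact ⟨(-x.1, fun i => ⟨((x.2 (i - x.1) : F))⁻¹, by rw [inv_pow, (x.2 _).2, inv_one]⟩),
      Units.ext rfl⟩

/-- Each row has at most one nonzero entry. -/
def IsMono (A : Matrix (Fin p) (Fin p) F) : Prop :=
  ∀ i j j', A i j ≠ 0 → A i j' ≠ 0 → j = j'

theorem isMono_of_mem_normalizer (h2 : p ≠ 2) {ζ : F} (hζ : IsPrimitiveRoot ζ p)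
    {g : GL (Fin p) F} (hg : g ∈ Subgroup.normalizer (mono F p : Set (GL (Fin p) F))) :
    IsMono (g : Matrix (Fin p) (Fin p) F) := by
  classical
  intro a b b' hb hb'
  by_contra hne
  set dd : Fin p → Mu F p := fun i => if i = b then ⟨ζ, hζ.pow_eq_one⟩ else ⟨1, one_pow p⟩ with hdd
  have hmem : g * elt (0, dd) * g⁻¹ ∈ mono F p :=
    (Subgroup.mem_normalizer_iff.1 hg _).1 ⟨_, rfl⟩
  obtain ⟨⟨k, e⟩, he⟩ := hmem
  have heq : mm (fun i => (e i : F)) k * (g : Matrix (Fin p) (Fin p) F) =
      (g : Matrix (Fin p) (Fin p) F) * Matrix.diagonal (fun i => (dd i : F)) := by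
    rw [← mm_zero, ← coe_elt (F := F) (k, e), ← coe_elt (F := F) ((0 : Fin p), dd), ← Units.val_mul,
      ← Units.val_mul, he, inv_mul_cancel_right]
  by_cases hk : k = 0
  · subst hk
    have h1 := congrFun (congrFun heq a) b
    have h2' := congrFun (congrFun heq a) b'
    rw [mm_mul_apply, Matrix.mul_diagonal, add_zero] at h1 h2'
    have e1 : (e a : F) = ζ := by
      have : (dd b : F) = ζ := by simp [hdd]
      rw [this, mul_comm _ ζ] at h1
      exact mul_right_cancel₀ hb h1
    have e2 : (e a : F) = 1 := by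
      have : (dd b' : F) = 1 := by simp [hdd, Ne.symm hne]
      rw [this, mul_one] at h2'
      exact (mul_eq_right₀ hb').1 h2'
    exact hζ.ne_one hp.out.one_lt (e1.symm.trans e2)
  -- `M - 1 = g (D - 1) g⁻¹` has rank at most one
  set G : Matrix (Fin p) (Fin p) F := (g : Matrix (Fin p) (Fin p) F)
  set G' : Matrix (Fin p) (Fin p) F := ((g⁻¹ : GL (Fin p) F) : Matrix (Fin p) (Fin p) F)
  have hGG : G * G' = 1 := g.mul_inv
  have hN : ∀ i j, mm (fun i => (e i : F)) k i j - (1 : Matrix (Fin p) (Fin p) F) i j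
      = G i b * (ζ - 1) * G' b j := by
    intro i j
    have h1 : mm (fun i => (e i : F)) k - 1 =
        G * Matrix.diagonal (fun i => (dd i : F) - 1) * G' := by
      rw [show Matrix.diagonal (fun i => (dd i : F) - 1) = Matrix.diagonal (fun i => (dd i : F)) - 1 by
        rw [← Matrix.diagonal_one, Matrix.diagonal_sub], Matrix.mul_sub, Matrix.sub_mul, mul_one,
        ← heq, mul_assoc, hGG, mul_one]
    rw [← Matrix.sub_apply, h1, Matrix.mul_apply, Finset.sum_eq_single b (fun c _ hc => by
      simp [Matrix.mul_diagonal, hdd, hc]) (fun h => absurd (Finset.mem_univ _) h)]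
    simp [Matrix.mul_diagonal, hdd]
  have hk2 : k + k ≠ 0 := by
    intro h
    apply hk
    have hv : (k.val + k.val) % p = 0 := by
      have := congrArg Fin.val h
      simpa [Fin.val_add] using this
    have hdvd : p ∣ 2 * k.val := by rw [two_mul]; exact Nat.dvd_of_mod_eq_zero hv
    rcases hp.out.dvd_mul.1 hdvd with h' | h'
    · exact absurd ((Nat.prime_dvd_prime_iff_eq hp.out Nat.prime_two).1 h') h2
    · exact Fin.ext (Nat.eq_zero_of_dvd_of_lt h' k.isLt)
  have hkne : (0 : Fin p) ≠ k := fun h => hk h.symm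
  have m00 := hN 0 0
  have m0k := hN 0 k
  have mk0 := hN k 0
  have mkk := hN k k
  simp only [mm_apply, Matrix.one_apply, zero_add, if_neg hkne, if_neg hk, if_neg (Ne.symm hk2),
    if_pos rfl, add_eq_left, if_true, sub_zero] at m00 m0k mk0 mkk
  have hk' : k ≠ k + k := fun h => hk (add_eq_left.1 h.symm)
  rw [if_neg hk'] at mkk
  have : (G 0 b * (ζ - 1) * G' b 0) * (G k b * (ζ - 1) * G' b k) =
      (G 0 b * (ζ - 1) * G' b k) * (G k b * (ζ - 1) * G' b 0) := by ring
  rw [← m00, ← m0k, ← mk0, ← mkk] at this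
  norm_num at this

theorem add_nsmul_bijective (i k : Fin p) (hk : k ≠ 0) :
    Function.Bijective fun l : Fin p => i + l.val • k := by
  refine Finite.injective_iff_bijective.1 fun a b h => Fin.ext ?_
  have h' : a.val • k = b.val • k := add_left_cancel h
  have hord : addOrderOf k = p := by
    rcases hp.out.eq_one_or_self_of_dvd _ ((addOrderOf_dvd_natCard k).trans (Nat.card_fin p).dvd)
      with h1 | h1
    · exact absurd (AddMonoid.addOrderOf_eq_one_iff.1 h1) hk
    · exact h1
  have := nsmul_eq_nsmul_iff_modEq.1 h'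
  rw [hord, Nat.ModEq, Nat.mod_eq_of_lt a.isLt, Nat.mod_eq_of_lt b.isLt] at this
  exact this

theorem mm_pow (d : Fin p → F) (k : Fin p) (n : ℕ) :
    mm d k ^ n = mm (fun i => ∏ l ∈ Finset.range n, d (i + l • k)) (n • k) := by
  induction n with
  | zero => simp [mm_one]
  | succ n ih =>
    rw [pow_succ, ih, mm_mul, succ_nsmul]
    congr 1
    funext i
    rw [Finset.prod_range_succ]

theorem prod_orbit (d : Fin p → F) (i k : Fin p) (hk : k ≠ 0) :
    ∏ l ∈ Finset.range p, d (i + l • k) = ∏ j, d j := by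
  rw [← Fin.prod_univ_eq_prod_range (fun l => d (i + l • k)) p]
  exact Fintype.prod_bijective _ (add_nsmul_bijective i k hk) _ _ fun _ => rfl

theorem not_isMono_one_add (d : Fin p → F) (k : Fin p) (hk : k ≠ 0) (hd : d 0 ≠ 0) :
    ¬ IsMono (1 + mm d k) := by
  intro h
  refine hk (h 0 0 k ?_ ?_).symm
  · simp [Matrix.add_apply, mm_apply, Ne.symm hk]
  · simp [Matrix.add_apply, mm_apply, Matrix.one_apply_ne' hk, hd]

theorem exists_conjugator (h2 : p ≠ 2) {ζ : F} (hζ : IsPrimitiveRoot ζ p)
    (x : Fin p × (Fin p → Mu F p)) :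
    ∃ g : GL (Fin p) F, g⁻¹ * elt x * g ∈ mono F p ∧ ¬ IsMono (g : Matrix (Fin p) (Fin p) F) := by
  classical
  obtain ⟨k, d⟩ := x
  have h0 : ∀ i, (d i : F) ≠ 0 := fun i hi => by
    have := (d i).2; rw [hi, zero_pow hp.out.ne_zero] at this; exact zero_ne_one this
  have h01 : (1 : Fin p) ≠ 0 := by
    intro h
    have := congrArg Fin.val h
    simp [Nat.mod_eq_of_lt hp.out.one_lt] at this
  by_cases hk : k = 0
  · subst hk
    by_cases hinj : Function.Injective fun i => (d i : F)
    · set V : Matrix (Fin p) (Fin p) F := Matrix.of fun a b => (d b : F) ^ a.val with hV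
      have hVT : V = (Matrix.vandermonde fun i => (d i : F))ᵀ := by
        ext a b; rfl
      have hdet : V.det ≠ 0 := by
        rw [hVT, Matrix.det_transpose]
        exact Matrix.det_vandermonde_ne_zero_iff.2 hinj
      set W := Matrix.GeneralLinearGroup.mkOfDetNeZero V hdet
      have hW : (W : Matrix (Fin p) (Fin p) F) = V := rfl
      refine ⟨W⁻¹, ?_, fun h => ?_⟩
      · refine ⟨((1 : Fin p), fun _ => ⟨1, one_pow p⟩), ?_⟩
        rw [inv_inv, eq_mul_inv_iff_mul_eq]
        refine Units.ext ?_
        rw [Units.val_mul, Units.val_mul, coe_elt, coe_elt, hW, mm_zero]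
        ext a b
        rw [mm_mul_apply, Matrix.mul_diagonal, one_mul]
        show (d b : F) ^ (a + 1).val = (d b : F) ^ a.val * (d b : F)
        rw [← pow_succ]
        refine pow_eq_pow_of_modEq ?_ (d b).2
        simp [Fin.val_add, Nat.mod_eq_of_lt hp.out.one_lt, Nat.ModEq]
      · -- the first row of `V` has two nonzero entries, and `V` is the inverse
        set G' : Matrix (Fin p) (Fin p) F := ((W⁻¹ : GL (Fin p) F) : Matrix (Fin p) (Fin p) F)
        have hGV : G' * V = 1 := by rw [← hW]; exact W.inv_mul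
        obtain ⟨j, hj⟩ : ∃ j, G' 0 j ≠ 0 := by
          by_contra hcon
          push Not at hcon
          have := congrFun (congrFun hGV 0) 0
          rw [Matrix.mul_apply, Finset.sum_eq_zero (fun c _ => by rw [hcon c, zero_mul])] at this
          simp at this
        have hrow : ∀ b, G' 0 j * V j b = (1 : Matrix (Fin p) (Fin p) F) 0 b := by
          intro b
          rw [← hGV, Matrix.mul_apply, Finset.sum_eq_single j (fun c _ hc => ?_)
            (fun hh => absurd (Finset.mem_univ _) hh)]
          by_cases h' : G' 0 c = 0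
          · rw [h', zero_mul]
          · exact absurd (h 0 c j h' hj) hc
        have := hrow 1
        rw [Matrix.one_apply_ne' h01] at this
        exact (mul_ne_zero hj (pow_ne_zero _ (h0 1))) this
    · obtain ⟨i, j, hij, hne⟩ := Function.not_injective_iff.1 hinj
      have hdet : (Matrix.transvection i j (1 : F)).det ≠ 0 := by
        rw [Matrix.det_transvection_of_ne i j hne]; exact one_ne_zero
      set W := Matrix.GeneralLinearGroup.mkOfDetNeZero _ hdet
      have hcomm : elt ((0 : Fin p), d) * W = W * elt ((0 : Fin p), d) := by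
        refine Units.ext ?_
        rw [Units.val_mul, Units.val_mul, coe_elt, mm_zero]
        show Matrix.diagonal _ * (1 + Matrix.single i j (1 : F)) =
          (1 + Matrix.single i j (1 : F)) * Matrix.diagonal _
        rw [mul_add, add_mul, mul_one, one_mul]
        congr 1
        ext a b
        rw [Matrix.diagonal_mul, Matrix.mul_diagonal]
        by_cases hab : i = a ∧ j = b
        · obtain ⟨rfl, rfl⟩ := hab
          have e : Matrix.single i j (1 : F) i j = 1 := Matrix.single_apply_same i j 1
          rw [e, mul_one, one_mul]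
          exact hij
        · simp [Matrix.single_apply, hab]
      refine ⟨W, ?_, fun h => hne ?_⟩
      · rw [mul_assoc, hcomm, inv_mul_cancel_left]
        exact ⟨_, rfl⟩
      · refine h i i j ?_ ?_
        · show (1 + Matrix.single i j (1 : F)) i i ≠ 0
          simp [Matrix.single_apply, Ne.symm hne]
        · show (1 + Matrix.single i j (1 : F)) i j ≠ 0
          simp [Matrix.single_apply, hne]
  by_cases hc : ∏ i, (d i : F) = 1
  · -- conjugate to a diagonal element with distinct entries
    let e : ℕ → F := fun n => (∏ l ∈ Finset.range n, (d (l • k) : F))⁻¹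
    have hep : e p = 1 := by
      show (∏ l ∈ Finset.range p, (d (l • k) : F))⁻¹ = 1
      have := prod_orbit (fun i => (d i : F)) 0 k hk
      simp only [zero_add] at this
      rw [this, hc, inv_one]
    have hbij : Function.Bijective fun a : Fin p => a.val • k := by
      simpa using add_nsmul_bijective 0 k hk
    let σ : Fin p ≃ Fin p := Equiv.ofBijective _ hbij
    set U : Matrix (Fin p) (Fin p) F :=
      Matrix.of fun a b => e a.val * (ζ ^ b.val) ^ a.val with hU
    set V : Matrix (Fin p) (Fin p) F := U.submatrix σ.symm id with hV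
    have hinj : Function.Injective fun b : Fin p => ζ ^ b.val := fun a b h =>
      Fin.ext (hζ.pow_inj a.isLt b.isLt h)
    have hdetU : U.det ≠ 0 := by
      have : U = Matrix.diagonal (fun a : Fin p => e a.val) *
          (Matrix.vandermonde fun b : Fin p => ζ ^ b.val)ᵀ := by
        ext a b
        rw [Matrix.diagonal_mul]
        rfl
      rw [this, Matrix.det_mul, Matrix.det_diagonal, Matrix.det_transpose]
      exact mul_ne_zero (Finset.prod_ne_zero_iff.2 fun a _ =>
        inv_ne_zero (Finset.prod_ne_zero_iff.2 fun l _ => h0 _))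
        (Matrix.det_vandermonde_ne_zero_iff.2 hinj)
    have hdet : V.det ≠ 0 := by
      rw [hV, Matrix.det_permute]
      refine mul_ne_zero ?_ hdetU
      rcases Int.units_eq_one_or (Equiv.Perm.sign σ.symm) with h | h <;> simp [h]
    set W := Matrix.GeneralLinearGroup.mkOfDetNeZero V hdet
    have hW : (W : Matrix (Fin p) (Fin p) F) = V := rfl
    have hVa : ∀ a b, V (σ a) b = e a.val * (ζ ^ b.val) ^ a.val := fun a b => by
      simp [hV, hU]
    refine ⟨W, ?_, fun h => ?_⟩
    · refine ⟨((0 : Fin p), fun b => ⟨ζ ^ b.val, by rw [← pow_mul, mul_comm, pow_mul, hζ.pow_eq_one, one_pow]⟩), ?_⟩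
      rw [mul_assoc, eq_inv_mul_iff_mul_eq]
      refine Units.ext ?_
      rw [Units.val_mul, Units.val_mul, coe_elt, coe_elt, hW, mm_zero]
      ext i b
      obtain ⟨a, rfl⟩ := σ.surjective i
      rw [mm_mul_apply, Matrix.mul_diagonal]
      have hstep : σ a + k = σ (a + 1) := by
        show a.val • k + k = (a + 1).val • k
        rw [← succ_nsmul]
        have hpk : p • k = 0 := by
          have := card_nsmul_eq_zero' (G := Fin p) (x := k)
          rwa [Nat.card_fin] at this
        rw [Fin.val_add, Fin.val_one', Nat.add_mod_mod]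
        conv_lhs => rw [← Nat.div_add_mod (a.val + 1) p, add_nsmul, mul_comm, mul_nsmul', hpk,
          nsmul_zero, zero_add]
      rw [hstep, hVa, hVa]
      have hz : (ζ ^ b.val) ^ (a + 1).val = (ζ ^ b.val) ^ a.val * ζ ^ b.val := by
        rw [← pow_succ]
        refine pow_eq_pow_of_modEq ?_ (by rw [← pow_mul, mul_comm, pow_mul, hζ.pow_eq_one, one_pow])
        simp [Fin.val_add, Nat.mod_eq_of_lt hp.out.one_lt, Nat.ModEq]
      have he : (d (σ a) : F) * e (a + 1).val = e a.val := by
        have hs : e (a.val + 1) * (d (σ a) : F) = e a.val := by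
          show (∏ l ∈ Finset.range (a.val + 1), (d (l • k) : F))⁻¹ * (d (a.val • k) : F) = _
          rw [Finset.prod_range_succ, mul_inv, mul_assoc, inv_mul_cancel₀ (h0 _), mul_one]
        rw [mul_comm]
        refine Eq.trans ?_ hs
        congr 1
        rw [Fin.val_add, Fin.val_one', Nat.add_mod_mod]
        rcases Nat.lt_or_ge (a.val + 1) p with h | h
        · rw [Nat.mod_eq_of_lt h]
        · rw [show a.val + 1 = p by omega, Nat.mod_self, hep]
          show (∏ l ∈ Finset.range 0, (d (l • k) : F))⁻¹ = 1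
          simp
      rw [hz]
      linear_combination (-(ζ ^ b.val) ^ a.val * ζ ^ b.val) * he
    · refine h01 (h (σ 0) 1 0 ?_ ?_) <;>
      · show V (σ 0) _ ≠ 0
        rw [hVa]
        simp [e]
  -- the remaining elements commute with `1 + x`
  set y := mm (fun i => (d i : F)) k
  have hdet : (1 + y).det ≠ 0 := by
    intro h
    obtain ⟨v, hv, hv'⟩ := Matrix.exists_mulVec_eq_zero_iff.2 h
    have hy : y *ᵥ v = -v := by
      rw [Matrix.add_mulVec, Matrix.one_mulVec] at hv'
      exact eq_neg_of_add_eq_zero_right hv'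
    have hn : ∀ n, (y ^ n) *ᵥ v = (-1 : F) ^ n • v := by
      intro n
      induction n with
      | zero => simp
      | succ n ih =>
        rw [pow_succ, ← Matrix.mulVec_mulVec, hy, Matrix.mulVec_neg, ih, pow_succ, mul_neg_one,
          neg_smul]
    have hyp : y ^ p = Matrix.diagonal fun _ => ∏ j, (d j : F) := by
      have hpk : p • k = 0 := by
        have := card_nsmul_eq_zero' (G := Fin p) (x := k)
        rwa [Nat.card_fin] at this
      rw [mm_pow, hpk, mm_zero]
      exact congrArg Matrix.diagonal (funext fun i => prod_orbit (fun i => (d i : F)) i k hk)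
    obtain ⟨i, hi⟩ := Function.ne_iff.1 hv
    have h1 := congrFun (hn p) i
    rw [hyp, Matrix.mulVec_diagonal, (hp.out.odd_of_ne_two h2).neg_one_pow, Pi.smul_apply,
      smul_eq_mul] at h1
    have hc1 : (∏ j, (d j : F)) = -1 := mul_right_cancel₀ hi h1
    have hcp : (∏ j, (d j : F)) ^ p = 1 := by
      rw [← Finset.prod_pow]; exact Finset.prod_eq_one fun j _ => (d j).2
    rw [hc1, (hp.out.odd_of_ne_two h2).neg_one_pow] at hcp
    exact hc (hc1.trans hcp)
  set W := Matrix.GeneralLinearGroup.mkOfDetNeZero _ hdet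
  have hcomm : elt (k, d) * W = W * elt (k, d) := by
    refine Units.ext ?_
    rw [Units.val_mul, Units.val_mul, coe_elt]
    show y * (1 + y) = (1 + y) * y
    rw [mul_add, add_mul, mul_one, one_mul]
  refine ⟨W, ?_, not_isMono_one_add _ k hk (h0 0)⟩
  rw [mul_assoc, hcomm, inv_mul_cancel_left]
  exact ⟨_, rfl⟩

theorem card_GL_factorization [Fintype F] (h2 : p ≠ 2) (h1 : p ∣ Fintype.card F - 1)
    (hq : ¬ p ^ 2 ∣ Fintype.card F - 1) :
    (Nat.card (GL (Fin p) F)).factorization p = p + 1 := by
  set q := Fintype.card F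
  have hq1 : 1 < q := Fintype.one_lt_card
  have hv1 : padicValNat p (q - 1) = 1 := by
    have hne : q - 1 ≠ 0 := by omega
    have h0 : padicValNat p (q - 1) ≠ 0 := by
      rw [Ne, padicValNat.eq_zero_iff]
      rintro (h | h | h)
      · exact hp.out.ne_one h
      · exact hne h
      · exact h h1
    have hlt : padicValNat p (q - 1) < 2 := by
      by_contra h
      exact hq ((padicValNat_dvd_iff_le hne).2 (not_lt.1 h))
    omega
  have hpq : ¬ p ∣ q := fun h => hp.out.not_dvd_one (by
    have h' := Nat.dvd_sub h h1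
    rwa [show q - (q - 1) = 1 by omega] at h')
  rw [Matrix.card_GL_field, Nat.factorization_prod fun i _ => by
    have := Nat.pow_lt_pow_right hq1 (show (i : ℕ) < p from i.isLt)
    show q ^ p - q ^ (i : ℕ) ≠ 0
    omega,
    Finsupp.finsetSum_apply]
  have hterm : ∀ i : Fin p, (q ^ p - q ^ (i : ℕ)).factorization p =
      1 + padicValNat p (p - (i : ℕ)) := by
    intro i
    have hi := i.isLt
    have e : q ^ p - q ^ (i : ℕ) = q ^ (i : ℕ) * (q ^ (p - (i : ℕ)) - 1) := by
      rw [Nat.mul_sub, mul_one, ← pow_add, Nat.add_sub_cancel' hi.le]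
    have hne : q ^ (p - (i : ℕ)) - 1 ≠ 0 := by
      have := Nat.one_lt_pow (show p - (i : ℕ) ≠ 0 by omega) hq1; omega
    rw [Nat.factorization_def _ hp.out, e, padicValNat.mul (pow_ne_zero _ (by omega)) hne,
      padicValNat.eq_zero_of_not_dvd (fun h => hpq (hp.out.dvd_of_dvd_pow h)), zero_add]
    have := padicValNat.pow_sub_pow (p := p) (x := q) (y := 1) (hp.out.odd_of_ne_two h2) hq1 h1
      hpq (n := p - (i : ℕ)) (by omega)
    rw [one_pow] at this
    rw [this, hv1]
  change ∑ i : Fin p, (q ^ p - q ^ (i : ℕ)).factorization p = _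
  simp only [hterm, Finset.sum_add_distrib, Finset.sum_const, Finset.card_univ, Fintype.card_fin,
    smul_eq_mul, mul_one]
  congr 1
  rw [Finset.sum_eq_single (⟨0, hp.out.pos⟩ : Fin p)]
  · simp
  · intro i _ hi
    refine padicValNat.eq_zero_of_not_dvd fun h => ?_
    have hpos : 0 < i.val := Nat.pos_of_ne_zero fun h' => hi (Fin.ext h')
    exact absurd (Nat.le_of_dvd (by omega) h) (by omega)
  · exact fun h => absurd (Finset.mem_univ _) h

theorem card_mono [Fintype F] {ζ : F} (hζ : IsPrimitiveRoot ζ p) :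
    Nat.card (mono F p) = p ^ (p + 1) := by
  classical
  have hmu : Fintype.card (Mu F p) = p := by
    refine Eq.trans ?_ hζ.card_nthRootsFinset
    rw [Fintype.card_subtype]
    congr 1
    ext x
    simp [Polynomial.mem_nthRootsFinset hp.out.pos]
  show Nat.card (Set.range (elt (F := F) (p := p))) = _
  rw [Nat.card_range_of_injective elt_injective, Nat.card_prod, Nat.card_fin, Nat.card_pi]
  simp only [Nat.card_eq_fintype_card, hmu, Finset.prod_const, Finset.card_univ, Fintype.card_fin]
  rw [pow_succ, mul_comm]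

/-- Let p be an odd prime and F a finite field with q elements such that p divides q - 1 but p² does not. Then GL(p, F) has a Sylow p-subgroup Q such that every element of p-power order lies in some Sylow p-subgroup other than Q (a redundant Sylow p-subgroup). -/
theorem result {F : Type*} [Field F] [Fintype F] (p : ℕ) [Fact p.Prime]
    (hp : p ≠ 2) (h1 : p ∣ Fintype.card F - 1) (h2 : ¬ p ^ 2 ∣ Fintype.card F - 1) :
    ∃ Q : Sylow p (Matrix.GeneralLinearGroup (Fin p) F), ∀ x : Matrix.GeneralLinearGroup (Fin p) F,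
      (∃ k : ℕ, orderOf x = p ^ k) → ∃ P : Sylow p (Matrix.GeneralLinearGroup (Fin p) F), P ≠ Q ∧ x ∈ P := by
  classical
  obtain ⟨z, hz⟩ : ∃ z : Fˣ, orderOf z = p := exists_prime_orderOf_dvd_card' p (by
    rw [Nat.card_eq_fintype_card, Fintype.card_units]; exact h1)
  have hζ : IsPrimitiveRoot (z : F) p := IsPrimitiveRoot.iff_orderOf.2 (by rw [orderOf_units, hz])
  let Q : Sylow p (Matrix.GeneralLinearGroup (Fin p) F) :=
    Sylow.ofCard (mono F p) (by rw [card_mono hζ, card_GL_factorization hp h1 h2])
  refine ⟨Q, fun x ⟨k, hk⟩ => ?_⟩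
  have hx : IsPGroup p (Subgroup.zpowers x) :=
    IsPGroup.of_card (by rw [Nat.card_zpowers, hk])
  obtain ⟨P, hP⟩ := hx.exists_le_sylow
  by_cases hPQ : P = Q
  swap
  · exact ⟨P, hPQ, hP (Subgroup.mem_zpowers x)⟩
  obtain ⟨y, rfl⟩ : x ∈ mono F p := by
    rw [hPQ] at hP
    exact hP (Subgroup.mem_zpowers x)
  obtain ⟨g, hg, hmono⟩ := exists_conjugator hp hζ y
  refine ⟨g • Q, fun h => hmono (isMono_of_mem_normalizer hp hζ
    (Sylow.smul_eq_iff_mem_normalizer.1 h)), ?_⟩
  refine ⟨g⁻¹ * elt y * g, hg, ?_⟩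
  simp [mul_assoc]

end Cfsg.Agent.S4358
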