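import Cfsg.Statements.S4369
import Cfsg.Agent.Lib.MinNonCA.Final

set_option autoImplicit false
open Cfsg

namespace Cfsg.Agent.S4369

/-- Call a group a CA-group when the centralizer of every non-central element is abelian. A finite group G is non-solvable, is not a CA-group, and has all its proper subgroups CA-groups, if and only if G is isomorphic to PSL(2, q) where q > 5 is a prime with 16 not dividing q² - 1, or q = 3ᵖ or q = 5ᵖ for an odd prime p. -/
theorem result {G : Type*} [Group G] [Finite G] :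
    (¬ Group.IsSolvable G ∧ ¬ (∀ x : G, x ∉ Subgroup.center G → IsMulCommutative (Subgroup.centralizer ({x} : Set G))) ∧ ∀ H : Subgroup G, H ≠ ⊤ → (∀ x : H, x ∉ Subgroup.center H → IsMulCommutative (Subgroup.centralizer ({x} : Set H)))) ↔
      ∃ (F : Type) (_ : Field F) (_ : Fintype F), Nonempty (G ≃* Matrix.ProjectiveSpecialLinearGroup (Fin 2) F) ∧
        (((Fintype.card F).Prime ∧ 5 < Fintype.card F ∧ ¬ 16 ∣ Fintype.card F ^ 2 - 1) ∨
         (∃ p : ℕ, p.Prime ∧ p ≠ 2 ∧ (Fintype.card F = 3 ^ p ∨ Fintype.card F = 5 ^ p))) := by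
  constructor
  · rintro ⟨hns, hex, hca⟩
    refine CfsgLib.MinNonCA.MNC.exists_psl_card ⟨hns, ?_, fun H hH x hx a ha b hb hax hbx hab k hk => ?_⟩
    · push Not at hex
      obtain ⟨x, hx, hxc⟩ := hex
      refine ⟨x, hx, by_contra fun h => hxc ⟨⟨fun a b => Subtype.ext ?_⟩⟩⟩
      exact CfsgLib.MinNonCA.comm_of_not_nonab h a.2 b.2
    · by_cases hc : (⟨x, hx⟩ : H) ∈ Subgroup.center H
      · exact congrArg Subtype.val (Subgroup.mem_center_iff.1 hc ⟨k, hk⟩)
      · have := hca H hH ⟨x, hx⟩ hc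
        have key := mul_comm'
          (⟨⟨a, ha⟩, Subgroup.mem_centralizer_singleton_iff.2 (Subtype.ext hax)⟩ :
            Subgroup.centralizer ({⟨x, hx⟩} : Set H))
          ⟨⟨b, hb⟩, Subgroup.mem_centralizer_singleton_iff.2 (Subtype.ext hbx)⟩
        have key' := congrArg (fun w : Subgroup.centralizer ({⟨x, hx⟩} : Set H) => ((w : H) : G)) key
        exact absurd key' hab
  · rintro ⟨F, iF, iT, ⟨e⟩, hq⟩
    obtain ⟨hns, ⟨x, hx, a, ha, b, hb, hab⟩, hca⟩ := CfsgLib.MinNonCA.MNC.of_equiv_psl e hq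
    refine ⟨hns, fun h => ?_, fun H hH x hx => ⟨⟨fun a b => Subtype.ext (by_contra fun hab => ?_)⟩⟩⟩
    · have := h x hx
      exact hab (congrArg Subtype.val (mul_comm' (⟨a, ha⟩ : Subgroup.centralizer ({x} : Set G)) ⟨b, hb⟩))
    · refine hx (Subgroup.mem_center_iff.2 fun k => Subtype.ext ?_)
      exact hca H hH x x.2 (a : H) (a : H).2 (b : H) (b : H).2
        (congrArg Subtype.val (Subgroup.mem_centralizer_singleton_iff.1 a.2))
        (congrArg Subtype.val (Subgroup.mem_centralizer_singleton_iff.1 b.2))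
        (fun h => hab (Subtype.ext h)) k k.2

end Cfsg.Agent.S4369
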