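import Cfsg.Statements.S4371
import Cfsg.Agent.Lib.NoThreeOrders.TwoQMain
import Cfsg.Agent.Lib.NoThreeOrders.CITCase

set_option autoImplicit false
open Cfsg CfsgLib.NoThreeOrders

namespace Cfsg.Agent.S4371

/-- Let G be a finite non-solvable group in which no prime divides three pairwise distinct element orders. Then one of the following holds, where 'a product of at most two primes' always counts primes with multiplicity: the quotient of G by its largest normal 2-subgroup is isomorphic to PSL(2, q) with q = 2ᶠ ≥ 4 and each of q + 1, q - 1 a product of at most two primes; G is isomorphic to PSL(2, q) with q > 5, q ≡ 3 or 5 (mod 8) and each of (q + 1)/2, (q - 1)/2 a product of at most two primes; G is isomorphic to PSL(2, 7), PSL(2, 9) or PSL(3, 4); or G is simple of order q²(q² + 1)(q - 1), the order of the Suzuki group Sz(q), where q = 2²ⁿ⁺¹ ≥ 8, and each of q - 1, q - r + 1, q + r + 1 (r = 2ⁿ⁺¹) is a product of at most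 two primes. -/
theorem result {G : Type*} [Group G] [Finite G]
    (hG : ¬ Group.IsSolvable G) (h3 : (∀ p : ℕ, p.Prime → ∀ a b c : G, orderOf a ≠ orderOf b → orderOf b ≠ orderOf c → orderOf a ≠ orderOf c → ¬ (p ∣ orderOf a ∧ p ∣ orderOf b ∧ p ∣ orderOf c))) :
    (∃ (F : Type) (_ : Field F) (_ : Fintype F), CharP F 2 ∧ 4 ≤ Fintype.card F ∧
        (Fintype.card F + 1).primeFactorsList.length ≤ 2 ∧ (Fintype.card F - 1).primeFactorsList.length ≤ 2 ∧
        Nonempty (G ⧸ Cfsg.pCore 2 G ≃* Matrix.ProjectiveSpecialLinearGroup (Fin 2) F)) ∨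
    (∃ (F : Type) (_ : Field F) (_ : Fintype F), 5 < Fintype.card F ∧ (Fintype.card F % 8 = 3 ∨ Fintype.card F % 8 = 5) ∧
        ((Fintype.card F + 1) / 2).primeFactorsList.length ≤ 2 ∧ ((Fintype.card F - 1) / 2).primeFactorsList.length ≤ 2 ∧
        Nonempty (G ≃* Matrix.ProjectiveSpecialLinearGroup (Fin 2) F)) ∨
    (∃ (F : Type) (_ : Field F) (_ : Fintype F), (Fintype.card F = 7 ∨ Fintype.card F = 9) ∧
        Nonempty (G ≃* Matrix.ProjectiveSpecialLinearGroup (Fin 2) F)) ∨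
    (∃ (F : Type) (_ : Field F) (_ : Fintype F), Fintype.card F = 4 ∧ Nonempty (G ≃* Matrix.ProjectiveSpecialLinearGroup (Fin 3) F)) ∨
    (∃ n : ℕ, 1 ≤ n ∧ IsSimpleGroup G ∧ Nat.card G = (2 ^ (2 * n + 1)) ^ 2 * ((2 ^ (2 * n + 1)) ^ 2 + 1) * (2 ^ (2 * n + 1) - 1) ∧
        (2 ^ (2 * n + 1) - 1).primeFactorsList.length ≤ 2 ∧ (2 ^ (2 * n + 1) - 2 ^ (n + 1) + 1).primeFactorsList.length ≤ 2 ∧
        (2 ^ (2 * n + 1) + 2 ^ (n + 1) + 1).primeFactorsList.length ≤ 2) := by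
  have h : NoThree G := h3
  by_cases hex : ∃ r : ℕ, r.Prime ∧ r ≠ 2 ∧ ∃ g : G, orderOf g = 2 * r
  · obtain ⟨r, hr, hr2, g, hg⟩ := hex
    obtain ⟨F, _, _, h5, h8, ⟨e⟩⟩ := (h.twoQ hr hr2 hg).exists_psl hG ⟨g, hg⟩
    obtain ⟨c1, c2⟩ := h.odd_torus e h5.le (Nat.odd_iff.2 (by omega))
    exact Or.inr (Or.inl ⟨F, inferInstance, inferInstance, h5, h8, c1, c2, ⟨e⟩⟩)
  push Not at hex
  rcases h.cit_cases hG (isCIT_of_no_double hex) with
    ⟨F, _, _, hc, h4, ⟨e⟩⟩ | ⟨F, _, _, hF, e⟩ | ⟨F, _, _, hF, e⟩ | hS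
  · have heven : 2 ∣ Fintype.card F := by
      obtain ⟨n, -, hn⟩ := FiniteField.card F 2
      exact hn ▸ dvd_pow_self 2 n.ne_zero
    obtain ⟨c1, c2⟩ := (h.of_surjective (QuotientGroup.mk' (Cfsg.pCore 2 G))
      (QuotientGroup.mk'_surjective _)).even_torus e h4 heven
    exact Or.inl ⟨F, inferInstance, inferInstance, hc, h4, c1, c2, ⟨e⟩⟩
  · exact Or.inr (Or.inr (Or.inl ⟨F, inferInstance, inferInstance, hF, e⟩))
  · exact Or.inr (Or.inr (Or.inr (Or.inl ⟨F, inferInstance, inferInstance, hF, e⟩)))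
  · exact Or.inr (Or.inr (Or.inr (Or.inr (h.suzuki hS))))

end Cfsg.Agent.S4371
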