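import Cfsg.Statements.S4395
import Cfsg.Agent.Lib.Minimal.SchmidtModel

set_option autoImplicit false
universe u
open Cfsg

namespace Cfsg.Agent.S4395

/-- Let p ≠ q be primes, r ≥ 1, a the multiplicative order of p modulo q, and a₀ = a when a is odd, a₀ = 3a/2 when a is even. Call a finite group minimal non-p-nilpotent when it has no normal p-complement but every proper subgroup has one. Then there is a minimal non-p-nilpotent group G₀ of order p^a₀ · q^r such that every minimal non-p-nilpotent group of order p^t · q^r (any t) is a quotient of G₀ by a central subgroup. -/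
theorem result (p q r : ℕ) [Fact p.Prime] [Fact q.Prime] (hpq : p ≠ q) (hr : 1 ≤ r) (a a₀ : ℕ)
    (ha : a = orderOf (p : ZMod q)) (ha₀ : a₀ = if a % 2 = 1 then a else 3 * a / 2) :
    ∃ (G₀ : Type u) (_ : Group G₀) (_ : Finite G₀),
      (¬ Cfsg.HasNormalPComplement p G₀ ∧ ∀ K : Subgroup G₀, K ≠ ⊤ → Cfsg.HasNormalPComplement p ↥K) ∧ Nat.card G₀ = p ^ a₀ * q ^ r ∧
      ∀ (X : Type u) [Group X] [Finite X], (¬ Cfsg.HasNormalPComplement p X ∧ ∀ K : Subgroup X, K ≠ ⊤ → Cfsg.HasNormalPComplement p ↥K) →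
        (∃ t : ℕ, Nat.card X = p ^ t * q ^ r) → ∃ φ : G₀ →* X, Function.Surjective φ ∧ φ.ker ≤ Subgroup.center G₀ := by
  classical
  have hq := (Fact.out : q.Prime)
  have hp := (Fact.out : p.Prime)
  have hapos : 0 < a := ha ▸ CfsgLib.Minimal.SchmidtUniversal.orderOf_cast_pos hpq
  have hpa : ((p : ZMod q)) ^ a = 1 := ha ▸ pow_orderOf_eq_one _
  let F := ULift.{u} (GaloisField p a)
  haveI : Finite F := Finite.of_equiv _ Equiv.ulift.symm
  haveI : CharP F p := ULift.charP _ p
  haveI : Fintype F := Fintype.ofFinite F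
  have hF : Nat.card F = p ^ a := by
    rw [Nat.card_ulift, GaloisField.card p a hapos.ne']
  obtain ⟨lam, hlam⟩ : ∃ lam : Fˣ, orderOf lam = q := by
    refine exists_prime_orderOf_dvd_card' q ?_
    rw [Nat.card_units, hF]
    refine (ZMod.natCast_eq_zero_iff _ _).1 ?_
    rw [Nat.cast_sub (Nat.one_le_pow _ _ hp.pos), Nat.cast_pow, hpa, Nat.cast_one, sub_self]
  have hlord : orderOf (lam : F) = q := by rw [orderOf_units, hlam]
  set l : F := (lam : F) with hl
  have hlq : l ^ q = 1 := hlord ▸ pow_orderOf_eq_one l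
  have hl1 : l ≠ 1 := fun h => hq.ne_one (hlord.symm.trans (orderOf_eq_one_iff.2 h))
  by_cases hev : a % 2 = 1
  · obtain ⟨G₀, i1, i2, h1, h2, h3⟩ := CfsgLib.Minimal.SchmidtModel.exists_universal
      (Z := PUnit.{u+1}) hpq hr ha ha₀ hF (by rw [hF, ha₀, if_pos hev]; simp) hl1 hlq 0
      (fun _ _ => rfl) (eq_top_iff.2 fun z _ => Subsingleton.elim (0 : PUnit.{u+1}) z ▸ zero_mem _)
    exact ⟨G₀, i1, i2, h1, h2, h3⟩
  set k := a / 2 with hk
  have hak : a = k + k := by omega
  let τ : F →+* F := iterateFrobenius F p k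
  have hττ : ∀ x, τ (τ x) = x := fun x => by
    change iterateFrobenius F p k (iterateFrobenius F p k x) = x
    rw [iterateFrobenius_def, iterateFrobenius_def, ← pow_mul, ← pow_add, ← hak, ← hF,
      Nat.card_eq_fintype_card, FiniteField.pow_card]
  have hne1 : ((p : ZMod q)) ^ k ≠ 1 := fun h => by
    have h1 := Nat.le_of_dvd (by omega) (ha ▸ orderOf_dvd_of_pow_eq_one h : a ∣ k)
    omega
  have hneg : ((p : ZMod q)) ^ k = -1 :=
    (mul_self_eq_one_iff.1 (by rw [← pow_add, ← hak, hpa])).resolve_left hne1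
  have hτl : τ l * l = 1 := by
    change iterateFrobenius F p k l * l = 1
    rw [iterateFrobenius_def, ← pow_succ]
    refine orderOf_dvd_iff_pow_eq_one.1 (hlord ▸ (ZMod.natCast_eq_zero_iff _ _).1 ?_)
    rw [Nat.cast_add, Nat.cast_pow, hneg, Nat.cast_one, neg_add_cancel]
  have hω : τ l ≠ l := fun h => hne1 (by
    change iterateFrobenius F p k l = l at h
    rw [iterateFrobenius_def] at h
    nth_rw 2 [← pow_one l] at h
    have hd : l ^ (p ^ k % q) = l ^ (1 % q) := by
      rw [← hlord, pow_mod_orderOf, pow_mod_orderOf]; exact h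
    have hh := pow_injOn_Iio_orderOf (x := l) (by rw [Set.mem_Iio, hlord]; exact Nat.mod_lt _ hq.pos)
      (by rw [Set.mem_Iio, hlord]; exact Nat.mod_lt _ hq.pos) hd
    have h2 := (ZMod.natCast_eq_natCast_iff' (p ^ k) 1 q).2 hh
    rwa [Nat.cast_pow, Nat.cast_one] at h2)
  set F' := τ.eqLocus (RingHom.id F) with hF'
  have hmem : ∀ c, c ∈ F' ↔ τ c = c := fun c => Iff.rfl
  have htr : ∀ x : F, x + τ x ∈ F' := fun x => by rw [hmem, map_add, hττ, add_comm]
  let ψ : F →+ F' :=
    { toFun := fun x => ⟨l * x + τ (l * x), htr _⟩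
      map_zero' := Subtype.ext (by simp)
      map_add' := fun x y => Subtype.ext (by simp [mul_add]; ring) }
  let c : F →+ F →+ F' := AddMonoidHom.mk' (fun x => ψ.comp (AddMonoidHom.mulLeft (τ x)))
    (fun x y => AddMonoidHom.ext fun v => by
      change ψ (τ (x + y) * v) = ψ (τ x * v) + ψ (τ y * v)
      rw [map_add τ, add_mul, map_add ψ])
  have hc : ∀ x y, c x y = ψ (τ x * y) := fun x y => rfl
  have hsub : τ l - l ≠ 0 := sub_ne_zero.2 hω
  obtain ⟨u₀, hu₀⟩ : ∃ u₀ : F, u₀ + τ u₀ ≠ 0 := by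
    by_contra h
    push Not at h
    have h1 : (1 : F) + 1 = 0 := by simpa using h 1
    refine hω ?_
    rw [eq_neg_of_add_eq_zero_right (h l)]
    exact neg_eq_of_add_eq_zero_left (by
      calc l + l = l * (1 + 1) := by ring
        _ = 0 := by rw [h1, mul_zero])
  have hgen : AddSubgroup.closure {z | ∃ x y, c x y - c y x = z} = ⊤ := by
    refine eq_top_iff.2 fun z _ => AddSubgroup.subset_closure ?_
    obtain ⟨z, hz⟩ := z
    set v := u₀ / (u₀ + τ u₀) with hv
    set k0 := z / (l - τ l) with hk0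
    have hτk : τ k0 = -k0 := by
      rw [hk0, map_div₀, map_sub, hττ, (hmem z).1 hz, ← neg_sub l (τ l), div_neg]
    refine ⟨1, k0 * v, Subtype.ext ?_⟩
    change (l * (τ 1 * (k0 * v)) + τ (l * (τ 1 * (k0 * v)))) -
      (l * (τ (k0 * v) * 1) + τ (l * (τ (k0 * v) * 1))) = z
    have hvv : v + τ v = 1 := by
      rw [hv, map_div₀, map_add, hττ, add_comm (τ u₀) u₀, ← add_div, div_self hu₀]
    simp only [map_one, one_mul, mul_one, map_mul, hττ, hτk, map_neg]
    have hz0 : k0 * (l - τ l) = z := div_mul_cancel₀ _ (sub_ne_zero.2 (Ne.symm hω))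
    linear_combination hz0 + (k0 * (l - τ l)) * hvv
  have hcard2 : Nat.card F = Nat.card F' * Nat.card F' := by
    rw [← Nat.card_prod]
    refine (Nat.card_congr (Equiv.ofBijective (fun ab : F' × F' => (ab.1 : F) + ab.2 * l) ⟨?_, ?_⟩)).symm
    · rintro ⟨⟨x, hx⟩, ⟨y, hy⟩⟩ ⟨⟨z, hz⟩, ⟨d, hd⟩⟩ h
      simp only at h
      have h2 := congrArg τ h
      rw [map_add, map_add, map_mul, map_mul, (hmem x).1 hx, (hmem y).1 hy, (hmem z).1 hz,
        (hmem d).1 hd] at h2
      have h3 : (y - d) * (τ l - l) = 0 := by linear_combination h2 - h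
      have hyd : y = d := sub_eq_zero.1 ((mul_eq_zero.1 h3).resolve_right hsub)
      subst hyd
      simp only [add_left_inj] at h
      subst h
      rfl
    · intro x
      set b := (τ x - x) / (τ l - l) with hb
      have hbf : τ b = b := by
        rw [hb, map_div₀, map_sub, map_sub, hττ, hττ, ← neg_sub (τ x) x, ← neg_sub (τ l) l,
          neg_div_neg_eq]
      have hb2 : b * (τ l - l) = τ x - x := div_mul_cancel₀ _ hsub
      refine ⟨(⟨x - b * l, ?_⟩, ⟨b, (hmem b).2 hbf⟩), sub_add_cancel x _⟩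
      rw [hmem, map_sub, map_mul, hbf]
      linear_combination hb2 * (-1 : F)
  have hFZ : Nat.card F * Nat.card F' = p ^ a₀ := by
    have h1 : Nat.card F' = p ^ k := by
      refine (Nat.mul_self_inj.1 ?_).symm
      rw [← hcard2, hF, ← pow_add, ← hak]
    rw [hF, h1, ← pow_add, ha₀, if_neg hev]
    congr 1
    omega
  obtain ⟨G₀, i1, i2, h1, h2, h3⟩ := CfsgLib.Minimal.SchmidtModel.exists_universal
    (Z := F') hpq hr ha ha₀ hF hFZ hl1 hlq c
    (fun x y => by
      rw [hc, hc, map_mul τ]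
      refine congrArg ψ ?_
      linear_combination (τ x * y) * hτl) hgen
  exact ⟨G₀, i1, i2, h1, h2, h3⟩

end Cfsg.Agent.S4395
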