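import Cfsg.Statements.S4419
import Cfsg.Agent.Lib.NormalPComplement.Frobenius
import Cfsg.Agent.Lib.PSolvable.HallHigman
import Cfsg.Agent.Lib.BGAppendix.OmegaSmall
import Cfsg.Agent.Lib.PGroups.Frattini
import Cfsg.Agent.Lib.CoprimeAction.Basic

set_option autoImplicit false
open Cfsg

namespace Cfsg.Agent.S4419

/-- The Frattini quotient of a metacyclic `p`-group has order at most `p ^ 2`. -/
theorem index_frattini_le {Q : Type*} [Group Q] [Finite Q] {p : ℕ} [hp : Fact p.Prime]
    (hQ : IsPGroup p Q) (h : Cfsg.IsMetacyclic Q) : (frattini Q).index ≤ p ^ 2 := by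
  obtain ⟨N, hN, hNc, hQc⟩ := h
  obtain ⟨g, hg⟩ := (Subgroup.isCyclic_iff_exists_zpowers_eq_top N).1 hNc
  obtain ⟨c, hc⟩ := isCyclic_iff_exists_zpowers_eq_top.1 hQc
  obtain ⟨a, rfl⟩ := QuotientGroup.mk'_surjective N c
  have hpow : ∀ (x : Q) (i : ℤ), ((x : Q ⧸ frattini Q)) ^ i = (x : Q ⧸ frattini Q) ^ (i % (p : ℤ)).toNat := by
    intro x i
    have hx : ((x : Q ⧸ frattini Q)) ^ (p : ℤ) = 1 := by
      rw [zpow_natCast, ← QuotientGroup.mk_pow]
      exact (QuotientGroup.eq_one_iff _).2 (CfsgLib.PGroups.pow_mem_frattini hQ x)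
    conv_lhs => rw [show i = i % (p : ℤ) + (p : ℤ) * (i / (p : ℤ)) by rw [Int.emod_def]; ring, zpow_add, zpow_mul, hx, one_zpow, mul_one]
    rw [← zpow_natCast, Int.toNat_of_nonneg (Int.emod_nonneg _ (by exact_mod_cast hp.out.ne_zero))]
  have hsurj : Function.Surjective (fun ij : Fin p × Fin p =>
      (a : Q ⧸ frattini Q) ^ (ij.1 : ℕ) * (g : Q ⧸ frattini Q) ^ (ij.2 : ℕ)) := by
    intro v
    obtain ⟨x, rfl⟩ := QuotientGroup.mk_surjective v
    obtain ⟨i, hi⟩ := Subgroup.mem_zpowers_iff.1 (hc ▸ Subgroup.mem_top (QuotientGroup.mk' N x) :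
      QuotientGroup.mk' N x ∈ Subgroup.zpowers (QuotientGroup.mk' N a))
    rw [← map_zpow] at hi
    have h1 := QuotientGroup.eq.1 hi
    rw [← hg] at h1
    obtain ⟨j, hj⟩ := Subgroup.mem_zpowers_iff.1 h1
    have hlt : ∀ i : ℤ, (i % (p : ℤ)).toNat < p := fun i => by
      have := Int.emod_lt_of_pos i (by exact_mod_cast hp.out.pos : (0 : ℤ) < p)
      have := Int.emod_nonneg i (by exact_mod_cast hp.out.ne_zero : (p : ℤ) ≠ 0)
      omega
    refine ⟨(⟨_, hlt i⟩, ⟨_, hlt j⟩), ?_⟩
    simp only [← hpow, ← QuotientGroup.mk_zpow, ← QuotientGroup.mk_mul]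
    rw [hj, mul_inv_cancel_left]
  calc (frattini Q).index = Nat.card (Q ⧸ frattini Q) := (frattini Q).index_eq_card
    _ ≤ Nat.card (Fin p × Fin p) := Nat.card_le_card_of_surjective _ hsurj
    _ = p ^ 2 := by rw [Nat.card_prod, Nat.card_fin, pow_two]

/-- An element whose `q`-th power centralises a metacyclic `p`-subgroup it normalises centralises it,
for `q` prime to `p (p ^ 2 - 1)`. -/
theorem mem_centralizer_of_prime {G : Type*} [Group G] [Finite G] {p q : ℕ} [hp : Fact p.Prime]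
    (hq : q.Prime) (hqp : ¬ q ∣ p ^ 2 - 1) (hne : q ≠ p) {Q : Subgroup G} (hQ : IsPGroup p Q)
    (hm : Cfsg.IsMetacyclic Q) {h : G} (hN : h ∈ Subgroup.normalizer (Q : Set G))
    (hcop : (orderOf h).Coprime p) (hpow : h ^ q ∈ Subgroup.centralizer (Q : Set G)) :
    h ∈ Subgroup.centralizer (Q : Set G) := by
  haveI : Fact q.Prime := ⟨hq⟩
  let σ : MulAut Q := MulAut.conjNormal (H := Q.subgroupOf (Subgroup.normalizer (Q : Set G)))
    (⟨h, hN⟩ : Subgroup.normalizer (Q : Set G)) |> fun τ =>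
      ((Subgroup.subgroupOfEquivOfLe Subgroup.le_normalizer).symm.trans τ).trans
        (Subgroup.subgroupOfEquivOfLe Subgroup.le_normalizer)
  have hσ : ∀ x : Q, ((σ x : Q) : G) = h * x * h⁻¹ := fun x => rfl
  set Φ := frattini Q
  haveI : Φ.Characteristic := frattini_characteristic
  let τ : MulAut (Q ⧸ Φ) := QuotientGroup.congr Φ Φ σ (Subgroup.characteristic_iff_map_eq.1 ‹_› σ)
  have hτ : ∀ x : Q, τ (x : Q ⧸ Φ) = ((σ x : Q) : Q ⧸ Φ) := fun x => rfl
  have hσq : σ ^ q = 1 := by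
    have key : ∀ (n : ℕ) (x : Q), (((σ ^ n) x : Q) : G) = h ^ n * x * (h ^ n)⁻¹ := by
      intro n
      induction n with
      | zero => intro x; simp
      | succ n ih => intro x; rw [pow_succ', MulAut.mul_apply, hσ, ih, pow_succ']; group
    refine MulEquiv.ext fun x => Subtype.ext ?_
    rw [key, MulAut.one_apply, ← Subgroup.mem_centralizer_iff.1 hpow x x.2, mul_inv_cancel_right]
  have hτq : τ ^ q = 1 := by
    have key : ∀ (n : ℕ) (x : Q), (τ ^ n) (x : Q ⧸ Φ) = (((σ ^ n) x : Q) : Q ⧸ Φ) := by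
      intro n
      induction n with
      | zero => intro x; simp
      | succ n ih => intro x; rw [pow_succ', MulAut.mul_apply, ih, hτ, pow_succ', MulAut.mul_apply]
    refine MulEquiv.ext fun v => QuotientGroup.induction_on v fun x => ?_
    rw [key, hσq]; simp
  let A : Subgroup (MulAut (Q ⧸ Φ)) := Subgroup.zpowers τ
  have hA : IsPGroup q A := by
    rintro ⟨y, hy⟩
    obtain ⟨i, rfl⟩ := Subgroup.mem_zpowers_iff.1 hy
    refine ⟨1, Subtype.ext ?_⟩
    simp only [pow_one, SubmonoidClass.coe_pow, OneMemClass.coe_one]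
    rw [← zpow_natCast, ← zpow_mul, mul_comm, zpow_mul, zpow_natCast, hτq, one_zpow]
  let F : Subgroup (Q ⧸ Φ) :=
    { carrier := {v | τ v = v}
      one_mem' := map_one τ
      mul_mem' := fun {u v} (hu : τ u = u) (hv : τ v = v) => by
        show τ (u * v) = u * v
        rw [map_mul, hu, hv]
      inv_mem' := fun {u} (hu : τ u = u) => by show τ u⁻¹ = u⁻¹; rw [map_inv, hu] }
  have hfix : MulAction.fixedPoints A (Q ⧸ Φ) = (F : Set (Q ⧸ Φ)) := by
    ext v
    refine ⟨fun hv => hv ⟨τ, Subgroup.mem_zpowers τ⟩, fun hv => ?_⟩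
    rintro ⟨y, hy⟩
    show y v = v
    have : Subgroup.zpowers τ ≤ MulAction.stabilizer (MulAut (Q ⧸ Φ)) v := Subgroup.zpowers_le.2 hv
    exact this hy
  have hmod := hA.card_modEq_card_fixedPoints (Q ⧸ Φ)
  rw [hfix] at hmod
  obtain ⟨i, hi⟩ := IsPGroup.iff_card.1 (hQ.to_quotient Φ)
  have hle : p ^ i ≤ p ^ 2 := by rw [← hi, ← Subgroup.index_eq_card]; exact index_frattini_le hQ hm
  have hi2 : i ≤ 2 := (Nat.pow_le_pow_iff_right hp.out.one_lt).1 hle
  obtain ⟨j, hj, hFj⟩ := (Nat.dvd_prime_pow hp.out).1 (hi ▸ F.card_subgroup_dvd_card)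
  have hFtop : F = ⊤ := by
    refine Subgroup.eq_top_of_card_eq F ?_
    rw [hFj, hi]
    by_contra hne'
    have hlt : j < i := lt_of_le_of_ne hj fun h => hne' (by rw [h])
    have h1 : p ^ i ≡ p ^ j [MOD q] := by rw [← hi, ← hFj]; exact hmod
    have h2 : q ∣ p ^ i - p ^ j :=
      (Nat.modEq_iff_dvd' (Nat.pow_le_pow_right hp.out.pos hlt.le)).1 h1.symm
    rw [show i = j + (i - j) by omega, pow_add, ← Nat.mul_sub_one] at h2
    rcases hq.dvd_mul.1 h2 with h3 | h3
    · exact hne ((Nat.prime_dvd_prime_iff_eq hq hp.out).1 (hq.dvd_of_dvd_pow h3))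
    · apply hqp
      rcases (by omega : i - j = 1 ∨ i - j = 2) with e | e <;> rw [e] at h3
      · refine h3.trans ?_
        rw [pow_one, show p ^ 2 - 1 = (p + 1) * (p - 1) by rw [← Nat.sq_sub_sq, one_pow]]
        exact dvd_mul_left _ _
      · exact h3
  have hc : Subgroup.zpowers h ≤ Subgroup.centralizer (Q : Set G) := by
    refine CfsgLib.CoprimeAction.le_centralizer_of_frattini (Subgroup.zpowers_le.2 hN) ?_ ?_
    · obtain ⟨l, hl⟩ := IsPGroup.iff_card.1 (hQ.to_subgroup (frattini Q))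
      rw [Nat.card_zpowers, hl]
      exact hcop.pow_right l
    · intro a ha k hk
      obtain ⟨n, rfl⟩ := (mem_powers_iff_mem_zpowers).2 ha
      have hn : ∀ (n : ℕ) (v : Q), (τ ^ n) (v : Q ⧸ Φ) = (v : Q ⧸ Φ) := by
        intro n v
        have hv : τ (v : Q ⧸ Φ) = v := (hFtop ▸ Subgroup.mem_top _ : (v : Q ⧸ Φ) ∈ F)
        induction n with
        | zero => simp
        | succ n ih => rw [pow_succ, MulAut.mul_apply, hv, ih]
      have key : ∀ (n : ℕ) (x : Q), (τ ^ n) (x : Q ⧸ Φ) = (((σ ^ n) x : Q) : Q ⧸ Φ) := by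
        intro n
        induction n with
        | zero => intro x; simp
        | succ n ih => intro x; rw [pow_succ', MulAut.mul_apply, ih, hτ, pow_succ', MulAut.mul_apply]
      have key2 : ∀ (n : ℕ) (x : Q), (((σ ^ n) x : Q) : G) = h ^ n * x * (h ^ n)⁻¹ := by
        intro n
        induction n with
        | zero => intro x; simp
        | succ n ih => intro x; rw [pow_succ', MulAut.mul_apply, hσ, ih, pow_succ']; group
      have h1 := hn n ⟨k, hk⟩
      rw [key] at h1
      refine ⟨(⟨k, hk⟩ : Q)⁻¹ * (σ ^ n) ⟨k, hk⟩, QuotientGroup.eq.1 h1.symm, ?_⟩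
      simp [key2]
  exact hc (Subgroup.mem_zpowers h)

/-- Let p be a prime and G a finite group whose Sylow p-subgroups are metacyclic (a cyclic normal subgroup with cyclic quotient). Then G has a normal p-complement if and only if the order of G/O_{p′,p}(G) is coprime to p² − 1. -/
theorem result {G : Type*} [Group G] [Finite G] (p : ℕ) [Fact p.Prime] (S : Sylow p G) (hS : Cfsg.IsMetacyclic ↥(S : Subgroup G)) : Cfsg.HasNormalPComplement p G ↔ Nat.Coprime (Nat.card (G ⧸ Cfsg.pPrimePCore p G)) (p ^ 2 - 1) := by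
  classical
  set K := Cfsg.pPrimeCore p G with hK
  set R := Cfsg.pPrimePCore p G with hR
  have hp : p.Prime := Fact.out
  constructor
  · intro h
    have htop : R = ⊤ := by
      refine top_le_iff.1 (CfsgLib.PSolvable.le_pPrimePCore (N := (⊤ : Subgroup G)) ?_)
      exact (CfsgLib.NormalPComplement.hasNormalPComplement_iff_isPGroup_quotient.1 h).to_subgroup _
    rw [htop, ← Subgroup.index_eq_card, Subgroup.index_top]
    exact Nat.coprime_one_left _
  · intro hcop
    haveI : R.Normal := inferInstance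
    refine CfsgLib.NormalPComplement.hasNormalPComplement_of_frobeniusCondition fun Q hQ g hg hg' => ?_
    have hmeta : Cfsg.IsMetacyclic Q := by
      obtain ⟨P, hP⟩ := hQ.exists_le_sylow
      obtain ⟨y, hy⟩ := MulAction.exists_smul_eq G S P
      let e : (S : Subgroup G) ≃* (P : Subgroup G) := by
        refine (Subgroup.equivSMul (MulAut.conj y) (S : Subgroup G)).trans (MulEquiv.subgroupCongr ?_)
        rw [← hy]; rfl
      have hPm : Cfsg.IsMetacyclic ↥((Q.subgroupOf (P : Subgroup G)).map e.symm.toMonoidHom) :=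
        CfsgLib.BGAppendix.isMetacyclic_subgroup hS _
      obtain ⟨N, hN, hNc, hQc⟩ := hPm
      let f : ↥((Q.subgroupOf (P : Subgroup G)).map e.symm.toMonoidHom) ≃* Q :=
        ((Q.subgroupOf (P : Subgroup G)).equivMapOfInjective _ e.symm.injective).symm.trans
          (Subgroup.subgroupOfEquivOfLe hP)
      refine ⟨N.map f.toMonoidHom, hN.map _ f.surjective,
        isCyclic_of_surjective (f.toMonoidHom.subgroupMap N) (MonoidHom.subgroupMap_surjective _ _), ?_⟩
      haveI := hN.map f.toMonoidHom f.surjective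
      exact isCyclic_of_surjective (QuotientGroup.congr N (N.map f.toMonoidHom) f rfl)
        (MulEquiv.surjective _)
    -- induction on an exponent sending `g` into the centralizer
    have step : ∀ n : ℕ, 0 < n → n.Coprime (p * (p ^ 2 - 1)) → ∀ h : G,
        h ∈ Subgroup.normalizer (Q : Set G) → (orderOf h).Coprime p →
        h ^ n ∈ Subgroup.centralizer (Q : Set G) → h ∈ Subgroup.centralizer (Q : Set G) := by
      intro n
      induction n using Nat.strong_induction_on with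
      | _ n ih =>
        intro hn hnc h hh hhp hpow
        by_cases h1 : n = 1
        · rwa [h1, pow_one] at hpow
        set q := n.minFac
        have hq : q.Prime := Nat.minFac_prime h1
        obtain ⟨m, hm⟩ := Nat.minFac_dvd n
        have hqc : q.Coprime (p * (p ^ 2 - 1)) := hnc.coprime_dvd_left (Nat.minFac_dvd n)
        have hm0 : 0 < m := by rcases Nat.eq_zero_or_pos m with rfl | h'; · simp at hm; omega
                               exact h'
        have hmn : m < n := by rw [hm]; exact (Nat.lt_mul_iff_one_lt_left hm0).2 hq.one_lt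
        refine ih m hmn hm0 (hnc.coprime_dvd_left ⟨q, by rw [hm, mul_comm]⟩) h hh hhp ?_
        refine mem_centralizer_of_prime hq ?_ ?_ hQ hmeta (Subgroup.pow_mem _ hh m)
          (hhp.coprime_dvd_left (orderOf_pow_dvd m)) (by rw [← pow_mul, mul_comm, ← hm]; exact hpow)
        · exact fun hd => hq.not_dvd_one (hqc ▸ Nat.dvd_gcd dvd_rfl (hd.trans (dvd_mul_left _ _)))
        · exact fun hd => hq.not_dvd_one (hqc ▸ Nat.dvd_gcd dvd_rfl (hd ▸ dvd_mul_right _ _))
    set m := orderOf (g : G ⧸ R)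
    have hgm : g ^ m ∈ R := (QuotientGroup.eq_one_iff _).1 (by rw [QuotientGroup.mk_pow]; exact pow_orderOf_eq_one _)
    have hgK : g ^ m ∈ K := by
      have h1 : QuotientGroup.mk' K (g ^ m) ∈ Cfsg.pCore p (G ⧸ K) := hgm
      have h2 := CfsgLib.NormalPComplement.map_eq_one_of_coprime_orderOf (CfsgLib.Cores.isPGroup_pCore p (G ⧸ K))
        (MonoidHom.id ↥(Cfsg.pCore p (G ⧸ K))) (g := ⟨_, h1⟩) (by
          rw [Subgroup.orderOf_mk]
          exact hg'.coprime_dvd_left ((orderOf_map_dvd _ _).trans (orderOf_pow_dvd m)))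
      exact (QuotientGroup.eq_one_iff _).1 (congrArg Subtype.val h2)
    have hmc : g ^ m ∈ Subgroup.centralizer (Q : Set G) := by
      refine Subgroup.mem_centralizer_iff.2 fun x hx => ?_
      have hxQ : (g ^ m) * x * (g ^ m)⁻¹ * x⁻¹ ∈ Q :=
        Q.mul_mem ((Subgroup.mem_normalizer_iff.1 (Subgroup.pow_mem _ hg m) x).1 hx) (Q.inv_mem hx)
      have hxK : (g ^ m) * x * (g ^ m)⁻¹ * x⁻¹ ∈ K := by
        rw [show g ^ m * x * (g ^ m)⁻¹ * x⁻¹ = g ^ m * (x * (g ^ m)⁻¹ * x⁻¹) by group]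
        exact K.mul_mem hgK ((inferInstance : K.Normal).conj_mem _ (K.inv_mem hgK) x)
      obtain ⟨a, ha⟩ := IsPGroup.iff_orderOf.1 hQ ⟨_, hxQ⟩
      rw [Subgroup.orderOf_mk] at ha
      have h1 : orderOf (g ^ m * x * (g ^ m)⁻¹ * x⁻¹) = 1 := Nat.eq_one_of_dvd_coprimes
        (((CfsgLib.Cores.card_pPrimeCore_coprime (G := G) p).pow_right a))
        (Subgroup.orderOf_dvd_natCard K hxK) (ha ▸ dvd_rfl)
      rw [orderOf_eq_one_iff, mul_inv_eq_one, mul_inv_eq_iff_eq_mul] at h1
      exact h1.symm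
    refine step m (orderOf_pos _) ?_ g hg hg' hmc
    exact Nat.Coprime.mul_right (hg'.coprime_dvd_left (orderOf_map_dvd (QuotientGroup.mk' R) g))
      (hcop.coprime_dvd_left (orderOf_dvd_natCard (g : G ⧸ R)))

end Cfsg.Agent.S4419
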