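import Cfsg.Statements.S4493
import Cfsg.Agent.Lib.CharDegreesTheory.ItoSolvable

set_option autoImplicit false
open Cfsg

namespace Cfsg.Agent.S4493

/-- Let G be a finite solvable group and p a prime. Then G has a normal abelian Sylow p-subgroup if and only if no irreducible character degree of G is divisible by p. -/
theorem result {G : Type*} [Group G] [Finite G] (hsolv : Group.IsSolvable G) (p : ℕ) (hp : p.Prime) : (∃ P : Subgroup G, P.Normal ∧ (∀ x ∈ P, ∀ y ∈ P, x * y = y * x) ∧ IsPGroup p P ∧ ¬ p ∣ P.index) ↔ ∀ χ : Cfsg.IrrCharacter G, ¬ p ∣ Cfsg.charDegree (χ : G → ℂ) := by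
  have hpf : Fact p.Prime := Fact.mk hp
  constructor
  · rintro ⟨P, hPn, hab, -, hidx⟩ χ hd
    obtain ⟨d, hd1, hd2⟩ :=
      CfsgLib.CharTheory.exists_degree_dvd_index_of_abelian χ.2 P hab
    refine hidx ((hd.trans (dvd_of_eq ?_)).trans hd2)
    rw [CfsgLib.CharDegreesTheory.SmallDegrees.charDegree_one] at hd1
    exact_mod_cast hd1
  · intro h
    obtain ⟨P⟩ : Nonempty (Sylow p G) := inferInstance
    have hn := CfsgLib.CharDegreesTheory.ItoSolvable.sylow_normal _ G rfl hsolv h P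
    refine ⟨P, hn, fun x hx y hy => ?_, P.2, P.not_dvd_index' Subgroup.index_ne_zero_of_finite⟩
    exact congrArg Subtype.val (CfsgLib.CharDegreesTheory.ItoSolvable.comm_of_isPGroup
      (CfsgLib.CharDegreesTheory.ItoSolvable.NoDvd.normalSubgroup h (P : Subgroup G)) P.2 ⟨x, hx⟩ ⟨y, hy⟩)

end Cfsg.Agent.S4493
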