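import Cfsg.Statements.S4573
import Cfsg.Agent.Lib.ZerosCodegree.MonomialWreath
import Cfsg.Agent.Lib.ZerosCodegree.SolvableWreath

set_option autoImplicit false
universe u
open Cfsg

namespace Cfsg.Agent.S4573

/-- Every finite solvable group is isomorphic to a subgroup of a finite M-group, a group each of whose irreducible characters is induced from a homomorphism of some subgroup into ℂˣ. -/
theorem result {G : Type u} [Group G] [Finite G] (hsolv : Group.IsSolvable G) : ∃ (M : Type u) (_ : Group M) (_ : Fintype M), (∀ χ : M → ℂ, Cfsg.IsIrrCharacter M χ → (∃ (H : Subgroup M) (lam : ↥H →* ℂˣ), χ = Cfsg.indFun H (fun h => (lam h : ℂ)))) ∧ ∃ f : G →* M, Function.Injective f := by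
  classical
  haveI := hsolv
  induction hcard : Nat.card G using Nat.strong_induction_on generalizing G with
  | _ n ih =>
    subst hcard
    rcases subsingleton_or_nontrivial G with hG | hG
    · letI := Fintype.ofFinite G
      exact ⟨G, inferInstance, inferInstance,
        fun χ hχ => CfsgLib.CharTheory.exists_ind_of_nilpotent hχ,
        MonoidHom.id G, Function.injective_id⟩
    obtain ⟨N, hN, hp⟩ := CfsgLib.ZerosCodegree.exists_normal_prime_index hsolv
    haveI := hN
    have hlt : Nat.card N < Nat.card G := by
      rw [← N.card_mul_index]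
      exact lt_mul_of_one_lt_right Nat.card_pos hp.one_lt
    have hNs : Group.IsSolvable N := inferInstance
    obtain ⟨M, _, _, hM, f, hf⟩ := ih _ hlt hNs hNs rfl
    have hQ : (Nat.card (G ⧸ N)).Prime := by rwa [← Subgroup.index_eq_card]
    haveI : Fact (Nat.card (G ⧸ N)).Prime := ⟨hQ⟩
    haveI : IsCyclic (G ⧸ N) := isCyclic_of_prime_card rfl
    letI : CommGroup (G ⧸ N) := { (inferInstance : Group (G ⧸ N)) with
      mul_comm := fun a b => (IsCyclic.commutative (α := G ⧸ N)).is_comm.comm a b }
    letI : Fintype (G ⧸ N) := Fintype.ofFinite _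
    letI : Fintype (RegularWreathProduct M (G ⧸ N)) := Fintype.ofFinite _
    exact ⟨RegularWreathProduct M (G ⧸ N), inferInstance, inferInstance,
      CfsgLib.ZerosCodegree.monomial_wreath hM hQ,
      (CfsgLib.ZerosCodegree.mapWreath f).comp (CfsgLib.ZerosCodegree.toWreath N),
      (CfsgLib.ZerosCodegree.mapWreath_injective hf).comp
        (CfsgLib.ZerosCodegree.toWreath_injective N)⟩

end Cfsg.Agent.S4573
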