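import Cfsg.Statements.S4608
import Cfsg.Agent.Lib.SymLocalFive.Defect
import Cfsg.Agent.Lib.SymLocalFive.OrderEight
import Cfsg.Agent.Lib.BrauerPairs.NilpotentRank
import Cfsg.Agent.S4649

set_option autoImplicit false
open Cfsg

namespace Cfsg.Agent.S4608

/-- Let G be a finite group, p a prime, M a maximal ideal of the algebraic integers containing p, and B a p-block of G with defect group D. If B has p-regular rank one and exactly five irreducible characters, then D is cyclic of order 5, or D has order 8 and is non-abelian (dihedral or quaternion). -/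
theorem result {G : Type*} [Group G] [Finite G] (p : ℕ) [Fact p.Prime] (M : Ideal Cfsg.AlgInt) (hM : Cfsg.IsPModular p M) (B : Set (Cfsg.IrrCharacter G)) (hB : Cfsg.IsPBlock M B) (D : Subgroup G) (hD : Cfsg.IsDefectGroup p M B D)
    (hl : Cfsg.blockRank p B = 1) (hk : Nat.card B = 5) :
    (Nat.card D = 5) ∨ (Nat.card D = 8 ∧ ¬ IsMulCommutative D) := by
  classical
  haveI : M.IsPrime := CfsgLib.Blocks.isPrime_of_isPModular hM
  haveI : M.IsMaximal := hM.2.1
  haveI : CharP (CfsgLib.Blocks.Res M) p := CfsgLib.Blocks.charP_res hM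
  haveI : IsAlgClosed (CfsgLib.Blocks.Res M) := CfsgLib.Blocks.isAlgClosed_res
  have hp : p.Prime := Fact.out
  have hpow : Nat.card D = p ^ Cfsg.blockDefect p B := Cfsg.Agent.S0908.result p M hM B hB D hD
  have hprime : ∀ q : ℕ, q.Prime → Nat.card D = q → q = 5 := by
    intro q hq hc
    haveI : Fact q.Prime := ⟨hq⟩
    haveI : IsCyclic D := isCyclic_of_prime_card hc
    have hnil := (Cfsg.Agent.S4649.result p M hM B hB D hD ‹IsCyclic D›).2 hl
    have h := (CfsgLib.BrauerPairs.blockRank_eq_one_of_nilpotent_abelian hM hnil hD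
      fun x hx y hy => congrArg Subtype.val
        (show (⟨x, hx⟩ : D) * ⟨y, hy⟩ = ⟨y, hy⟩ * ⟨x, hx⟩ from IsMulCommutative.is_comm.comm _ _)).2.1
    omega
  rcases CfsgLib.SymLocalFive.card_defect_of_five hM hB hD hl hk with h | h | h | h
  · exact Or.inl h
  · refine Or.inr ⟨h, fun hc => ?_⟩
    obtain rfl : p = 2 := by
      have h2 : 2 ∣ p ^ Cfsg.blockDefect p B := ⟨4, by omega⟩
      exact ((Nat.prime_dvd_prime_iff_eq Nat.prime_two hp).1 (Nat.prime_two.dvd_of_dvd_pow h2)).symm
    obtain ⟨e, hmax⟩ := CfsgLib.BrauerPairs.exists_isMaxPair_of_isDefectIn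
      (CfsgLib.BrauerPairs.isBlockIdem_redElem_blockCoeff (M := M) hB)
      ((CfsgLib.BrauerPairs.isDefectGroup_iff hM hB).1 hD)
    exact CfsgLib.SymLocalFive.false_of_order_eight hM hB hmax
      (fun x hx y hy => congrArg Subtype.val (hc.is_comm.comm ⟨x, hx⟩ ⟨y, hy⟩)) hD h hl hk
  · exact absurd (hprime 11 (by norm_num) h) (by norm_num)
  · exact absurd (hprime 13 (by norm_num) h) (by norm_num)

end Cfsg.Agent.S4608
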