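import Cfsg.Statements.S4613
import Cfsg.Agent.Lib.BrauerPairs.ChamberClassical
import Cfsg.Agent.Lib.BrauerPairs.ChamberExceptional
import Cfsg.Agent.Lib.BrauerPairs.ChamberLinear
import Cfsg.Agent.Lib.BrauerPairs.ChamberSuzuki
import Cfsg.Agent.Lib.Twisted.FixedF4
import Cfsg.Agent.S2363

set_option autoImplicit false
open Cfsg

namespace Cfsg.Agent.S4613

/-- Let G be a finite simple group of Lie type in characteristic p and α an automorphism of G of order prime to p that fixes some Sylow p-subgroup of G elementwise. Then α is the identity. -/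
theorem result {G : Type*} [Group G] [Finite G] [IsSimpleGroup G] (p : ℕ) [Fact p.Prime] (hG : Cfsg.IsLieTypeChar p G) (α : MulAut G) (hα : ¬ p ∣ orderOf α) (U : Sylow p G) (hfix : ∀ x ∈ (U : Subgroup G), α x = x) : α = 1 := by
  have hp : p ∣ Nat.card G := by
    by_contra hnd
    have h := (Cfsg.Agent.S2363.result p Fact.out hG).1
    rw [Nat.factorization_eq_zero_of_not_dvd hnd, mul_zero, pow_zero] at h
    have := (Nat.card_pos (α := G))
    omega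
  refine (?_ : CfsgLib.BrauerPairs.SylowRigid p G) α hα U hfix
  rcases hG with ⟨F, _, _, _, n, -, -, ⟨e⟩⟩ | ⟨F, _, _, _, m, -, -, ⟨e⟩⟩ | ⟨F, _, _, _, n, q, hq, -, -, ⟨e⟩⟩ |
    ⟨F, _, _, _, m, -, hodd, ⟨e⟩⟩ | ⟨F, _, _, _, m, hm, ⟨e⟩⟩ | ⟨F, _, _, _, m, a, b, hm, hab, ⟨e⟩⟩ |
    ⟨F, _, _, _, h⟩ | ⟨K, _, _, _, q, hq, h⟩ | ⟨rfl, h⟩ | ⟨rfl, h⟩ | ⟨rfl, h⟩
  · haveI := e.symm.isSimpleGroup
    exact CfsgLib.BrauerPairs.SylowRigid.of_mulEquiv e.symm
      (CfsgLib.BrauerPairs.sylowRigid_pSL (Nat.card_congr e.toEquiv ▸ hp))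
  · haveI := e.symm.isSimpleGroup
    exact CfsgLib.BrauerPairs.SylowRigid.of_mulEquiv e.symm
      (CfsgLib.BrauerPairs.sylowRigid_pSp (Nat.card_congr e.toEquiv ▸ hp))
  · haveI := e.symm.isSimpleGroup
    exact CfsgLib.BrauerPairs.SylowRigid.of_mulEquiv e.symm
      (CfsgLib.BrauerPairs.sylowRigid_pSU (by rw [Nat.card_eq_fintype_card, hq]) (Nat.card_congr e.toEquiv ▸ hp))
  · haveI := e.symm.isSimpleGroup
    have h2 : (2 : F) ≠ 0 := by
      intro h0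
      obtain ⟨f, hpp, hf⟩ := FiniteField.card F p
      have hp2 : p = 2 := by
        have h1 : ((2 : ℕ) : F) = 0 := by simpa using h0
        exact (Nat.prime_dvd_prime_iff_eq hpp Nat.prime_two).1 ((CharP.cast_eq_zero_iff F p 2).1 h1)
      subst hp2
      rw [hf] at hodd
      exact (Nat.not_even_iff_odd.2 hodd) (Nat.even_pow.2 ⟨even_two, f.2.ne'⟩)
    exact CfsgLib.BrauerPairs.SylowRigid.of_mulEquiv e.symm
      (CfsgLib.BrauerPairs.sylowRigid_pOmega _ (CfsgLib.ClassicalForms.qOdd_apply m)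
        (CfsgLib.Generators.Steinberg.oddData h2) (Nat.card_congr e.toEquiv ▸ hp))
  · haveI := e.symm.isSimpleGroup
    exact CfsgLib.BrauerPairs.SylowRigid.of_mulEquiv e.symm
      (CfsgLib.BrauerPairs.sylowRigid_pOmega _ (CfsgLib.ClassicalForms.qPlus_apply m)
        (CfsgLib.Generators.Steinberg.plusData (Or.inl (by omega))) (Nat.card_congr e.toEquiv ▸ hp))
  · haveI := e.symm.isSimpleGroup
    exact CfsgLib.BrauerPairs.SylowRigid.of_mulEquiv e.symm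
      (CfsgLib.BrauerPairs.sylowRigid_pOmega _ (CfsgLib.ClassicalForms.qMinus_apply (m - 1) a b)
        (CfsgLib.Generators.Steinberg.minusData (hab : CfsgLib.ClassicalForms.Aniso a b))
        (Nat.card_congr e.toEquiv ▸ hp))
  · rcases h with ⟨-, ⟨e⟩⟩ | ⟨⟨e⟩⟩ | ⟨⟨e⟩⟩ | ⟨⟨e⟩⟩ | ⟨⟨e⟩⟩
    · exact CfsgLib.BrauerPairs.sylowRigid_chevalley CfsgLib.Twisted.fullG2 e hp
    · exact CfsgLib.BrauerPairs.sylowRigid_chevalley CfsgLib.Twisted.fullF4 e hp
    · exact CfsgLib.BrauerPairs.sylowRigid_chevalley CfsgLib.Twisted.fullE6 e hp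
    · exact CfsgLib.BrauerPairs.sylowRigid_chevalley (A := CfsgLib.Chevalley.auxE7)
        ⟨⟨CfsgLib.Chevalley.cert_E7, CfsgLib.Chevalley.posE7, by simp⟩, CfsgLib.Chevalley.extraE7⟩ e hp
    · exact CfsgLib.BrauerPairs.sylowRigid_chevalley (A := CfsgLib.Chevalley.auxE8)
        ⟨⟨CfsgLib.Chevalley.cert_E8, CfsgLib.Chevalley.posE8, by simp⟩, CfsgLib.Chevalley.extraE8⟩ e hp
  · rcases h with ⟨hK, ⟨e⟩⟩ | ⟨hK, ⟨e⟩⟩
    · exact CfsgLib.BrauerPairs.sylowRigid_fixed (CfsgLib.Twisted.fixedDataE6 hq hK) e hp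
    · exact CfsgLib.BrauerPairs.sylowRigid_fixed (CfsgLib.Twisted.fixedDataD4 hq hK) e hp
  · exact CfsgLib.BrauerPairs.sylowRigid_isoSuzuki h hp
  · obtain ⟨K, _, _, m, hm, hK, ⟨e⟩⟩ := h
    have : CharP K 2 := CfsgLib.Twisted.charP_f4 hK
    exact CfsgLib.BrauerPairs.sylowRigid_fixed (CfsgLib.Twisted.fixedDataF4 hK) e hp
  · obtain ⟨K, _, _, m, hm, hK, ⟨e⟩⟩ := h
    obtain ⟨q, hq⟩ := CharP.exists K
    obtain ⟨f, hqp, hf⟩ := FiniteField.card K q
    rw [hK] at hf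
    have h3 : (3 : ℕ) = q := (Nat.prime_dvd_prime_iff_eq Nat.prime_three hqp).1
      (Nat.prime_three.dvd_of_dvd_pow (hf ▸ dvd_pow_self 3 (by omega)))
    subst h3
    exact CfsgLib.BrauerPairs.sylowRigid_fixed (CfsgLib.Twisted.fixedDataG2 hK) e hp

end Cfsg.Agent.S4613
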