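import Cfsg.Statements.S4621
import Cfsg.Agent.Lib.BaseCoprime.Marks

set_option autoImplicit false
open Cfsg

namespace Cfsg.Agent.S4621

/-- Let F be a finite field of odd characteristic, V a finite-dimensional vector space over F, and G a finite solvable group acting faithfully and linearly on V with the order of G coprime to the number of vectors of V. Then there are two vectors x, y ∈ V such that the only element of G fixing both x and y is the identity. -/
theorem result {F : Type*} [Field F] [Fintype F] (hF : ringChar F ≠ 2) {V : Type*} [AddCommGroup V] [Module F V] [FiniteDimensional F V] [Finite V]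
    {G : Type*} [Group G] [Finite G] [Group.IsSolvable G] (ρ : Representation F G V) (hfaith : Function.Injective ρ) (hcop : (Nat.card G).Coprime (Nat.card V)) :
    ∃ x y : V, ∀ g : G, ρ g x = x → ρ g y = y → g = 1 := by
  let ψ : G →* AddMonoid.End V :=
    { toFun := fun g => ((ρ g).toAddMonoidHom : AddMonoid.End V)
      map_one' := AddMonoidHom.ext fun v => by
        show ρ 1 v = v
        rw [map_one]; rfl
      map_mul' := fun a b => AddMonoidHom.ext fun v => by
        show ρ (a * b) v = ρ a (ρ b v)
        rw [map_mul]; rfl }
  let φ : G →* (AddMonoid.End V)ˣ := MonoidHom.toHomUnits ψ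
  have : Finite φ.range := Finite.of_surjective _ φ.rangeRestrict_surjective
  have hc : (Nat.card φ.range).Coprime (Nat.card V) := hcop.coprime_dvd_left (Subgroup.card_range_dvd φ)
  rcases subsingleton_or_nontrivial V with hV | hV
  · exact ⟨0, 0, fun g _ _ => hfaith (LinearMap.ext fun v => Subsingleton.elim _ _)⟩
  have hp : (ringChar F).Prime := CharP.char_is_prime F (ringChar F)
  have hexp : ∀ v : V, ringChar F • v = 0 := fun v => by
    rw [← Nat.cast_smul_eq_nsmul F, CharP.cast_eq_zero, zero_smul]
  have hdvd : ringChar F ∣ Nat.card V := by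
    obtain ⟨v, hv⟩ := exists_ne (0 : V)
    have : Fact (ringChar F).Prime := ⟨hp⟩
    rw [← addOrderOf_eq_prime (hexp v) hv]
    exact addOrderOf_dvd_natCard v
  have hcr : CfsgLib.BaseTwo.IsCR φ.range V :=
    CfsgLib.BaseThree.isCR_of_exponent hp (hc.coprime_dvd_right hdvd) hexp
  obtain ⟨x, y, hxy⟩ := CfsgLib.BaseThree.exists_pair_coprime
    (Group.isSolvable_of_surjective φ.rangeRestrict_surjective) hcr hc
  exact ⟨x, y, fun g h1 h2 => hfaith (LinearMap.ext fun v => by
    rw [map_one]; exact hxy ⟨φ g, g, rfl⟩ h1 h2 v)⟩

end Cfsg.Agent.S4621
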