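import Cfsg.Statements.S4691
import Cfsg.Agent.Lib.BrauerPairs.ThirdMain
import Cfsg.Agent.Lib.NormalPComplement.Frobenius
-- import your own Cfsg.Agent.* helpers here

set_option autoImplicit false
open Cfsg

namespace Cfsg.Agent.S4691

open Cfsg CfsgLib.BrauerPairs

/-- Fix a prime p and a maximal ideal M of the algebraic integers containing p. A finite group G has a normal p-complement if and only if its principal p-block is nilpotent. -/
theorem result {G : Type*} [Group G] [Fintype G] (p : ℕ) [Fact p.Prime] (M : Ideal Cfsg.AlgInt) (hM : Cfsg.IsPModular p M) : Cfsg.HasNormalPComplement p G ↔ Cfsg.IsNilpotentBlock p M (Cfsg.principalBlock M G) := by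
  haveI : M.IsPrime := CfsgLib.Blocks.isPrime_of_isPModular hM
  haveI : CharP (CfsgLib.Blocks.Res M) p := CfsgLib.Blocks.charP_res hM
  have hB := isPBlock_principalBlock (G := G) M
  rw [CfsgLib.NormalPComplement.hasNormalPComplement_iff_frobeniusCondition,
    isNilpotentBlock_iff hM]
  constructor
  · refine fun h => ⟨hB, fun Q φ hφ x hx hreg => ?_⟩
    exact h Q hφ.1.1 x (mem_pairStab.1 hx).2.1
      ((Fact.out : p.Prime).coprime_iff_not_dvd.2 hreg).symm
  · rintro ⟨-, hnil⟩ Q hQ g hg hcop
    exact hnil Q _ (pairOf_principal hM hQ) g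
      (mem_pairStab.2 ⟨Subgroup.mem_top g, hg, by rw [conjA_b0, cj_of_mem_normalizer hg]⟩)
      ((Fact.out : p.Prime).coprime_iff_not_dvd.1 hcop.symm)

end Cfsg.Agent.S4691
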