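import Cfsg.Statements.S4646
import Cfsg.Agent.S4691
import Cfsg.Agent.S0939
import Cfsg.Agent.Lib.NormalPComplement.Basic
import Cfsg.Agent.Lib.BrauerCharacters.Consequences
import Cfsg.Agent.Lib.CharTheory.Values
-- import your own Cfsg.Agent.* helpers here

set_option autoImplicit false
open Cfsg

namespace Cfsg.Agent.S4646

open Cfsg

/-- For a finite group G, a prime p and a maximal ideal M of the algebraic integers containing p: the principal block of G is nilpotent if and only if its p-regular rank is 1 (the trivial Brauer character is its only irreducible Brauer character). -/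
theorem result {G : Type*} [Group G] [Finite G] (p : ℕ) [Fact p.Prime] (M : Ideal Cfsg.AlgInt) (hM : Cfsg.IsPModular p M) : Cfsg.IsNilpotentBlock p M (Cfsg.principalBlock M G) ↔ Cfsg.blockRank p (Cfsg.principalBlock M G) = 1 := by
  classical
  haveI : M.IsPrime := CfsgLib.Blocks.isPrime_of_isPModular hM
  haveI := Fintype.ofFinite G
  rw [← Cfsg.Agent.S4691.result p M hM]
  have hB : IsPBlock M (principalBlock M G) := CfsgLib.BrauerPairs.isPBlock_principalBlock M
  have ht : CfsgLib.CharTheory.trivIrr G ∈ principalBlock M G :=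
    CfsgLib.BrauerPairs.trivIrr_mem_principalBlock M
  set t : G → ℂ := pRegularPart p ((CfsgLib.CharTheory.trivIrr G : IrrCharacter G) : G → ℂ) with htdef
  have htval : ∀ g : G, t g = if p ∣ orderOf g then 0 else 1 := fun g => by
    rw [htdef, CfsgLib.BrauerCharacters.pRegularPart_apply]
    rfl
  have ht1 : t 1 = 1 := by simp [htval, (Fact.out : p.Prime).one_lt.ne']
  have ht0 : t ≠ 0 := fun h => by simp [h] at ht1
  constructor
  · intro h
    obtain ⟨k, hk⟩ := IsPGroup.iff_card.1
      (CfsgLib.NormalPComplement.hasNormalPComplement_iff_isPGroup_quotient.1 h)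
    have hval := Cfsg.Agent.S0939.result p M hM ⟨k, hk⟩
    refine le_antisymm ?_ (CfsgLib.BrauerCharacters.blockRank_pos ⟨_, ht⟩)
    refine le_trans (Submodule.finrank_mono (t := ℂ ∙ t) (Submodule.span_le.2 ?_))
      (finrank_span_singleton ht0).le
    rintro _ ⟨χ, hχ, rfl⟩
    refine Submodule.mem_span_singleton.2 ⟨(χ : G → ℂ) 1, funext fun g => ?_⟩
    show (χ : G → ℂ) 1 * t g = pRegularPart p (χ : G → ℂ) g
    rw [htval, CfsgLib.BrauerCharacters.pRegularPart_apply]
    split_ifs with hg
    · rw [mul_zero]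
    · rw [mul_one]
      rw [hval] at hχ
      exact (hχ g (CfsgLib.NormalPComplement.mem_pPrimeCore_of_coprime h
        ((Fact.out : p.Prime).coprime_iff_not_dvd.2 hg).symm)).symm
  · intro h
    have hspan : ∀ χ ∈ principalBlock M G, ∀ g : G, ¬ p ∣ orderOf g →
        (χ : G → ℂ) g = (χ : G → ℂ) 1 := by
      have hle : (ℂ ∙ t) ≤ Submodule.span ℂ
          ((fun χ : IrrCharacter G => pRegularPart p (χ : G → ℂ)) '' principalBlock M G) :=
        (Submodule.span_singleton_le_iff_mem _ _).2 (Submodule.subset_span ⟨_, ht, rfl⟩)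
      have heq := Submodule.eq_of_le_of_finrank_le hle (by
        rw [finrank_span_singleton ht0]; exact h.le)
      intro χ hχ g hg
      obtain ⟨a, ha⟩ := Submodule.mem_span_singleton.1 (heq.ge (Submodule.subset_span ⟨χ, hχ, rfl⟩))
      have h1 := congrFun ha 1
      have h2 := congrFun ha g
      simp only [Pi.smul_apply, smul_eq_mul, ht1, htval g, if_neg hg,
        CfsgLib.BrauerCharacters.pRegularPart_apply, orderOf_one,
        Nat.dvd_one, (Fact.out : p.Prime).one_lt.ne',
        if_false, mul_one] at h1 h2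
      rw [← h2, ← h1]
    let K : Subgroup G :=
      { carrier := {g | ∀ χ ∈ principalBlock M G, ∀ x : G, (χ : G → ℂ) (x * g) = (χ : G → ℂ) x}
        mul_mem' := fun {a b} ha hb χ hχ x => by rw [← mul_assoc, hb χ hχ, ha χ hχ]
        one_mem' := fun χ _ x => by rw [mul_one]
        inv_mem' := fun {a} ha χ hχ x => by rw [← ha χ hχ (x * a⁻¹), inv_mul_cancel_right] }
    have hK : ∀ g : G, (∀ χ ∈ principalBlock M G, (χ : G → ℂ) g = (χ : G → ℂ) 1) → g ∈ K := by
      intro g hg χ hχ x
      obtain ⟨n, ρ, hρ, hρχ⟩ := χ.2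
      have h1 := hg χ hχ
      rw [← hρχ] at h1 ⊢
      rw [Representation.char_one, CfsgLib.CharTheory.character_eq_finrank_iff] at h1
      show LinearMap.trace ℂ _ (ρ (x * g)) = LinearMap.trace ℂ _ (ρ x)
      rw [map_mul, h1]
      rfl
    haveI hKn : K.Normal := ⟨fun g hg c χ hχ x => by
      have hc := CfsgLib.CharTheory.IsIrrCharacter.isClassFunction χ.2
      have h1 := hg χ hχ (c⁻¹ * x * c)
      have h2 := hc (c⁻¹ * x * c * g) c
      have h3 := hc (c⁻¹ * x * c) c
      rw [h1, ← h3] at h2
      simpa [mul_assoc] using h2⟩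
    have hKp : ¬ p ∣ Nat.card K := by
      intro hd
      obtain ⟨u, hu⟩ := exists_prime_orderOf_dvd_card' p hd
      have horth := CfsgLib.BrauerCharacters.weakOrth hM hB 1 (u : G)
        (by simp [(Fact.out : p.Prime).one_lt.ne']) (by rw [Subgroup.orderOf_coe, hu])
      rw [CfsgLib.BrauerCharacters.finsum_mem_eq_sum_blockFinset] at horth
      have hsum : ((∑ χ ∈ CfsgLib.BrauerCharacters.blockFinset (principalBlock M G),
          charDegree (χ : G → ℂ) ^ 2 : ℕ) : ℂ) = 0 := by
        rw [← horth, Nat.cast_sum]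
        refine Finset.sum_congr rfl fun χ hχ => ?_
        have h1 := u.2 χ (CfsgLib.BrauerCharacters.mem_blockFinset.1 hχ) 1
        rw [one_mul] at h1
        rw [h1, Nat.cast_pow, CfsgLib.BlockLocal.coe_charDegree, sq]
        rw [← CfsgLib.BlockLocal.coe_charDegree, Complex.conj_natCast]
      rw [Nat.cast_eq_zero, Finset.sum_eq_zero_iff] at hsum
      exact absurd (hsum _ (CfsgLib.BrauerCharacters.mem_blockFinset.2 ht))
        (pow_ne_zero 2 (CfsgLib.BrauerCharacters.charDegree_spec _).2.1.ne')
    refine CfsgLib.NormalPComplement.hasNormalPComplement_of_forall_mem fun g hg => ?_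
    exact CfsgLib.Cores.le_pPrimeCore_of_not_dvd Fact.out hKp
      (hK g fun χ hχ => hspan χ hχ g
        ((Fact.out : p.Prime).coprime_iff_not_dvd.1 hg.symm))

end Cfsg.Agent.S4646
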