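import Cfsg.Statements.S4776
import Cfsg.Agent.Lib.ZerosCodegree.RelDegreeGraph

set_option autoImplicit false
open Cfsg

set_option linter.style.haveILetI false

namespace Cfsg.Agent.S4776

/-- Let N be a normal subgroup of the finite group G that is not perfect and is contained in the derived subgroup of G. Consider the common-divisor graph on the relative degree set cd(G|N) (the degrees of the irreducible complex characters of G whose kernel does not contain N; two distinct degrees adjacent when they have a common divisor greater than one). Then this graph has at most two connected components; and if a, b ∈ cd(G|N) lie in different components, then one of a, b is coprime to the index m of the derived subgroup of N in N while the other is divisible by every prime divisor of m. -/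
theorem result {G : Type*} [Group G] [Finite G] (N : Subgroup G) [N.Normal] (hN : ⁅N, N⁆ < N) (hNG : N ≤ commutator G) : Nat.card (Cfsg.commonDivisorGraph.induce (Cfsg.relCharDegrees N)).ConnectedComponent ≤ 2 ∧ ∀ (a b : ℕ) (ha : a ∈ Cfsg.relCharDegrees N) (hb : b ∈ Cfsg.relCharDegrees N), ¬ (Cfsg.commonDivisorGraph.induce (Cfsg.relCharDegrees N)).Reachable ⟨a, ha⟩ ⟨b, hb⟩ → (Nat.Coprime a (⁅N, N⁆.relIndex N) ∧ ∀ r : ℕ, r.Prime → r ∣ ⁅N, N⁆.relIndex N → r ∣ b) ∨ (Nat.Coprime b (⁅N, N⁆.relIndex N) ∧ ∀ r : ℕ, r.Prime → r ∣ ⁅N, N⁆.relIndex N → r ∣ a) := by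
  classical
  haveI : Fintype G := Fintype.ofFinite G
  haveI : Fintype N := Fintype.ofFinite N
  have hm : ⁅N, N⁆.relIndex N ≠ 1 := fun h => hN.not_ge (Subgroup.relIndex_eq_one.1 h)
  obtain ⟨q, hq, hqm⟩ := Nat.exists_prime_and_dvd hm
  let P : ℕ → Prop := fun a => ∀ r : ℕ, r.Prime → r ∣ ⁅N, N⁆.relIndex N → r ∣ a
  have hboth : ∀ {a b : ℕ} (ha : a ∈ Cfsg.relCharDegrees N) (hb : b ∈ Cfsg.relCharDegrees N),
      (P a ↔ P b) → (Cfsg.commonDivisorGraph.induce (Cfsg.relCharDegrees N)).Reachable
        ⟨a, ha⟩ ⟨b, hb⟩ := by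
    intro a b ha hb hiff
    by_cases hPa : P a
    · obtain ⟨_, _, h⟩ := CfsgLib.ZerosCodegree.RelGraph.con_of_common N ha hb hq.ne_one
        (hPa q hq hqm) (hiff.1 hPa q hq hqm)
      exact h
    · have hPb : ¬ P b := fun h => hPa (hiff.2 h)
      simp only [P, not_forall] at hPa hPb
      obtain ⟨r, hr, hrm, hra⟩ := hPa
      obtain ⟨s, hs, hsm, hsb⟩ := hPb
      obtain ⟨_, _, h⟩ := CfsgLib.ZerosCodegree.RelGraph.con_of_not_dvd N hNG hr hs hrm hsm ha hb
        hra hsb
      exact h
  constructor
  · let f : (Cfsg.commonDivisorGraph.induce (Cfsg.relCharDegrees N)).ConnectedComponent → Bool :=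
      fun c => decide (P c.exists_rep.choose.1)
    have hf : Function.Injective f := fun c d h => by
      rw [← c.exists_rep.choose_spec, ← d.exists_rep.choose_spec]
      refine SimpleGraph.ConnectedComponent.sound (hboth _ _ ?_)
      exact decide_eq_decide.1 h
    exact (Nat.card_le_card_of_injective f hf).trans (by simp)
  · intro a b ha hb hnr
    have hab : ¬ (P a ↔ P b) := fun h => hnr (hboth ha hb h)
    have hcop : ∀ {x y : ℕ} (hx : x ∈ Cfsg.relCharDegrees N) (hy : y ∈ Cfsg.relCharDegrees N),
        ¬ (Cfsg.commonDivisorGraph.induce (Cfsg.relCharDegrees N)).Reachable ⟨x, hx⟩ ⟨y, hy⟩ →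
          P y → Nat.Coprime x (⁅N, N⁆.relIndex N) := by
      intro x y hx hy hr hy'
      refine Nat.coprime_of_dvd' fun r hr' hrx hrm => ?_
      obtain ⟨_, _, h⟩ := CfsgLib.ZerosCodegree.RelGraph.con_of_common N hx hy hr'.ne_one hrx
        (hy' r hr' hrm)
      exact absurd h hr
    by_cases hPa : P a
    · exact Or.inr ⟨hcop hb ha (fun h => hnr h.symm) hPa, hPa⟩
    · have hPb : P b := by_contra fun h => hab ⟨fun h' => absurd h' hPa, fun h' => absurd h' h⟩
      exact Or.inl ⟨hcop ha hb hnr hPb, hPb⟩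

end Cfsg.Agent.S4776
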