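import Cfsg.Statements.S4779
import Cfsg.Agent.Lib.ZerosCodegree.RelDegreeDistance

set_option autoImplicit false
open Cfsg

set_option linter.style.haveILetI false

namespace Cfsg.Agent.S4779

/-- Let N be a solvable normal subgroup of the finite group G contained in the derived subgroup of G, and consider the common-divisor graph on the relative degree set cd(G|N) (degrees of irreducible complex characters of G whose kernel does not contain N, two distinct degrees adjacent when not coprime). If this graph has two vertices that are not joined by any path, then there is a vertex a₀ such that any two distinct vertices in the component of a₀ are adjacent, and any two distinct vertices outside that component are adjacent or have a common neighbour (one component is complete, the other has diameter at most 2). -/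
theorem result {G : Type*} [Group G] [Finite G] (N : Subgroup G) [N.Normal] [Group.IsSolvable N] (hNG : N ≤ commutator G) (hdisc : ¬ (Cfsg.commonDivisorGraph.induce (Cfsg.relCharDegrees N)).Preconnected) : ∃ a₀ : ↥(Cfsg.relCharDegrees N), (∀ b c : ↥(Cfsg.relCharDegrees N), (Cfsg.commonDivisorGraph.induce (Cfsg.relCharDegrees N)).Reachable a₀ b → (Cfsg.commonDivisorGraph.induce (Cfsg.relCharDegrees N)).Reachable a₀ c → b ≠ c → (Cfsg.commonDivisorGraph.induce (Cfsg.relCharDegrees N)).Adj b c) ∧ (∀ b c : ↥(Cfsg.relCharDegrees N), ¬ (Cfsg.commonDivisorGraph.induce (Cfsg.relCharDegrees N)).Reachable a₀ b → ¬ (Cfsg.commonDivisorGraph.induce (Cfsg.relCharDegrees N)).Reachable a₀ c → b ≠ c → (Cfsg.commonDivisorGraph.induce (Cfsg.relCharDegrees N)).Adj b c ∨ ∃ d : ↥(Cfsg.relCharDegrees N), (Cfsg.commonDivisorGraph.induce (Cfsg.relCharDegrees N)).Adj b d ∧ (Cfsg.commonDivisorGraph.induce (Cfsg.relCharDegrees N)).Adj d c) := by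
  classical
  haveI : Fintype G := Fintype.ofFinite G
  haveI : Fintype N := Fintype.ofFinite N
  have hS : Group.IsSolvable N := inferInstance
  obtain ⟨u, v, huv⟩ : ∃ u v : ↥(Cfsg.relCharDegrees N),
      ¬ (Cfsg.commonDivisorGraph.induce (Cfsg.relCharDegrees N)).Reachable u v := by
    simpa [SimpleGraph.Preconnected] using hdisc
  have hcon : ¬ CfsgLib.ZerosCodegree.RelGraph.Con N u v := fun ⟨_, _, h⟩ => huv h
  have hN : N ≠ ⊥ := fun h => by
    have hu := u.2
    subst h
    exact (Set.eq_empty_iff_forall_notMem.1 CfsgLib.ZerosCodegree.RelGraph.rel_bot) _ hu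
  obtain ⟨q, hq, hqm⟩ := CfsgLib.ZerosCodegree.RelGraph.exists_prime_index hS hN
  obtain ⟨a₀, hA₀⟩ : ∃ a₀ : ↥(Cfsg.relCharDegrees N),
      CfsgLib.ZerosCodegree.RelGraph.AllPrimes N a₀ := by
    by_contra h
    push Not at h
    exact hcon (CfsgLib.ZerosCodegree.RelGraph.con_of_status hNG hq hqm u.2 v.2
      (iff_of_false (h u) (h v)))
  have hA : ∀ b : ↥(Cfsg.relCharDegrees N),
      (Cfsg.commonDivisorGraph.induce (Cfsg.relCharDegrees N)).Reachable a₀ b →
      CfsgLib.ZerosCodegree.RelGraph.AllPrimes N b := by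
    intro b hab
    by_contra hb
    have key : ∀ z : ↥(Cfsg.relCharDegrees N),
        CfsgLib.ZerosCodegree.RelGraph.Con N z a₀ := fun z => by
      by_cases hz : CfsgLib.ZerosCodegree.RelGraph.AllPrimes N z
      · exact CfsgLib.ZerosCodegree.RelGraph.con_of_status hNG hq hqm z.2 a₀.2 (iff_of_true hz hA₀)
      · exact (CfsgLib.ZerosCodegree.RelGraph.con_of_status hNG hq hqm z.2 b.2
          (iff_of_false hz hb)).trans N ⟨b.2, a₀.2, hab.symm⟩
    exact hcon ((key u).trans N ((key v).symm N))
  refine ⟨a₀, fun b c hb hc hbc => ?_, fun b c hb hc hbc => ?_⟩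
  · exact CfsgLib.ZerosCodegree.RelGraph.adj_of_step b.2 c.2 ⟨b.2, c.2, Or.inr
      ⟨q, hq.ne_one, hA b hb q hq hqm, hA c hc q hq hqm⟩⟩ fun h => hbc (Subtype.ext h)
  · have hnot : ∀ z : ↥(Cfsg.relCharDegrees N),
        ¬ (Cfsg.commonDivisorGraph.induce (Cfsg.relCharDegrees N)).Reachable a₀ z →
        ¬ CfsgLib.ZerosCodegree.RelGraph.AllPrimes N z := fun z hz h =>
      hz (CfsgLib.ZerosCodegree.RelGraph.con_of_status hNG hq hqm a₀.2 z.2
        (iff_of_true hA₀ h)).2.2
    obtain ⟨d, ⟨d', hd', h1⟩, h2⟩ := CfsgLib.ZerosCodegree.RelGraph.within_two_of_disconnected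
      (Nat.card N) N rfl hS hNG ⟨u, v, u.2, v.2, hcon⟩
      (CfsgLib.ZerosCodegree.RelGraph.con_of_status hNG hq hqm b.2 c.2
        (iff_of_false (hnot b hb) (hnot c hc)))
    obtain ⟨-, rfl⟩ := hd'
    by_cases hbd : (b : ℕ) = d
    · subst hbd
      exact Or.inl (CfsgLib.ZerosCodegree.RelGraph.adj_of_step b.2 c.2 h2
        fun h => hbc (Subtype.ext h))
    by_cases hdc : d = (c : ℕ)
    · subst hdc
      exact Or.inl (CfsgLib.ZerosCodegree.RelGraph.adj_of_step b.2 c.2 h1
        fun h => hbc (Subtype.ext h))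
    exact Or.inr ⟨⟨d, h2.1⟩, CfsgLib.ZerosCodegree.RelGraph.adj_of_step b.2 h2.1 h1 hbd,
      CfsgLib.ZerosCodegree.RelGraph.adj_of_step h2.1 c.2 h2 hdc⟩

end Cfsg.Agent.S4779
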