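import Cfsg.Statements.S4903
import Cfsg.Agent.Lib.OrderDegrees.LinearClassify
-- import your own Cfsg.Agent.* helpers here

set_option autoImplicit false
open Cfsg

namespace Cfsg.Agent.S4903

/-- Let G be a finite group with a faithful irreducible complex character of degree 16, p a prime with p ≥ 19, and P a Sylow p-subgroup of G. Then P is normal in G, or p = 31 and the quotient of G by its centre is isomorphic to PSL(2,31). -/
theorem result {G : Type*} [Group G] [Finite G] (χ : Cfsg.IrrCharacter G) (hdeg : Cfsg.charDegree (χ : G → ℂ) = 16) (hfaith : ∀ g : G, (χ : G → ℂ) g = (χ : G → ℂ) 1 → g = 1) (p : ℕ) [Fact p.Prime] (hp : 19 ≤ p) (P : Sylow p G) : (P : Subgroup G).Normal ∨ (p = 31 ∧ Nonempty (G ⧸ Subgroup.center G ≃* Matrix.ProjectiveSpecialLinearGroup (Fin 2) (ZMod 31))) := by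
  by_cases hP : (P : Subgroup G).Normal
  · exact Or.inl hP
  have hpp : p.Prime := Fact.out
  rcases CfsgLib.OrderDegrees.Linear.classify hdeg hfaith (by omega) (by omega) hP with
    ⟨h, h32⟩ | ⟨h18, -⟩ | ⟨e, t, he, ht, he3, het, hne⟩
  · have h31 : p = 31 := by
      rcases h32 with h' | h'
      · omega
      · exfalso
        have h33 : p = 33 := by omega
        rw [h33] at hpp
        norm_num at hpp
    subst h31
    exact Or.inr ⟨rfl, h⟩
  · exfalso
    rw [show p = 18 by omega] at hpp
    norm_num at hpp
  · exfalso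
    have h1 : e * (e + 3) ≤ e * t := Nat.mul_le_mul_left e het
    have h2 : 3 * e ≤ e * e := Nat.mul_le_mul_right e he3
    rw [Nat.mul_add] at h1
    exact hne ⟨rfl, by omega⟩

end Cfsg.Agent.S4903
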