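import Cfsg.Statements.S4904
import Cfsg.Agent.Lib.OrderDegrees.LinearTwentySeven
-- import your own Cfsg.Agent.* helpers here

set_option autoImplicit false
open Cfsg

namespace Cfsg.Agent.S4904

/-- Let G be a finite group with a faithful irreducible complex character of degree d < 27, and p a prime with p > d + 1 and P a Sylow p-subgroup of G. Then one of the following holds: P is normal in G; the quotient of G by its centre is isomorphic to PSL(2,p) and 2d = p + 1 or 2d = p − 1; p = 17, d = 15 and G is isomorphic to the direct product of SL(2,16) with an abelian group; p = 7, d = 4 and G modulo its centre is the alternating group of degree 7; p = 5, d = 3 and G modulo its centre is the alternating group of degree 6. -/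
theorem result {G : Type*} [Group G] [Finite G] (d : ℕ) (hd : d < 27) (χ : Cfsg.IrrCharacter G) (hdeg : Cfsg.charDegree (χ : G → ℂ) = d) (hfaith : ∀ g : G, (χ : G → ℂ) g = (χ : G → ℂ) 1 → g = 1) (p : ℕ) [Fact p.Prime] (hp : d + 1 < p) (P : Sylow p G) : (P : Subgroup G).Normal ∨ (Nonempty (G ⧸ Subgroup.center G ≃* Matrix.ProjectiveSpecialLinearGroup (Fin 2) (ZMod p)) ∧ (2 * d = p + 1 ∨ 2 * d = p - 1)) ∨ (p = 17 ∧ d = 15 ∧ ∃ (A : Type) (_ : CommGroup A) (_ : Finite A), Nonempty (G ≃* Matrix.SpecialLinearGroup (Fin 2) (GaloisField 2 4) × A)) ∨ (p = 7 ∧ d = 4 ∧ Nonempty (G ⧸ Subgroup.center G ≃* ↥(alternatingGroup (Fin 7)))) ∨ (p = 5 ∧ d = 3 ∧ Nonempty (G ⧸ Subgroup.center G ≃* ↥(alternatingGroup (Fin 6)))) := by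
  by_cases hP : (P : Subgroup G).Normal
  · exact Or.inl hP
  right
  have hpp : p.Prime := Fact.out
  obtain ⟨n, ρ, hirr, hχ⟩ := χ.2
  haveI := hirr
  have hn : Module.finrank ℂ (Fin n → ℂ) = d := by
    rw [← hdeg, ← hχ, Cfsg.charDegree, ρ.char_one, Complex.natCast_re, Nat.floor_natCast]
  have hρ : Function.Injective ρ := fun a b hab => by
    refine eq_of_mul_inv_eq_one (hfaith _ ?_)
    rw [← hχ, Representation.character, Representation.character, map_mul, hab, ← map_mul,
      mul_inv_cancel]
  have hnc : ¬ CfsgLib.OrderDegrees.Linear.PComm p ρ := fun h =>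
    hP (CfsgLib.OrderDegrees.Linear.sylow_normal_of_commute
      (fun x y hx hy => h.commute hρ hx hy) P)
  have hsmall := CfsgLib.OrderDegrees.Linear.small (by omega) hnc
  have hd2 : 2 ≤ d := by
    by_contra h
    exact hnc (CfsgLib.OrderDegrees.Linear.pComm_of_finrank_le_one (by omega))
  have hp4 : p ≠ 4 := fun h => by rw [h] at hpp; norm_num at hpp
  have hp6 : p ≠ 6 := fun h => by rw [h] at hpp; norm_num at hpp
  have hcases : p = 5 ∨ (7 ≤ p ∧ d + 2 = p) ∨ (p = 7 ∧ (d = 3 ∨ d = 4)) ∨ (7 < p ∧ d + 2 ≠ p) := by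
    omega
  rcases hcases with h5 | ⟨h7, hdp⟩ | ⟨h7, hd'⟩ | ⟨h7, hdp⟩
  · rcases CfsgLib.OrderDegrees.Linear.five_cases hdeg hfaith h5 (by omega) hP with h | ⟨h, h'⟩
    · exact Or.inl h
    · exact Or.inr (Or.inr (Or.inr ⟨h5, h, h'⟩))
  · exact Or.inr (Or.inl (CfsgLib.OrderDegrees.Linear.sub_two_cases hdeg hfaith hd hdp h7 hP))
  · rcases CfsgLib.OrderDegrees.Linear.seven_cases hdeg hfaith h7 hd' hP with h | ⟨h, h'⟩
    · exact Or.inl h
    · exact Or.inr (Or.inr (Or.inl ⟨h7, h, h'⟩))
  · rcases CfsgLib.OrderDegrees.Linear.classify hdeg hfaith hp h7 hP with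
      h | ⟨h, -⟩ | ⟨e, t, he, ht, he3, het, hne⟩
    · exact Or.inl h
    · exact absurd h hdp
    · exfalso
      have h1 : e * (e + 3) ≤ e * t := Nat.mul_le_mul_left e het
      have he4 : e ≤ 4 := by
        by_contra hcon
        have h2 : e * 5 ≤ e * e := Nat.mul_le_mul_left e (by omega)
        rw [Nat.mul_add] at h1
        omega
      have ht9 : t ≤ 9 := by
        have h3 : 3 * t ≤ e * t := Nat.mul_le_mul_right t he3
        omega
      interval_cases e <;> interval_cases t <;> norm_num at ht <;> subst ht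
      all_goals
        first
          | omega
          | exact hne ⟨by omega, rfl⟩
          | exact CfsgLib.OrderDegrees.Linear.false_of_twentyNine hdeg hfaith rfl (by omega) hP
          | exact absurd hpp (by decide)

end Cfsg.Agent.S4904
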