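import Cfsg.Statements.S4997
import Cfsg.Agent.Lib.Correspondences.VanishingOrders
open CfsgLib.Correspondences

set_option linter.style.haveILetI false

set_option autoImplicit false
open Cfsg

namespace Cfsg.Agent.S4997

/-- Let p be an odd prime and G a finite solvable group with exactly one conjugacy class consisting of vanishing elements (elements at which some irreducible complex character is zero) of order divisible by p. Let P be a Sylow p-subgroup of G. Then the order of P is at most p times the order of the largest normal p-subgroup of G. -/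
theorem result {G : Type*} [Group G] [Finite G] (hsolv : Group.IsSolvable G) (p : ℕ) [Fact p.Prime] (hp : p ≠ 2) (h1 : Set.ncard {C : ConjClasses G | (∀ g ∈ C.carrier, ∃ χ : Cfsg.IrrCharacter G, (χ : G → ℂ) g = 0) ∧ ∃ g ∈ C.carrier, p ∣ orderOf g} = 1) (P : Sylow p G) : Nat.card ↥(P : Subgroup G) ≤ p * Nat.card ↥(Cfsg.pCore p G) := by
  classical
  haveI := hsolv
  haveI := CfsgLib.Cores.pCore_characteristic p G
  obtain ⟨C, hC⟩ := Set.ncard_eq_one.1 h1
  obtain ⟨c, rfl⟩ := ConjClasses.exists_rep C
  have hkey := sq_not_dvd_card_quotient_pCore (G := G) (p := p) (b := orderOf c) fun g hg hv => by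
    have hmem : ConjClasses.mk g ∈ ({ConjClasses.mk c} : Set (ConjClasses G)) := by
      rw [← hC]
      refine ⟨fun g' hg' => ?_, g, ConjClasses.mem_carrier_mk, hg⟩
      obtain ⟨χ, hχ⟩ := hv
      refine ⟨χ, ?_⟩
      rw [CfsgLib.CharTheory.irr_apply_eq_of_isConj
        (ConjClasses.mk_eq_mk_iff_isConj.1 (ConjClasses.mem_carrier_iff_mk_eq.1 hg')) χ]
      exact hχ
    obtain ⟨z, hz⟩ := isConj_iff.1 (ConjClasses.mk_eq_mk_iff_isConj.1 (Set.mem_singleton_iff.1 hmem))
    rw [← hz]
    exact (MulEquiv.orderOf_eq (MulAut.conj z) g).symm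
  have hO := CfsgLib.Cores.isPGroup_pCore p G
  obtain ⟨n, hn⟩ := IsPGroup.iff_card.1 hO
  have hle : (Nat.card (G ⧸ Cfsg.pCore p G)).factorization p ≤ 1 := by
    by_contra hlt
    exact hkey ((pow_dvd_pow p (by omega)).trans (Nat.ordProj_dvd _ _))
  have hp' : p.Prime := Fact.out
  rw [P.card_eq_multiplicity, Subgroup.card_eq_card_quotient_mul_card_subgroup (Cfsg.pCore p G),
    Nat.factorization_mul Nat.card_pos.ne' Nat.card_pos.ne', Finsupp.coe_add, Pi.add_apply, pow_add, hn,
    hp'.factorization_pow, Finsupp.single_eq_same]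
  exact Nat.mul_le_mul_right _ ((Nat.pow_le_pow_right hp'.pos hle).trans (pow_one p).le)

end Cfsg.Agent.S4997
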