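import Cfsg.Statements.S5099
import Cfsg.Agent.Lib.FusionBasics.KSaturated

set_option autoImplicit false
open Cfsg

namespace Cfsg.Agent.S5099

/-- If F is a saturated fusion system over a finite p-group S and Q is fully centralized in F, then the centralizer system C_F(Q) is a saturated fusion system over C_S(Q). -/
theorem result {Ω : Type*} [Group Ω] {S : Subgroup Ω} [Finite S] (p : ℕ) [Fact p.Prime] (hS : IsPGroup p S) (F : Cfsg.FusionSystem S) (hF : F.IsSaturated p) (Q : Subgroup Ω) (hQ : F.IsFullyCentralized Q) (E : Cfsg.FusionSystem (Cfsg.FusionSystem.centralizerIn S Q)) (hE : F.IsCentralizerSystem Q E) : E.IsSaturated p := by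
  refine CfsgLib.FusionBasics.kSystem_saturated hS hF (K := ⊥)
    (CfsgLib.Alperin.receptive_of_fullyCentralized hS hF hQ) ?_ ?_ E
    fun P => (hE P).trans (CfsgLib.FusionBasics.kHom_bot F Q P).symm
  · rw [inf_bot_eq, inf_bot_eq, Subgroup.card_bot, Nat.factorization_one]
    simp
  · ext g
    constructor
    · rintro hg
      refine ⟨hg.1, 1, Subgroup.one_mem _, fun x => ?_⟩
      rw [MulAut.one_apply, ← hg.2 x x.2, mul_inv_cancel_right]
    · rintro ⟨hg, β, hβ, hx⟩
      refine ⟨hg, fun x hxQ => ?_⟩
      have h := hx ⟨x, hxQ⟩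
      rw [Subgroup.mem_bot.mp hβ, MulAut.one_apply] at h
      exact (mul_inv_eq_iff_eq_mul.mp h.symm).symm

end Cfsg.Agent.S5099
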