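import Cfsg.Statements.S5127
import Cfsg.Agent.Lib.FusionBasics.Central.CentralizerE

set_option autoImplicit false
open Cfsg

namespace Cfsg.Agent.S5127

/-- Let F be a saturated fusion system over a finite p-group S and E a normal subsystem of F over T. Among the subgroups Y of C_S(T) whose centralizer system C_F(Y) contains E there is a largest one, C_S(E), and it is strongly closed in F. -/
theorem result {Ω : Type*} [Group Ω] {S : Subgroup Ω} [Finite S] (p : ℕ) [Fact p.Prime] (hS : IsPGroup p S) (F : Cfsg.FusionSystem S) (hF : F.IsSaturated p) {T : Subgroup Ω} (E : Cfsg.FusionSystem T) (hE : E.IsNormalIn F p) : ∃ C : Subgroup Ω, C ≤ Cfsg.FusionSystem.centralizerIn S T ∧ (∀ P : Subgroup Ω, E.Hom P ⊆ F.centralizerHom C P) ∧ (∀ Y : Subgroup Ω, Y ≤ Cfsg.FusionSystem.centralizerIn S T → (∀ P : Subgroup Ω, E.Hom P ⊆ F.centralizerHom Y P) → Y ≤ C) ∧ F.StronglyClosed C := by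
  have hT := hE.1.2.2.2.1
  haveI := CfsgLib.Alperin.finite_of_le hT.1
  set W := CfsgLib.FusionBasics.Central.fixedElts F E
  set Y₀ := Subgroup.closure W
  have hle : Y₀ ≤ Cfsg.FusionSystem.centralizerIn S T :=
    (Subgroup.closure_le _).mpr fun y hy => hy.1
  have hfix : ∀ (P : Subgroup Ω) (φ : P →* Ω), φ ∈ E.Hom P →
      CfsgLib.Alperin.NormalLift.FixY F Y₀ P φ := fun P φ hφ =>
    CfsgLib.FusionBasics.Central.fixY_closure_fixedElts hS hE hφ
  have hmax : ∀ y ∈ Y₀, y ∈ W := fun y hy => ⟨hle hy, fun P φ hφ => by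
    obtain ⟨ψ, hψ, hx, hz⟩ := hfix P φ hφ
    exact ⟨_, CfsgLib.Alperin.restrict_mem hψ (sup_le_sup_left (Subgroup.zpowers_le.mpr hy) P),
      fun x => hx x, fun z => hz ⟨z, Subgroup.zpowers_le.mpr hy z.2⟩⟩⟩
  refine ⟨Y₀, hle, fun P φ hφ => ?_, fun Y hY h y hy => ?_, ?_⟩
  · have hT' : T ≤ Cfsg.FusionSystem.centralizerIn S Y₀ := fun t ht =>
      ⟨hT.1 ht, fun z hz => ((hle hz).2 t ht).symm⟩
    exact ⟨hE.1.2.2.1 P hφ, (CfsgLib.Alperin.dom_le hφ).trans hT',
      fun x => hT' (CfsgLib.Alperin.apply_mem hφ x), hfix P φ hφ⟩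
  · refine Subgroup.subset_closure ⟨hY hy, fun P φ hφ => ?_⟩
    obtain ⟨-, -, -, ψ, hψ, hx, hz⟩ := h P hφ
    exact ⟨_, CfsgLib.Alperin.restrict_mem hψ (sup_le_sup_left (Subgroup.zpowers_le.mpr hy) P),
      fun x => hx x, fun z => hz ⟨z, Subgroup.zpowers_le.mpr hy z.2⟩⟩
  · exact ⟨hle.trans inf_le_left, fun R hR φ hφ x => Subgroup.subset_closure
      ((CfsgLib.FusionBasics.Central.fixedElts_iff hS hE hφ x).mp (hmax x (hR x.2)))⟩

end Cfsg.Agent.S5127
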