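import Cfsg.Statements.S5138
import Cfsg.Agent.Lib.FusionBasics.Central.Product
import Cfsg.Agent.Lib.FusionExamples.Basic

set_option autoImplicit false
open Cfsg

namespace Cfsg.Agent.S5138

/-- Let F be a saturated fusion system over a finite p-group S and E₁, E₂ normal subsystems over T₁, T₂ with [T₁, T₂] = 1. Then there is a normal subsystem of F over T₁T₂ which, if moreover T₁ ∩ T₂ lies in the centre of E₁ and in the centre of E₂, is a central product of E₁ and E₂ (the factor system of a direct product of E₁ and E₂ modulo a subgroup of its centre meeting both factors trivially). -/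
theorem result {Ω : Type*} [Group Ω] {S : Subgroup Ω} [Finite S] (p : ℕ) [Fact p.Prime] (hS : IsPGroup p S) (F : Cfsg.FusionSystem S) (hF : F.IsSaturated p) {T₁ T₂ : Subgroup Ω} (E₁ : Cfsg.FusionSystem T₁) (E₂ : Cfsg.FusionSystem T₂) (hE₁ : E₁.IsNormalIn F p) (hE₂ : E₂.IsNormalIn F p) (hc : ⁅T₁, T₂⁆ = ⊥) : ∃ D : Cfsg.FusionSystem (T₁ ⊔ T₂), D.IsNormalIn F p ∧ (T₁ ⊓ T₂ ≤ E₁.center → T₁ ⊓ T₂ ≤ E₂.center → Cfsg.FusionSystem.IsCentralProductOf E₁ E₂ D) := by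
  have hcomm : ∀ a ∈ T₁, ∀ b ∈ T₂, a * b = b * a := fun a ha b hb =>
    commutatorElement_eq_one_iff_mul_comm.mp
      (Subgroup.mem_bot.mp (hc.le (Subgroup.commutator_mem_commutator ha hb)))
  have h₁c := hE₁.1.2.2.2.1
  have h₂c := hE₂.1.2.2.2.1
  haveI := CfsgLib.Alperin.finite_of_le h₁c.1
  haveI := CfsgLib.Alperin.finite_of_le h₂c.1
  have hZ : F.StronglyClosed (T₁ ⊓ T₂) := CfsgLib.FusionSub.stronglyClosed_inf h₁c h₂c
  have hc₁ : ∀ t ∈ T₁, ∀ z ∈ T₁ ⊓ T₂, t * z = z * t := fun t ht z hz => hcomm t ht z hz.2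
  have hc₂ : ∀ t ∈ T₂, ∀ z ∈ T₁ ⊓ T₂, t * z = z * t := fun t ht z hz =>
    (hcomm z hz.1 t ht).symm
  obtain ⟨D, hD, hDc⟩ := CfsgLib.FusionBasics.Central.exists_product hS hF
    (CfsgLib.FusionBasics.Central.fixSystem_isNormalIn hS hE₁ hZ inf_le_left hc₁)
    (CfsgLib.FusionBasics.Central.fixSystem_isNormalIn hS hE₂ hZ inf_le_right hc₂) hcomm
    (fun P φ h => by
      obtain ⟨-, ψ, hψ, hx, hz⟩ := h
      exact ⟨ψ, CfsgLib.FusionBasics.Central.fixSystem_self hψ hz, hx, hz⟩)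
    (fun P φ h => by
      obtain ⟨-, ψ, hψ, hx, hz⟩ := h
      exact ⟨ψ, CfsgLib.FusionBasics.Central.fixSystem_self hψ hz, hx, hz⟩)
  refine ⟨D, hD, fun h1 h2 => ?_⟩
  have key : ∀ {T Z : Subgroup Ω} [Finite T] (E : Cfsg.FusionSystem T) (hZT : Z ≤ T)
      (hc : ∀ t ∈ T, ∀ z ∈ Z, t * z = z * t), Z ≤ E.center →
      CfsgLib.FusionBasics.Central.fixSystem E Z hZT hc = E := by
    intro T Z _ E hZT hc hle
    refine CfsgLib.FusionSub.system_ext fun P => Set.ext fun φ => ⟨fun h => h.1, fun h => ?_⟩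
    obtain ⟨ψ, hψ, hx, hy⟩ := (CfsgLib.FusionExamples.isCentral_center E).2 P φ h
    exact ⟨h, _, CfsgLib.Alperin.restrict_mem hψ (sup_le_sup_left hle P),
      fun x => hx x, fun z => hy ⟨z, hle z.2⟩⟩
  rwa [key E₁ inf_le_left hc₁ h1, key E₂ inf_le_right hc₂ h2] at hDc

end Cfsg.Agent.S5138
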