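import Cfsg.Statements.S5155
import Cfsg.Agent.Lib.FusionBasics.Reduction.CentralizerNormal

set_option autoImplicit false
open Cfsg

namespace Cfsg.Agent.S5155

/-- Let F be a saturated fusion system over a finite p-group S, E a normal subsystem over T, and Y the largest subgroup of C_S(T) such that E is a subsystem of the centralizer system of Y (every map of E extends to a map of F fixing Y elementwise). Then there is a normal subsystem of F over Y that is a subsystem of the centralizer system of T. -/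
theorem result {Ω : Type*} [Group Ω] {S : Subgroup Ω} [Finite S] (p : ℕ) [Fact p.Prime] (hS : IsPGroup p S) (F : Cfsg.FusionSystem S) (hF : F.IsSaturated p) {T : Subgroup Ω} (E : Cfsg.FusionSystem T) (hE : E.IsNormalIn F p) (Y : Subgroup Ω) (hY : Y ≤ Cfsg.FusionSystem.centralizerIn S T) (hEY : ∀ P : Subgroup Ω, E.Hom P ⊆ F.centralizerHom Y P) (hmax : ∀ Y' : Subgroup Ω, Y' ≤ Cfsg.FusionSystem.centralizerIn S T → (∀ P : Subgroup Ω, E.Hom P ⊆ F.centralizerHom Y' P) → Y' ≤ Y) : ∃ D : Cfsg.FusionSystem Y, D.IsNormalIn F p ∧ ∀ P : Subgroup Ω, D.Hom P ⊆ F.centralizerHom T P := by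
  have hT := hE.1.2.2.2.1
  haveI := CfsgLib.Alperin.finite_of_le hT.1
  have hle : Subgroup.closure (CfsgLib.FusionBasics.Central.fixedElts F E) ≤
      Cfsg.FusionSystem.centralizerIn S T := (Subgroup.closure_le _).mpr fun y hy => hy.1
  have hT' : T ≤ Cfsg.FusionSystem.centralizerIn S
      (Subgroup.closure (CfsgLib.FusionBasics.Central.fixedElts F E)) := fun t ht =>
    ⟨hT.1 ht, fun z hz => ((hle hz).2 t ht).symm⟩
  refine CfsgLib.FusionBasics.Reduction.exists_centralizer_normal hS hE hY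
    (le_antisymm (fun y hy => ?_) (hmax _ hle fun P φ hφ => ?_))
  · refine Subgroup.subset_closure ⟨hY hy, fun P φ hφ => ?_⟩
    obtain ⟨-, -, -, ψ, hψ, hx, hz⟩ := hEY P hφ
    exact ⟨_, CfsgLib.Alperin.restrict_mem hψ (sup_le_sup_left (Subgroup.zpowers_le.mpr hy) P),
      fun x => hx x, fun z => hz ⟨z, Subgroup.zpowers_le.mpr hy z.2⟩⟩
  · exact ⟨hE.1.2.2.1 P hφ, (CfsgLib.Alperin.dom_le hφ).trans hT',
      fun x => hT' (CfsgLib.Alperin.apply_mem hφ x),
      CfsgLib.FusionBasics.Central.fixY_closure_fixedElts hS hE hφ⟩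

end Cfsg.Agent.S5155
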