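import Cfsg.Statements.S5178
import Cfsg.Agent.Lib.FusionSub.ClassTwoCentre
-- import your own Cfsg.Agent.* helpers here

set_option autoImplicit false
universe u
open Cfsg

namespace Cfsg.Agent.S5178

open scoped commutatorElement

/-- Let p be an odd prime, S a finite p-group containing an extraspecial subgroup Q of index p, and F a saturated fusion system over S whose largest subgroup normal in F is trivial. Then the centre of S equals the centre of Q. -/
theorem result {Ω : Type u} [Group Ω] {S : Subgroup Ω} [Finite S] (p : ℕ) [Fact p.Prime] (hp : Odd p) (hS : IsPGroup p S)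
    (Q : Subgroup Ω) (hQS : Q ≤ S) (hQ : Cfsg.IsExtraspecial p ↥Q) (hQi : (Q.subgroupOf S).index = p)
    (F : Cfsg.FusionSystem S) (hF : F.IsSaturated p) (hO : F.core = ⊥) :
    S ⊓ Subgroup.centralizer (S : Set Ω) = Q ⊓ Subgroup.centralizer (Q : Set Ω) := by
  have hpp : p.Prime := Fact.out
  have hp2 : p ≠ 2 := by rintro rfl; exact absurd hp (by decide)
  obtain ⟨⟨hQp, hQf, hQc⟩, hQcard⟩ := hQ
  haveI : Finite Q := CfsgLib.Alperin.finite_of_le hQS
  set Q₀ := Q.subgroupOf S
  haveI : Q₀.Normal := by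
    refine Subgroup.normal_of_index_eq_minFac_card ?_
    obtain ⟨n, hn⟩ := IsPGroup.iff_card.mp hS
    rcases Nat.eq_zero_or_pos n with rfl | hn0
    · exfalso
      have h := Q₀.index_dvd_card
      rw [hQi, hn, pow_zero] at h
      exact hpp.not_dvd_one h
    · rw [hQi, hn, Nat.Prime.pow_minFac hpp hn0.ne']
  let e : Q₀ ≃* Q := Subgroup.subgroupOfEquivOfLe hQS
  set Z : Subgroup S := (Subgroup.center Q₀).map Q₀.subtype with hZdef
  have hcenter : ∀ c : Q₀, c ∈ Subgroup.center Q₀ ↔ e c ∈ Subgroup.center Q := by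
    intro c
    simp only [Subgroup.mem_center_iff]
    constructor
    · intro h g
      obtain ⟨g, rfl⟩ := e.surjective g
      rw [← map_mul, ← map_mul, h g]
    · intro h g
      exact e.injective (by rw [map_mul, map_mul, h])
  have hZcard : Nat.card Z = p := by
    rw [Subgroup.card_subtype, ← hQcard]
    exact Nat.card_congr (e.toEquiv.subtypeEquiv hcenter)
  haveI hZn : Z.Normal := ⟨by
    rintro _ ⟨c, hc, rfl⟩ g
    refine ⟨⟨g * c * g⁻¹, (inferInstance : Q₀.Normal).conj_mem _ c.2 g⟩, ?_, rfl⟩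
    refine Subgroup.mem_center_iff.mpr fun d => Subtype.ext ?_
    have h := congrArg Subtype.val (Subgroup.mem_center_iff.mp hc
      ⟨g⁻¹ * d * g⁻¹⁻¹, (inferInstance : Q₀.Normal).conj_mem _ d.2 g⁻¹⟩)
    simp only [Subgroup.coe_mul, inv_inv] at h ⊢
    calc (d : S) * (g * c * g⁻¹) = g * (g⁻¹ * d * g * c) * g⁻¹ := by group
      _ = g * (c * (g⁻¹ * d * g)) * g⁻¹ := by rw [h]
      _ = g * c * g⁻¹ * d := by group⟩
  have hZC : Z ≤ Subgroup.center S := CfsgLib.PGroups.le_center_of_card_eq_prime hS hZcard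
  ext x
  constructor
  · rintro ⟨hxS, hxC⟩
    have hcentral : (⟨x, hxS⟩ : S) ∈ Subgroup.center S :=
      Subgroup.mem_center_iff.mpr fun g => Subtype.ext (hxC g g.2)
    by_cases hxQ : x ∈ Q
    · exact ⟨hxQ, fun y hy => hxC y (hQS hy)⟩
    exfalso
    have hcomm : commutator S = Z := by
      refine le_antisymm ?_ ?_
      · have htop : Q₀ ⊔ Subgroup.zpowers (⟨x, hxS⟩ : S) = ⊤ := by
          rw [← Subgroup.index_eq_one]
          have hle : Q₀ ≤ Q₀ ⊔ Subgroup.zpowers (⟨x, hxS⟩ : S) := le_sup_left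
          rcases (Nat.dvd_prime hpp).mp (hQi ▸ Subgroup.index_dvd_of_le hle) with h | h
          · exact h
          · exfalso
            have h1 := Subgroup.relIndex_mul_index hle
            rw [h, hQi] at h1
            have h2 : Q₀.relIndex (Q₀ ⊔ Subgroup.zpowers (⟨x, hxS⟩ : S)) = 1 :=
              Nat.eq_of_mul_eq_mul_right hpp.pos (h1.trans (one_mul p).symm)
            exact hxQ (Subgroup.relIndex_eq_one.mp h2 (Subgroup.mem_sup_right (Subgroup.mem_zpowers _)))
        rw [commutator_def, Subgroup.commutator_le]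
        intro a _ b _
        have hdec : ∀ a : S, ∃ q : Q₀, ∃ i : ℤ, (q : S) * (⟨x, hxS⟩ : S) ^ i = a := by
          intro a
          have ha := htop.ge (Subgroup.mem_top a)
          rw [← SetLike.mem_coe, Subgroup.normal_mul] at ha
          obtain ⟨q, hq, w, ⟨i, rfl⟩, rfl⟩ := Set.mem_mul.mp ha
          exact ⟨⟨q, hq⟩, i, rfl⟩
        obtain ⟨q, i, rfl⟩ := hdec a
        obtain ⟨r, j, rfl⟩ := hdec b
        have hi : ∀ k : ℤ, ∀ g : S, g * (⟨x, hxS⟩ : S) ^ k = (⟨x, hxS⟩ : S) ^ k * g := fun k g =>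
          Subgroup.mem_center_iff.mp (Subgroup.zpow_mem _ hcentral k) g
        refine ⟨⁅q, r⁆, hQc.le ?_ |> (hcenter _).mpr, ?_⟩
        · rw [map_commutatorElement]
          exact Subgroup.commutator_mem_commutator (Subgroup.mem_top _) (Subgroup.mem_top _)
        · rw [map_commutatorElement, Subgroup.coe_subtype]
          simp only [commutatorElement_def]
          have hu := hi i
          have hv := hi j
          generalize (⟨x, hxS⟩ : S) ^ i = u at hu ⊢
          generalize (⟨x, hxS⟩ : S) ^ j = v at hv ⊢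
          symm
          calc (q : S) * u * ((r : S) * v) * ((q : S) * u)⁻¹ * ((r : S) * v)⁻¹
              = (q : S) * r * (v * u) * (u⁻¹ * (q : S)⁻¹) * (v⁻¹ * (r : S)⁻¹) := by
                rw [mul_inv_rev, mul_inv_rev, mul_assoc (q : S) u, ← mul_assoc u, ← hu r,
                  mul_assoc (r : S) u, ← mul_assoc (q : S), ← hu v]
            _ = (q : S) * r * (v * (q : S)⁻¹) * (v⁻¹ * (r : S)⁻¹) := by group
            _ = (q : S) * r * ((q : S)⁻¹ * v) * (v⁻¹ * (r : S)⁻¹) := by rw [hv]
            _ = (q : S) * r * (q : S)⁻¹ * (r : S)⁻¹ := by group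
      · have hle : (commutator Q₀).map Q₀.subtype ≤ commutator S := by
          rw [Subgroup.map_le_iff_le_comap, commutator_def, Subgroup.commutator_le]
          exact fun a _ b _ => Subgroup.commutator_mem_commutator (Subgroup.mem_top (a : S)) (Subgroup.mem_top (b : S))
        refine le_trans (le_of_eq ?_) hle
        rw [hZdef]
        congr 1
        refine Subgroup.map_injective (f := e.toMonoidHom) e.injective ?_
        rw [show (commutator Q₀).map e.toMonoidHom = commutator Q from by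
          rw [commutator_def, Subgroup.map_commutator, Subgroup.map_top_of_surjective _ e.surjective, commutator_def],
          hQc]
        ext c
        exact ⟨fun ⟨d, hd, hdc⟩ => hdc ▸ (hcenter d).mp hd,
          fun hc => ⟨e.symm c, (hcenter _).mpr (by rwa [MulEquiv.apply_symm_apply]), e.apply_symm_apply c⟩⟩
    refine CfsgLib.FusionSub.core_ne_bot_of_commutator_prime F hp2 hS hF hZcard hcomm
      ⟨⟨x, hxS⟩, hcentral, ?_⟩ hO
    rintro ⟨c, -, hc⟩
    refine hxQ ?_
    have h : ((c : S) : Ω) = x := congrArg Subtype.val hc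
    rw [← h]
    exact c.2
  · rintro ⟨hxQ, hxC⟩
    refine ⟨hQS hxQ, fun g hg => ?_⟩
    have hmem : (⟨x, hQS hxQ⟩ : S) ∈ Z :=
      ⟨⟨⟨x, hQS hxQ⟩, hxQ⟩, Subgroup.mem_center_iff.mpr fun d => Subtype.ext (Subtype.ext (hxC _ d.2)), rfl⟩
    exact congrArg Subtype.val (Subgroup.mem_center_iff.mp (hZC hmem) ⟨g, hg⟩)

end Cfsg.Agent.S5178
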