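import Cfsg.Statements.S5179
import Cfsg.Agent.Lib.FusionSub.ClassTwoCentre
-- import your own Cfsg.Agent.* helpers here

set_option autoImplicit false
universe u
open Cfsg

namespace Cfsg.Agent.S5179

open Cfsg Cfsg.FusionSystem CfsgLib.Alperin
open scoped commutatorElement

/-- The automorphisms in `X` stabilizing `1 ≤ Z ≤ V`. -/
def stab {V : Type*} [Group V] (X : Subgroup (MulAut V)) (Z : Subgroup V) : Subgroup X where
  carrier := {v | (∀ z ∈ Z, (v : MulAut V) z = z) ∧ ∀ e, e⁻¹ * (v : MulAut V) e ∈ Z}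
  one_mem' := ⟨fun z _ => rfl, fun e => by simp⟩
  mul_mem' := by
    rintro a b ⟨ha, ha'⟩ ⟨hb, hb'⟩
    refine ⟨fun z hz => ?_, fun e => ?_⟩
    · show (a : MulAut V) ((b : MulAut V) z) = z
      rw [hb z hz, ha z hz]
    · show e⁻¹ * (a : MulAut V) ((b : MulAut V) e) ∈ Z
      have h : (a : MulAut V) (e * (e⁻¹ * (b : MulAut V) e)) =
          (a : MulAut V) e * (e⁻¹ * (b : MulAut V) e) := by rw [map_mul, ha _ (hb' e)]
      rw [mul_inv_cancel_left] at h
      rw [h, ← mul_assoc]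
      exact Z.mul_mem (ha' e) (hb' e)
  inv_mem' := by
    rintro a ⟨ha, ha'⟩
    refine ⟨fun z hz => ?_, fun e => ?_⟩
    · apply (a : MulAut V).injective
      show (a : MulAut V) ((a : MulAut V).symm z) = (a : MulAut V) z
      rw [MulEquiv.apply_symm_apply, ha z hz]
    · have h := Z.inv_mem (ha' ((a : MulAut V).symm e))
      rw [MulEquiv.apply_symm_apply, mul_inv_rev, inv_inv] at h
      exact h

theorem isPGroup_stab {V : Type*} [Group V] {p : ℕ} (X : Subgroup (MulAut V)) {Z : Subgroup V}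
    (hZ : Nat.card Z = p) : IsPGroup p (stab X Z) := by
  rintro ⟨v, hv⟩
  refine ⟨1, Subtype.ext (Subtype.ext (MulEquiv.ext fun e => ?_))⟩
  have hpow : ∀ r : ℕ, ((v : MulAut V) ^ r) e = e * (e⁻¹ * (v : MulAut V) e) ^ r := by
    intro r
    induction r with
    | zero => simp
    | succ r ih =>
      rw [pow_succ', MulAut.mul_apply, ih, map_mul, map_pow, hv.1 _ (hv.2 e), pow_succ',
        ← mul_assoc, mul_inv_cancel_left]
  rw [pow_one]
  show ((v ^ p : X) : MulAut V) e = e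
  rw [Subgroup.coe_pow, hpow, ← hZ,
    orderOf_dvd_iff_pow_eq_one.mp (Subgroup.orderOf_dvd_natCard Z (hv.2 e)), mul_one]

theorem eq_of_le {Ω : Type*} [Group Ω] {S : Subgroup Ω} [Finite S] {p : ℕ} [Fact p.Prime]
    (hS : IsPGroup p S) {Q : Subgroup Ω} (hQS : Q ≤ S) (hQ : Cfsg.IsExtraspecial p ↥Q)
    (h5 : p ^ 5 ≤ Nat.card Q)
    {F : FusionSystem S} (hF : F.IsSaturated p) {E : Subgroup Ω} (hEQ : E ≤ Q)
    (hE : F.IsEssential p E) : E = Q := by
  classical
  have hpp : p.Prime := Fact.out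
  obtain ⟨⟨-, -, hQc⟩, hQcard⟩ := hQ
  refine le_antisymm hEQ ?_
  by_contra hQE
  obtain ⟨u₀, hu₀Q, hu₀E⟩ := SetLike.not_le_iff_exists.mp hQE
  have hEle : E ≤ S := hE.1.1
  haveI := finite_of_le hEle
  haveI := finite_of_le hQS
  haveI := finite_autGroup F hEle
  set Z := (Subgroup.center Q).map Q.subtype
  have hCS : centralizerIn S E ≤ E := hE.1.2 E (isConj_refl F hEle)
  have hZE : Z ≤ E := by
    rintro _ ⟨z, hz, rfl⟩
    exact hCS ⟨hQS z.2, fun x hx =>
      congrArg Subtype.val (Subgroup.mem_center_iff.mp hz ⟨x, hEQ hx⟩)⟩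
  have hbr : ∀ q ∈ Q, ∀ x ∈ Q, q * x * q⁻¹ * x⁻¹ ∈ Z := fun q hq x hx =>
    ⟨⁅(⟨q, hq⟩ : Q), ⟨x, hx⟩⁆, hQc.le (Subgroup.commutator_mem_commutator (Subgroup.mem_top _)
      (Subgroup.mem_top _)), rfl⟩
  have hnorm : Q ≤ Subgroup.normalizer (E : Set Ω) := fun q hq => by
    refine CfsgLib.FusionExamples.SmallEssential.mem_normalizer fun x hx => ?_
    simpa using E.mul_mem (hZE (hbr q hq x (hEQ hx))) hx
  set X := F.autGroup E
  set ZE := Z.subgroupOf E
  have hZcard : Nat.card ZE = p := by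
    rw [Nat.card_congr (Subgroup.subgroupOfEquivOfLe hZE).toEquiv, Subgroup.card_subtype, hQcard]
  let cQ : Q → X := fun q =>
    ⟨conjAut E q (hnorm q.2), autInducedBy_le_autGroup F hEle (conjAut_mem (hQS q.2) (hnorm q.2))⟩
  have hcQ : ∀ q, cQ q ∈ stab X ZE := fun q => by
    refine ⟨?_, fun e => ?_⟩
    · rintro ⟨z, hzE⟩ ⟨w, hw, hwz⟩
      refine Subtype.ext ?_
      show (q : Ω) * z * (q : Ω)⁻¹ = z
      have h : (q : Ω) * w = w * q := congrArg Subtype.val (Subgroup.mem_center_iff.mp hw q)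
      have hwz' : (w : Ω) = z := hwz
      rw [← hwz', h, mul_inv_cancel_right]
    · show (e : Ω)⁻¹ * ((q : Ω) * e * (q : Ω)⁻¹) ∈ Z
      have h := hbr ((e : Ω)⁻¹) (Q.inv_mem (hEQ e.2)) q q.2
      simpa [mul_assoc] using h
  have hcQE : ∀ q : Q, ((cQ q : X) : MulAut E) ∈ Inn E → (q : Ω) ∈ E := fun q h =>
    mem_of_conjAut_mem_inn hEle hCS (hQS q.2) (fun _ => rfl) h
  by_cases hmove : ∀ g : X, ∀ z ∈ ZE, (g : MulAut E) z ∈ ZE
  · haveI : (stab X ZE).Normal := ⟨fun v hv g => by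
      refine ⟨fun z hz => ?_, fun e => ?_⟩
      · show (g : MulAut E) ((v : MulAut E) ((g : MulAut E).symm z)) = z
        rw [hv.1 _ (show (g : MulAut E).symm z ∈ ZE from hmove g⁻¹ z hz), MulEquiv.apply_symm_apply]
      · show e⁻¹ * (g : MulAut E) ((v : MulAut E) ((g : MulAut E).symm e)) ∈ ZE
        have h := hmove g _ (hv.2 ((g : MulAut E).symm e))
        rwa [map_mul, map_inv, MulEquiv.apply_symm_apply] at h⟩
    refine hu₀E (hcQE ⟨u₀, hu₀Q⟩ ?_)
    rw [← (isRadical_of_essential hS hE).2]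
    exact ⟨_, (le_sSup ⟨inferInstance, isPGroup_stab X hZcard⟩ : stab X ZE ≤ pCore p X) (hcQ _), rfl⟩
  push Not at hmove
  obtain ⟨g, z₀, hz₀, hgz₀⟩ := hmove
  -- `E` is abelian
  have hab : ∀ a b : E, a * b = b * a := by
    by_contra! hab
    obtain ⟨a, b, hab⟩ := hab
    have hle : commutator E ≤ ZE := by
      rw [commutator_def, Subgroup.commutator_le]
      intro x _ y _
      exact hbr x (hEQ x.2) y (hEQ y.2)
    have heq : commutator E = ZE := by
      refine Subgroup.eq_of_le_of_card_ge hle ?_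
      rcases (Nat.dvd_prime hpp).mp (hZcard ▸ Subgroup.card_dvd_of_le hle) with h | h
      · exfalso
        have hm : ⁅a, b⁆ ∈ commutator E :=
          Subgroup.commutator_mem_commutator (Subgroup.mem_top a) (Subgroup.mem_top b)
        rw [Subgroup.card_eq_one.mp h, Subgroup.mem_bot, commutatorElement_eq_one_iff_mul_comm] at hm
        exact hab hm
      · rw [h, hZcard]
    refine hgz₀ ?_
    rw [← heq] at hz₀ ⊢
    exact CfsgLib.FusionSub.apply_mem_of_eq_commutator _ rfl hz₀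
  letI : CommGroup E := { (inferInstance : Group E) with mul_comm := hab }
  -- `Q` has rank at least two on `E`
  set EQ := E.subgroupOf Q
  let δ : Q → (Q →* Subgroup.center Q) := fun u => MonoidHom.mk'
    (fun q => ⟨⁅q, u⁆, hQc.le (Subgroup.commutator_mem_commutator (Subgroup.mem_top _) (Subgroup.mem_top _))⟩)
    fun a b => Subtype.ext (by
      show ⁅a * b, u⁆ = ⁅a, u⁆ * ⁅b, u⁆
      have hc : ∀ y : Q, y * ⁅b, u⁆ = ⁅b, u⁆ * y := Subgroup.mem_center_iff.mp
        (hQc.le (Subgroup.commutator_mem_commutator (Subgroup.mem_top b) (Subgroup.mem_top u)))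
      calc ⁅a * b, u⁆ = a * ⁅b, u⁆ * a⁻¹ * ⁅a, u⁆ := by simp only [commutatorElement_def]; group
        _ = ⁅b, u⁆ * ⁅a, u⁆ := by rw [hc a, mul_inv_cancel_right]
        _ = ⁅a, u⁆ * ⁅b, u⁆ := (hc _).symm)
  have hδ : ∀ u q, q ∈ (δ u).ker ↔ q * u = u * q := fun u q => by
    rw [MonoidHom.mem_ker, Subtype.ext_iff]
    exact commutatorElement_eq_one_iff_mul_comm
  have hcardEQ : Nat.card EQ = Nat.card E := Nat.card_congr (Subgroup.subgroupOfEquivOfLe hEQ).toEquiv
  have hbig : ∀ u : Q, ∃ q : Q, (q : Ω) ∉ E ∧ q * u = u * q := by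
    intro u
    by_contra! hall
    have hle : (δ u).ker ≤ EQ := fun q hq => by
      by_contra hqE
      exact hall q hqE ((hδ u q).mp hq)
    have hidx : EQ.index ∣ (δ u).ker.index := Subgroup.index_dvd_of_le hle
    rw [Subgroup.index_ker] at hidx
    have hrange : ∀ (H : Subgroup (Subgroup.center Q)), Nat.card H ∣ p := fun H =>
      hQcard ▸ Subgroup.card_subgroup_dvd_card H
    have hEp : EQ.index ≤ p := Nat.le_of_dvd hpp.pos (hidx.trans (hrange _))
    set v : Q := ⟨u₀, hu₀Q⟩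
    let δ' := (δ v).comp EQ.subtype
    have hker : δ'.ker.map EQ.subtype ≤ Subgroup.center Q := by
      rintro _ ⟨e, he, rfl⟩
      rw [Subgroup.mem_center_iff]
      have htop : EQ ⊔ Subgroup.zpowers v = ⊤ := by
        rw [← Subgroup.index_eq_one]
        have hlt : EQ < EQ ⊔ Subgroup.zpowers v := lt_of_le_of_ne le_sup_left fun h =>
          hu₀E (h.ge (Subgroup.mem_sup_right (Subgroup.mem_zpowers v)))
        rcases (Nat.dvd_prime hpp).mp (hidx.trans (hrange _)) with h | h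
        · exact Nat.eq_one_of_dvd_one (h ▸ Subgroup.index_dvd_of_le hlt.le)
        · rcases (Nat.dvd_prime hpp).mp (h ▸ Subgroup.index_dvd_of_le hlt.le) with h' | h'
          · exact h'
          · exfalso
            have h1 := Subgroup.relIndex_mul_index hlt.le
            rw [h, h'] at h1
            exact hlt.not_ge (Subgroup.relIndex_eq_one.mp
              (Nat.eq_of_mul_eq_mul_right hpp.pos (h1.trans (one_mul p).symm)))
      intro y
      have hy : y ∈ Subgroup.centralizer {(e : Q)} := by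
        refine (sup_le (fun w hw => ?_) (Subgroup.zpowers_le.mpr ?_) : EQ ⊔ Subgroup.zpowers v ≤ _)
          (htop.ge (Subgroup.mem_top y))
        · refine Subgroup.mem_centralizer_iff.mpr fun d hd => ?_
          rw [Set.mem_singleton_iff.mp hd]
          exact Subtype.ext (show ((e : Q) : Ω) * (w : Ω) = (w : Ω) * ((e : Q) : Ω) from
            congrArg Subtype.val (hab ⟨_, e.2⟩ ⟨_, hw⟩))
        · refine Subgroup.mem_centralizer_iff.mpr fun d hd => ?_
          rw [Set.mem_singleton_iff.mp hd]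
          exact (hδ v e).mp he
      exact (Subgroup.mem_centralizer_iff.mp hy e rfl).symm
    have h1 : Nat.card δ'.ker ≤ p := by
      rw [← hQcard, ← Subgroup.card_subtype EQ δ'.ker]
      exact Subgroup.card_le_of_le hker
    have h2 : Nat.card δ'.range ≤ p := Nat.le_of_dvd hpp.pos (hrange _)
    have h3 : Nat.card EQ = Nat.card δ'.range * Nat.card δ'.ker := by
      rw [← Subgroup.index_ker, Subgroup.index_mul_card]
    have h4 : Nat.card Q = EQ.index * Nat.card EQ := (Subgroup.index_mul_card EQ).symm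
    have h6 : Nat.card Q ≤ p * (p * p) := by
      rw [h4, h3]
      exact Nat.mul_le_mul hEp (Nat.mul_le_mul h2 h1)
    nlinarith [hpp.two_le, h5, h6, Nat.pow_le_pow_left hpp.two_le 2]
  -- the strongly embedded subgroup
  obtain ⟨-, -, R, hR⟩ := centralized_automized_of_fullyNormalized hS hF hE.2.1
  obtain ⟨hnI, Y₀, hY₀⟩ := hE.2.2
  haveI := hnI
  have hInn : Inn E = ⊥ := by
    refine (Subgroup.eq_bot_iff_forall _).mpr ?_
    rintro _ ⟨w, rfl⟩
    exact MulEquiv.ext fun x => by simp [mul_comm w x]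
  set π := QuotientGroup.mk' ((Inn E).subgroupOf X)
  have hπinj : Function.Injective π := by
    rw [← MonoidHom.ker_eq_bot_iff, QuotientGroup.ker_mk', hInn, Subgroup.bot_subgroupOf]
  let T' : Sylow p (X ⧸ (Inn E).subgroupOf X) := R.mapSurjective (QuotientGroup.mk'_surjective _)
  obtain ⟨Y', hY'ne, hY'⟩ := exists_core_le_of_stronglyPEmbedded hY₀ T'
  have hcore : kGeneratedCore p 1 (R : Subgroup X) ≤ Y'.comap π := by
    refine iSup_le fun A n hn => ?_
    obtain ⟨A, hA, hAr⟩ := A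
    refine normalizer_le_of_core_le hY' (Q := A.map π) (Subgroup.map_mono hA) ?_ ?_
    · intro hb
      refine hAr fun B _ _ => ?_
      haveI : Subsingleton A := by
        rw [(Subgroup.map_eq_bot_iff_of_injective _ hπinj).mp hb]; infer_instance
      simp [Nat.card_unique]
    · exact Subgroup.le_normalizer_map π ⟨n, hn, rfl⟩
  set Y := Y'.comap π
  have hcQ1 : ∀ q : Q, (q : Ω) ∉ E → cQ q ≠ 1 := fun q hq h =>
    hq (hcQE q (by rw [h]; exact one_mem _))
  have hcQR : ∀ q : Q, cQ q ∈ (R : Subgroup X) := fun q => by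
    rw [hR, Subgroup.mem_subgroupOf]
    exact conjAut_mem (hQS q.2) (hnorm q.2)
  have hRne : (R : Subgroup X) ≠ ⊥ := fun h =>
    hcQ1 ⟨u₀, hu₀Q⟩ hu₀E (Subgroup.mem_bot.mp (h.le (hcQR _)))
  have hRY : (R : Subgroup X) ≤ Y :=
    Subgroup.le_normalizer.trans (normalizer_le_of_core_le hcore le_rfl hRne)
  have hcpow : ∀ q : Q, ∃ r, cQ q ^ p ^ r = 1 := fun q => by
    obtain ⟨r, hr⟩ := R.2 ⟨_, hcQR q⟩
    exact ⟨r, congrArg Subtype.val hr⟩
  -- an element commuting with a nontrivial element induced by `Q` lies in `Y`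
  have hcommY : ∀ (q : Q) (y : X), (q : Ω) ∉ E → Commute y (cQ q) → y ∈ Y := fun q y hq hy =>
    CfsgLib.FusionExamples.Transvection.mem_of_conj_mem hcore hRne (hRY (hcQR q)) (hcQ1 q hq)
      (hcpow q) (by rw [hy.eq, mul_inv_cancel_right]; exact hRY (hcQR q))
  have hconjY : ∀ (k : X) (q : Q), (q : Ω) ∉ E → k * cQ q * k⁻¹ ∈ Y → k ∈ Y := fun k q hq h =>
    CfsgLib.FusionExamples.Transvection.mem_of_conj_mem hcore hRne (hRY (hcQR q)) (hcQ1 q hq) (hcpow q) h
  have hfix : ∀ (w : E) (hw : (w : Ω) ∈ Q) (q : Q), q * ⟨w, hw⟩ = ⟨w, hw⟩ * q →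
      ((cQ q : X) : MulAut E) w = w := fun w hw q h => Subtype.ext (by
    show (q : Ω) * w * (q : Ω)⁻¹ = w
    have h' : (q : Ω) * w = w * q := congrArg Subtype.val h
    rw [h', mul_inv_cancel_right])
  have hz₀1 : z₀ ≠ 1 := by
    rintro rfl
    exact hgz₀ (by rw [map_one]; exact one_mem _)
  have hZgen : ∀ z ∈ ZE, z ∈ Subgroup.zpowers z₀ := fun z hz => by
    haveI : Fact (Nat.card ZE).Prime := ⟨hZcard ▸ hpp⟩
    obtain ⟨i, hi⟩ := mem_zpowers_of_prime_card (g := (⟨z₀, hz₀⟩ : ZE)) (g' := ⟨z, hz⟩) rfl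
      (fun h => hz₀1 (congrArg Subtype.val h))
    exact ⟨i, congrArg Subtype.val hi⟩
  refine hY'ne (eq_top_iff.mpr fun x _ => ?_)
  obtain ⟨k, rfl⟩ := QuotientGroup.mk'_surjective _ x
  show k ∈ Y
  by_cases hk : (k : MulAut E) z₀ ∈ ZE
  · have hk' : ∀ z ∈ ZE, (k : MulAut E).symm z ∈ ZE := by
      intro z hz
      have hle : ZE.map (k : MulAut E).toMonoidHom ≤ ZE := by
        rintro _ ⟨y, hy, rfl⟩
        obtain ⟨i, rfl⟩ := hZgen y hy
        show (k : MulAut E) (z₀ ^ i) ∈ ZE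
        rw [map_zpow]
        exact zpow_mem hk i
      obtain ⟨y, hy, rfl⟩ := (Subgroup.eq_of_le_of_card_ge hle
        (by rw [Subgroup.card_map_of_injective (k : MulAut E).injective])).ge hz
      show (k : MulAut E).symm ((k : MulAut E) y) ∈ ZE
      rwa [MulEquiv.symm_apply_apply]
    set q : Q := ⟨u₀, hu₀Q⟩
    have hkq : k * cQ q * k⁻¹ ∈ stab X ZE := by
      refine ⟨fun z hz => ?_, fun e => ?_⟩
      · show (k : MulAut E) ((cQ q : X).1 ((k : MulAut E).symm z)) = z
        rw [(hcQ q).1 _ (hk' z hz), MulEquiv.apply_symm_apply]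
      · show e⁻¹ * (k : MulAut E) ((cQ q : X).1 ((k : MulAut E).symm e)) ∈ ZE
        obtain ⟨i, hi⟩ := hZgen _ ((hcQ q).2 ((k : MulAut E).symm e))
        have h : (k : MulAut E) (((k : MulAut E).symm e)⁻¹ * (cQ q : X).1 ((k : MulAut E).symm e)) ∈ ZE := by
          rw [← hi]
          show (k : MulAut E) (z₀ ^ i) ∈ ZE
          rw [map_zpow]
          exact zpow_mem hk i
        rwa [map_mul, map_inv, MulEquiv.apply_symm_apply] at h
    refine hconjY k q hu₀E (hcommY q _ hu₀E (Subtype.ext ?_))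
    exact CfsgLib.FusionExamples.Transvection.commute_of_fixed
      (fun x => (hcQ q).1 _ (hkq.2 x)) fun x => hkq.1 _ ((hcQ q).2 x)
  · have hw1 : (((k : MulAut E) z₀ : E) : Ω) ∈ Q := hEQ ((k : MulAut E) z₀).2
    have hw2 : (((k : MulAut E).symm z₀ : E) : Ω) ∈ Q := hEQ ((k : MulAut E).symm z₀).2
    obtain ⟨q, hqE, hq⟩ := hbig ⟨_, hw1⟩
    obtain ⟨r, hrE, hr⟩ := hbig ⟨_, hw2⟩
    refine hconjY k r hrE (hcommY q _ hqE (Subtype.ext ?_))
    have hfix1 : ∀ z ∈ ZE, (cQ q : X).1 ((k : MulAut E) z) = (k : MulAut E) z := fun z hz => by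
      obtain ⟨i, rfl⟩ := hZgen z hz
      show (cQ q : X).1 ((k : MulAut E) (z₀ ^ i)) = (k : MulAut E) (z₀ ^ i)
      rw [map_zpow, map_zpow, hfix _ hw1 q hq]
    have hfix2 : ∀ z ∈ ZE, (k * cQ r * k⁻¹ : X).1 z = z := fun z hz => by
      obtain ⟨i, rfl⟩ := hZgen z hz
      show (k : MulAut E) ((cQ r : X).1 ((k : MulAut E).symm (z₀ ^ i))) = z₀ ^ i
      rw [map_zpow, map_zpow, hfix _ hw2 r hr, map_zpow, MulEquiv.apply_symm_apply]
    refine CfsgLib.FusionExamples.Transvection.commute_of_fixed (fun x => ?_) fun x => hfix2 _ ((hcQ q).2 x)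
    have e : x⁻¹ * (k * cQ r * k⁻¹ : X).1 x = (k : MulAut E) (((k : MulAut E).symm x)⁻¹ *
        (cQ r : X).1 ((k : MulAut E).symm x)) := by
      rw [map_mul, map_inv, MulEquiv.apply_symm_apply]
      rfl
    rw [e]
    exact hfix1 _ ((hcQ r).2 _)


/-- Let p be an odd prime, S a finite p-group of order at least p⁶ containing an extraspecial subgroup Q of index p, and F a saturated fusion system over S whose largest subgroup normal in F is trivial. Then no proper subgroup of Q is essential in F: an essential subgroup of F contained in Q equals Q. -/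
theorem result {Ω : Type u} [Group Ω] {S : Subgroup Ω} [Finite S] (p : ℕ) [Fact p.Prime] (hp : Odd p) (hS : IsPGroup p S)
    (Q : Subgroup Ω) (hQS : Q ≤ S) (hQ : Cfsg.IsExtraspecial p ↥Q) (hQi : (Q.subgroupOf S).index = p)
    (h6 : p ^ 6 ≤ Nat.card S)
    (F : Cfsg.FusionSystem S) (hF : F.IsSaturated p) (hO : F.core = ⊥)
    (E : Subgroup Ω) (hEQ : E ≤ Q) (hE : F.IsEssential p E) : E = Q := by
  refine eq_of_le hS hQS hQ ?_ hF hEQ hE
  have h := (Q.subgroupOf S).index_mul_card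
  rw [hQi, Nat.card_congr (Subgroup.subgroupOfEquivOfLe hQS).toEquiv] at h
  rw [← h] at h6
  have hp0 : 0 < p := (Fact.out : p.Prime).pos
  rw [pow_succ'] at h6
  exact Nat.le_of_mul_le_mul_left h6 hp0

end Cfsg.Agent.S5179
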