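import Cfsg.Statements.S5180
import Cfsg.Agent.Lib.Jordan.RankThree.CaseTwo

set_option autoImplicit false
universe u
open Cfsg
open scoped commutatorElement

namespace Cfsg.Agent.S5180

/-- Let p ≥ 5 be a prime, S a finite p-group of sectional p-rank exactly 3, and F a saturated fusion system over S. Then every essential subgroup E of F that needs three generators (the Frattini quotient E/Φ(E) has order p³) is normal in S. -/
theorem result {Ω : Type u} [Group Ω] {S : Subgroup Ω} [Finite S] (p : ℕ) [Fact p.Prime] (hp : 5 ≤ p) (hS : IsPGroup p S) (hsr : Cfsg.SectionalPRankLE p 3 ↥S ∧ ¬ Cfsg.SectionalPRankLE p 2 ↥S)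
    (F : Cfsg.FusionSystem S) (hF : F.IsSaturated p) (E : Subgroup Ω) (hE : F.IsEssential p E)
    (hrk : (frattini ↥E).index = p ^ 3) : S ≤ Subgroup.normalizer (E : Set Ω) := by
  open CfsgLib.Jordan.RankThree CfsgLib.Alperin in
  exact by
    have hb : ElemBound p 3 S := by
      intro H N hNH hc hpow
      haveI : (N.subgroupOf H).Normal := ⟨fun n hn a => by
        show (a : S) * n * (a : S)⁻¹ ∈ N
        rw [show (a : S) * n * (a : S)⁻¹ = ⁅(a : S), (n : S)⁆ * n by
          simp [commutatorElement_def, mul_assoc]]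
        exact N.mul_mem (hc a a.2 n n.2) hn⟩
      have hcm : ∀ u v : H ⧸ N.subgroupOf H, u * v = v * u := by
        intro u v
        induction u using QuotientGroup.induction_on with
        | _ x =>
        induction v using QuotientGroup.induction_on with
        | _ y =>
          rw [← QuotientGroup.mk_mul, ← QuotientGroup.mk_mul, QuotientGroup.eq,
            show (x * y)⁻¹ * (y * x) = ⁅y⁻¹, x⁻¹⁆ by simp [commutatorElement_def, mul_assoc]]
          exact hc _ (y⁻¹).2 _ (x⁻¹).2
      have hA := hsr.1 H (N.subgroupOf H) ⊤ ⟨⟨fun a b => Subtype.ext (hcm a b)⟩⟩ (by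
        intro u _
        induction u using QuotientGroup.induction_on with
        | _ x =>
          rw [← QuotientGroup.mk_pow, QuotientGroup.eq_one_iff]
          exact hpow x x.2)
      rwa [Subgroup.card_top] at hA
    have h : Setting p F E := ⟨hp, hS, hb, hF, hE, hrk⟩
    by_contra hnot
    have hlt : Cfsg.FusionSystem.normalizerIn S E < S :=
      lt_of_le_not_ge (normalizerIn_le S E) fun hle => hnot (hle.trans inf_le_right)
    obtain ⟨g, hgN, hg⟩ := SetLike.exists_of_lt (lt_normalizerIn hS hlt)
    have hm : Mover S E g := ⟨hgN.1, hgN.2, hg⟩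
    by_cases hI : ∃ g', Mover S E g' ∧ ∃ y ∈ E, ∃ f ∈ E ⊓ cj g' E, ⁅y, f⁆ ∉ cj g' (phi E)
    · obtain ⟨g', hg', y, hy, f, hf, hne⟩ := hI
      exact h.false_of_case_one hg' hy hf hne
    · push Not at hI
      exact h.false_of_case_two (fun g' hg' y hy f hf => hI g' hg' y hy f hf) hm

end Cfsg.Agent.S5180
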