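import Cfsg.Statements.S5185
import Cfsg.Agent.Lib.Alperin.Theorem
import Cfsg.Agent.Lib.InvChar.AutElementary
import Cfsg.Agent.Lib.ClassicalLinear.UnipotentTwo

set_option autoImplicit false
set_option linter.style.haveILetI false
set_option linter.deprecated false
universe u
open Cfsg Cfsg.FusionSystem

namespace Cfsg.Agent.S5185

/-- Let F be a saturated fusion system over a finite p-group S and H an essential subgroup of order p². Then H is elementary abelian (isomorphic to C_p × C_p) and its F-automorphism group contains a subgroup isomorphic to SL(2,p). -/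
theorem result {Ω : Type u} [Group Ω] {S : Subgroup Ω} [Finite S] (p : ℕ) [Fact p.Prime] (hS : IsPGroup p S)
    (F : Cfsg.FusionSystem S) (hF : F.IsSaturated p) (H : Subgroup Ω) (hH : F.IsEssential p H) (hcard : Nat.card H = p ^ 2) :
    Cfsg.IsElementaryAbelian p H ∧
      ∃ K : Subgroup ↥(F.autGroup H), Nonempty (↥K ≃* Matrix.SpecialLinearGroup (Fin 2) (ZMod p)) := by
  classical
  have hp : p.Prime := Fact.out
  have hHS : H ≤ S := hH.1.1
  haveI := CfsgLib.Alperin.finite_of_le hHS
  haveI := CfsgLib.Alperin.finite_mulAut (P := H)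
  haveI := CfsgLib.Alperin.finite_autGroup F hHS
  letI : CommGroup H := { (inferInstance : Group H) with
    mul_comm := IsPGroup.commutative_of_card_eq_prime_sq hcard }
  have hInn : Inn H = ⊥ := by
    refine (Subgroup.eq_bot_iff_forall _).mpr ?_
    rintro _ ⟨g, rfl⟩
    exact MulEquiv.ext fun x => by simp [mul_comm g x]
  set A := F.autGroup H
  have hcore : pCore p A = ⊥ := by
    have h := (CfsgLib.Alperin.isRadical_of_essential hS hH).2
    rw [hInn, Subgroup.map_eq_bot_iff, Subgroup.ker_subtype] at h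
    exact le_bot_iff.mp h
  have hdvd : p ∣ Nat.card A := by
    obtain ⟨-, -, hn, Y, hY⟩ := hH
    exact hY.1.trans (Subgroup.card_quotient_dvd_card _)
  have hsyl : ∃ R₁ R₂ : Sylow p A, R₁ ≠ R₂ := by
    by_contra hcon
    push Not at hcon
    obtain ⟨R⟩ := (inferInstance : Nonempty (Sylow p A))
    haveI : Subsingleton (Sylow p A) := ⟨hcon⟩
    haveI := R.normal_of_subsingleton
    have hle : (R : Subgroup A) ≤ pCore p A := le_sSup ⟨inferInstance, R.2⟩
    exact R.ne_bot_of_dvd_card hdvd (le_bot_iff.mp (hcore ▸ hle))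
  have hexp : ∀ v : H, v ^ p = 1 := by
    intro v
    by_contra hv
    haveI : IsCyclic H := by
      refine isCyclic_of_orderOf_eq_card v ?_
      rw [hcard]
      obtain ⟨k, hk2, hk⟩ := (Nat.dvd_prime_pow hp).mp (hcard ▸ orderOf_dvd_natCard v)
      have hk' : ¬ k < 2 := fun h => hv (orderOf_dvd_iff_pow_eq_one.mp
        (hk ▸ (pow_dvd_pow p (by omega : k ≤ 1)).trans (pow_one p).dvd))
      rw [hk, show k = 2 by omega]
    obtain ⟨g, hg⟩ := IsCyclic.exists_generator (α := H)
    have hcomm : ∀ α β : MulAut H, α * β = β * α := by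
      intro α β
      obtain ⟨a, ha⟩ := Subgroup.mem_zpowers_iff.mp (hg (α g))
      obtain ⟨b, hb⟩ := Subgroup.mem_zpowers_iff.mp (hg (β g))
      refine MulEquiv.ext fun x => ?_
      obtain ⟨c, rfl⟩ := Subgroup.mem_zpowers_iff.mp (hg x)
      rw [map_zpow, map_zpow]
      refine congrArg (fun y => y ^ c) ?_
      show α (β g) = β (α g)
      rw [← hb, map_zpow, ← ha, map_zpow, ← hb, ← zpow_mul, ← zpow_mul, mul_comm]
    obtain ⟨R₁, R₂, hne⟩ := hsyl
    haveI : (R₁ : Subgroup A).Normal := ⟨fun n hn g => by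
      have e : g * n * g⁻¹ = n := by
        rw [mul_inv_eq_iff_eq_mul]
        exact Subtype.ext (hcomm _ _)
      exact e.symm ▸ hn⟩
    haveI := R₁.unique_of_normal (inferInstance)
    exact hne (Subsingleton.elim _ _)
  refine ⟨⟨⟨⟨mul_comm⟩⟩, fun a ha => congrArg Subtype.val (hexp ⟨a, ha⟩)⟩, ?_⟩
  obtain ⟨f, hf⟩ := CfsgLib.InvChar.exists_injective_mulAut_GL (p := p) (d := 2) hexp hcard.le
  let ι : A →* Matrix.GeneralLinearGroup (Fin 2) (ZMod p) := f.comp A.subtype
  have hι : Function.Injective ι := hf.comp A.subtype_injective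
  have hcardU : p ^ (Nat.card (Matrix.GeneralLinearGroup (Fin 2) (ZMod p))).factorization p = p := by
    rw [← CfsgLib.ClassicalLinear.card_upperGL_eq_factorization (F := ZMod p) p,
      CfsgLib.ClassicalLinear.card_upperGL, Nat.card_zmod]
  have hcardS : p ^ (Nat.card (Matrix.SpecialLinearGroup (Fin 2) (ZMod p))).factorization p = p := by
    rw [← CfsgLib.ClassicalLinear.card_upperSL_eq_factorization (F := ZMod p) p,
      CfsgLib.ClassicalLinear.card_upperSL, Nat.card_zmod]
  have hinj : Function.Injective (Matrix.SpecialLinearGroup.toGL :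
      Matrix.SpecialLinearGroup (Fin 2) (ZMod p) →* Matrix.GeneralLinearGroup (Fin 2) (ZMod p)) :=
    fun a b h => Subtype.ext (congrArg Units.val h)
  have key : ∀ R : Sylow p A, ∃ Q : Sylow p (Matrix.SpecialLinearGroup (Fin 2) (ZMod p)),
      (Q : Subgroup _).map Matrix.SpecialLinearGroup.toGL = (R : Subgroup A).map ι := by
    intro R
    have hRp : IsPGroup p ((R : Subgroup A).map ι) := R.2.map ι
    have hRc : Nat.card ((R : Subgroup A).map ι) = p := by
      obtain ⟨T, hT⟩ := hRp.exists_le_sylow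
      have hle : Nat.card ((R : Subgroup A).map ι) ≤ p := by
        exact (Subgroup.card_le_of_le hT).trans_eq (T.card_eq_multiplicity.trans hcardU)
      refine le_antisymm hle (Nat.le_of_dvd Nat.card_pos ?_)
      rw [Subgroup.card_map_of_injective hι]
      obtain ⟨j, hj⟩ := R.2.exists_card_eq
      rw [hj]
      refine dvd_pow_self p fun h0 => R.ne_bot_of_dvd_card hdvd ?_
      exact Subgroup.card_eq_one.mp (by rw [hj, h0, pow_zero])
    have hrange : (R : Subgroup A).map ι ≤ Matrix.SpecialLinearGroup.toGL.range := by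
      intro g hg
      have hgp : g ^ p = 1 := by
        have := pow_card_eq_one' (x := (⟨g, hg⟩ : (R : Subgroup A).map ι))
        rw [hRc] at this
        exact congrArg Subtype.val this
      have hdet : Matrix.det (g : Matrix (Fin 2) (Fin 2) (ZMod p)) = 1 := by
        have h1 := congrArg (fun x : Matrix.GeneralLinearGroup (Fin 2) (ZMod p) =>
          Matrix.det (x : Matrix (Fin 2) (Fin 2) (ZMod p))) hgp
        simpa [Units.val_pow_eq_pow_val, Matrix.det_pow, ZMod.pow_card] using h1
      exact ⟨⟨_, hdet⟩, Units.ext rfl⟩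
    refine ⟨Sylow.ofCard (((R : Subgroup A).map ι).comap Matrix.SpecialLinearGroup.toGL) ?_,
      Subgroup.map_comap_eq_self hrange⟩
    rw [← Subgroup.card_map_of_injective hinj, Subgroup.map_comap_eq_self hrange]
    exact hRc.trans hcardS.symm
  obtain ⟨R₁, R₂, hne⟩ := hsyl
  obtain ⟨Q₁, hQ₁⟩ := key R₁
  obtain ⟨Q₂, hQ₂⟩ := key R₂
  have hQne : Q₁ ≠ Q₂ := by
    intro h
    rw [h, hQ₂] at hQ₁
    exact hne (Sylow.ext (Subgroup.map_injective hι hQ₁.symm))
  have htop := CfsgLib.ClassicalLinear.sylow_SL_two_sup_eq_top (F := ZMod p) p hQne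
  have hSL : (Matrix.SpecialLinearGroup.toGL :
      Matrix.SpecialLinearGroup (Fin 2) (ZMod p) →* _).range ≤ ι.range := by
    rw [MonoidHom.range_eq_map, ← htop, Subgroup.map_sup, hQ₁, hQ₂]
    exact sup_le (Subgroup.map_le_range ι _) (Subgroup.map_le_range ι _)
  let K : Subgroup A := (Matrix.SpecialLinearGroup.toGL :
      Matrix.SpecialLinearGroup (Fin 2) (ZMod p) →* _).range.comap ι
  exact ⟨K, ⟨(K.equivMapOfInjective ι hι).trans ((MulEquiv.subgroupCongr
    (Subgroup.map_comap_eq_self hSL)).trans (MonoidHom.ofInjective hinj).symm)⟩⟩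

end Cfsg.Agent.S5185
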