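import Cfsg.Statements.S5186
import Cfsg.Agent.Lib.Alperin.EssentialSeries
import Cfsg.Agent.Lib.Alperin.EssentialAbelian
import Cfsg.Agent.Lib.TwoGroups.Taussky
import Cfsg.Agent.Lib.PGroups.ClassTwo

set_option autoImplicit false
set_option linter.style.haveILetI false
set_option linter.deprecated false
set_option linter.flexible false
universe u
open Cfsg Cfsg.FusionSystem

open scoped commutatorElement

namespace Cfsg.Agent.S5186

/-- Let F be a saturated fusion system over a finite p-group S and H an essential subgroup of order p³. Then H is elementary abelian, or p is odd and H is extraspecial of exponent p, or p = 2 and H is the quaternion group of order 8. -/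
theorem result {Ω : Type u} [Group Ω] {S : Subgroup Ω} [Finite S] (p : ℕ) [Fact p.Prime] (hS : IsPGroup p S)
    (F : Cfsg.FusionSystem S) (hF : F.IsSaturated p) (H : Subgroup Ω) (hH : F.IsEssential p H) (hcard : Nat.card H = p ^ 3) :
    Cfsg.IsElementaryAbelian p H ∨ (Odd p ∧ Cfsg.IsExtraspecial p ↥H ∧ ∀ x ∈ H, x ^ p = 1) ∨
      (p = 2 ∧ Nonempty (↥H ≃* QuaternionGroup 2)) := by
  classical
  have hp : p.Prime := Fact.out
  have hHS : H ≤ S := hH.1.1
  haveI := CfsgLib.Alperin.finite_of_le hHS
  have hHp : IsPGroup p H := CfsgLib.Alperin.isPGroup_of_le hS hHS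
  by_cases hab : IsMulCommutative H
  · refine Or.inl ⟨hab, ?_⟩
    haveI := hab
    letI : CommGroup H := { (inferInstance : Group H) with mul_comm := fun a b => mul_comm' a b }
    haveI := CfsgLib.Alperin.finite_autGroup F hHS
    by_cases hidx : (CfsgLib.Alperin.powSub H p).index ≤ p ^ 2
    · exfalso
      have hcore : pCore p (F.autGroup H) = ⊥ := by
        have h := (CfsgLib.Alperin.isRadical_of_essential hS hH).2
        rw [show Inn H = ⊥ from (Subgroup.eq_bot_iff_forall _).mpr (by
          rintro _ ⟨g, rfl⟩
          exact MulEquiv.ext fun x => by simp [mul_comm g x]), Subgroup.map_eq_bot_iff,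
          Subgroup.ker_subtype] at h
        exact le_bot_iff.mp h
      have hdvd : p ∣ Nat.card (F.autGroup H) := by
        obtain ⟨-, -, hn, Y, hY⟩ := hH
        exact hY.1.trans (Subgroup.card_quotient_dvd_card _)
      obtain ⟨k, -, -, ⟨e⟩, -⟩ := CfsgLib.Alperin.homocyclic_of_core_trivial hHp hdvd hcore hidx
      have h := Nat.card_congr e.toEquiv
      rw [hcard, show Nat.card (Multiplicative (ZMod (p ^ k) × ZMod (p ^ k))) = p ^ k * p ^ k from
        (Nat.card_prod _ _).trans (by rw [Nat.card_zmod]), ← pow_add] at h
      have := Nat.pow_right_injective hp.two_le h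
      omega
    · have hbot : CfsgLib.Alperin.powSub H p = ⊥ := by
        rw [← Subgroup.card_eq_one]
        have h := (CfsgLib.Alperin.powSub H p).card_mul_index
        rw [hcard] at h
        obtain ⟨i, -, hi⟩ := (Nat.dvd_prime_pow hp).mp (Dvd.intro _ h)
        obtain ⟨j, -, hj⟩ := (Nat.dvd_prime_pow hp).mp (Dvd.intro_left _ h)
        rw [hi, hj, ← pow_add] at h
        rw [hj] at hidx
        have h2 : 2 < j := by
          by_contra hle
          exact hidx (Nat.pow_le_pow_right hp.pos (by omega))
        have := Nat.pow_right_injective hp.two_le h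
        rw [hi, show i = 0 by omega, pow_zero]
      intro a ha
      have h1 : (⟨a, ha⟩ : H) ^ p ∈ CfsgLib.Alperin.powSub H p := ⟨⟨a, ha⟩, rfl⟩
      rw [hbot, Subgroup.mem_bot] at h1
      exact congrArg Subtype.val h1
  -- the nonabelian case
  have hZ : Nat.card (Subgroup.center H) = p := by
    obtain ⟨k, hk⟩ := (hHp.to_subgroup (Subgroup.center H)).exists_card_eq
    have hnt : Nontrivial H := by
      rw [← Finite.one_lt_card_iff_nontrivial, hcard]
      exact Nat.one_lt_pow (by norm_num) hp.one_lt
    haveI := hHp.center_nontrivial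
    have hk0 : k ≠ 0 := fun h0 =>
      (Finite.one_lt_card (α := Subgroup.center H)).ne' (by rw [hk, h0, pow_zero])
    have hk1 : k ≤ 1 := by
      by_contra hk2
      apply hab
      have h := (Subgroup.center H).card_eq_card_quotient_mul_card_subgroup
      rw [hcard, hk] at h
      obtain ⟨j, hj⟩ := (hHp.to_quotient (Subgroup.center H)).exists_card_eq
      rw [hj, ← pow_add] at h
      have hj1 := Nat.pow_right_injective hp.two_le h
      haveI : IsCyclic (H ⧸ Subgroup.center H) := by
        rcases Nat.le_one_iff_eq_zero_or_eq_one.mp (show j ≤ 1 by omega) with rfl | rfl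
        · haveI : Subsingleton (H ⧸ Subgroup.center H) :=
            (Nat.card_eq_one_iff_unique.mp (by simpa using hj)).1
          infer_instance
        · exact isCyclic_of_prime_card (p := p) (by simpa using hj)
      exact ⟨⟨commutative_of_cyclic_center_quotient (QuotientGroup.mk' (Subgroup.center H))
        (QuotientGroup.ker_mk' _).le⟩⟩
    rw [hk, show k = 1 by omega, pow_one]
  have hZi : (Subgroup.center H).index = p ^ 2 := by
    have h := (Subgroup.center H).card_mul_index
    rw [hZ, hcard, pow_succ'] at h
    exact Nat.eq_of_mul_eq_mul_left hp.pos h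
  have hQ : ∀ a b : H ⧸ Subgroup.center H, a * b = b * a :=
    IsPGroup.commutative_of_card_eq_prime_sq hZi
  have hcomm : ∀ x y : H, ⁅x, y⁆ ∈ Subgroup.center H := fun x y => by
    rw [← QuotientGroup.eq_one_iff]
    show QuotientGroup.mk' _ ⁅x, y⁆ = 1
    rw [map_commutatorElement]
    exact commutatorElement_eq_one_iff_mul_comm.mpr (hQ _ _)
  have hpowZ : ∀ x : H, x ^ p ∈ Subgroup.center H := by
    intro x
    rw [← QuotientGroup.eq_one_iff, QuotientGroup.mk_pow]
    by_contra hx
    apply hab
    haveI : IsCyclic (H ⧸ Subgroup.center H) := by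
      refine isCyclic_of_orderOf_eq_card (x : H ⧸ Subgroup.center H) ?_
      obtain ⟨k, hk2, hk⟩ := (Nat.dvd_prime_pow hp).mp
        ((orderOf_dvd_natCard (x : H ⧸ Subgroup.center H)).trans (dvd_of_eq hZi))
      have hk' : ¬ k < 2 := fun h => hx (orderOf_dvd_iff_pow_eq_one.mp
        (hk ▸ (pow_dvd_pow p (by omega : k ≤ 1)).trans (pow_one p).dvd))
      rw [hk, show k = 2 by omega]
      exact hZi.symm
    exact ⟨⟨commutative_of_cyclic_center_quotient (QuotientGroup.mk' (Subgroup.center H))
      (QuotientGroup.ker_mk' _).le⟩⟩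
  -- a series `⊥ < Z < W < ⊤` gives a contradiction
  have key : ∀ W : Subgroup H, Subgroup.center H ≤ W → Nat.card W = p ^ 2 →
      (∀ α : MulAut H, ∀ y ∈ W, α y ∈ W) → False := by
    intro W hW hWc hWa
    have hWi : W.index = p := by
      have h := W.card_mul_index
      rw [hWc, hcard, pow_succ p 2] at h
      exact Nat.eq_of_mul_eq_mul_left (pow_pos hp.pos 2) h
    have hZW : (Subgroup.center H).relIndex W = p := by
      have h := Subgroup.relIndex_mul_index hW
      rw [hWi, hZi, sq] at h
      exact Nat.eq_of_mul_eq_mul_right hp.pos h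
    refine CfsgLib.Alperin.false_of_essential_series hS hF hH (d := ![⊥, Subgroup.center H, W, ⊤])
      (CfsgLib.Alperin.cyclicSeries_of_relIndex (p := p) rfl rfl (fun i => ?_) (fun i => ?_)
        fun i => ?_) fun α _ i y hy => ?_
    · fin_cases i
      · exact bot_le
      · exact hW
      · exact le_top
    · fin_cases i
      · exact (inferInstance : (⊥ : Subgroup H).Normal)
      · exact (inferInstance : (Subgroup.center H).Normal)
      · exact ⟨fun n hn g => hWa (MulAut.conj g) n hn⟩
      · exact (inferInstance : (⊤ : Subgroup H).Normal)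
    · fin_cases i
      · exact (Subgroup.relIndex_bot_left _).trans hZ
      · exact hZW
      · exact (Subgroup.relIndex_top_right _).trans hWi
    · fin_cases i
      · have hy' : y = 1 := Subgroup.mem_bot.mp hy
        show α y ∈ (⊥ : Subgroup H)
        rw [hy', map_one]
        exact Subgroup.one_mem _
      · exact (Subgroup.characteristic_iff_map_le.mp
          (inferInstance : (Subgroup.center H).Characteristic) α) ⟨y, hy, rfl⟩
      · exact hWa α y hy
      · exact Subgroup.mem_top _
  by_cases hp2 : p = 2
  · subst hp2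
    rcases CfsgLib.TwoGroups.dihedral_or_quaternion_of_card_eight (G := H) (by rw [hcard]; rfl) hab
      with ⟨⟨e⟩⟩ | ⟨⟨e⟩⟩
    · exfalso
      have hr4 : ∀ g : DihedralGroup 4, g * g ≠ 1 → g = DihedralGroup.r 1 ∨ g = DihedralGroup.r 3 := by
        decide
      have hrc : ∀ g : DihedralGroup 4, (∀ h : DihedralGroup 4, h * g = g * h) →
          g = DihedralGroup.r 0 ∨ g = DihedralGroup.r 2 := by decide
      have hpw : ∀ j : Fin 4, DihedralGroup.r (1 : ZMod 4) ^ (j : ℕ) = DihedralGroup.r (j : ℕ) :=
        fun j => DihedralGroup.r_one_pow _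
      set W := (Subgroup.zpowers (DihedralGroup.r (1 : ZMod 4))).comap e.toMonoidHom with hW
      have hr : ∀ i : ZMod 4, DihedralGroup.r i ∈ Subgroup.zpowers (DihedralGroup.r (1 : ZMod 4)) :=
        fun i => ⟨(i.val : ℕ), by
          simp only [zpow_natCast, DihedralGroup.r_one_pow, ZMod.natCast_zmod_val]⟩
      refine key W (fun z hz => ?_) ?_ fun α y hy => ?_
      · show e z ∈ Subgroup.zpowers _
        rcases hrc (e z) (fun h => by
          obtain ⟨w, rfl⟩ := e.surjective h
          rw [← map_mul, ← map_mul, Subgroup.mem_center_iff.mp hz w]) with h | h <;> rw [h] <;>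
          exact hr _
      · rw [hW, ← Subgroup.card_map_of_injective (f := e.toMonoidHom) e.injective,
          Subgroup.map_comap_eq_self_of_surjective e.surjective, Nat.card_zpowers,
          DihedralGroup.orderOf_r_one]
        rfl
      · obtain ⟨j, hj⟩ := Subgroup.mem_zpowers_iff.mp hy
        have hy' : y = (e.symm (DihedralGroup.r 1)) ^ j := by
          rw [← map_zpow, hj]; exact (e.symm_apply_apply y).symm
        show e (α y) ∈ Subgroup.zpowers _
        rw [hy', map_zpow, map_zpow]
        refine Subgroup.zpow_mem _ ?_ j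
        rcases hr4 (e (α (e.symm (DihedralGroup.r 1)))) (fun h => by
          rw [← map_mul, ← map_mul, ← map_mul, MulEquiv.map_eq_one_iff, MulEquiv.map_eq_one_iff,
            MulEquiv.map_eq_one_iff] at h
          exact absurd h (by decide)) with h | h <;> rw [h] <;> exact hr _
    · exact Or.inr (Or.inr ⟨rfl, ⟨e⟩⟩)
  · refine Or.inr (Or.inl ⟨hp.odd_of_ne_two hp2, ?_, ?_⟩)
    · have hcc : commutator H = Subgroup.center H := by
        have hle : commutator H ≤ Subgroup.center H := by
          rw [commutator_def, Subgroup.commutator_le]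
          exact fun x _ y _ => hcomm x y
        refine Subgroup.eq_of_le_of_card_ge hle ?_
        rw [hZ]
        have hne : commutator H ≠ ⊥ := fun h => hab ⟨⟨fun a b =>
          commutatorElement_eq_one_iff_mul_comm.mp (Subgroup.mem_bot.mp (h.le
            (Subgroup.commutator_mem_commutator (Subgroup.mem_top a) (Subgroup.mem_top b))))⟩⟩
        obtain ⟨j, hj⟩ := (hHp.to_subgroup (commutator H)).exists_card_eq
        rw [hj]
        exact Nat.le_of_dvd (pow_pos hp.pos j) (dvd_pow_self p fun h0 =>
          hne (Subgroup.card_eq_one.mp (by rw [hj, h0, pow_zero])))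
      refine ⟨⟨hHp, le_antisymm (CfsgLib.PGroups.frattini_le_of hcc.le hpowZ) ?_, hcc⟩, hZ⟩
      rw [← hcc]
      exact CfsgLib.PGroups.commutator_le_frattini hHp
    · by_contra hexp
      push Not at hexp
      obtain ⟨x₀, hx₀, hx₀p⟩ := hexp
      let π : H →* Subgroup.center H := MonoidHom.mk' (fun x => ⟨x ^ p, hpowZ x⟩) (fun x y => by
        refine Subtype.ext ?_
        show (x * y) ^ p = x ^ p * y ^ p
        have hz := hcomm y x
        obtain ⟨t, ht⟩ := CfsgLib.PGroups.dvd_choose_two_of_odd (hp.odd_of_ne_two hp2)
        have hcp : ⁅y, x⁆ ^ p = 1 := by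
          have := pow_card_eq_one' (x := (⟨⁅y, x⁆, hz⟩ : Subgroup.center H))
          rw [hZ] at this
          exact congrArg Subtype.val this
        rw [CfsgLib.PGroups.mul_pow_of_commute (Subgroup.mem_center_iff.mp hz x).symm
          (Subgroup.mem_center_iff.mp hz y).symm, ht, pow_mul, hcp, one_pow, mul_one])
      have hker : ∀ y : H, y ∈ π.ker ↔ y ^ p = 1 := fun y =>
        ⟨fun h => congrArg Subtype.val h, fun h => Subtype.ext h⟩
      refine key π.ker (fun z hz => ?_) ?_ fun α y hy => ?_
      · have := pow_card_eq_one' (x := (⟨z, hz⟩ : Subgroup.center H))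
        rw [hZ] at this
        exact (hker z).mpr (congrArg Subtype.val this)
      · have h1 := π.ker.card_mul_index
        rw [Subgroup.index_ker, hcard] at h1
        have hr : Nat.card π.range = p := by
          rcases (Nat.dvd_prime hp).mp (hZ ▸ Subgroup.card_subgroup_dvd_card π.range) with h | h
          · exfalso
            apply hx₀p
            have h2 : π ⟨x₀, hx₀⟩ ∈ π.range := ⟨_, rfl⟩
            rw [Subgroup.card_eq_one.mp h, Subgroup.mem_bot] at h2
            exact congrArg Subtype.val ((hker ⟨x₀, hx₀⟩).mp h2)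
          · exact h
        rw [hr, pow_succ p 2] at h1
        exact Nat.eq_of_mul_eq_mul_right hp.pos h1
      · rw [hker] at hy ⊢
        rw [← map_pow, hy, map_one]

end Cfsg.Agent.S5186
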