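import Cfsg.Statements.S5187
import Cfsg.Agent.Lib.Alperin.EssentialAbelian
import Cfsg.Agent.Lib.Alperin.Theorem

set_option autoImplicit false
set_option linter.style.haveILetI false
universe u
open Cfsg Cfsg.FusionSystem

namespace Cfsg.Agent.S5187

/-- Let F be a saturated fusion system over a finite p-group S and H an abelian essential subgroup that can be generated by two elements (its Frattini quotient has order at most p²). Then H is elementary abelian of order p², or p ≤ 3 and H is homocyclic of rank two, that is isomorphic to C_{pᵏ} × C_{pᵏ} for some k. -/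
theorem result {Ω : Type u} [Group Ω] {S : Subgroup Ω} [Finite S] (p : ℕ) [Fact p.Prime] (hS : IsPGroup p S)
    (F : Cfsg.FusionSystem S) (hF : F.IsSaturated p) (H : Subgroup Ω) (hH : F.IsEssential p H) (hab : IsMulCommutative ↥H) (hrk : (frattini ↥H).index ≤ p ^ 2) :
    (Cfsg.IsElementaryAbelian p H ∧ Nat.card H = p ^ 2) ∨
      (p ≤ 3 ∧ ∃ k : ℕ, Nonempty (↥H ≃* Multiplicative (ZMod (p ^ k) × ZMod (p ^ k)))) := by
  classical
  have hHS : H ≤ S := hH.1.1
  haveI := CfsgLib.Alperin.finite_of_le hHS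
  haveI := CfsgLib.Alperin.finite_mulAut (P := H)
  haveI := CfsgLib.Alperin.finite_autGroup F hHS
  haveI := hab
  letI : CommGroup H := { (inferInstance : Group H) with mul_comm := fun a b => mul_comm' a b }
  have hHp : IsPGroup p H := CfsgLib.Alperin.isPGroup_of_le hS hHS
  have hInn : Inn H = ⊥ := by
    refine (Subgroup.eq_bot_iff_forall _).mpr ?_
    rintro _ ⟨g, rfl⟩
    exact MulEquiv.ext fun x => by simp [mul_comm g x]
  have hcore : pCore p (F.autGroup H) = ⊥ := by
    have h := (CfsgLib.Alperin.isRadical_of_essential hS hH).2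
    rw [hInn, Subgroup.map_eq_bot_iff, Subgroup.ker_subtype] at h
    exact le_bot_iff.mp h
  have hdvd : p ∣ Nat.card (F.autGroup H) := by
    obtain ⟨-, -, hn, Y, hY⟩ := hH
    exact hY.1.trans (Subgroup.card_quotient_dvd_card _)
  obtain ⟨k, hk, h1, hiso, h2⟩ := CfsgLib.Alperin.homocyclic_of_core_trivial hHp hdvd hcore
    ((CfsgLib.Alperin.powSub_eq_frattini hHp).symm ▸ hrk)
  rcases Nat.lt_or_ge k 2 with hlt | hge
  · obtain ⟨hexp, hcard⟩ := h1 (by omega)
    exact Or.inl ⟨⟨hab, fun a ha => congrArg Subtype.val (hexp ⟨a, ha⟩)⟩, hcard⟩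
  · exact Or.inr ⟨h2 hge, k, hiso⟩

end Cfsg.Agent.S5187
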