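import Cfsg.Statements.S5188
import Cfsg.Agent.Lib.Alperin.OrderFour
import Cfsg.Agent.Lib.Alperin.EssentialAbelian
import Mathlib.Algebra.Group.TransferInstance

set_option autoImplicit false
set_option linter.style.haveILetI false
universe u
open Cfsg Cfsg.FusionSystem

namespace Cfsg.Agent.S5188

/-- The homomorphism from a cyclic group with a given image of the generator. -/
def zmodHom {G : Type*} [Group G] (n : ℕ) (g : G) (hg : g ^ n = 1) :
    Multiplicative (ZMod n) →* G :=
  (ZMod.lift n ⟨zmultiplesHom (Additive G) (Additive.ofMul g), by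
    rw [zmultiplesHom_apply, natCast_zsmul, ← ofMul_pow, hg, ofMul_one]⟩).toMultiplicativeLeft

theorem zmodHom_apply {G : Type*} [Group G] (n : ℕ) (g : G) (hg : g ^ n = 1) (i : ℤ) :
    zmodHom n g hg (Multiplicative.ofAdd ((i : ZMod n))) = g ^ i := by
  show Additive.toMul (ZMod.lift n _ (i : ZMod n)) = _
  rw [ZMod.lift_coe]
  rfl

/-- An abelian group of order `p ^ 4` whose `p`-th powers form a group of order `p`. -/
theorem iso_of_powSub_card {G : Type*} [CommGroup G] [Finite G] {p : ℕ} [Fact p.Prime]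
    (hG : IsPGroup p G) (hcard : Nat.card G = p ^ 4)
    (hD : Nat.card (CfsgLib.Alperin.powSub G p) = p) :
    Nonempty (G ≃* Multiplicative (ZMod (p ^ 2) × ZMod p × ZMod p)) := by
  classical
  have hp : p.Prime := Fact.out
  let O : Subgroup G := (powMonoidHom p : G →* G).ker
  have hOc : Nat.card O = p ^ 3 := by
    have h := O.card_mul_index
    rw [Subgroup.index_ker, show Nat.card (powMonoidHom p : G →* G).range = p from hD, hcard,
      pow_succ p 3] at h
    exact Nat.eq_of_mul_eq_mul_right hp.pos h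
  have hexp : ∀ g : G, g ^ p ^ 2 = 1 := fun g => by
    have h := pow_card_eq_one' (x := (⟨g ^ p, g, rfl⟩ : CfsgLib.Alperin.powSub G p))
    rw [hD] at h
    rw [sq, pow_mul]
    exact congrArg Subtype.val h
  obtain ⟨x, hx⟩ : ∃ x, x ∉ O := by
    by_contra hcon
    push Not at hcon
    have h : O = ⊤ := eq_top_iff.mpr fun g _ => hcon g
    rw [h, Subgroup.card_top, hcard] at hOc
    have := Nat.pow_right_injective hp.two_le hOc
    omega
  have hxo : orderOf x = p ^ 2 := orderOf_eq_prime_pow (n := 1) (by rwa [pow_one]) (hexp x)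
  set X := Subgroup.zpowers x
  have hXc : Nat.card X = p ^ 2 := (Nat.card_zpowers x).trans hxo
  obtain ⟨y, hyO, hyX⟩ : ∃ y ∈ O, y ∉ X := by
    by_contra hcon
    push Not at hcon
    have h := Subgroup.card_le_of_le (show O ≤ X from hcon)
    rw [hOc, hXc] at h
    have := (Nat.pow_le_pow_iff_right hp.one_lt).mp h
    omega
  have hyp : y ^ p = 1 := hyO
  set Y := X ⊔ Subgroup.zpowers y with hY
  have hYc : Nat.card Y ≤ p ^ 3 := by
    have h1 := (X.subgroupOf Y).card_mul_index
    rw [Nat.card_congr (Subgroup.subgroupOfEquivOfLe (le_sup_left : X ≤ Y)).toEquiv, hXc] at h1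
    rw [← h1, show (X.subgroupOf Y).index = X.relIndex Y from rfl, hY, sup_comm,
      Subgroup.relIndex_sup_right, pow_succ p 2]
    refine Nat.mul_le_mul_left _ ((Nat.le_of_dvd Nat.card_pos (Subgroup.relIndex_dvd_card _ _)).trans ?_)
    rw [Nat.card_zpowers]
    exact orderOf_le_of_pow_eq_one hp.pos hyp
  obtain ⟨z, hzO, hzY⟩ : ∃ z ∈ O, z ∉ Y := by
    by_contra hcon
    push Not at hcon
    have h : O = Y := Subgroup.eq_of_le_of_card_ge hcon (hYc.trans_eq hOc.symm)
    exact hx (h.ge (Subgroup.mem_sup_left (Subgroup.mem_zpowers x)))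
  have hzp : z ^ p = 1 := hzO
  have htop : Y ⊔ Subgroup.zpowers z = ⊤ := by
    have h1 : X < Y := lt_of_le_of_ne le_sup_left fun h =>
      hyX (h.ge (Subgroup.mem_sup_right (Subgroup.mem_zpowers y)))
    have h2 : Y < Y ⊔ Subgroup.zpowers z := lt_of_le_of_ne le_sup_left fun h =>
      hzY (h.ge (Subgroup.mem_sup_right (Subgroup.mem_zpowers z)))
    obtain ⟨i, hi⟩ := (hG.to_subgroup Y).exists_card_eq
    obtain ⟨j, hj⟩ := (hG.to_subgroup (Y ⊔ Subgroup.zpowers z)).exists_card_eq
    have e1 : Nat.card X < Nat.card Y := lt_of_not_ge fun h =>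
      h1.ne (Subgroup.eq_of_le_of_card_ge h1.le h)
    have e2 : Nat.card Y < Nat.card (Y ⊔ Subgroup.zpowers z : Subgroup G) := lt_of_not_ge fun h =>
      h2.ne (Subgroup.eq_of_le_of_card_ge h2.le h)
    rw [hXc, hi] at e1
    rw [hi, hj] at e2
    have := (Nat.pow_lt_pow_iff_right hp.one_lt).mp e1
    have := (Nat.pow_lt_pow_iff_right hp.one_lt).mp e2
    refine Subgroup.eq_top_of_le_card _ ?_
    rw [hcard, hj]
    exact Nat.pow_le_pow_right hp.pos (by omega)
  let fx := zmodHom (p ^ 2) x (hexp x)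
  let fy := zmodHom p y hyp
  let fz := zmodHom p z hzp
  let φ : Multiplicative (ZMod (p ^ 2) × ZMod p × ZMod p) →* G :=
    { toFun := fun t => fx (Multiplicative.ofAdd (Multiplicative.toAdd t).1) *
        fy (Multiplicative.ofAdd (Multiplicative.toAdd t).2.1) *
        fz (Multiplicative.ofAdd (Multiplicative.toAdd t).2.2)
      map_one' := by simp
      map_mul' := fun s t => by
        simp only [toAdd_mul, Prod.fst_add, Prod.snd_add, ofAdd_add, map_mul]
        simp only [mul_assoc, mul_left_comm] }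
  have hφ : Function.Surjective φ := by
    rw [← MonoidHom.range_eq_top, eq_top_iff, ← htop]
    refine sup_le (sup_le ?_ ?_) ?_ <;> rw [Subgroup.zpowers_le]
    · exact ⟨Multiplicative.ofAdd ((((1 : ℤ) : ZMod (p ^ 2))), 0, 0), by
        show fx _ * fy _ * fz _ = x
        simp only [toAdd_ofAdd, ofAdd_zero, map_one, mul_one]
        exact (zmodHom_apply _ _ _ 1).trans (zpow_one x)⟩
    · exact ⟨Multiplicative.ofAdd (0, ((1 : ℤ) : ZMod p), 0), by
        show fx _ * fy _ * fz _ = y
        simp only [toAdd_ofAdd, ofAdd_zero, map_one, mul_one, one_mul]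
        exact (zmodHom_apply _ _ _ 1).trans (zpow_one y)⟩
    · exact ⟨Multiplicative.ofAdd (0, 0, ((1 : ℤ) : ZMod p)), by
        show fx _ * fy _ * fz _ = z
        simp only [toAdd_ofAdd, ofAdd_zero, map_one, one_mul]
        exact (zmodHom_apply _ _ _ 1).trans (zpow_one z)⟩
  haveI : NeZero (p ^ 2) := ⟨(pow_pos hp.pos 2).ne'⟩
  haveI : NeZero p := ⟨hp.pos.ne'⟩
  refine ⟨(MulEquiv.ofBijective φ (hφ.bijective_of_nat_card_le ?_)).symm⟩
  rw [hcard, show Nat.card (Multiplicative (ZMod (p ^ 2) × ZMod p × ZMod p)) = p ^ 2 * (p * p) from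
    (Nat.card_prod _ _).trans (by rw [Nat.card_prod, Nat.card_zmod, Nat.card_zmod])]
  exact le_of_eq (by ring)

/-- The direct product decomposition over a central subgroup of order `p`. -/
theorem iso_prod_of_central {G : Type*} [Group G] [Finite G] {p : ℕ} [Fact p.Prime]
    (hG : IsPGroup p G) (hcard : Nat.card G = p ^ 4) {M : Subgroup G} {c : G} (hco : orderOf c = p)
    (hc : c ∈ Subgroup.center G) (hM : Nat.card M = p ^ 3) (hcM : c ∉ M) :
    Nonempty (G ≃* M × Multiplicative (ZMod p)) := by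
  have hp : p.Prime := Fact.out
  haveI : NeZero p := ⟨hp.pos.ne'⟩
  let g : Subgroup.center G := ⟨c, hc⟩
  have hg : g ^ p = 1 := Subtype.ext (by
    show c ^ p = 1
    rw [← hco, pow_orderOf_eq_one])
  let f := zmodHom p g hg
  let φ : M × Multiplicative (ZMod p) →* G :=
    { toFun := fun t => (t.1 : G) * (f t.2 : G)
      map_one' := by simp
      map_mul' := fun s t => by
        simp only [Prod.fst_mul, Prod.snd_mul, map_mul, Subgroup.coe_mul]
        rw [mul_assoc, ← mul_assoc (t.1 : G), Subgroup.mem_center_iff.mp (f s.2).2 (t.1 : G)]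
        simp only [mul_assoc] }
  have hφ : Function.Surjective φ := by
    rw [← MonoidHom.range_eq_top]
    have hle : M ≤ φ.range := fun m hm => ⟨(⟨m, hm⟩, 1), by
      show m * (f 1 : G) = m
      rw [map_one, Subgroup.coe_one, mul_one]⟩
    have hcr : c ∈ φ.range := ⟨(1, Multiplicative.ofAdd ((1 : ℤ) : ZMod p)), by
      show ((1 : M) : G) * (f _ : G) = c
      rw [zmodHom_apply, zpow_one, Subgroup.coe_one, one_mul]⟩
    obtain ⟨j, hj⟩ := (hG.to_subgroup φ.range).exists_card_eq
    have hlt : Nat.card M < Nat.card φ.range := lt_of_not_ge fun h =>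
      hcM ((Subgroup.eq_of_le_of_card_ge hle h).ge hcr)
    rw [hM, hj] at hlt
    have := (Nat.pow_lt_pow_iff_right hp.one_lt).mp hlt
    refine Subgroup.eq_top_of_le_card _ ?_
    rw [hcard, hj]
    exact Nat.pow_le_pow_right hp.pos (by omega)
  refine ⟨(MulEquiv.ofBijective φ (hφ.bijective_of_nat_card_le ?_)).symm⟩
  rw [hcard, Nat.card_prod, hM, show Nat.card (Multiplicative (ZMod p)) = p from Nat.card_zmod p,
    ← pow_succ]

/-- Let F be a saturated fusion system over a finite p-group S and H an essential subgroup of order p⁴. Then H is isomorphic to one of: C_p⁴ or C_{p²} × C_p × C_p (any p); C_{p²} × C_{p²} with p ∈ {2, 3}; p^{1+2}_+ × C_p with p odd (the direct product of an extraspecial group of order p³ and exponent p with a group of order p); Q₈ × C₂ (p = 2); or the non-abelian group of order p⁴ of exponent p² whose centre is cyclic of order p² (the central product of an extraspecial group of order p³ with a cyclic group of order p²; for p = 2 this is D₈ ∘ C₄). -/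
theorem result {Ω : Type u} [Group Ω] {S : Subgroup Ω} [Finite S] (p : ℕ) [Fact p.Prime] (hS : IsPGroup p S)
    (F : Cfsg.FusionSystem S) (hF : F.IsSaturated p) (H : Subgroup Ω) (hH : F.IsEssential p H) (hcard : Nat.card H = p ^ 4) :
    Cfsg.IsElementaryAbelian p H ∨
      Nonempty (↥H ≃* Multiplicative (ZMod (p ^ 2) × ZMod p × ZMod p)) ∨
      ((p = 2 ∨ p = 3) ∧ Nonempty (↥H ≃* Multiplicative (ZMod (p ^ 2) × ZMod (p ^ 2)))) ∨
      (Odd p ∧ ∃ (E : Type) (_ : Group E) (_ : Finite E), Cfsg.IsExtraspecial p E ∧ Nat.card E = p ^ 3 ∧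
        (∀ x : E, x ^ p = 1) ∧ Nonempty (↥H ≃* E × Multiplicative (ZMod p))) ∨
      (p = 2 ∧ Nonempty (↥H ≃* QuaternionGroup 2 × Multiplicative (ZMod 2))) ∨
      (¬ IsMulCommutative ↥H ∧ (∀ x ∈ H, x ^ (p ^ 2) = 1) ∧ IsCyclic ↥(Subgroup.center ↥H) ∧
        Nat.card (Subgroup.center ↥H) = p ^ 2) := by
  classical
  have hp : p.Prime := Fact.out
  have hHS : H ≤ S := hH.1.1
  haveI := CfsgLib.Alperin.finite_of_le hHS
  have hHp : IsPGroup p H := CfsgLib.Alperin.isPGroup_of_le hS hHS
  by_cases hab : IsMulCommutative H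
  · haveI := hab
    letI : CommGroup H := { (inferInstance : Group H) with mul_comm := fun a b => mul_comm' a b }
    haveI := CfsgLib.Alperin.finite_autGroup F hHS
    by_cases hidx : (CfsgLib.Alperin.powSub H p).index ≤ p ^ 2
    · have hcore : pCore p (F.autGroup H) = ⊥ := by
        have h := (CfsgLib.Alperin.isRadical_of_essential hS hH).2
        rw [show Inn H = ⊥ from (Subgroup.eq_bot_iff_forall _).mpr (by
          rintro _ ⟨g, rfl⟩
          exact MulEquiv.ext fun x => by simp [mul_comm g x]), Subgroup.map_eq_bot_iff,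
          Subgroup.ker_subtype] at h
        exact le_bot_iff.mp h
      have hdvd : p ∣ Nat.card (F.autGroup H) := by
        obtain ⟨-, -, hn, Y, hY⟩ := hH
        exact hY.1.trans (Subgroup.card_quotient_dvd_card _)
      obtain ⟨k, -, -, ⟨e⟩, h3⟩ := CfsgLib.Alperin.homocyclic_of_core_trivial hHp hdvd hcore hidx
      have h := Nat.card_congr e.toEquiv
      rw [hcard, show Nat.card (Multiplicative (ZMod (p ^ k) × ZMod (p ^ k))) = p ^ k * p ^ k from
        (Nat.card_prod _ _).trans (by rw [Nat.card_zmod]), ← pow_add] at h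
      have := Nat.pow_right_injective hp.two_le h
      obtain rfl : k = 2 := by omega
      refine Or.inr (Or.inr (Or.inl ⟨?_, ⟨e⟩⟩))
      have hp3 := h3 le_rfl
      have hp2 := hp.two_le
      omega
    · obtain ⟨j, hj⟩ := (hHp.to_subgroup (CfsgLib.Alperin.powSub H p)).exists_card_eq
      obtain ⟨i, hi⟩ := (hHp.to_quotient (CfsgLib.Alperin.powSub H p)).exists_card_eq
      have h := (CfsgLib.Alperin.powSub H p).card_mul_index
      rw [hcard, hj, show (CfsgLib.Alperin.powSub H p).index = p ^ i from hi, ← pow_add] at h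
      have := Nat.pow_right_injective hp.two_le h
      have hi2 : ¬ i ≤ 2 := fun h => hidx ((le_of_eq hi).trans (Nat.pow_le_pow_right hp.pos h))
      rcases Nat.le_one_iff_eq_zero_or_eq_one.mp (show j ≤ 1 by omega) with rfl | rfl
      · refine Or.inl ⟨hab, fun a ha => ?_⟩
        have h1 : (⟨a, ha⟩ : H) ^ p ∈ CfsgLib.Alperin.powSub H p := ⟨⟨a, ha⟩, rfl⟩
        rw [Subgroup.card_eq_one.mp (hj.trans (pow_zero p)), Subgroup.mem_bot] at h1
        exact congrArg Subtype.val h1
      · exact Or.inr (Or.inl (iso_of_powSub_card hHp hcard (hj.trans (pow_one p))))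
  -- the nonabelian case
  have hbad : CfsgLib.Alperin.NoInvariantSeries H := fun m d hd hall =>
    CfsgLib.Alperin.false_of_essential_series hS hF hH hd fun α _ => hall α
  obtain ⟨⟨hZ, hexp⟩, hcase⟩ := CfsgLib.Alperin.cases_of_noInvariantSeries hbad hHp hab hcard
  rcases hcase with hcyc | ⟨M, c, hco, hcZ, hMc, hcM, hMab, hM⟩
  · exact Or.inr (Or.inr (Or.inr (Or.inr (Or.inr ⟨hab,
      fun x hx => congrArg Subtype.val (hexp ⟨x, hx⟩), hcyc, hZ⟩))))
  obtain ⟨e⟩ := iso_prod_of_central hHp hcard hco hcZ hMc hcM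
  rcases hM with ⟨hodd, hp1⟩ | ⟨hp2, ⟨eq⟩⟩
  · obtain ⟨E, iE, iF, ⟨eM⟩⟩ := Finite.exists_type_univ_nonempty_mulEquiv.{u, 0} M
    letI := iE
    haveI := iF
    have hEc : Nat.card E = p ^ 3 := (Nat.card_congr eM.toEquiv).symm.trans hMc
    have hEab : ¬ IsMulCommutative E := fun hE => hMab ⟨⟨fun a b => eM.injective (by
      rw [map_mul, map_mul]; exact hE.is_comm.comm _ _)⟩⟩
    refine Or.inr (Or.inr (Or.inr (Or.inl ⟨hodd, E, iE, inferInstance,
      (CfsgLib.Alperin.extraspecial_of_card_cube (IsPGroup.of_card hEc) hEab hEc).2, hEc,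
      fun x => ?_, ⟨e.trans (eM.prodCongr (MulEquiv.refl _))⟩⟩)))
    obtain ⟨m, rfl⟩ := eM.surjective x
    rw [← map_pow, MulEquiv.map_eq_one_iff]
    exact Subtype.ext (hp1 m)
  · subst hp2
    exact Or.inr (Or.inr (Or.inr (Or.inr (Or.inl ⟨rfl,
      ⟨e.trans (eq.prodCongr (MulEquiv.refl _))⟩⟩))))

end Cfsg.Agent.S5188
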