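import Cfsg.Statements.S5191
import Mathlib
-- import your own Cfsg.Agent.* helpers here

set_option autoImplicit false
open Cfsg

namespace Cfsg.Agent.S5191

/-- Fusion in a finite group G and in its quotient by O_{p'}(G) agree. Let S be a Sylow p-subgroup of G, N = O_{p'}(G) and P ≤ S. If an element of G/N conjugates the image of P into the image of S, then some element g of G conjugates P into S and induces the same map on P modulo N. (Together with the injectivity of S → G/N this says that g ↦ gN induces an isomorphism of the fusion system of G on S with that of G/N on SN/N.) -/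
theorem result {G : Type*} [Group G] [Finite G] {p : ℕ} [Fact p.Prime]
    [hN : (Cfsg.pPrimeCore p G).Normal] (S : Sylow p G) (P : Subgroup G) (hP : P ≤ (S : Subgroup G))
    (γ : G ⧸ Cfsg.pPrimeCore p G)
    (hγ : ∀ x ∈ P, γ * QuotientGroup.mk x * γ⁻¹ ∈ ((S : Subgroup G).map (QuotientGroup.mk' (Cfsg.pPrimeCore p G)))) :
    ∃ g : G, ∀ x ∈ P, g * x * g⁻¹ ∈ S ∧
      (QuotientGroup.mk (g * x * g⁻¹) : G ⧸ Cfsg.pPrimeCore p G) = γ * QuotientGroup.mk x * γ⁻¹ := by
  obtain ⟨g₀, rfl⟩ := QuotientGroup.mk_surjective γ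
  let M : Subgroup G := (S : Subgroup G) ⊔ Cfsg.pPrimeCore p G
  let K : Subgroup G := P.map (MulAut.conj g₀).toMonoidHom
  have hKM : K ≤ M := by
    rintro _ ⟨x, hx, rfl⟩
    obtain ⟨s, hs, hse⟩ := hγ x hx
    have : (QuotientGroup.mk s : G ⧸ Cfsg.pPrimeCore p G) = QuotientGroup.mk (g₀ * x * g₀⁻¹) := by
      simpa using hse
    have hn : s⁻¹ * (g₀ * x * g₀⁻¹) ∈ Cfsg.pPrimeCore p G := QuotientGroup.eq.mp this
    have : s * (s⁻¹ * (g₀ * x * g₀⁻¹)) ∈ M :=
      M.mul_mem (Subgroup.mem_sup_left hs) (Subgroup.mem_sup_right hn)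
    simpa [← mul_assoc] using this
  have hK : IsPGroup p K := (S.isPGroup'.to_le hP).map _
  let S' : Sylow p M := S.subtype (le_sup_left)
  obtain ⟨R, hR⟩ := (hK.comap_subtype (K := M)).exists_le_sylow
  obtain ⟨m, hm⟩ := MulAction.exists_smul_eq M R S'
  obtain ⟨s, hs, n, hn, hsn⟩ := Subgroup.mem_sup_of_normal_right.mp m.2
  refine ⟨n * g₀, fun x hx => ⟨?_, ?_⟩⟩
  · have hxK : g₀ * x * g₀⁻¹ ∈ K := ⟨x, hx, rfl⟩
    have h1 : (⟨_, hKM hxK⟩ : M) ∈ (R : Subgroup M) := hR hxK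
    have h2 : m * ⟨_, hKM hxK⟩ * m⁻¹ ∈ (S' : Subgroup M) := by
      rw [← hm]
      exact Subgroup.smul_mem_pointwise_smul _ (MulAut.conj m) _ h1
    have h3 : (m : G) * (g₀ * x * g₀⁻¹) * (m : G)⁻¹ ∈ (S : Subgroup G) := h2
    have h4 := (S : Subgroup G).mul_mem ((S : Subgroup G).mul_mem ((S : Subgroup G).inv_mem hs) h3) hs
    rw [← hsn] at h4
    have : s⁻¹ * (s * n * (g₀ * x * g₀⁻¹) * (s * n)⁻¹) * s = n * g₀ * x * (n * g₀)⁻¹ := by group
    rw [this] at h4
    exact h4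
  · have : (QuotientGroup.mk n : G ⧸ Cfsg.pPrimeCore p G) = 1 := (QuotientGroup.eq_one_iff n).mpr hn
    simp [this]

end Cfsg.Agent.S5191
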