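import Cfsg.Statements.S5192
import Cfsg.Agent.Lib.FusionExamples.SaturatedBiset
import Cfsg.Agent.Lib.FusionBasics.PPower.Transfer
import Cfsg.Agent.Lib.FusionBasics.Focal
import Cfsg.Agent.Lib.Cores.YoshidaCocycle
-- import your own Cfsg.Agent.* helpers here

set_option autoImplicit false
open Cfsg

namespace Cfsg.Agent.S5192

set_option linter.style.haveILetI false

open Cfsg.FusionSystem CfsgLib.Alperin CfsgLib.FusionExamples CfsgLib.FusionExamples.Biset
  CfsgLib.FusionExamples.Monomial CfsgLib.FusionBasics.PPower CfsgLib.FusionExamples.Marks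

universe u

/-- An element of order two that a subgroup normalizing its cyclic group centralizes. -/
theorem commute_of_normalizer {Ω : Type u} [Group Ω] {j g : Ω} (hj : j ^ 2 = 1)
    (hg : g ∈ Subgroup.normalizer (Subgroup.zpowers j : Set Ω)) : g * j = j * g := by
  have h1 := CfsgLib.Alperin.mem_normalizer_conj hg (Subgroup.mem_zpowers j)
  obtain ⟨k, hk⟩ := Subgroup.mem_zpowers_iff.mp h1
  rcases Int.even_or_odd k with ⟨l, hl⟩ | ⟨l, hl⟩
  · rw [hl, ← two_mul, zpow_mul, zpow_two, ← pow_two, hj, one_zpow] at hk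
    have : j = 1 := by
      have h2 := congrArg (fun x => g⁻¹ * x * g) hk
      simpa [mul_assoc] using h2.symm
    simp [this]
  · rw [hl, zpow_add, zpow_mul, zpow_two, ← pow_two, hj, one_zpow, one_mul, zpow_one] at hk
    calc g * j = g * j * g⁻¹ * g := by group
      _ = j * g := by rw [← hk]

theorem not_mem_focal {Ω : Type u} [Group Ω] {S : Subgroup Ω} [Finite S]
    (hS : IsPGroup 2 S) {F : Cfsg.FusionSystem S} (hF : F.IsSaturated 2)
    (T : Subgroup Ω) (hT : T.relIndex S = 2)
    (j : S) (hj2 : (j : Ω) ^ 2 = 1) (hfn : F.IsFullyNormalized (Subgroup.zpowers (j : Ω)))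
    (h : ∀ k : Ω, F.IsConjElt (j : Ω) k → F.IsFullyNormalized (Subgroup.zpowers k) → k ∉ T) :
    (j : Ω) ∉ F.focalSubgroup := by
  classical
  intro hjf
  have e1 : Multiplicative.ofAdd (1 : ZMod 2) ≠ 1 := by decide
  have e2 : (1 : Multiplicative (ZMod 2)) = Multiplicative.ofAdd 1 * Multiplicative.ofAdd 1 := by decide
  have e3 : orderOf (Multiplicative.ofAdd (1 : ZMod 2)) = 2 := orderOf_eq_prime (p := 2) (hp := ⟨Nat.prime_two⟩) (by decide) e1
  haveI : Fact (Nat.Prime 2) := ⟨Nat.prime_two⟩
  set T' : Subgroup S := T.subgroupOf S with hT'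
  have hidx : T'.index = 2 := hT
  let θ : S →* Multiplicative (ZMod 2) :=
    { toFun := fun v => if v ∈ T' then 1 else Multiplicative.ofAdd 1
      map_one' := if_pos (one_mem _)
      map_mul' := fun a b => by
        have hab := Subgroup.mul_mem_iff_of_index_two hidx (a := a) (b := b)
        by_cases ha : a ∈ T' <;> by_cases hb : b ∈ T' <;> simp [hab, ha, hb, ← e2] }
  have hθ : ∀ v, θ v = 1 ↔ v ∈ T' := fun v => by
    show (if v ∈ T' then (1 : Multiplicative (ZMod 2)) else Multiplicative.ofAdd 1) = 1 ↔ _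
    by_cases hv : v ∈ T'
    · simp [hv]
    · simp only [hv, if_false, iff_false]
      exact e1
  -- the biset
  obtain ⟨m, hm, d, hd, hmcard⟩ := exists_stable_saturated hS hF (isCentral_bot F)
  have hfree : ∀ (b : S) (x : RightSet m), b • x = x → b = 1 := by
    intro b x hb
    have h1 : ((1 : S), b) ∈ MulAction.stabilizer (↥S × ↥S) (show MSet m from x) := hb
    exact congrArg Prod.snd
      ((stabilizer_mem (isCentral_bot F) hm.1 (show MSet m from x)).2.fst_injective h1
        (one_mem _) rfl)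
  haveI : Finite (Orb S (RightSet m)) := Quotient.finite _
  letI := Fintype.ofFinite (Orb S (RightSet m))
  have hn : ¬ 2 ∣ Nat.card (Orb S (RightSet m)) := by
    have h : Nat.card (RightSet m) = Nat.card (Orb S (RightSet m)) * Nat.card S := by
      rw [← Nat.card_prod]
      exact Nat.card_congr
        { toFun := fun x => (orb x, co x)
          invFun := fun q => q.2 • sec q.1
          left_inv := fun x => co_spec x
          right_inv := fun q => by
            obtain ⟨h1, h2⟩ := eq_of_smul_sec hfree (x := q.2 • sec q.1) rfl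
            exact Prod.ext h1 h2 }
    rwa [Nat.eq_of_mul_eq_mul_right Nat.card_pos (h.symm.trans hmcard)]
  let L := leftHom m
  letI := orbAction hfree
  letI actS : MulAction S (Orb S (RightSet m)) := MulAction.compHom _ L
  have hsmul : ∀ (v : S) (y : Orb S (RightSet m)), v • y = orbMove (L v) y := fun _ _ => rfl
  let f : S → Orb S (RightSet m) → Multiplicative (ZMod 2) := fun v y => θ (coeff (L v) y)
  have hf : ∀ u v y, f (u * v) y = f v y * f u (v • y) := fun u v y => by
    show θ _ = θ _ * θ _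
    rw [← map_mul θ, map_mul L, (move_mul hfree _ _ _).2, ← hsmul]
  -- the graphs at the stabilisers
  have hgraph : ∀ y : Orb S (RightSet m), ∃ (P : Subgroup Ω) (χ : P →* Ω), χ ∈ F.Hom P ∧
      ∀ v : S, v • y = y → ∃ h : (v : Ω) ∈ P, χ ⟨v, h⟩ = (((coeff (L v) y)⁻¹ : S) : Ω) := by
    intro y
    obtain ⟨χ, hχ, hχx⟩ :=
      (stabilizer_mem (isCentral_bot F) hm.1 (show MSet m from (sec y : RightSet m))).2
    refine ⟨_, χ, hχ, fun v hv => ?_⟩
    have h1 := apply_sec (L v) y
    rw [hsmul] at hv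
    rw [hv] at h1
    have hstab : ((v, (coeff (L v) y)⁻¹) : ↥S × ↥S) ∈
        MulAction.stabilizer (↥S × ↥S) (show MSet m from (sec y : RightSet m)) := by
      rw [MulAction.mem_stabilizer_iff,
        show ((v, (coeff (L v) y)⁻¹) : ↥S × ↥S) =
          ((1 : S), (coeff (L v) y)⁻¹) * ((v, 1) : ↥S × ↥S) from
            Prod.ext (one_mul _).symm (mul_one _).symm, mul_smul]
      show (coeff (L v) y)⁻¹ • ((L v : Equiv.Perm (RightSet m)) (sec y)) = sec y
      rw [h1, inv_smul_smul]
    exact ⟨fst_mem hstab, hχx _ hstab⟩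
  choose P χ hχ hχv using hgraph
  -- the transfer vanishes on the focal subgroup
  have htot : ∏ y, f j y = 1 := by
    let t : S →* Multiplicative (ZMod 2) := (transfer hfree θ).comp L
    have hfoc : F.focalSubgroup ≤ t.ker.map S.subtype := by
      refine (Subgroup.closure_le _).mpr ?_
      rintro _ ⟨Q, φ, x, hφ, rfl⟩
      obtain ⟨g, hg⟩ := exists_conj_leftHom (isCentral_bot F) hm hφ bot_le
      refine ⟨(⟨x, dom_le hφ x.2⟩ : ↥S)⁻¹ * ⟨φ x, apply_mem hφ x⟩, ?_, rfl⟩
      show t _ = 1
      rw [map_mul, map_inv]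
      show (transfer hfree θ _)⁻¹ * transfer hfree θ _ = 1
      rw [show L ⟨φ x, apply_mem hφ x⟩ = _ from hg x, map_mul, map_mul, map_inv,
        mul_comm (transfer hfree θ g), mul_inv_cancel_right, inv_mul_cancel]
    obtain ⟨s', hs', he⟩ := hfoc hjf
    rw [show s' = j from Subtype.ext he] at hs'
    exact hs'
  -- only fixed orbits count
  have hpow : ∀ q, 2 ∣ q → j ^ q = 1 := by
    rintro q ⟨k, rfl⟩
    exact Subtype.ext (by rw [SubmonoidClass.coe_pow, pow_mul, hj2, one_pow, OneMemClass.coe_one])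
  rw [CfsgLib.Cores.prod_eq_prod_fixed hS hf j (fun q y hq _ => by
    rw [hpow q hq, CfsgLib.Cores.cocycle_one hf]) Finset.univ (fun y _ => Finset.mem_univ _)] at htot
  set Fx := Finset.univ.filter fun y : Orb S (RightSet m) => j • y = y with hFx
  set W := Fx.filter fun y => f j y = 1 with hW
  -- the number of fixed orbits is odd
  have hFxodd : ¬ 2 ∣ Fx.card := by
    have hc := (hS.to_subgroup (Subgroup.zpowers j)).card_modEq_card_fixedPoints
      (Orb S (RightSet m))
    have he : Nat.card (MulAction.fixedPoints (Subgroup.zpowers j) (Orb S (RightSet m))) =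
        Fx.card := by
      rw [Nat.card_eq_card_toFinset]
      congr 1
      ext y
      simp only [hFx, Set.mem_toFinset, MulAction.mem_fixedPoints, Finset.mem_filter,
        Finset.mem_univ, true_and]
      refine ⟨fun hy => hy ⟨j, Subgroup.mem_zpowers j⟩, fun hy v => ?_⟩
      have hle : Subgroup.zpowers j ≤ MulAction.stabilizer S y :=
        (Subgroup.zpowers_le (H := MulAction.stabilizer S y)).mpr hy
      exact hle v.2
    rw [he] at hc
    exact fun h2 => hn (hc.dvd_iff dvd_rfl |>.2 h2)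
  -- the fixed orbits with coefficient in `T` pair off
  set N₀ := normalizerIn S (Subgroup.zpowers (j : Ω)) with hN₀
  set C : Subgroup S := N₀.subgroupOf S with hC
  have hCj : ∀ v ∈ C, v * j = j * v := fun v hv => Subtype.ext
    (commute_of_normalizer hj2 (Subgroup.mem_subgroupOf.mp hv).2)
  have hWinv : ∀ v ∈ C, ∀ y ∈ W, v • y ∈ W := by
    intro v hv y hy
    rw [hW, Finset.mem_filter, hFx, Finset.mem_filter] at hy ⊢
    obtain ⟨⟨-, hy1⟩, hy2⟩ := hy
    refine ⟨⟨Finset.mem_univ _, by rw [← mul_smul, ← hCj v hv, mul_smul, hy1]⟩, ?_⟩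
    have h1 : f (j * v) y = f (v * j) y := by rw [hCj v hv]
    rw [hf, hf, hy1, hy2, one_mul] at h1
    exact mul_eq_left.mp h1
  have hWfix : ∀ y ∈ W, ∃ v ∈ C, v • y ≠ y := by
    intro y hy
    by_contra hall
    push Not at hall
    rw [hW, Finset.mem_filter, hFx, Finset.mem_filter] at hy
    obtain ⟨hjP, hjχ⟩ := hχv y j hy.1.2
    set k : S := (coeff (L j) y)⁻¹ with hk
    have hNP : N₀ ≤ P y := fun g hg => by
      obtain ⟨hg', -⟩ := hχv y ⟨g, hg.1⟩ (hall ⟨g, hg.1⟩ (Subgroup.mem_subgroupOf.mpr hg))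
      exact hg'
    have hjP' : Subgroup.zpowers (j : Ω) ≤ P y := (Subgroup.zpowers_le (H := P y)).mpr hjP
    have hj0 := restrict_mem (hχ y) hjP'
    have hrange : ((χ y).comp (Subgroup.inclusion hjP')).range = Subgroup.zpowers (k : Ω) := by
      rw [MonoidHom.range_eq_map,
        show (⊤ : Subgroup (Subgroup.zpowers (j : Ω))) =
          Subgroup.zpowers ⟨(j : Ω), Subgroup.mem_zpowers _⟩ by
          refine (eq_top_iff.mpr fun a _ => ?_).symm
          obtain ⟨z, hz⟩ := Subgroup.mem_zpowers_iff.mp a.2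
          exact Subgroup.mem_zpowers_iff.mpr ⟨z, Subtype.ext (by rw [SubgroupClass.coe_zpow]; exact hz)⟩,
        MonoidHom.map_zpowers]
      exact congrArg Subgroup.zpowers hjχ
    have hconj : F.IsConj (Subgroup.zpowers (j : Ω)) (Subgroup.zpowers (k : Ω)) :=
      hrange ▸ isConj_of_hom hj0
    have hle : Nat.card N₀ ≤ Nat.card (normalizerIn S (Subgroup.zpowers (k : Ω))) := by
      haveI : Finite (normalizerIn S (Subgroup.zpowers (k : Ω))) := finite_of_le (normalizerIn_le _ _)
      refine Nat.card_le_card_of_injective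
        (fun g : N₀ => (⟨χ y ⟨g, hNP g.2⟩, apply_mem (hχ y) _, ?_⟩ :
          normalizerIn S (Subgroup.zpowers (k : Ω)))) fun a b hab => ?_
      · have h1 : χ y ⟨g, hNP g.2⟩ * (k : Ω) = (k : Ω) * χ y ⟨g, hNP g.2⟩ := by
          rw [← hjχ, ← map_mul, ← map_mul]
          exact congrArg (χ y) (Subtype.ext (commute_of_normalizer hj2 g.2.2))
        refine (Subgroup.centralizer_le_normalizer _) (Subgroup.mem_centralizer_iff.mpr ?_)
        intro a ha
        obtain ⟨z, rfl⟩ := Subgroup.mem_zpowers_iff.mp ha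
        exact ((show Commute (χ y ⟨g, hNP g.2⟩) (k : Ω) from h1).zpow_right z).symm.eq
      · exact Subtype.ext (congrArg (fun z : P y => (z : Ω))
          (F.injective_of_mem (hχ y) (congrArg Subtype.val hab)))
    have hkfn : F.IsFullyNormalized (Subgroup.zpowers (k : Ω)) :=
      ⟨(Subgroup.zpowers_le (H := S)).mpr k.2, fun Q hQ => (hfn.2 Q (CfsgLib.Alperin.IsConj.trans hconj hQ)).trans hle⟩
    refine h (k : Ω) ⟨_, hj0, hjχ⟩ hkfn ?_
    have hkT : k ∈ T' := inv_mem ((hθ _).mp hy.2)
    exact Subgroup.mem_subgroupOf.mp hkT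
  have hWeven : 2 ∣ W.card := by
    letI : SMul C W := ⟨fun v y => ⟨(v : S) • (y : Orb S (RightSet m)), hWinv v v.2 y y.2⟩⟩
    letI : MulAction C W :=
      { one_smul := fun y => Subtype.ext (one_smul S (y : Orb S (RightSet m)))
        mul_smul := fun a b y => Subtype.ext (mul_smul (a : S) (b : S) (y : Orb S (RightSet m))) }
    have hc := (hS.to_subgroup C).card_modEq_card_fixedPoints W
    haveI : IsEmpty (MulAction.fixedPoints C W) := ⟨fun y => by
      obtain ⟨v, hv, hne⟩ := hWfix y.1.1 y.1.2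
      exact hne (congrArg Subtype.val (y.2 ⟨v, hv⟩))⟩
    rw [Nat.card_of_isEmpty (α := MulAction.fixedPoints C W), Nat.card_eq_fintype_card, Fintype.card_coe] at hc
    exact Nat.modEq_zero_iff_dvd.mp hc
  -- the others contribute an odd number of nontrivial values
  rw [← Finset.prod_filter_mul_prod_filter_not Fx (fun y => f j y = 1),
    Finset.prod_eq_one (fun y hy => (Finset.mem_filter.mp hy).2), one_mul,
    Finset.prod_congr rfl (fun y hy => show f j y = Multiplicative.ofAdd 1 from
      (if_neg fun hmem => absurd ((hθ _).mpr hmem) (Finset.mem_filter.mp hy).2)),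
    Finset.prod_const] at htot
  have hdvd : orderOf (Multiplicative.ofAdd (1 : ZMod 2)) ∣
      (Fx.filter fun y => ¬ f j y = 1).card := orderOf_dvd_of_pow_eq_one htot
  rw [e3] at hdvd
  refine hFxodd ?_
  rw [← Finset.card_filter_add_card_filter_not (s := Fx) (fun y => f j y = 1)]
  exact dvd_add hWeven hdvd


/-- A Thompson-type transfer for saturated fusion systems. Let F be a saturated fusion system on a finite 2-group S, T a subgroup of S of index 2, and i an involution of S such that every fully normalized F-conjugate of i lies in S but outside T. Then i does not lie in the hyperfocal subgroup of F (the Sylow group of the 2-residual subsystem). -/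
theorem result {Ω : Type*} [Group Ω] [Finite Ω] {S : Subgroup Ω}
    (hS : IsPGroup 2 ↥S) (F : Cfsg.FusionSystem S) (hF : F.IsSaturated 2)
    (T : Subgroup Ω) (hTS : T ≤ S) (hT : T.relIndex S = 2)
    (i : Ω) (hi : i ∈ S) (hi2 : orderOf i = 2)
    (h : ∀ j : Ω, F.IsConjElt i j → F.IsFullyNormalized (Subgroup.zpowers j) → j ∉ T) :
    i ∉ F.hyperfocalSubgroup 2 := by
  intro hih
  haveI : Fact (Nat.Prime 2) := ⟨Nat.prime_two⟩
  have hif := CfsgLib.FusionBasics.hyperfocalSubgroup_le_focalSubgroup F 2 hih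
  have hZS : Subgroup.zpowers i ≤ S := (Subgroup.zpowers_le (H := S)).mpr hi
  obtain ⟨Q, ⟨φ, hφ, hφQ⟩, hQ⟩ := CfsgLib.Alperin.exists_isFullyNormalized F hZS
  set j : Ω := φ ⟨i, Subgroup.mem_zpowers i⟩ with hj
  have hQj : Q = Subgroup.zpowers j := by
    rw [← hφQ, MonoidHom.range_eq_map,
      show (⊤ : Subgroup (Subgroup.zpowers i)) = Subgroup.zpowers ⟨i, Subgroup.mem_zpowers _⟩ by
        refine (eq_top_iff.mpr fun a _ => ?_).symm
        obtain ⟨z, hz⟩ := Subgroup.mem_zpowers_iff.mp a.2
        exact Subgroup.mem_zpowers_iff.mpr ⟨z, Subtype.ext (by rw [SubgroupClass.coe_zpow]; exact hz)⟩,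
      MonoidHom.map_zpowers]
  have hj2 : j ^ 2 = 1 := by
    rw [hj, ← map_pow, show (⟨i, Subgroup.mem_zpowers i⟩ : Subgroup.zpowers i) ^ 2 = 1 from
      Subtype.ext (by rw [SubmonoidClass.coe_pow, ← hi2]; exact pow_orderOf_eq_one i), map_one]
  have hjf : j ∈ F.focalSubgroup := by
    have h1 : i⁻¹ * j ∈ F.focalSubgroup :=
      Subgroup.subset_closure ⟨_, φ, ⟨i, Subgroup.mem_zpowers i⟩, hφ, rfl⟩
    simpa using F.focalSubgroup.mul_mem hif h1
  refine not_mem_focal hS hF T hT ⟨j, CfsgLib.Alperin.apply_mem hφ _⟩ hj2 (hQj ▸ hQ)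
    (fun k hk hkn => h k ?_ hkn) hjf
  obtain ⟨ψ, hψ, hψk⟩ := hk
  have hmem : ∀ x : Subgroup.zpowers i, φ x ∈ Subgroup.zpowers j := fun x =>
    hQj ▸ hφQ ▸ ⟨x, rfl⟩
  exact ⟨_, F.comp_mem hφ hψ hmem, hψk⟩

end Cfsg.Agent.S5192
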