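import Cfsg.Statements.S5212
import Cfsg.Agent.Lib.TwoGroups.MetacyclicFusion
-- import your own Cfsg.Agent.* helpers here

set_option autoImplicit false
open Cfsg

namespace Cfsg.Agent.S5212

/-- Let S be a finite metacyclic 2-group that is not homocyclic abelian (a direct product of cyclic groups of one common order), not dihedral, not semidihedral and not generalized quaternion. Then every saturated fusion system over S is the inner fusion system of S. -/
theorem result {Ω : Type*} [Group Ω] {S : Subgroup Ω} [Finite S] (hS : IsPGroup 2 S) (F : Cfsg.FusionSystem S) (hF : F.IsSaturated 2) (hm : Cfsg.IsMetacyclic ↥S) (hh : ¬ ∃ n k : ℕ, Nonempty (↥S ≃* Multiplicative (Fin k → ZMod (2 ^ n)))) (hd : ¬ ∃ m : ℕ, Nonempty (↥S ≃* DihedralGroup m)) (hq : ¬ ∃ m : ℕ, Nonempty (↥S ≃* QuaternionGroup m)) (hsd : ¬ Cfsg.IsQuasiDihedral ↥S) : ∀ P : Subgroup Ω, F.Hom P = (Cfsg.innerFusionSystem S).Hom P := by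
  refine CfsgLib.TwoGroups.inner_of_metacyclic_two hS hm hd hq hsd (fun ⟨n, ⟨e⟩⟩ => hh ⟨n, 2, ⟨?_⟩⟩) F hF
  exact e.trans
    { toFun := fun z => Multiplicative.ofAdd ![z.1.toAdd, z.2.toAdd]
      invFun := fun z => (Multiplicative.ofAdd (z.toAdd 0), Multiplicative.ofAdd (z.toAdd 1))
      left_inv := fun z => rfl
      right_inv := fun z => Multiplicative.toAdd.injective (by
        funext i
        fin_cases i <;> rfl)
      map_mul' := fun a b => Multiplicative.toAdd.injective (by
        funext i
        fin_cases i <;> rfl) }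

end Cfsg.Agent.S5212
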