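import Cfsg.Statements.S5213
import Cfsg.Agent.Lib.TwoFusion.RankTwoCentre
import Cfsg.Agent.S1237

set_option autoImplicit false
open Cfsg

namespace Cfsg.Agent.S5213

/-- Let S be a finite 2-group of 2-rank 2 (it has an elementary abelian subgroup of order 4 and none of order 8) and F a saturated fusion system over S with trivial centre. Then S is dihedral, semidihedral, wreathed, homocyclic abelian (a direct product of cyclic groups of one common order), or isomorphic to a Sylow 2-subgroup of the projective special unitary group PSU₃(4) (realised over the field with 16 elements). -/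
theorem result {Ω : Type*} [Group Ω] {S : Subgroup Ω} [Finite S] (hS : IsPGroup 2 S) (F : Cfsg.FusionSystem S) (hF : F.IsSaturated 2) (hr : Cfsg.PRankAtLeast 2 2 ↥S ∧ ¬ Cfsg.PRankAtLeast 2 3 ↥S) (hZ : F.center = ⊥) {K : Type*} [Field K] [Fintype K] (hK : Fintype.card K = 16) : (∃ m : ℕ, Nonempty (↥S ≃* DihedralGroup m)) ∨ Cfsg.IsQuasiDihedral ↥S ∨ Cfsg.IsWreathed ↥S ∨ (∃ n k : ℕ, Nonempty (↥S ≃* Multiplicative (Fin k → ZMod (2 ^ n)))) ∨ ∃ T : Sylow 2 (Cfsg.PSU 3 K 4), Nonempty (↥S ≃* ↥(T : Subgroup (Cfsg.PSU 3 K 4))) := by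
  haveI : Fact (Nat.Prime 2) := ⟨Nat.prime_two⟩
  have h1 : ¬ Cfsg.PRankLE 2 1 ↥S := fun h => by
    obtain ⟨A, hA, hA2, hcard⟩ := hr.1
    have := h A hA hA2
    omega
  have h2 : Cfsg.PRankLE 2 2 ↥S := fun A hA hA2 => by
    by_contra hlt
    obtain ⟨j, hj⟩ := IsPGroup.iff_card.1 (hS.to_subgroup A)
    refine hr.2 ⟨A, hA, hA2, ?_⟩
    rw [hj] at hlt ⊢
    refine Nat.pow_le_pow_right two_pos ?_
    by_contra h3
    exact hlt (Nat.pow_le_pow_right two_pos (by omega))
  rcases CfsgLib.TwoFusion.RankTwoCentre.classify hS hF h2 h1 hZ with ((h | h) | h) | ⟨β, hβ⟩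
  · exact Or.inl h
  · exact Or.inr (Or.inl h)
  · exact Or.inr (Or.inr (Or.inl h))
  refine Or.inr (Or.inr (Or.inr ?_))
  by_cases hc : ∀ a b : ↥S, a * b = b * a
  · obtain ⟨n, -, ⟨e⟩⟩ := hβ.homocyclic hc
    refine Or.inl ⟨n, 2, ⟨e.trans
      { toFun := fun z => Multiplicative.ofAdd ![z.toAdd.1, z.toAdd.2]
        invFun := fun z => Multiplicative.ofAdd (z.toAdd 0, z.toAdd 1)
        left_inv := fun z => rfl
        right_inv := fun z => Multiplicative.toAdd.injective (by
          funext i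
          fin_cases i <;> rfl)
        map_mul' := fun a b => Multiplicative.toAdd.injective (by
          funext i
          fin_cases i <;> rfl) }⟩⟩
  · push Not at hc
    obtain ⟨T⟩ := (Sylow.nonempty : Nonempty (Sylow 2 (Cfsg.PSU 3 K 4)))
    obtain ⟨γ, hγ, hn⟩ := Cfsg.Agent.S1237.exists_tri_sylow hK T
    exact Or.inr ⟨T, hβ.nonempty_equiv hγ hc hn⟩

end Cfsg.Agent.S5213
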