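import Cfsg.Statements.S5264
import Cfsg.Agent.Lib.OrderDegrees.FusFifth.Assembly
import Cfsg.Agent.Lib.OrderDegrees.FusFifth.TypeBThree
import Cfsg.Agent.Lib.OrderDegrees.FusFifth.MaxClass

set_option autoImplicit false
open Cfsg

namespace Cfsg.Agent.S5264

/-- Let p be an odd prime other than 7, S a finite p-group of order p^5, and F a saturated fusion system over S with no nontrivial normal subgroup and with hyperfocal subgroup equal to S (so F is its own p-residual subsystem). Then S has an abelian subgroup of index p. -/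
theorem result {Ω : Type*} [Group Ω] {S : Subgroup Ω} [Finite S] (p : ℕ) [Fact p.Prime] (hS : IsPGroup p ↥S) (F : Cfsg.FusionSystem S) (hF : F.IsSaturated p) (hp : p ≠ 2) (hp7 : p ≠ 7) (hcard : Nat.card S = p ^ 5) (hcore : F.core = ⊥) (hhyp : F.hyperfocalSubgroup p = S) : ∃ A : Subgroup Ω, A ≤ S ∧ IsMulCommutative ↥A ∧ (A.subgroupOf S).index = p := by
  refine CfsgLib.OrderDegrees.FusFifth.exists_abelian_index hS hF hp hcard hcore (fun hab h3 hB => ?_)
    (fun hab hess E hE =>
      CfsgLib.OrderDegrees.FusFifth.false_of_pearls hS hF hp hp7 hcard hab hess hE hhyp)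
  subst h3
  exact CfsgLib.OrderDegrees.FusFifth.false_of_typeB hS hF hcard hab hB hhyp

end Cfsg.Agent.S5264
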