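import Cfsg.Statements.S5271
import Cfsg.Agent.Lib.FusionSub.Solvable
import Cfsg.Agent.Lib.FusionBasics.PPower.Inner
import Cfsg.Agent.Lib.FusionBasics.Focal
import Cfsg.Agent.Lib.FusionBasics.KSystem
import Cfsg.Agent.Lib.FusionExamples.Hyperfocal
import Cfsg.Agent.Lib.PGroups.Frattini
import Cfsg.Agent.Lib.TwoGroups.Basic
import Cfsg.Agent.Lib.Transfer.Tate
-- import your own Cfsg.Agent.* helpers here

set_option autoImplicit false
open Cfsg

namespace Cfsg.Agent.S5271

set_option linter.style.haveILetI false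
set_option linter.unusedSectionVars false

open Cfsg.FusionSystem CfsgLib.Alperin CfsgLib.FusionSub

universe u

section

variable {Ω : Type u} [Group Ω] {S : Subgroup Ω}

/-- Automorphisms of the system of order prime to `p` are trivial on subgroups of order at least `b`. -/
def Rigid (F : Cfsg.FusionSystem S) (p b : ℕ) : Prop :=
  ∀ R : Subgroup Ω, R ≤ S → b ≤ Nat.card R → ∀ α ∈ F.autGroup R, (orderOf α).Coprime p → α = 1

/-- Weak embedding of the subgroups of one order. -/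
def Weak (F : Cfsg.FusionSystem S) (b : ℕ) : Prop :=
  ∀ Q : Subgroup Ω, Q ≤ S → Nat.card Q = b →
    ∃ P : Subgroup Ω, F.StronglyClosed P ∧ F.StronglyClosed (Q ⊔ P) ∧ F.StronglyClosed (Q ⊓ P)

/-- The automorphisms of order prime to `p` act trivially modulo `W`. -/
def TrivMod (F : Cfsg.FusionSystem S) (p : ℕ) (W : Subgroup Ω) : Prop :=
  ∀ R : Subgroup Ω, R ≤ S → ∀ α ∈ F.autGroup R, (orderOf α).Coprime p → ∀ x : R,
    ((α x : R) : Ω) * (x : Ω)⁻¹ ∈ W

/-- The automorphisms moving each element inside its coset of `W`. -/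
def modGroup (R W : Subgroup Ω) : Subgroup (MulAut R) where
  carrier := {γ | ∀ x : R, ((γ x : R) : Ω) * (x : Ω)⁻¹ ∈ W}
  one_mem' x := by
    show ((x : R) : Ω) * (x : Ω)⁻¹ ∈ W
    rw [mul_inv_cancel]
    exact W.one_mem
  mul_mem' := by
    intro γ δ hγ hδ x
    have h := W.mul_mem (hγ (δ x)) (hδ x)
    rwa [← mul_assoc, inv_mul_cancel_right] at h
  inv_mem' := by
    intro γ hγ x
    have h := W.inv_mem (hγ (γ⁻¹ x))
    rwa [MulAut.apply_inv_self, mul_inv_rev, inv_inv] at h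

theorem mem_of_pow_mem {G : Type*} [Group G] (K : Subgroup G) {a : G} {p j : ℕ}
    (hc : (orderOf a).Coprime p) (h : a ^ p ^ j ∈ K) : a ∈ K := by
  obtain ⟨m, hm⟩ := exists_pow_eq_self_of_coprime
    (x := a) (n := p ^ j) ((Nat.Coprime.pow_right j hc).symm)
  exact hm ▸ K.pow_mem h m

variable [Finite S] {p : ℕ} [Fact p.Prime]

theorem inner_of_rigid (hS : IsPGroup p S) {F : Cfsg.FusionSystem S} (hF : F.IsSaturated p)
    (h : Rigid F p 0) (P : Subgroup Ω) : F.Hom P = (Cfsg.innerFusionSystem S).Hom P := by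
  refine CfsgLib.FusionBasics.PPower.hom_eq_inner_of_hyperfocal_eq_bot hS hF ?_ P
  refine le_bot_iff.mp ((Subgroup.closure_le _).mpr ?_)
  rintro _ ⟨R, α, x, hR, hα, rfl⟩
  haveI := CfsgLib.Alperin.finite_autGroup F hR
  have h1 : pResidual p (F.autGroup R) ≤ ⊥ := by
    refine (Subgroup.closure_le _).mpr fun β hβ => ?_
    exact Subtype.ext (h R hR (Nat.zero_le _) β β.2 ((Subgroup.orderOf_coe β).symm ▸ hβ))
  have h2 : α = 1 := h1 hα
  subst h2
  simp

theorem rigid_of_inner (hS : IsPGroup p S) {F : Cfsg.FusionSystem S}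
    (h : ∀ P : Subgroup Ω, F.Hom P = (Cfsg.innerFusionSystem S).Hom P) : Rigid F p 0 := by
  intro R hR _ α hα hc
  have h1 := (mem_autGroup_iff F hR).mp hα
  rw [h] at h1
  obtain ⟨-, g, hg, hgx⟩ := h1
  obtain ⟨e, he⟩ := hS ⟨g, hg⟩
  have hpow : ∀ n : ℕ, ∀ x : R, (((α ^ n) x : R) : Ω) = g ^ n * x * (g ^ n)⁻¹ := by
    intro n
    induction n with
    | zero => intro x; simp
    | succ n ih =>
      intro x
      rw [pow_succ', MulAut.mul_apply, show ((α ((α ^ n) x) : R) : Ω) = g * ((α ^ n) x : R) * g⁻¹ from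
        hgx _, ih, pow_succ']
      group
  have hg1 : g ^ p ^ e = 1 := congrArg Subtype.val he
  refine Subgroup.mem_bot.mp (mem_of_pow_mem ⊥ hc (j := e) (Subgroup.mem_bot.mpr ?_))
  refine MulEquiv.ext fun x => Subtype.ext ?_
  rw [hpow, hg1]
  simp

/-- Rigidity in large subgroups gives triviality modulo a large strongly closed subgroup. -/
theorem trivMod_of_large (hS : IsPGroup p S) {F : Cfsg.FusionSystem S} (hF : F.IsSaturated p)
    {b : ℕ} (hB : Rigid F p b) {W : Subgroup Ω} (hW : F.StronglyClosed W) (hb : b ≤ Nat.card W) :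
    TrivMod F p W := by
  intro R hR α hα hc
  obtain ⟨φ, hφ, hφx⟩ := exists_lift_mod hS hF hW ((mem_autGroup_iff F hR).mp hα)
  have hRW : R ⊔ W ≤ S := sup_le hR hW.1
  haveI := finite_of_le hRW
  have hWmem : ∀ w : W, φ (Subgroup.inclusion le_sup_right w) ∈ W := fun w =>
    stronglyClosed_apply hW hφ (Subgroup.inclusion le_sup_right w) w.2
  have hRmem : ∀ x : R, φ (Subgroup.inclusion le_sup_left x) ∈ R ⊔ W := fun x => by
    have h := (R ⊔ W).mul_mem (Subgroup.mem_sup_right (S := R) (hφx x))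
      (Subgroup.mem_sup_left (T := W) (α x).2)
    rwa [show ((α x : R) : Ω) = (R.subtype.comp α.toMonoidHom) x from rfl, inv_mul_cancel_right] at h
  obtain ⟨β, hβ, hβx⟩ := exists_aut_of_hom' F hφ
    (CfsgLib.FusionBasics.apply_mem_of_sup φ hRmem fun w => Subgroup.mem_sup_right (hWmem w))
  haveI := CfsgLib.Alperin.finite_autGroup F hRW
  obtain ⟨j, m, hjm, hmp⟩ := CfsgLib.FusionExamples.exists_coprime_power (p := p) (⟨β, hβ⟩ : F.autGroup (R ⊔ W))
  have hβ1 : β ^ p ^ j = 1 := by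
    refine hB (R ⊔ W) hRW (hb.trans (Subgroup.card_le_of_le le_sup_right)) _
      (pow_mem hβ _) (Nat.Coprime.coprime_dvd_left (orderOf_dvd_of_pow_eq_one ?_) hmp)
    exact congrArg Subtype.val hjm
  have hstep : ∀ (n : ℕ) (x : R),
      (((β ^ n) (Subgroup.inclusion le_sup_left x) : ↥(R ⊔ W)) : Ω) *
        (((α ^ n) x : R) : Ω)⁻¹ ∈ W := by
    intro n
    induction n with
    | zero =>
      intro x
      show (x : Ω) * (x : Ω)⁻¹ ∈ W
      rw [mul_inv_cancel]
      exact W.one_mem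
    | succ n ih =>
      intro x
      rw [pow_succ', pow_succ', MulAut.mul_apply, MulAut.mul_apply]
      set z := (β ^ n) (Subgroup.inclusion le_sup_left x) with hz
      set y := (α ^ n) x with hy
      have h1 : φ (z * (Subgroup.inclusion le_sup_left y)⁻¹) ∈ W :=
        stronglyClosed_apply hW hφ _ (ih x)
      rw [map_mul, map_inv, ← hβx] at h1
      have h2 := W.mul_mem h1 (hφx y)
      rwa [← mul_assoc, inv_mul_cancel_right] at h2
  have hK : α ∈ modGroup R W := by
    refine mem_of_pow_mem _ hc (j := j) fun x => ?_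
    have h1 := W.inv_mem (hstep (p ^ j) x)
    rwa [hβ1, MulAut.one_apply, mul_inv_rev, inv_inv] at h1
  exact hK

end

section Quotient

variable {p : ℕ} [Fact p.Prime]

/-- Rigidity from weak embedding and rigidity in large subgroups. -/
theorem rigid_of_weak : ∀ (n : ℕ) {Ω : Type u} [Group Ω] {S : Subgroup Ω} [Finite S],
    Nat.card S = n → IsPGroup p S → ∀ {F : Cfsg.FusionSystem S}, F.IsSaturated p →
      ∀ k, 1 ≤ k → p ^ k < Nat.card S → Weak F (p ^ k) → Rigid F p (p ^ k) → Rigid F p 0 := by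
  intro n
  induction n using Nat.strong_induction_on with
  | _ n ih =>
  intro Ω _ S _ hn hS F hF k hk hlt hweak hB
  have hp : p.Prime := Fact.out
  -- triviality modulo every nontrivial strongly closed subgroup
  have hmod : ∀ W : Subgroup Ω, F.StronglyClosed W → W ≠ ⊥ → TrivMod F p W := by
    intro W hW hWne
    by_cases hb : p ^ k ≤ Nat.card W
    · exact trivMod_of_large hS hF hB hW hb
    rw [not_le] at hb
    haveI := finite_of_le hW.1
    obtain ⟨w, hw⟩ := IsPGroup.iff_card.mp (isPGroup_of_le hS hW.1)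
    have hwk : w < k := (Nat.pow_lt_pow_iff_right hp.one_lt).mp (hw ▸ hb)
    haveI hWn : (W.subgroupOf S).Normal := ⟨fun x hx s => stronglyClosed_conj hW s.2 hx⟩
    set θ : S →* (↥S ⧸ W.subgroupOf S) := QuotientGroup.mk' (W.subgroupOf S) with hθ
    have hker : ∀ s : S, θ s = 1 ↔ (s : Ω) ∈ W := fun s => QuotientGroup.eq_one_iff s
    have hsurj : Function.Surjective θ := QuotientGroup.mk'_surjective _
    have hrange : θ.range = ⊤ := MonoidHom.range_eq_top.mpr hsurj
    obtain ⟨E, hE⟩ := exists_isFactorSystem F hW θ hker hrange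
    haveI : Finite (↥S ⧸ W.subgroupOf S) := inferInstance
    have hS' : IsPGroup p (⊤ : Subgroup (↥S ⧸ W.subgroupOf S)) := (hS.to_quotient _).to_subgroup _
    have hcardW : Nat.card (W.subgroupOf S) = p ^ w := by
      rw [Nat.card_congr (Subgroup.subgroupOfEquivOfLe hW.1).toEquiv, hw]
    have hquot : Nat.card S = Nat.card (↥S ⧸ W.subgroupOf S) * p ^ w := by
      rw [Subgroup.card_eq_card_quotient_mul_card_subgroup (W.subgroupOf S), hcardW]
    have hcardpre : ∀ X : Subgroup (↥S ⧸ W.subgroupOf S),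
        Nat.card (preimageAlong θ X) = Nat.card X * p ^ w := by
      intro X
      rw [preimageAlong, Subgroup.card_map_of_injective S.subtype_injective]
      have h1 := (X.comap θ).card_mul_index
      rw [Subgroup.index_comap_of_surjective _ hsurj, hquot, ← X.card_mul_index] at h1
      have hi : X.index ≠ 0 := Subgroup.index_ne_zero_of_finite
      refine Nat.eq_of_mul_eq_mul_right (Nat.pos_of_ne_zero hi) (h1.trans ?_)
      ring
    have hq : p ^ k = p ^ (k - w) * p ^ w := by rw [← pow_add, Nat.sub_add_cancel hwk.le]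
    have hEsat := factor_saturated hS hF hW hE
    have hlt' : Nat.card (⊤ : Subgroup (↥S ⧸ W.subgroupOf S)) < n := by
      rw [Subgroup.card_top, ← hn, hquot]
      refine lt_mul_of_one_lt_right Nat.card_pos ?_
      rw [← hw]
      exact Finite.one_lt_card_iff_nontrivial.mpr (W.nontrivial_iff_ne_bot.mpr hWne)
    have hweak' : Weak E (p ^ (k - w)) := by
      intro Q _ hQ
      obtain ⟨P, hP, hQP, hQI⟩ := hweak (preimageAlong θ Q) (preimageAlong_le θ Q)
        (by rw [hcardpre, hQ, hq])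
      have hsub : (preimageAlong θ Q).subgroupOf S = Q.comap θ :=
        Subgroup.comap_map_eq_self_of_injective S.subtype_injective _
      refine ⟨imageAlong θ P, factor_stronglyClosed_image hS hF hW hP hE, ?_, ?_⟩
      · have h := factor_stronglyClosed_image hS hF hW hQP hE
        rwa [imageAlong, Subgroup.subgroupOf_sup (preimageAlong_le θ Q) hP.1, Subgroup.map_sup,
          hsub, Subgroup.map_comap_eq_self_of_surjective hsurj] at h
      · have h := factor_stronglyClosed_image hS hF hW hQI hE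
        have he : imageAlong θ (preimageAlong θ Q ⊓ P) = Q ⊓ imageAlong θ P := by
          ext y
          constructor
          · rintro ⟨s, hs, rfl⟩
            obtain ⟨h1, h2⟩ := hs
            exact ⟨(mem_preimageAlong.mp h1).2, ⟨s, h2, rfl⟩⟩
          · rintro ⟨h1, s, h2, rfl⟩
            exact ⟨s, ⟨mem_preimageAlong.mpr ⟨s.2, h1⟩, h2⟩, rfl⟩
        rwa [he] at h
    have hB' : Rigid E p (p ^ (k - w)) := by
      intro R' hR' hbR α' hα' hc
      obtain ⟨-, φ, hφ, hPS, hφS, hPP, hind⟩ := (hE.2.2.2 R' _).mp ((mem_autGroup_iff E hR').mp hα')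
      have hφR : ∀ x, φ x ∈ preimageAlong θ R' := fun x =>
        mem_preimageAlong.mpr ⟨hφS x, hind x ▸ ((α' ⟨_, hPP x⟩ : R')).2⟩
      haveI := finite_of_le (preimageAlong_le θ R')
      obtain ⟨β, hβ, hβx⟩ := exists_aut_of_hom' F hφ hφR
      haveI := CfsgLib.Alperin.finite_autGroup F (preimageAlong_le θ R')
      obtain ⟨j, m, hjm, hmp⟩ :=
        CfsgLib.FusionExamples.exists_coprime_power (p := p) (⟨β, hβ⟩ : F.autGroup (preimageAlong θ R'))
      have hβ1 : β ^ p ^ j = 1 := by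
        refine hB _ hPS ?_ _ (pow_mem hβ _)
          (Nat.Coprime.coprime_dvd_left (orderOf_dvd_of_pow_eq_one (congrArg Subtype.val hjm)) hmp)
        rw [hcardpre, hq]
        exact Nat.mul_le_mul_right _ hbR
      have hstep : ∀ (i : ℕ) (x : preimageAlong θ R'),
          (α' ^ i) ⟨θ ⟨x, hPS x.2⟩, hPP x⟩ = ⟨θ ⟨(β ^ i) x, hPS ((β ^ i) x).2⟩, hPP _⟩ := by
        intro i
        induction i with
        | zero => intro x; rfl
        | succ i ihi =>
          intro x
          rw [pow_succ', pow_succ', MulAut.mul_apply, ihi]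
          refine Subtype.ext ((hind _).trans (congrArg θ (Subtype.ext ?_)))
          exact (hβx _).symm
      refine Subgroup.mem_bot.mp (mem_of_pow_mem ⊥ hc (j := j) (Subgroup.mem_bot.mpr ?_))
      refine MulEquiv.ext fun y => ?_
      obtain ⟨s, hs⟩ := hsurj (y : ↥S ⧸ W.subgroupOf S)
      have hsm : (s : Ω) ∈ preimageAlong θ R' := mem_preimageAlong.mpr ⟨s.2, hs ▸ y.2⟩
      have hy : y = ⟨θ ⟨_, hPS hsm⟩, hPP ⟨_, hsm⟩⟩ := Subtype.ext hs.symm
      rw [hy, hstep _ ⟨_, hsm⟩]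
      exact Subtype.ext (congrArg θ (Subtype.ext (by rw [hβ1]; rfl)))
    have hlt2 : p ^ (k - w) < Nat.card (⊤ : Subgroup (↥S ⧸ W.subgroupOf S)) := by
      rw [Subgroup.card_top]
      refine Nat.lt_of_mul_lt_mul_right (a := p ^ w) ?_
      rw [← hq, ← hquot]
      exact hlt
    have hgood := ih _ hlt' rfl hS' hEsat (k - w) (by omega) hlt2 hweak' hB'
    intro R hR α hα hc x
    have hα1 := (mem_autGroup_iff F hR).mp hα
    obtain ⟨φ', hφ', hP, hφS, hPP, hind⟩ :=
      (Cfsg.Agent.S5134.result p hS F hF W hW θ E hE).1.2 R _ hα1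
    have hRle : imageAlong θ R ≤ (⊤ : Subgroup (↥S ⧸ W.subgroupOf S)) := le_top
    have himg : ∀ y, φ' y ∈ imageAlong θ R := by
      rintro ⟨_, s, hs, rfl⟩
      rw [hind ⟨(s : Ω), hs⟩]
      exact ⟨⟨_, hφS _⟩, (α ⟨(s : Ω), hs⟩).2, rfl⟩
    obtain ⟨α', hα', hα'x⟩ := exists_aut_of_hom' E hφ' himg
    have hstep : ∀ (i : ℕ) (z : R), (α' ^ i) ⟨θ ⟨z, hP z.2⟩, hPP z⟩ =
        ⟨θ ⟨((α ^ i) z : R), hP ((α ^ i) z).2⟩, hPP _⟩ := by
      intro i
      induction i with
      | zero => intro z; rfl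
      | succ i ihi =>
        intro z
        rw [pow_succ', pow_succ', MulAut.mul_apply, ihi]
        exact Subtype.ext ((hα'x _).trans (hind _))
    have hord : orderOf α' ∣ orderOf α := by
      refine orderOf_dvd_of_pow_eq_one (MulEquiv.ext fun y => ?_)
      obtain ⟨_, s, hs, rfl⟩ := y
      refine (hstep _ ⟨(s : Ω), hs⟩).trans ?_
      rw [pow_orderOf_eq_one]
      rfl
    have hα'1 : α' = 1 := hgood _ hRle (Nat.zero_le _) α' hα' (Nat.Coprime.coprime_dvd_left hord hc)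
    have h1 := hstep 1 x
    rw [hα'1, one_pow, pow_one] at h1
    have h2 : θ ⟨(x : Ω), hP x.2⟩ = θ ⟨((α x : R) : Ω), hP (α x).2⟩ := congrArg Subtype.val h1
    exact (hker (⟨((α x : R) : Ω), hP (α x).2⟩ * ⟨(x : Ω), hP x.2⟩⁻¹)).mp
      (by rw [map_mul, map_inv, h2, mul_inv_cancel])
  -- two disjoint strongly closed subgroups end the proof
  by_contra hbad
  have hmeet : ∀ W W' : Subgroup Ω, F.StronglyClosed W → F.StronglyClosed W' → W ≠ ⊥ → W' ≠ ⊥ →
      W ⊓ W' ≠ ⊥ := by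
    intro W W' hW hW' hne hne' hmt
    refine hbad fun R hR _ α hα hc => MulEquiv.ext fun x => Subtype.ext ?_
    have h : ((α x : R) : Ω) * (x : Ω)⁻¹ ∈ W ⊓ W' :=
      ⟨hmod W hW hne R hR α hα hc x, hmod W' hW' hne' R hR α hα hc x⟩
    rw [hmt, Subgroup.mem_bot, mul_inv_eq_one] at h
    exact h
  -- a maximal subgroup not containing the focal subgroup
  obtain ⟨M, hM, hMf⟩ : ∃ M : Subgroup S, IsCoatom M ∧ ¬ F.focalSubgroup ≤ M.map S.subtype := by
    by_contra hall
    push Not at hall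
    refine hbad (rigid_of_inner hS fun P =>
      CfsgLib.FusionBasics.PPower.hom_eq_inner_of_focal_le_frattini hS hF ?_ P)
    intro x hx
    have hxS : x ∈ S := by
      have hle : F.focalSubgroup ≤ S := by
        rw [CfsgLib.FusionBasics.focal_eq_hyperfocal_sup hS hF]
        exact sup_le (CfsgLib.FusionBasics.hyperfocalSubgroup_le F p) (self_commutator_le S)
      exact hle hx
    refine ⟨⟨x, hxS⟩, ?_, rfl⟩
    rw [SetLike.mem_coe, frattini, Order.radical]
    simp only [Subgroup.mem_iInf]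
    intro L hL
    obtain ⟨y, hy, hyx⟩ := hall L hL hx
    rwa [show (⟨x, hxS⟩ : S) = y from Subtype.ext hyx.symm]
  haveI hMn := CfsgLib.TwoGroups.normal_of_isCoatom hS hM
  have hMi := CfsgLib.TwoGroups.index_eq_of_isCoatom hS hM
  set M₀ := M.map S.subtype with hM₀
  have hM₀S : M₀ ≤ S := Subgroup.map_subtype_le M
  have hnotM : ∀ W : Subgroup Ω, F.StronglyClosed W → W ≠ ⊥ → ¬ W ≤ M₀ := by
    intro W hW hne hle
    refine hMf ?_
    rw [CfsgLib.FusionBasics.focal_eq_hyperfocal_sup hS hF]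
    refine sup_le ((Subgroup.closure_le _).mpr ?_) ?_
    · rintro _ ⟨R, α, x, hR, hα, rfl⟩
      have h1 : pResidual p (F.autGroup R) ≤
          (modGroup R W).subgroupOf (F.autGroup R) :=
        (Subgroup.closure_le _).mpr fun β hβ =>
          hmod W hW hne R hR β β.2 ((Subgroup.orderOf_coe β).symm ▸ hβ)
      have h2 : ((((α : F.autGroup R) : MulAut R) x : R) : Ω) * (x : Ω)⁻¹ ∈ M₀ := hle (h1 hα x)
      obtain ⟨a, ha, hae⟩ := h2
      refine ⟨(⟨x, hR x.2⟩ : S)⁻¹ * a * ((⟨x, hR x.2⟩ : S)⁻¹)⁻¹, hMn.conj_mem a ha _, ?_⟩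
      show (x : Ω)⁻¹ * (a : Ω) * ((x : Ω)⁻¹)⁻¹ = _
      rw [show (a : Ω) = _ from hae]
      group
    · have h4 := Subgroup.map_commutator (⊤ : Subgroup ↥S) ⊤ S.subtype
      rw [← MonoidHom.range_eq_map, Subgroup.range_subtype] at h4
      rw [← h4]
      exact Subgroup.map_mono ((CfsgLib.PGroups.commutator_le_frattini hS).trans
        (frattini_le_coatom hM))
  -- the least nontrivial strongly closed subgroup
  have hSne : S ≠ ⊥ := fun h => by
    rw [h, Subgroup.card_bot] at hlt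
    exact absurd hlt (not_lt.mpr (Nat.one_le_pow _ _ hp.pos))
  haveI : Finite {W : Subgroup Ω // F.StronglyClosed W ∧ W ≠ ⊥} :=
    Finite.of_injective (fun W => W.1.subgroupOf S) fun A B h => by
      refine Subtype.ext ?_
      simpa [Subgroup.subgroupOf_map_subtype, inf_of_le_left A.2.1.1, inf_of_le_left B.2.1.1] using
        congrArg (Subgroup.map S.subtype) h
  haveI : Nonempty {W : Subgroup Ω // F.StronglyClosed W ∧ W ≠ ⊥} :=
    ⟨⟨S, stronglyClosed_self F, hSne⟩⟩
  obtain ⟨⟨T, hT, hTne⟩, hmin⟩ :=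
    Finite.exists_min fun W : {W : Subgroup Ω // F.StronglyClosed W ∧ W ≠ ⊥} => Nat.card W.1
  haveI := finite_of_le hT.1
  have hTle : ∀ P : Subgroup Ω, F.StronglyClosed P → P ≠ ⊥ → T ≤ P := by
    intro P hP hne
    have h1 := hmin ⟨T ⊓ P, stronglyClosed_inf hT hP, hmeet T P hT hP hTne hne⟩
    have h2 := Subgroup.eq_of_le_of_card_ge (inf_le_left : T ⊓ P ≤ T) h1
    exact h2.ge.trans inf_le_right
  -- a subgroup of order `p ^ k` inside `M`
  haveI := finite_of_le hM₀S
  have hkM : p ^ k ≤ Nat.card M₀ := by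
    rw [hM₀, Subgroup.card_map_of_injective S.subtype_injective]
    obtain ⟨c, hc⟩ := IsPGroup.iff_card.mp hS
    have h1 := M.card_mul_index
    rw [hMi, hc] at h1
    rw [hc, Nat.pow_lt_pow_iff_right hp.one_lt] at hlt
    obtain ⟨d, rfl⟩ : ∃ d, c = d + 1 := ⟨c - 1, by omega⟩
    rw [pow_succ] at h1
    rw [Nat.eq_of_mul_eq_mul_right hp.pos h1]
    exact Nat.pow_le_pow_right hp.pos (by omega)
  haveI := finite_of_le (inf_le_left.trans hT.1 : T ⊓ M₀ ≤ S)
  obtain ⟨Q, hQM, hQc, hQT⟩ : ∃ Q : Subgroup Ω, Q ≤ M₀ ∧ Nat.card Q = p ^ k ∧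
      (Q ≤ T ∨ T ⊓ M₀ ≤ Q) := by
    by_cases hbig : p ^ k ≤ Nat.card ↥(T ⊓ M₀)
    · obtain ⟨i, hi⟩ := IsPGroup.iff_card.mp (isPGroup_of_le hS (inf_le_left.trans hT.1 : T ⊓ M₀ ≤ S))
      obtain ⟨K, hK⟩ := Sylow.exists_subgroup_card_pow_prime (G := ↥(T ⊓ M₀)) p (n := k)
        (hi ▸ pow_dvd_pow p ((Nat.pow_le_pow_iff_right hp.one_lt).mp (hi ▸ hbig)))
      exact ⟨K.map (T ⊓ M₀).subtype, (Subgroup.map_subtype_le K).trans inf_le_right,
        by rw [Subgroup.card_map_of_injective (T ⊓ M₀).subtype_injective, hK],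
        Or.inl ((Subgroup.map_subtype_le K).trans inf_le_left)⟩
    · obtain ⟨i, hi⟩ := IsPGroup.iff_card.mp (isPGroup_of_le hS (inf_le_left.trans hT.1 : T ⊓ M₀ ≤ S))
      obtain ⟨c, hc⟩ := IsPGroup.iff_card.mp (isPGroup_of_le hS hM₀S)
      rw [hi, not_le, Nat.pow_lt_pow_iff_right hp.one_lt] at hbig
      rw [hc, Nat.pow_le_pow_iff_right hp.one_lt] at hkM
      obtain ⟨K, hK, hle⟩ := Sylow.exists_subgroup_card_pow_prime_le (G := M₀) p (n := i) (m := k)
        (hc ▸ pow_dvd_pow p hkM) ((T ⊓ M₀).subgroupOf M₀)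
        (by rw [Nat.card_congr (Subgroup.subgroupOfEquivOfLe inf_le_right).toEquiv, hi]) hbig.le
      exact ⟨K.map M₀.subtype, Subgroup.map_subtype_le K,
        by rw [Subgroup.card_map_of_injective M₀.subtype_injective, hK],
        Or.inr fun t ht => ⟨⟨t, ht.2⟩, hle ht, rfl⟩⟩
  have hQ1 : Q ≠ ⊥ := fun h => by
    rw [h, Subgroup.card_bot] at hQc
    exact absurd hQc (ne_of_lt (Nat.one_lt_pow (by omega) hp.one_lt))
  obtain ⟨P, hP, hQP, hQI⟩ := hweak Q (hQM.trans hM₀S) hQc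
  have hI : Q ⊓ P = ⊥ := by_contra fun h => hnotM _ hQI h (inf_le_left.trans hQM)
  have hPne : P ≠ ⊥ := fun h => hnotM Q (by simpa [h] using hQP) hQ1 hQM
  have hTP := hTle P hP hPne
  rcases hQT with hQT | hQT
  · refine hQ1 (le_bot_iff.mp ?_)
    rw [← hI]
    exact le_inf le_rfl (hQT.trans hTP)
  -- now `T` has order `p`
  have hTM : T ⊓ M₀ = ⊥ := le_bot_iff.mp (hI ▸ le_inf hQT (inf_le_left.trans hTP))
  have hTp : Nat.card T ≤ p := by
    have hinj : Function.Injective ((QuotientGroup.mk' M).comp (Subgroup.inclusion hT.1)) := by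
      refine (injective_iff_map_eq_one _).mpr fun t ht => ?_
      have h1 : (t : Ω) ∈ T ⊓ M₀ := ⟨t.2, _, (QuotientGroup.eq_one_iff _).mp ht, rfl⟩
      rw [hTM, Subgroup.mem_bot] at h1
      exact Subtype.ext h1
    have h2 := Nat.card_le_card_of_injective _ hinj
    rwa [← Subgroup.index_eq_card, hMi] at h2
  have hTp' : Nat.card T = p := by
    obtain ⟨i, hi⟩ := IsPGroup.iff_card.mp (isPGroup_of_le hS hT.1)
    rcases i with _ | _ | i
    · exact absurd (Subgroup.card_eq_one.mp (by rw [hi, pow_zero])) hTne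
    · rw [hi, pow_one]
    · exfalso
      rw [hi] at hTp
      have h1 : p ^ 2 ≤ p ^ (i + 1 + 1) := Nat.pow_le_pow_right hp.pos (by omega)
      have h2 : p < p ^ 2 := by nlinarith [hp.two_le]
      omega
  -- `T` is central
  have hcent : ∀ s ∈ S, ∀ t ∈ T, s * t * s⁻¹ = t := by
    intro s hs t ht
    haveI hTn : (T.subgroupOf S).Normal := ⟨fun x hx g => stronglyClosed_conj hT g.2 hx⟩
    have hne : (T.subgroupOf S) ≠ ⊥ := fun h => hTne (by
      refine le_bot_iff.mp fun x hx => ?_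
      have : (⟨x, hT.1 hx⟩ : S) ∈ (⊥ : Subgroup S) := h ▸ hx
      exact congrArg Subtype.val (Subgroup.mem_bot.mp this))
    obtain ⟨z, ⟨hz1, hz2⟩, hzne⟩ := CfsgLib.Transfer.exists_mem_inf_center_ne_one hS hne
    have hfact : Fact (Nat.card T).Prime := ⟨hTp'.symm ▸ hp⟩
    have htop : Subgroup.zpowers (⟨(z : Ω), hz1⟩ : T) = ⊤ :=
      (Subgroup.eq_bot_or_eq_top_of_prime_card _).resolve_left fun h =>
        hzne (Subtype.ext (congrArg (fun a : T => (a : Ω)) (Subgroup.zpowers_eq_bot.mp h)))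
    obtain ⟨i, hi⟩ := Subgroup.mem_zpowers_iff.mp (htop ▸ Subgroup.mem_top (⟨t, ht⟩ : T))
    have h1 : t = (z : Ω) ^ i := (congrArg Subtype.val hi.symm).trans (SubgroupClass.coe_zpow _ _)
    have h2 : Commute s (z : Ω) := congrArg Subtype.val (Subgroup.mem_center_iff.mp hz2 ⟨s, hs⟩)
    rw [h1, (h2.zpow_right i).eq, mul_inv_cancel_right]
  have hfull : F.IsFullyNormalized T := by
    refine ⟨hT.1, fun Q' ⟨φ, hφ, hr⟩ => ?_⟩
    have : Q' = T := by
      refine Subgroup.eq_of_le_of_card_ge ?_ (by rw [← hr, card_range_eq (F.injective_of_mem hφ)])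
      rw [← hr]
      rintro _ ⟨x, rfl⟩
      exact stronglyClosed_apply hT hφ x x.2
    rw [this]
  refine hbad fun R hR _ α hα hc => ?_
  have hmT := hmod T hT hTne R hR α hα hc
  by_cases hTR : T ≤ R
  swap
  · refine MulEquiv.ext fun x => Subtype.ext ?_
    have h1 : ((α x : R) : Ω) * (x : Ω)⁻¹ ∈ T ⊓ R := ⟨hmT x, R.mul_mem (α x).2 (R.inv_mem x.2)⟩
    have h2 : T ⊓ R = ⊥ := by
      haveI : Fact (Nat.card T).Prime := ⟨hTp'.symm ▸ hp⟩
      rcases Subgroup.eq_bot_or_eq_top_of_prime_card (R.subgroupOf T) with h | h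
      · rw [Subgroup.subgroupOf_eq_bot] at h
        exact (inf_comm T R).trans h.eq_bot
      · exact absurd (Subgroup.subgroupOf_eq_top.mp h) hTR
    rw [h2, Subgroup.mem_bot, mul_inv_eq_one] at h1
    exact h1
  -- `α` fixes `T`
  obtain ⟨φ, hφdef⟩ : ∃ φ : T →* Ω, φ = (R.subtype.comp α.toMonoidHom).comp (Subgroup.inclusion hTR) :=
    ⟨_, rfl⟩
  have hφ : φ ∈ F.Hom T := hφdef ▸ restrict_mem ((mem_autGroup_iff F hR).mp hα) hTR
  have hφr : φ.range = T := by
    refine Subgroup.eq_of_le_of_card_ge ?_ (card_range_eq (F.injective_of_mem hφ)).ge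
    rintro _ ⟨x, rfl⟩
    exact stronglyClosed_apply hT hφ x x.2
  obtain ⟨ψ, hψ, hψx⟩ := (receptive_of_fullyNormalized hS hF hfull).2 T φ hφ hφr
  have hSN : S ≤ extender S T φ := fun g hg => by
    refine mem_extender_iff.mpr ⟨hg, stronglyClosed_le_normalizer hT hg, 1, S.one_mem,
      fun t ht => ?_⟩
    rw [one_mul, inv_one, mul_one]
    exact congrArg φ (Subtype.ext (hcent g hg t t.2))
  have hψS := restrict_mem hψ hSN
  obtain ⟨β, hβ, hβx⟩ := exists_aut_of_hom' F hψS fun x => apply_mem hψ _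
  haveI := CfsgLib.Alperin.finite_autGroup F (le_refl S)
  obtain ⟨j, m, hjm, hmp⟩ := CfsgLib.FusionExamples.exists_coprime_power (p := p) (⟨β, hβ⟩ : F.autGroup S)
  have hβ1 : β ^ p ^ j = 1 := hB S le_rfl hlt.le _ (pow_mem hβ _)
    (Nat.Coprime.coprime_dvd_left (orderOf_dvd_of_pow_eq_one (congrArg Subtype.val hjm)) hmp)
  have hstep : ∀ (i : ℕ) (t : T), ∃ ht : ((((α ^ i) ⟨t, hTR t.2⟩ : R) : Ω)) ∈ T,
      (((β ^ i) ⟨t, hT.1 t.2⟩ : S) : Ω) = (((α ^ i) ⟨t, hTR t.2⟩ : R) : Ω) := by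
    intro i
    induction i with
    | zero => intro t; exact ⟨t.2, rfl⟩
    | succ i ihi =>
      intro t
      obtain ⟨ht, he⟩ := ihi t
      rw [pow_succ', pow_succ', MulAut.mul_apply, MulAut.mul_apply]
      refine ⟨stronglyClosed_apply hT ((mem_autGroup_iff F hR).mp hα) _ ht, ?_⟩
      rw [hβx]
      have h3 := hψx _ ht (hSN (hT.1 ht))
      have h4 := h3.trans (DFunLike.congr_fun hφdef _)
      exact (congrArg ψ (Subtype.ext he)).trans h4
  let fixT : Subgroup (MulAut R) :=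
    { carrier := {γ | ∀ t : T, γ ⟨t, hTR t.2⟩ = ⟨t, hTR t.2⟩}
      one_mem' := fun t => rfl
      mul_mem' := fun {γ δ} hγ hδ t => by rw [MulAut.mul_apply, hδ t, hγ t]
      inv_mem' := fun {γ} hγ t => by
        conv_lhs => rw [← hγ t]
        rw [MulAut.inv_apply_self] }
  have hfix : α ∈ fixT := mem_of_pow_mem _ hc (j := j) fun t => by
    obtain ⟨ht, he⟩ := hstep (p ^ j) t
    rw [hβ1] at he
    exact Subtype.ext he.symm
  refine Subgroup.mem_bot.mp (mem_of_pow_mem ⊥ hc (j := 1) (Subgroup.mem_bot.mpr ?_))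
  refine MulEquiv.ext fun x => ?_
  rw [pow_one, MulAut.one_apply]
  set c : T := ⟨_, hmT x⟩ with hcdef
  have hiter : ∀ i : ℕ, (α ^ i) x = (⟨(c : Ω), hTR c.2⟩ : R) ^ i * x := by
    intro i
    induction i with
    | zero => simp
    | succ i ihi =>
      rw [pow_succ', MulAut.mul_apply, ihi, map_mul, map_pow, hfix c, pow_succ, mul_assoc]
      congr 1
      exact Subtype.ext (by simp [hcdef])
  rw [hiter]
  have hcp : (⟨(c : Ω), hTR c.2⟩ : R) ^ p = 1 := by
    refine Subtype.ext ?_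
    have h1 := congrArg (fun a : T => (a : Ω)) (hTp' ▸ pow_card_eq_one' (x := c))
    simpa using h1
  rw [hcp, one_mul]

end Quotient

variable {Ω : Type u} [Group Ω] {S : Subgroup Ω} [Finite S] {p : ℕ} [Fact p.Prime]

/-- Rigidity in large subgroups from the hypotheses. -/
theorem rigid_large (hS : IsPGroup p S) {F : Cfsg.FusionSystem S} (hF : F.IsSaturated p) {k : ℕ}
    (hweak : Weak F (p ^ k))
    (hN : ∀ H : Subgroup Ω, F.IsFullyNormalized H → Nat.card H = p ^ k →
      ∀ N : Cfsg.FusionSystem (normalizerIn S H), F.IsNormalizerSystem H N →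
        ∀ P : Subgroup Ω, N.Hom P = (Cfsg.innerFusionSystem (normalizerIn S H)).Hom P) :
    Rigid F p (p ^ k) := by
  intro R hR hb α hα hc
  have hp : p.Prime := Fact.out
  haveI := finite_of_le hR
  have hRp : IsPGroup p R := isPGroup_of_le hS hR
  have hαF := (mem_autGroup_iff F hR).mp hα
  -- a maximal invariant normal subgroup of order at most `p ^ k`
  haveI : Nonempty {X : Subgroup R // X.Normal ∧ X.map α.toMonoidHom ≤ X ∧ Nat.card X ≤ p ^ k} :=
    ⟨⟨⊥, inferInstance, (Subgroup.map_bot _).le, by rw [Subgroup.card_bot]; exact Nat.one_le_pow _ _ hp.pos⟩⟩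
  obtain ⟨⟨M, hMn, hMα, hMc⟩, hMmax⟩ := Finite.exists_max
    fun X : {X : Subgroup R // X.Normal ∧ X.map α.toMonoidHom ≤ X ∧ Nat.card X ≤ p ^ k} => Nat.card X.1
  have hMeq : ∀ X : Subgroup R, X.Normal → X.map α.toMonoidHom ≤ X → M ≤ X → Nat.card X ≤ p ^ k →
      X = M := fun X h1 h2 h3 h4 =>
    (Subgroup.eq_of_le_of_card_ge h3 (hMmax ⟨X, h1, h2, h4⟩)).symm
  have hMk : Nat.card M = p ^ k := by
    by_contra hne
    have hMlt : Nat.card M < p ^ k := lt_of_le_of_ne hMc hne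
    haveI : Nonempty {X : Subgroup R // X.Normal ∧ X.map α.toMonoidHom ≤ X ∧ M < X} :=
      ⟨⟨⊤, inferInstance, le_top, lt_top_iff_ne_top.mpr fun h => by
        rw [h, Subgroup.card_top] at hMlt
        exact absurd hMlt (not_lt.mpr hb)⟩⟩
    obtain ⟨⟨N, hNn, hNα, hMN⟩, hNmin⟩ := Finite.exists_min
      fun X : {X : Subgroup R // X.Normal ∧ X.map α.toMonoidHom ≤ X ∧ M < X} => Nat.card X.1
    have hNk : p ^ k < Nat.card N := by
      by_contra hle
      rw [not_lt] at hle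
      exact hMN.ne (hMeq N hNn hNα hMN.le hle).symm
    obtain ⟨i, hi⟩ := IsPGroup.iff_card.mp (hRp.to_subgroup M)
    obtain ⟨c, hcN⟩ := IsPGroup.iff_card.mp (hRp.to_subgroup N)
    rw [hi, Nat.pow_lt_pow_iff_right hp.one_lt] at hMlt
    rw [hcN, Nat.pow_lt_pow_iff_right hp.one_lt] at hNk
    obtain ⟨K, hK, hMK⟩ := Sylow.exists_subgroup_card_pow_prime_le (G := N) p (n := i) (m := k)
      (hcN ▸ pow_dvd_pow p hNk.le) (M.subgroupOf N)
      (by rw [Nat.card_congr (Subgroup.subgroupOfEquivOfLe hMN.le).toEquiv, hi]) hMlt.le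
    set Q' : Subgroup R := K.map N.subtype with hQ'
    have hQ'c : Nat.card Q' = p ^ k := by
      rw [hQ', Subgroup.card_map_of_injective N.subtype_injective, hK]
    have hMQ : M ≤ Q' := fun x hx => ⟨⟨x, hMN.le hx⟩, hMK hx, rfl⟩
    set Q : Subgroup Ω := Q'.map R.subtype with hQ
    have hQR : Q ≤ R := Subgroup.map_subtype_le Q'
    have hQsub : Q.subgroupOf R = Q' := Subgroup.comap_map_eq_self_of_injective R.subtype_injective _
    obtain ⟨P, hP, hQP, hQI⟩ := hweak Q (hQR.trans hR)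
      (by rw [hQ, Subgroup.card_map_of_injective R.subtype_injective, hQ'c])
    -- strongly closed subgroups meet `R` in invariant normal subgroups
    have hinv : ∀ V : Subgroup Ω, F.StronglyClosed V →
        (V.subgroupOf R).Normal ∧ (V.subgroupOf R).map α.toMonoidHom ≤ V.subgroupOf R := fun V hV =>
      ⟨⟨fun x hx r => stronglyClosed_conj hV (hR r.2) hx⟩, by
        rintro _ ⟨x, hx, rfl⟩
        exact stronglyClosed_apply hV hαF x hx⟩
    have hmapinf : ∀ X Y : Subgroup R, X.map α.toMonoidHom ≤ X → Y.map α.toMonoidHom ≤ Y →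
        (X ⊓ Y).map α.toMonoidHom ≤ X ⊓ Y := fun X Y hX hY =>
      le_inf ((Subgroup.map_mono inf_le_left).trans hX) ((Subgroup.map_mono inf_le_right).trans hY)
    set I := (Q ⊓ P).subgroupOf R with hI
    obtain ⟨hIn, hIα⟩ := hinv _ hQI
    obtain ⟨hJn, hJα⟩ := hinv P hP
    obtain ⟨hXn, hXα⟩ := hinv _ hQP
    have hIM : I ≤ M := by
      have h1 : I ⊔ M ≤ Q' := sup_le (fun x hx => hQsub ▸ hx.1) hMQ
      have h2 := hMeq (I ⊔ M) inferInstance (by rw [Subgroup.map_sup]; exact sup_le_sup hIα hMα)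
        le_sup_right ((Subgroup.card_le_of_le h1).trans hQ'c.le)
      exact le_sup_left.trans h2.le
    set J := P.subgroupOf R ⊓ N with hJ
    have hJM : J ≤ M := by
      have hJn' : J.Normal := inferInstance
      have h1 : J ⊔ M ≤ N := sup_le inf_le_right hMN.le
      rcases (le_sup_right : M ≤ J ⊔ M).eq_or_lt with h | h
      · exact le_sup_left.trans h.ge
      have h2 : J ⊔ M = N := Subgroup.eq_of_le_of_card_ge h1 (hNmin ⟨J ⊔ M, inferInstance,
        by rw [Subgroup.map_sup]; exact sup_le_sup (hmapinf _ _ hJα hNα) hMα, h⟩)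
      exfalso
      have h3 : Q' ≤ M := by
        intro q hq
        have hqN : q ∈ J ⊔ M := h2 ▸ Subgroup.map_subtype_le K hq
        obtain ⟨j, hj, m, hm, rfl⟩ := Subgroup.mem_sup_of_normal_right.mp hqN
        have hj' : j ∈ Q' := by simpa using Q'.mul_mem hq (Q'.inv_mem (hMQ hm))
        exact M.mul_mem (hIM ⟨(hQsub ▸ hj' : j ∈ Q.subgroupOf R), hj.1⟩) hm
      exact absurd (Subgroup.card_le_of_le h3) (by
        rw [hQ'c, hi, not_le, Nat.pow_lt_pow_iff_right hp.one_lt]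
        exact hMlt)
    have hX : (Q ⊔ P).subgroupOf R ⊓ N ≤ Q' := by
      rintro x ⟨hx, hxN⟩
      have hnorm : Q ≤ Subgroup.normalizer (P : Set Ω) :=
        (hQR.trans hR).trans (stronglyClosed_le_normalizer hP)
      have hx' : (x : Ω) ∈ ((Q ⊔ P : Subgroup Ω) : Set Ω) := hx
      rw [Subgroup.coe_mul_of_left_le_normalizer_right Q P hnorm] at hx'
      obtain ⟨q, hq, j, hj, hqj⟩ := Set.mem_mul.mp hx'
      obtain ⟨q', hq', rfl⟩ := hq
      have hje : j = ((q'⁻¹ * x : R) : Ω) := by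
        show j = (q' : Ω)⁻¹ * x
        rw [← hqj]
        exact (inv_mul_cancel_left _ _).symm
      have hjJ : q'⁻¹ * x ∈ J := ⟨show ((q'⁻¹ * x : R) : Ω) ∈ P from hje ▸ hj,
        N.mul_mem (N.inv_mem (Subgroup.map_subtype_le K hq')) hxN⟩
      simpa using Q'.mul_mem hq' (hMQ (hJM hjJ))
    have hXeq : (Q ⊔ P).subgroupOf R ⊓ N = Q' := le_antisymm hX (le_inf
      (fun x hx => Subgroup.mem_sup_left (T := P) (show (x : Ω) ∈ Q from ⟨x, hx, rfl⟩))
      (Subgroup.map_subtype_le K))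
    have h5 := hMeq Q' (hXeq ▸ inferInstance) (hXeq ▸ hmapinf _ _ hXα hNα) hMQ hQ'c.le
    rw [h5, hi] at hQ'c
    exact hMlt.ne (Nat.pow_right_injective hp.two_le hQ'c)
  -- transport to a fully normalized conjugate
  set H : Subgroup Ω := M.map R.subtype with hH
  have hHR : H ≤ R := Subgroup.map_subtype_le M
  have hHc : Nat.card H = p ^ k := by rw [hH, Subgroup.card_map_of_injective R.subtype_injective, hMk]
  have hRN : R ≤ normalizerIn S H := fun r hr => ⟨hR hr, by
    haveI := finite_of_le (hHR.trans hR)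
    refine Subgroup.mem_normalizer_fintype ?_
    rintro _ ⟨y, hy, rfl⟩
    exact ⟨⟨r, hr⟩ * y * ⟨r, hr⟩⁻¹, hMn.conj_mem y hy _, rfl⟩⟩
  obtain ⟨H', hHH', hH'⟩ := exists_isFullyNormalized F (hHR.trans hR)
  obtain ⟨χ, hχ, hχN, hχH⟩ := exists_hom_normalizerIn_of_fullyNormalized hS hF hH' hHH'
  obtain ⟨χ₀, hχ₀def⟩ : ∃ χ₀ : R →* Ω, χ₀ = χ.comp (Subgroup.inclusion hRN) := ⟨_, rfl⟩
  have hχ₀ : χ₀ ∈ F.Hom R := hχ₀def ▸ restrict_mem hχ hRN
  have hχ₀N : ∀ x, χ₀ x ∈ normalizerIn S H' := fun x => hχ₀def ▸ hχN _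
  obtain ⟨γ, hγ, hγr, hγinv, -⟩ := exists_inverse hχ₀ rfl
  have hγR : ∀ y, γ y ∈ R := fun y => hγr.le ⟨y, rfl⟩
  have h1 := F.comp_mem hγ hαF hγR
  have h2 := F.comp_mem h1 hχ₀ fun y => (α _).2
  obtain ⟨ψ, hψdef⟩ : ∃ ψ, ψ = χ₀.comp
      (((R.subtype.comp α.toMonoidHom).comp (γ.codRestrict R hγR)).codRestrict R fun y => (α _).2) :=
    ⟨_, rfl⟩
  have hψ : ψ ∈ F.Hom χ₀.range := hψdef ▸ h2
  have hψval : ∀ x : R, ψ ⟨χ₀ x, ⟨x, rfl⟩⟩ = χ₀ (α x) := by
    intro x
    rw [hψdef]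
    exact congrArg χ₀ (Subtype.ext (congrArg (fun z : R => ((α z : R) : Ω))
      (Subtype.ext (hγinv x ⟨x, rfl⟩))))
  obtain ⟨N, hNsys⟩ := CfsgLib.FusionBasics.exists_normalizerSystem F hH'.1
  have hH'r : H' ≤ χ₀.range := by
    rw [← hχH]
    rintro _ ⟨z, hz, rfl⟩
    exact ⟨⟨z, hHR hz⟩, by rw [hχ₀def]; rfl⟩
  have hψN : ψ ∈ N.Hom χ₀.range := by
    rw [hNsys]
    refine ⟨hψ, by rintro _ ⟨x, rfl⟩; exact hχ₀N x, ?_, ψ.comp (Subgroup.inclusion (sup_le le_rfl hH'r)),
      restrict_mem hψ _, fun _ => rfl, ?_⟩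
    · rintro ⟨_, x, rfl⟩
      rw [hψval]
      exact hχ₀N _
    · haveI := finite_of_le hH'.1
      refine Subgroup.eq_of_le_of_card_ge ?_ ?_
      · rintro _ ⟨⟨y, hy'⟩, hy, rfl⟩
        obtain ⟨z, hz, hzy⟩ := hχH.ge (show y ∈ H' from hy)
        obtain ⟨z', hz', hzz'⟩ := (show (z : Ω) ∈ H from hz)
        have e : y = χ₀ ⟨z, hHR hz⟩ := by rw [hχ₀def, ← hzy]; rfl
        show ψ ⟨y, _⟩ ∈ H'
        rw [show (⟨y, sup_le le_rfl hH'r hy'⟩ : χ₀.range) = ⟨χ₀ ⟨z, hHR hz⟩, ⟨_, rfl⟩⟩ from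
          Subtype.ext e, hψval]
        refine hχH.le ⟨⟨_, hRN (α ⟨z, hHR hz⟩).2⟩, ?_, by rw [hχ₀def]; rfl⟩
        refine ⟨α z', hMα ⟨z', hz', rfl⟩, ?_⟩
        exact congrArg (fun a : R => ((α a : R) : Ω)) (Subtype.ext hzz')
      · rw [Subgroup.card_map_of_injective (F.injective_of_mem (restrict_mem hψ _)),
          Nat.card_congr (Subgroup.subgroupOfEquivOfLe le_sup_right).toEquiv]
  rw [hN H' hH' ((IsConj.card_eq hHH').trans hHc) N hNsys] at hψN
  obtain ⟨-, g, hg, hgψ⟩ := hψN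
  obtain ⟨e, he⟩ := hS ⟨g, hg.1⟩
  have hg1 : g ^ p ^ e = 1 := congrArg Subtype.val he
  have hpow : ∀ (i : ℕ) (x : R), χ₀ ((α ^ i) x) = g ^ i * χ₀ x * (g ^ i)⁻¹ := by
    intro i
    induction i with
    | zero => intro x; simp
    | succ i ihi =>
      intro x
      rw [pow_succ', MulAut.mul_apply, ← hψval, hgψ]
      show g * χ₀ ((α ^ i) x) * g⁻¹ = _
      rw [ihi, pow_succ']
      group
  refine Subgroup.mem_bot.mp (mem_of_pow_mem ⊥ hc (j := e) (Subgroup.mem_bot.mpr ?_))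
  refine MulEquiv.ext fun x => F.injective_of_mem hχ₀ ?_
  rw [hpow, hg1]
  simp


/-- A nilpotency criterion for fusion systems. Let F be a saturated fusion system over a finite p-group S of order at least p². Call a subgroup Q of S weakly embedded in F when there is a subgroup P of S strongly closed in F such that both the product QP and the intersection Q ∩ P are strongly closed in F. Then F is the inner fusion system of S if and only if there is a subgroup D of S with 1 < D < S such that every subgroup of S of the same order as D is weakly embedded in F and, for every fully normalized subgroup H of S of that order, the normalizer fusion system of H in F is the inner fusion system of N_S(H). -/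
theorem result {Ω : Type*} [Group Ω] {S : Subgroup Ω} [Finite S] (p : ℕ) [Fact p.Prime] (hS : IsPGroup p ↥S) (F : Cfsg.FusionSystem S) (hF : F.IsSaturated p) (hcard : p ^ 2 ≤ Nat.card S) : (∀ P : Subgroup Ω, F.Hom P = (Cfsg.innerFusionSystem S).Hom P) ↔ ∃ D : Subgroup Ω, ⊥ < D ∧ D < S ∧ (∀ Q : Subgroup Ω, Q ≤ S → Nat.card ↥Q = Nat.card ↥D → ∃ P : Subgroup Ω, F.StronglyClosed P ∧ F.StronglyClosed (Q ⊔ P) ∧ F.StronglyClosed (Q ⊓ P)) ∧ (∀ H : Subgroup Ω, F.IsFullyNormalized H → Nat.card ↥H = Nat.card ↥D → ∀ N : Cfsg.FusionSystem (Cfsg.FusionSystem.normalizerIn S H), F.IsNormalizerSystem H N → ∀ P : Subgroup Ω, N.Hom P = (Cfsg.innerFusionSystem (Cfsg.FusionSystem.normalizerIn S H)).Hom P) := by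
  have hp : p.Prime := Fact.out
  obtain ⟨c, hc⟩ := IsPGroup.iff_card.mp hS
  constructor
  · intro hin
    rw [hc, Nat.pow_le_pow_iff_right hp.one_lt] at hcard
    obtain ⟨d, rfl⟩ : ∃ d, c = d + 1 := ⟨c - 1, by omega⟩
    obtain ⟨D', hD'⟩ := Sylow.exists_subgroup_card_pow_prime (G := S) p (n := d)
      (hc ▸ pow_dvd_pow p (Nat.le_succ d))
    have hDc : Nat.card (D'.map S.subtype) = p ^ d := by
      rw [Subgroup.card_map_of_injective S.subtype_injective, hD']
    refine ⟨D'.map S.subtype, ?_, ?_, fun Q hQS hQc => ⟨⊥, ?_⟩, fun H hH _ N hN P => ?_⟩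
    · refine bot_lt_iff_ne_bot.mpr fun h => ?_
      rw [h, Subgroup.card_bot] at hDc
      exact absurd hDc (ne_of_lt (Nat.one_lt_pow (by omega) hp.one_lt))
    · refine lt_of_le_of_ne (Subgroup.map_subtype_le D') fun h => ?_
      rw [h, hc] at hDc
      exact absurd (Nat.pow_right_injective hp.two_le hDc) (Nat.succ_ne_self d)
    · rw [hDc] at hQc
      have hnormal : (Q.subgroupOf S).Normal := by
        refine Subgroup.normal_of_index_eq_minFac_card ?_
        have h1 := (Q.subgroupOf S).card_mul_index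
        rw [Nat.card_congr (Subgroup.subgroupOfEquivOfLe hQS).toEquiv, hQc, hc, pow_succ] at h1
        rw [Nat.eq_of_mul_eq_mul_left (pow_pos hp.pos d) h1, hc,
          Nat.pow_minFac d.succ_ne_zero, hp.minFac_eq]
      have hQ : F.StronglyClosed Q := by
        refine ⟨hQS, fun R hR φ hφ x => ?_⟩
        rw [hin] at hφ
        obtain ⟨-, g, hg, hgx⟩ := hφ
        rw [hgx]
        exact hnormal.conj_mem ⟨x, hQS (hR x.2)⟩ (hR x.2) ⟨g, hg⟩
      exact ⟨CfsgLib.FusionSub.stronglyClosed_bot F, by simpa using hQ,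
        by simpa using CfsgLib.FusionSub.stronglyClosed_bot F⟩
    · rw [hN P]
      ext φ
      constructor
      · rintro ⟨hφ, hPN, -, ψ, hψ, hψx, hψH⟩
        rw [hin] at hψ
        obtain ⟨-, g, hg, hgx⟩ := hψ
        haveI := CfsgLib.Alperin.finite_of_le hH.1
        refine ⟨hPN, g, ⟨hg, Subgroup.mem_normalizer_fintype fun h hh => ?_⟩, fun x => ?_⟩
        · exact hψH.le ⟨⟨h, Subgroup.mem_sup_right hh⟩, hh, hgx _⟩
        · rw [← hψx x, hgx]
          rfl
      · rintro ⟨hPN, g, hg, hgx⟩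
        have hPS : P ≤ S := hPN.trans inf_le_left
        have hgen : φ ∈ F.Hom P := by
          rw [hin]
          exact ⟨hPS, g, hg.1, hgx⟩
        refine ⟨hgen, hPN, fun x => ?_, conjHom (P ⊔ H) g,
          F.conj_mem (sup_le hPS hH.1) hg.1, fun x => (hgx x).symm, ?_⟩
        · rw [hgx]
          exact (normalizerIn S H).mul_mem ((normalizerIn S H).mul_mem hg (hPN x.2))
            ((normalizerIn S H).inv_mem hg)
        · ext y
          constructor
          · rintro ⟨x, hx, rfl⟩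
            exact (Subgroup.mem_normalizer_iff.mp hg.2 _).mp hx
          · intro hy
            refine ⟨⟨g⁻¹ * y * g, Subgroup.mem_sup_right ?_⟩, ?_, ?_⟩
            · exact (Subgroup.mem_normalizer_iff.mp hg.2 _).mpr (by simpa [mul_assoc] using hy)
            · exact (Subgroup.mem_normalizer_iff.mp hg.2 _).mpr (by simpa [mul_assoc] using hy)
            · show g * (g⁻¹ * y * g) * g⁻¹ = y
              group
  · rintro ⟨D, hD1, hD2, hweak, hN⟩
    haveI := CfsgLib.Alperin.finite_of_le hD2.le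
    obtain ⟨k, hk⟩ := IsPGroup.iff_card.mp (CfsgLib.Alperin.isPGroup_of_le hS hD2.le)
    have hk1 : 1 ≤ k := by
      rcases Nat.eq_zero_or_pos k with h | h
      · exact absurd (Subgroup.card_eq_one.mp (by rw [hk, h, pow_zero])) hD1.ne'
      · exact h
    rw [hk] at hweak hN
    exact inner_of_rigid hS hF (rigid_of_weak _ rfl hS hF k hk1
      (hk ▸ CfsgLib.FusionSub.card_lt_card le_rfl hD2) hweak (rigid_large hS hF hweak hN))

end Cfsg.Agent.S5271
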