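import Cfsg.Statements.S5272
import Cfsg.Agent.Lib.FusionBasics.AxiomaticGT
import Cfsg.Agent.Lib.FusionBasics.LocalNilpotent
import Cfsg.Agent.Lib.FusionBasics.KSystem
import Cfsg.Agent.Lib.FusionExamples.NonInner

set_option autoImplicit false
open Cfsg

namespace Cfsg.Agent.S5272

/-- An axiomatic Glauberman–Thompson nilpotency criterion for fusion systems. Let p be an odd prime, F a saturated fusion system over a finite p-group S, and 𝒜 a nonempty family of abelian subgroups of S. For Q ≤ S write I(Q) for the intersection of the members of 𝒜 contained in Q. Assume (invariance) that for every Q ≤ S containing a member of 𝒜, every F-automorphism of Q maps I(Q) into itself, and (replacement) that for every subgroup B of S of nilpotency class at most 2, if some member of 𝒜 contains [B,B] but not B, then B normalizes some member of 𝒜 that contains [B,B] but not B. Then F is the inner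 fusion system of S if and only if the normalizer fusion system of I(S) in F is the inner fusion system of N_S(I(S)). -/
theorem result {Ω : Type*} [Group Ω] {S : Subgroup Ω} [Finite S] (p : ℕ) [Fact p.Prime] (hS : IsPGroup p ↥S) (F : Cfsg.FusionSystem S) (hF : F.IsSaturated p) (hp : p ≠ 2) (𝒜 : Set (Subgroup Ω)) (h𝒜 : ∀ A ∈ 𝒜, A ≤ S ∧ IsMulCommutative ↥A) (hne : 𝒜.Nonempty) (hinv : ∀ Q : Subgroup Ω, Q ≤ S → (∃ A ∈ 𝒜, A ≤ Q) → ∀ α ∈ F.autGroup Q, ∀ x : ↥Q, (x : Ω) ∈ (⨅ A ∈ {A : Subgroup Ω | A ∈ 𝒜 ∧ A ≤ Q}, A) → (((α : MulAut ↥Q) x : ↥Q) : Ω) ∈ (⨅ A ∈ {A : Subgroup Ω | A ∈ 𝒜 ∧ A ≤ Q}, A)) (hrep : ∀ B : Subgroup Ω, B ≤ S → ⁅⁅B, B⁆, B⁆ = ⊥ → (∃ A ∈ 𝒜, ⁅B, B⁆ ≤ A ∧ ¬ B ≤ A) → ∃ A ∈ 𝒜, ⁅B, B⁆ ≤ A ∧ ¬ B ≤ A ∧ B ≤ Subgroup.normalizer (A : Set Ω)) : (∀ P : Subgroup Ω, F.Hom P = (Cfsg.innerFusionSystem S).Hom P) ↔ ∀ N : Cfsg.FusionSystem (Cfsg.FusionSystem.normalizerIn S (⨅ A ∈ 𝒜, A)), F.IsNormalizerSystem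 (⨅ A ∈ 𝒜, A) N → ∀ P : Subgroup Ω, N.Hom P = (Cfsg.innerFusionSystem (Cfsg.FusionSystem.normalizerIn S (⨅ A ∈ 𝒜, A))).Hom P := by
  set W : Subgroup Ω := ⨅ A ∈ 𝒜, A with hW
  have hWmem : ∀ x, x ∈ W ↔ ∀ A ∈ 𝒜, x ∈ A := fun x => by
    simp only [hW, Subgroup.mem_iInf]
  obtain ⟨A₀, hA₀⟩ := hne
  have hWS : W ≤ S := fun x hx => (h𝒜 A₀ hA₀).1 ((hWmem x).1 hx A₀ hA₀)
  have hI : ∀ (Q : Subgroup Ω) (x : Ω),
      x ∈ (⨅ A ∈ {A : Subgroup Ω | A ∈ 𝒜 ∧ A ≤ Q}, A) ↔ ∀ A ∈ 𝒜, A ≤ Q → x ∈ A := fun Q x => by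
    simp only [Subgroup.mem_iInf, Set.mem_setOf_eq, and_imp]
  -- maps of `F` onto their source preserve the intersections
  have hmap : ∀ (Q : Subgroup Ω), Q ≤ S → (∃ A ∈ 𝒜, A ≤ Q) → ∀ φ ∈ F.Hom Q,
      (∀ x : Q, φ x ∈ Q) → ∀ x : Q, (∀ A ∈ 𝒜, A ≤ Q → (x : Ω) ∈ A) →
        ∀ A ∈ 𝒜, A ≤ Q → φ x ∈ A := by
    intro Q hQ hex φ hφ hst x hx
    haveI := CfsgLib.Alperin.finite_of_le hQ
    obtain ⟨α, hα, hαx⟩ := CfsgLib.Alperin.exists_aut_of_hom' F hφ hst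
    rw [← hαx x]
    exact (hI Q _).1 (hinv Q hQ hex α hα x ((hI Q _).2 hx))
  have hconj : ∀ s ∈ S, ∀ x ∈ W, s * x * s⁻¹ ∈ W := fun s hs x hx =>
    (hWmem _).2 fun A hA => hmap S le_rfl ⟨A₀, hA₀, (h𝒜 A₀ hA₀).1⟩ _ (F.conj_mem le_rfl hs)
      (CfsgLib.Alperin.apply_mem (F.conj_mem le_rfl hs)) ⟨x, hWS hx⟩
      (fun A' hA' _ => (hWmem x).1 hx A' hA') A hA (h𝒜 A hA).1
  have hnorm : S ≤ Subgroup.normalizer (W : Set Ω) := fun s hs =>
    Subgroup.mem_normalizer_iff.2 fun x => ⟨hconj s hs x, fun hx => by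
      simpa [mul_assoc] using hconj _ (S.inv_mem hs) _ hx⟩
  have hSN : S ≤ Cfsg.FusionSystem.normalizerIn S W := fun s hs => ⟨hs, hnorm hs⟩
  refine ⟨fun h N hN P => ?_, fun hN => ?_⟩
  · refine Set.Subset.antisymm (fun φ hφ => ?_) (CfsgLib.FusionExamples.inner_le N P)
    rw [hN] at hφ
    have h2 := hφ.1
    rw [h] at h2
    obtain ⟨-, g, hg, hx⟩ := h2
    exact ⟨hφ.2.1, g, hSN hg, hx⟩
  intro P
  refine Set.Subset.antisymm (fun φ hφ => ?_) (CfsgLib.FusionExamples.inner_le F P)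
  by_contra hn
  obtain ⟨E, hEF, hE, P₁, hP₁⟩ :=
    CfsgLib.FusionExamples.NonInner.exists_constrained hp hS hF ⟨P, φ, hφ, hn⟩
  refine hP₁ (Set.Subset.antisymm (fun ψ hψ => ?_) (CfsgLib.FusionExamples.inner_le E P₁))
  obtain ⟨L, _, ι, hM⟩ := CfsgLib.FusionModels.exists_model hS hE
  obtain ⟨N, hNs⟩ := CfsgLib.FusionBasics.exists_normalizerSystem F hWS
  refine CfsgLib.FusionBasics.LocalNilpotent.mem_inner_of_isPGroup hM ?_ hψ
  haveI := hM.1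
  obtain ⟨hinj, hreal⟩ := hM.2.1
  obtain ⟨T, hT⟩ := hM.2.2.1
  have hnc := CfsgLib.FusionBasics.LocalNilpotent.hasNormalPComplement_normalizer hM hWS hnorm
    fun R hWR χ hχ hχW => ?_
  · refine CfsgLib.FusionBasics.LocalNilpotent.isPGroup_of_hasNormalPComplement
      (CfsgLib.FusionBasics.AxiomaticGT.hasNormalPComplement_of_axiomatic hp T hM.2.2.2
        (fun A' => ∃ A ∈ 𝒜, (A.subgroupOf S).map ι = A') ?_ ?_ ⟨_, A₀, hA₀, rfl⟩
        ((W.subgroupOf S).map ι) ?_ ?_ ?_ hnc) hM.2.2.2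
    · rintro _ ⟨A, hA, rfl⟩
      have h2 : IsMulCommutative ↥(A.subgroupOf S) := by
        rw [CfsgLib.NormalPComplement.isMulCommutative_iff_le_centralizer]
        intro a ha b hb
        exact Subtype.ext (Subgroup.mem_centralizer_iff.1
          (CfsgLib.NormalPComplement.isMulCommutative_iff_le_centralizer.1 (h𝒜 A hA).2 ha) (b : Ω) hb)
      exact CfsgLib.NormalPComplement.isMulCommutative_map h2 ι
    · rintro _ ⟨A, hA, rfl⟩
      exact hT ▸ Subgroup.map_le_range ι _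
    · intro y
      constructor
      · rintro ⟨s, hs, rfl⟩ _ ⟨A, hA, rfl⟩
        exact ⟨s, (hWmem _).1 hs A hA, rfl⟩
      · intro h
        obtain ⟨s, hs, rfl⟩ := h _ ⟨A₀, hA₀, rfl⟩
        refine ⟨s, Subgroup.mem_subgroupOf.2 ((hWmem _).2 fun A hA => ?_), rfl⟩
        obtain ⟨s', hs', hse⟩ := h _ ⟨A, hA, rfl⟩
        rw [← hinj hse]
        exact hs'
    · intro Q hQT hex g hg x hx _ ⟨A, hA, hAe⟩ hAQ
      subst hAe
      rw [hT] at hQT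
      obtain ⟨_, ⟨A₁, hA₁, rfl⟩, hA₁Q⟩ := hex
      set Q₀ : Subgroup Ω := (Q.comap ι).map S.subtype with hQ₀
      have hQ₀S : Q₀ ≤ S := Subgroup.map_subtype_le _
      have hmem : ∀ {y : Ω} (hy : y ∈ S), y ∈ Q₀ ↔ ι ⟨y, hy⟩ ∈ Q := by
        intro y hy
        constructor
        · rintro ⟨⟨z, hz⟩, hzQ, rfl⟩
          exact hzQ
        · exact fun h => ⟨⟨y, hy⟩, h, rfl⟩
      have hle : ∀ B ∈ 𝒜, (B.subgroupOf S).map ι ≤ Q → B ≤ Q₀ := fun B hB hBQ b hb =>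
        (hmem ((h𝒜 B hB).1 hb)).2 (hBQ ⟨⟨b, (h𝒜 B hB).1 hb⟩, hb, rfl⟩)
      have hgQ : ∀ {y : L}, y ∈ Q → g * y * g⁻¹ ∈ Q := fun hy =>
        (Subgroup.mem_normalizer_iff.1 hg _).1 hy
      obtain ⟨s, hs, rfl⟩ := hx _ ⟨A₁, hA₁, rfl⟩ hA₁Q
      let e : S ≃* ι.range := MonoidHom.ofInjective hinj
      let c : Q₀ →* ι.range := MonoidHom.codRestrict
        ((MulAut.conj g).toMonoidHom.comp (ι.comp (Subgroup.inclusion hQ₀S))) ι.range
        (fun y => hQT (hgQ ((hmem (hQ₀S y.2)).1 y.2)))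
      set ψ : Q₀ →* Ω := S.subtype.comp (e.symm.toMonoidHom.comp c)
      have hψS : ∀ y, ψ y ∈ S := fun y => (e.symm (c y)).2
      have hψι : ∀ y, ι ⟨ψ y, hψS y⟩ = g * ι ⟨(y : Ω), hQ₀S y.2⟩ * g⁻¹ := fun y => by
        show ι (e.symm (c y)) = _
        have h : ι (e.symm (c y)) = (c y : L) := congrArg Subtype.val (e.apply_symm_apply (c y))
        rw [h]
        rfl
      have hψ : ψ ∈ E.Hom Q₀ := (hreal Q₀ hQ₀S ψ hψS).2 ⟨g, hψι⟩
      have hsQ : (s : Ω) ∈ Q₀ := hle A₁ hA₁ hA₁Q hs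
      have hres := hmap Q₀ hQ₀S ⟨A₁, hA₁, hle A₁ hA₁ hA₁Q⟩ ψ (hEF Q₀ hψ)
        (fun y => (hmem (hψS y)).2 (by
          rw [hψι]; exact hgQ ((hmem (hQ₀S y.2)).1 y.2)))
        ⟨s, hsQ⟩ (fun B hB hBQ₀ => ?_) A hA (hle A hA hAQ)
      · exact ⟨⟨ψ ⟨s, hsQ⟩, hψS _⟩, hres, hψι ⟨s, hsQ⟩⟩
      · obtain ⟨s', hs', hse⟩ := hx _ ⟨B, hB, rfl⟩ (by
          rintro _ ⟨b, hb, rfl⟩
          exact (hmem b.2).1 (hBQ₀ hb))
        have he : (s' : Ω) = (s : Ω) := congrArg Subtype.val (hinj hse)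
        show (s : Ω) ∈ B
        exact he ▸ hs'
    · intro B hBT hcl ⟨_, ⟨A₁, hA₁, hA₁e⟩, h1, h2⟩
      subst hA₁e
      rw [hT] at hBT
      set B₀ : Subgroup Ω := (B.comap ι).map S.subtype with hB₀
      have hBe : (B₀.subgroupOf S).map ι = B := by
        have : B₀.subgroupOf S = B.comap ι := Subgroup.comap_map_eq_self_of_injective
          S.subtype_injective _
        rw [this, Subgroup.map_comap_eq_self hBT]
      have hBB : ((⁅B₀, B₀⁆).subgroupOf S).map ι = ⁅B, B⁆ := by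
        have : ⁅B₀, B₀⁆.subgroupOf S = ⁅B.comap ι, B.comap ι⁆ := by
          rw [hB₀, ← Subgroup.map_commutator]
          exact Subgroup.comap_map_eq_self_of_injective S.subtype_injective _
        rw [this, Subgroup.map_commutator, Subgroup.map_comap_eq_self hBT]
      have hB₀S : B₀ ≤ S := Subgroup.map_subtype_le _
      have hBB₀S : ⁅B₀, B₀⁆ ≤ S := by
        rw [hB₀, ← Subgroup.map_commutator]
        exact Subgroup.map_subtype_le _
      have htr : ∀ {X Y : Subgroup Ω}, X ≤ S →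
          ((X.subgroupOf S).map ι ≤ (Y.subgroupOf S).map ι ↔ X ≤ Y) := by
        intro X Y hX
        rw [Subgroup.map_le_map_iff_of_injective hinj]
        exact ⟨fun h x hx => h (show (⟨x, hX hx⟩ : S) ∈ X.subgroupOf S from hx),
          fun h x hx => h hx⟩
      have hcl₀ : ⁅⁅B₀, B₀⁆, B₀⁆ = ⊥ := by
        rw [hB₀, ← Subgroup.map_commutator, ← Subgroup.map_commutator]
        refine (Subgroup.map_eq_bot_iff_of_injective _ S.subtype_injective).2 ?_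
        refine Subgroup.map_injective hinj ?_
        rw [Subgroup.map_commutator, Subgroup.map_commutator, Subgroup.map_comap_eq_self hBT,
          Subgroup.map_bot, hcl]
      obtain ⟨A, hA, h3, h4, h5⟩ := hrep B₀ hB₀S hcl₀
        ⟨A₁, hA₁, (htr hBB₀S).1 (hBB.le.trans h1),
          fun h => h2 (hBe.ge.trans ((htr hB₀S).2 h))⟩
      refine ⟨_, ⟨A, hA, rfl⟩, hBB.ge.trans ((htr hBB₀S).2 h3),
        fun h => h4 ((htr hB₀S).1 (hBe.le.trans h)), ?_⟩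
      rw [← hBe]
      rintro _ ⟨b, hb, rfl⟩
      refine Subgroup.le_normalizer_map ι ⟨b, ?_, rfl⟩
      exact Subgroup.mem_normalizer_iff.2 fun a => Subgroup.mem_normalizer_iff.1 (h5 hb) (a : Ω)
  · have hRS := CfsgLib.Alperin.dom_le hχ
    have h2 : χ ∈ N.Hom R := by
      rw [hNs]
      refine ⟨hEF R hχ, hRS.trans hSN, fun x => hSN (CfsgLib.Alperin.apply_mem hχ x),
        χ.comp (Subgroup.inclusion (sup_le le_rfl hWR)),
        CfsgLib.Alperin.restrict_mem (hEF R hχ) _, fun x => rfl, ?_⟩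
      refine le_antisymm ?_ fun w hw => ?_
      · rintro _ ⟨x, hx, rfl⟩
        exact hχW.le ⟨_, hx, rfl⟩
      · obtain ⟨x, hx, rfl⟩ := hχW.ge hw
        exact ⟨⟨x, Subgroup.mem_sup_left x.2⟩, hx, rfl⟩
    rw [hN N hNs R] at h2
    obtain ⟨-, g, hg, hx⟩ := h2
    exact ⟨hRS, g, hg.1, hx⟩

end Cfsg.Agent.S5272
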