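import Cfsg.Statements.S5273
import Cfsg.Agent.Lib.Alperin.SmallAbelianControl

set_option autoImplicit false
open Cfsg Cfsg.FusionSystem

namespace Cfsg.Agent.S5273

/-- Small-exponent abelian subgroups control fusion. Let E and F be saturated fusion systems over the same finite p-group S with E contained in F. Suppose that E and F have the same maps between A and B for all subgroups A, B of S that are elementary abelian when p is odd, respectively abelian of exponent dividing 4 when p = 2. Then E = F (they have the same maps on every subgroup). -/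
theorem result {Ω : Type*} [Group Ω] {S : Subgroup Ω} [Finite S] (p : ℕ) [Fact p.Prime] (hS : IsPGroup p ↥S) (E F : Cfsg.FusionSystem S) (hE : E.IsSaturated p) (hF : F.IsSaturated p) (hEF : E.IsSubsystemOf F) (hodd : p ≠ 2 → ∀ A B : Subgroup Ω, A ≤ S → B ≤ S → Cfsg.IsElementaryAbelian p A → Cfsg.IsElementaryAbelian p B → E.homSet A B = F.homSet A B) (htwo : p = 2 → ∀ A B : Subgroup Ω, A ≤ S → B ≤ S → IsMulCommutative ↥A → IsMulCommutative ↥B → (∀ a ∈ A, a ^ 4 = 1) → (∀ b ∈ B, b ^ 4 = 1) → E.homSet A B = F.homSet A B) : ∀ P : Subgroup Ω, E.Hom P = F.Hom P := by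
  classical
  intro P
  refine Set.Subset.antisymm (hEF P) (CfsgLib.Alperin.hom_subset_of_smallExp hS hE hF hEF
    (fun A φ hφ hc hexp => ?_) P)
  have hAS : A ≤ S := CfsgLib.Alperin.dom_le hφ
  have hBS : φ.range ≤ S := CfsgLib.Alperin.range_le hφ
  have hmem : φ ∈ F.homSet A φ.range := ⟨hφ, fun x => ⟨x, rfl⟩⟩
  have hBc : ∀ a ∈ φ.range, ∀ b ∈ φ.range, a * b = b * a := by
    rintro _ ⟨a, rfl⟩ _ ⟨b, rfl⟩
    rw [← map_mul, ← map_mul]
    exact congrArg φ (Subtype.ext (hc a a.2 b b.2))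
  have hAm : IsMulCommutative ↥A := ⟨⟨fun a b => Subtype.ext (hc a a.2 b b.2)⟩⟩
  have hBm : IsMulCommutative ↥φ.range := ⟨⟨fun a b => Subtype.ext (hBc a a.2 b b.2)⟩⟩
  have hpow : ∀ n : ℕ, (∀ a ∈ A, a ^ n = 1) → ∀ b ∈ φ.range, b ^ n = 1 := by
    rintro n hn _ ⟨a, rfl⟩
    rw [← map_pow, show a ^ n = 1 from Subtype.ext (hn a a.2), map_one]
  rcases hexp with ⟨hp, hA⟩ | ⟨hp, hA⟩
  · rw [← hodd hp A φ.range hAS hBS ⟨hAm, hA⟩ ⟨hBm, hpow _ hA⟩] at hmem
    exact hmem.1
  · rw [← htwo hp A φ.range hAS hBS hAm hBm hA (hpow _ hA)] at hmem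
    exact hmem.1

end Cfsg.Agent.S5273
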