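import Cfsg.Statements.S5275
import Cfsg.Agent.Lib.FusionBasics.LocalNilpotent
import Cfsg.Agent.Lib.FusionBasics.KSystem
import Cfsg.Agent.Lib.FusionExamples.NonInner
import Cfsg.Agent.Lib.FusionSub.Puig
import Cfsg.Agent.Lib.Replacement.ZJNilpotent
import Cfsg.Agent.Lib.Replacement.ZJFunctor

set_option autoImplicit false
open Cfsg

namespace Cfsg.Agent.S5275

/-- A Glauberman–Thompson nilpotency criterion for fusion systems relative to a strongly closed subgroup. Let p be an odd prime, F a saturated fusion system over a finite p-group S, and D a subgroup of S that is strongly closed in F. Let Z(J(D)) be the centre of the subgroup of D generated by the abelian subgroups of D of largest order. Then F is the inner fusion system of S if and only if the normalizer fusion system of Z(J(D)) in F is the inner fusion system of N_S(Z(J(D))) = S. -/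
theorem result {Ω : Type*} [Group Ω] {S : Subgroup Ω} [Finite S] (p : ℕ) [Fact p.Prime] (hS : IsPGroup p ↥S) (F : Cfsg.FusionSystem S) (hF : F.IsSaturated p) (hp : p ≠ 2) (D : Subgroup Ω) (hD : F.StronglyClosed D) : (∀ P : Subgroup Ω, F.Hom P = (Cfsg.innerFusionSystem S).Hom P) ↔ ∀ N : Cfsg.FusionSystem (Cfsg.FusionSystem.normalizerIn S (Cfsg.centerThompsonAOf D)), F.IsNormalizerSystem (Cfsg.centerThompsonAOf D) N → ∀ P : Subgroup Ω, N.Hom P = (Cfsg.innerFusionSystem (Cfsg.FusionSystem.normalizerIn S (Cfsg.centerThompsonAOf D))).Hom P := by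
  set W := Cfsg.centerThompsonAOf D with hW
  have hnorm : S ≤ Subgroup.normalizer (W : Set Ω) :=
    (CfsgLib.FusionSub.stronglyClosed_le_normalizer hD).trans
      ((CfsgLib.NormalPComplement.normalizer_le_normalizer_thompsonSubgroupAOf D).trans
        (CfsgLib.FusionBasics.LocalNilpotent.normalizer_le_normalizer_inf D))
  have hWS : W ≤ S :=
    (inf_le_left.trans (CfsgLib.NormalPComplement.thompsonSubgroupAOf_le D)).trans hD.1
  have hSN : S ≤ Cfsg.FusionSystem.normalizerIn S W := fun s hs => ⟨hs, hnorm hs⟩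
  refine ⟨fun h N hN P => ?_, fun hN => ?_⟩
  · refine Set.Subset.antisymm (fun φ hφ => ?_) (CfsgLib.FusionExamples.inner_le N P)
    rw [hN] at hφ
    have h2 := hφ.1
    rw [h] at h2
    obtain ⟨-, g, hg, hx⟩ := h2
    exact ⟨hφ.2.1, g, hSN hg, hx⟩
  intro P
  refine Set.Subset.antisymm (fun φ hφ => ?_) (CfsgLib.FusionExamples.inner_le F P)
  by_contra hn
  obtain ⟨E, hEF, hE, P₁, hP₁⟩ :=
    CfsgLib.FusionExamples.NonInner.exists_constrained hp hS hF ⟨P, φ, hφ, hn⟩
  refine hP₁ (Set.Subset.antisymm (fun ψ hψ => ?_) (CfsgLib.FusionExamples.inner_le E P₁))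
  obtain ⟨L, _, ι, hM⟩ := CfsgLib.FusionModels.exists_model hS hE
  obtain ⟨N, hNs⟩ := CfsgLib.FusionBasics.exists_normalizerSystem F hWS
  refine CfsgLib.FusionBasics.LocalNilpotent.mem_inner_of_isPGroup hM ?_ hψ
  haveI := hM.1
  obtain ⟨hinj, -⟩ := hM.2.1
  obtain ⟨T, hT⟩ := hM.2.2.1
  have hnc := CfsgLib.FusionBasics.LocalNilpotent.hasNormalPComplement_normalizer hM hWS hnorm
    fun R hWR χ hχ hχW => ?_
  · have hD' : Cfsg.IsStronglyClosed ((D.subgroupOf S).map ι) (T : Subgroup L) := hT ▸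
      CfsgLib.FusionBasics.LocalNilpotent.isStronglyClosed_map hM
        ⟨hD.1, fun R hR χ hχ => hD.2 R hR χ (hEF R hχ)⟩
    refine CfsgLib.FusionBasics.LocalNilpotent.isPGroup_of_hasNormalPComplement
      (CfsgLib.Replacement.hasNormalPComplement_of_zcore hp (Or.inl rfl) T _ hD' ?_)
      hM.2.2.2
    have himg : CfsgLib.Replacement.zcore 0 ((D.subgroupOf S).map ι) =
        (W.subgroupOf S).map ι := by
      rw [CfsgLib.Replacement.map_zcore_injective 0 _ ι hinj,
        ← CfsgLib.Replacement.centerThompsonAOf_eq_zcore,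
        ← CfsgLib.FusionBasics.LocalNilpotent.center_subgroupOf hD.1]
    rw [himg]
    exact hnc
  · have hRS := CfsgLib.Alperin.dom_le hχ
    have h2 : χ ∈ N.Hom R := by
      rw [hNs]
      refine ⟨hEF R hχ, hRS.trans hSN, fun x => hSN (CfsgLib.Alperin.apply_mem hχ x),
        χ.comp (Subgroup.inclusion (sup_le le_rfl hWR)),
        CfsgLib.Alperin.restrict_mem (hEF R hχ) _, fun x => rfl, ?_⟩
      refine le_antisymm ?_ fun w hw => ?_
      · rintro _ ⟨x, hx, rfl⟩
        exact hχW.le ⟨_, hx, rfl⟩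
      · obtain ⟨x, hx, rfl⟩ := hχW.ge hw
        exact ⟨⟨x, Subgroup.mem_sup_left x.2⟩, hx, rfl⟩
    rw [hN N hNs R] at h2
    obtain ⟨-, g, hg, hx⟩ := h2
    exact ⟨hRS, g, hg.1, hx⟩

end Cfsg.Agent.S5275
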