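import Cfsg.Statements.S5287
import Cfsg.Agent.Lib.TwoGroups.MetacyclicBad
import Cfsg.Agent.Lib.TwoGroups.MetacyclicChain
import Cfsg.Agent.Lib.TwoGroups.MetacyclicFusion
import Cfsg.Agent.Lib.FusionModels.SmallOmega
import Cfsg.Agent.Lib.Alperin.SystemImage
-- import your own Cfsg.Agent.* helpers here

set_option autoImplicit false
open Cfsg

namespace Cfsg.Agent.S5287

open CfsgLib CfsgLib.Alperin CfsgLib.TwoGroups

universe u v

/-- Quasi-dihedral groups of equal order are isomorphic. -/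
theorem sdGen_equiv {A : Type u} {B : Type v} [Group A] [Group B] {k : ℕ} {x y : A} {a b : B}
    (hA : SDGen k x y) (hB : SDGen k a b) : Nonempty (A ≃* B) := by
  classical
  haveI := hA.finite
  haveI := hB.finite
  let f : A → B := fun g =>
    if h : ∃ i : ℤ, g = x ^ i then a ^ h.choose
    else a ^ ((hA.cases g).resolve_left h).choose * b
  have h0 : ∀ i : ℤ, f (x ^ i) = a ^ i := fun i => by
    have h : ∃ j : ℤ, x ^ i = x ^ j := ⟨i, rfl⟩
    simp only [f, dif_pos h]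
    exact (hB.zpow_eq _ _).2 ((hA.zpow_eq _ _).1 h.choose_spec.symm)
  have h1 : ∀ i : ℤ, f (x ^ i * y) = a ^ i * b := fun i => by
    have h : ¬ ∃ j : ℤ, x ^ i * y = x ^ j := fun ⟨j, hj⟩ => hA.zpow_mul_y_ne i j hj
    simp only [f, dif_neg h]
    exact (hB.zpow_mul_y_eq _ _).2 ((hA.zpow_mul_y_eq _ _).1
      ((hA.cases (x ^ i * y)).resolve_left h).choose_spec.symm)
  have hmul : ∀ g g', f (g * g') = f g * f g' := by
    intro g g'
    rcases hA.cases g with ⟨i, rfl⟩ | ⟨i, rfl⟩ <;> rcases hA.cases g' with ⟨j, rfl⟩ | ⟨j, rfl⟩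
    · rw [← zpow_add, h0, h0, h0, zpow_add]
    · rw [← mul_assoc, ← zpow_add, h1, h0, h1, ← mul_assoc, zpow_add]
    · rw [mul_assoc, hA.mul_zpow, ← mul_assoc, ← zpow_add, h1, h1, h0, mul_assoc (a ^ i), hB.mul_zpow,
        ← mul_assoc, ← zpow_add]
    · rw [hA.mul_mul, h0, h1, h1, hB.mul_mul]
  have hsurj : Function.Surjective f := fun t => by
    rcases hB.cases t with ⟨i, rfl⟩ | ⟨i, rfl⟩
    · exact ⟨x ^ i, h0 i⟩
    · exact ⟨x ^ i * y, h1 i⟩
  exact ⟨MulEquiv.ofBijective (MonoidHom.mk' f hmul)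
    (hsurj.bijective_of_nat_card_le (le_of_eq (hA.card_eq.trans hB.card_eq.symm)))⟩

/-- The Klein four-group as a product. -/
theorem dihedral_two_equiv :
    Nonempty (DihedralGroup 2 ≃* Multiplicative (ZMod (2 ^ 1)) × Multiplicative (ZMod (2 ^ 1))) := by
  have : IsKleinFour (Multiplicative (ZMod (2 ^ 1)) × Multiplicative (ZMod (2 ^ 1))) := by
    refine ⟨by simp [Nat.card_prod, Nat.card_congr Multiplicative.toAdd], ?_⟩
    rw [Monoid.exponent_prod]
    simp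
  exact IsKleinFour.nonempty_mulEquiv

theorem exists_two_pow_of_card {X : Type u} [Group X] [Finite X] (hX : IsPGroup 2 X) {c m : ℕ}
    (h : Nat.card X = 2 ^ c * m) : ∃ j, m = 2 ^ j := by
  haveI : Fact (Nat.Prime 2) := ⟨Nat.prime_two⟩
  obtain ⟨k, hk⟩ := hX.exists_card_eq
  obtain ⟨j, -, hj⟩ := (Nat.dvd_prime_pow Nat.prime_two).1 (show m ∣ 2 ^ k from ⟨2 ^ c, by rw [← hk, h, mul_comm]⟩)
  exact ⟨j, hj⟩

variable {Ω : Type u} [Group Ω] {S : Subgroup Ω} [Finite S]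

theorem aut_of_hom (F : Cfsg.FusionSystem S) {R : Subgroup Ω} {φ : R →* Ω} (hφ : φ ∈ F.Hom R)
    (hN : F.IsNormal S) : ∃ α ∈ F.autGroup S, ∀ (x : R) (hx : (x : Ω) ∈ S), φ x = α ⟨x, hx⟩ := by
  obtain ⟨-, hN⟩ := hN
  obtain ⟨ψ, hψ, hψx, hψS⟩ := hN R φ hφ
  have hR := dom_le hφ
  have hχ := restrict_mem hψ (le_sup_right : S ≤ R ⊔ S)
  have hr : (ψ.comp (Subgroup.inclusion (le_sup_right : S ≤ R ⊔ S))).range = S := by
    refine le_antisymm ?_ ?_
    · rintro _ ⟨s, rfl⟩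
      exact (F.le_of_mem hψ).2 _
    · intro w hw
      rw [← hψS] at hw
      obtain ⟨v, hv, rfl⟩ := hw
      exact ⟨⟨v, hv⟩, rfl⟩
  obtain ⟨α, hα, hαx⟩ := exists_aut_of_hom F hχ hr
  refine ⟨α, hα, fun x hx => ?_⟩
  rw [hαx, ← hψx]
  rfl

/-- Invariant chains give strongly closed chains. -/
theorem supersoluble_of_chain (F : Cfsg.FusionSystem S)
    (hA : ∀ R : Subgroup Ω, ∀ φ ∈ F.Hom R,
      ∃ α ∈ F.autGroup S, ∀ (x : R) (hx : (x : Ω) ∈ S), φ x = α ⟨x, hx⟩)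
    (h : MetaChain.HasChain ((F.autGroup S : Subgroup (MulAut S)) : Set (MulAut S)) ⊤) :
    MetaBad.Supersoluble F := by
  obtain ⟨m, c, h0, hl, hinv, hs⟩ := h
  refine ⟨m, fun i => (c i).map S.subtype, by simp [h0], ?_, fun i => ?_, fun i => ?_⟩
  · show (c (Fin.last m)).map S.subtype = S
    rw [hl, ← MonoidHom.range_eq_map, Subgroup.range_subtype]
  · refine ⟨Subgroup.map_subtype_le _, fun R hR φ hφ x => ?_⟩
    obtain ⟨α, hα, hαx⟩ := hA R φ hφ
    obtain ⟨a, ha, hax⟩ := hR x.2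
    have hx : (x : Ω) ∈ S := hax ▸ a.2
    refine ⟨α a, (hinv i α hα).le ⟨a, ha, rfl⟩, ?_⟩
    rw [hαx x hx, show a = ⟨x, hx⟩ from Subtype.ext hax]
    rfl
  · obtain ⟨hle, x, hx⟩ := hs i
    refine ⟨Subgroup.map_mono hle, x, x.2, ?_⟩
    show (c i.succ).map S.subtype = _
    rw [hx, Subgroup.map_sup, MonoidHom.map_zpowers]
    rfl

theorem supersoluble_odd {p : ℕ} [Fact p.Prime] (hp : p ≠ 2) (hS : IsPGroup p S)
    (hm : Cfsg.IsMetacyclic S) (F : Cfsg.FusionSystem S) (hF : F.IsSaturated p)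
    (hh : ¬ ∃ n : ℕ, 0 < n ∧ Nonempty (↥S ≃* Multiplicative (ZMod (p ^ n)) × Multiplicative (ZMod (p ^ n)))) :
    MetaBad.Supersoluble F := by
  have hsc : F.StronglyClosed S := ⟨le_rfl, fun R _ φ hφ x => (F.le_of_mem hφ).2 x⟩
  have hN := CfsgLib.FusionModels.isNormal_of_metacyclic hS hF hp hsc hm
  refine supersoluble_of_chain F (fun R φ hφ => aut_of_hom F hφ hN) (MetaChain.hasChain_top hS hm ?_)
  by_cases hc : IsCyclic S
  · exact Or.inl hc
  refine Or.inr fun hno => hh ?_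
  haveI : Nontrivial S := not_subsingleton_iff_nontrivial.1 fun h => hc isCyclic_of_subsingleton
  exact MetaChain.homocyclic_of_metacyclic hp hS hm inferInstance hno

theorem supersoluble_two (hS : IsPGroup 2 S) (hm : Cfsg.IsMetacyclic S) (F : Cfsg.FusionSystem S)
    (hF : F.IsSaturated 2)
    (hh : ¬ ∃ n : ℕ, 0 < n ∧ Nonempty (↥S ≃* Multiplicative (ZMod (2 ^ n)) × Multiplicative (ZMod (2 ^ n))))
    (hd : ¬ ∃ n : ℕ, 2 ≤ n ∧ Nonempty (↥S ≃* DihedralGroup n)) (hsd : ¬ Cfsg.IsQuasiDihedral ↥S)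
    (hq : ¬ ∃ n : ℕ, 2 ≤ n ∧ Nonempty (↥S ≃* QuaternionGroup n)) : MetaBad.Supersoluble F := by
  haveI : Fact (Nat.Prime 2) := ⟨Nat.prime_two⟩
  by_cases hc : IsCyclic S
  · obtain ⟨g, hg⟩ := hc.exists_generator
    refine ⟨1, ![⊥, S], rfl, rfl, fun i => ?_, fun i => ?_⟩
    · fin_cases i
      · exact stronglyClosed_bot' F
      · exact ⟨le_rfl, fun R _ φ hφ x => (F.le_of_mem hφ).2 x⟩
    · rw [Subsingleton.elim i 0]
      refine ⟨bot_le, g, g.2, ?_⟩
      show S = ⊥ ⊔ Subgroup.zpowers (g : Ω)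
      rw [bot_sup_eq]
      refine le_antisymm (fun x hx => ?_) (Subgroup.zpowers_le.2 g.2)
      obtain ⟨j, hj⟩ := Subgroup.mem_zpowers_iff.1 (hg ⟨x, hx⟩)
      exact Subgroup.mem_zpowers_iff.2 ⟨j, by simpa using congrArg Subtype.val hj⟩
  haveI : Nontrivial S := not_subsingleton_iff_nontrivial.1 fun h => hc isCyclic_of_subsingleton
  have hd' : ¬ ∃ m : ℕ, Nonempty (↥S ≃* DihedralGroup m) := by
    rintro ⟨m, ⟨e⟩⟩
    rcases Nat.lt_or_ge m 2 with hlt | hge
    · interval_cases m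
      · haveI : Finite (DihedralGroup 0) := Finite.of_equiv _ e.toEquiv
        exact absurd this (not_finite_iff_infinite.2 inferInstance)
      · exact hc (isCyclic_of_prime_card (p := 2) (by rw [Nat.card_congr e.toEquiv, DihedralGroup.nat_card]))
    · exact hd ⟨m, hge, ⟨e⟩⟩
  have hq' : ¬ ∃ m : ℕ, Nonempty (↥S ≃* QuaternionGroup m) := by
    rintro ⟨m, ⟨e⟩⟩
    rcases Nat.lt_or_ge m 2 with hlt | hge
    · interval_cases m
      · haveI hfin : Finite (QuaternionGroup 0) := Finite.of_equiv _ e.toEquiv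
        haveI : Infinite (QuaternionGroup 0) :=
          Infinite.of_injective (fun k : ℤ => QuaternionGroup.a (k : ZMod (2 * 0))) fun a b h => by
            injection h
        exact not_finite (QuaternionGroup 0)
      · exact hc (e.isCyclic.2 (isCyclic_iff_exists_zpowers_eq_top.2
          ⟨QuaternionGroup.xa 0, Subgroup.eq_top_of_card_eq _ (by
            rw [Nat.card_zpowers, QuaternionGroup.orderOf_xa, Nat.card_eq_fintype_card,
              QuaternionGroup.card])⟩))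
    · exact hq ⟨m, hge, ⟨e⟩⟩
  have hinner := CfsgLib.TwoGroups.inner_of_metacyclic_two hS hm hd' hq' hsd (fun ⟨n, ⟨e⟩⟩ => by
    rcases Nat.eq_zero_or_pos n with rfl | hn
    · have h1 := Nat.card_congr e.toEquiv
      rw [Nat.card_prod, Nat.card_congr Multiplicative.toAdd, Nat.card_zmod, pow_zero, one_mul] at h1
      exact absurd h1 (Finite.one_lt_card_iff_nontrivial.2 inferInstance).ne'
    · exact hh ⟨n, hn, ⟨e⟩⟩) F hF
  have hA : ∀ R : Subgroup Ω, ∀ φ ∈ F.Hom R,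
      ∃ α ∈ F.autGroup S, ∀ (x : R) (hx : (x : Ω) ∈ S), φ x = α ⟨x, hx⟩ := by
    intro R φ hφ
    rw [hinner] at hφ
    obtain ⟨-, g, hg, hgx⟩ := hφ
    exact ⟨conjAut S g (Subgroup.le_normalizer hg),
      autInducedBy_le_autGroup F le_rfl (conjAut_mem hg (Subgroup.le_normalizer hg)), fun x hx => hgx x⟩
  refine supersoluble_of_chain F hA (MetaChain.hasChain_top hS hm
    (Or.inr (MetaChain.not_noInv_of_isPGroup hS hm hc ?_)))
  have hle : F.autGroup S ≤ autInducedBy S S := by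
    intro α hα
    have h1 := (mem_autGroup_iff F le_rfl).1 hα
    rw [hinner] at h1
    obtain ⟨-, g, hg, hgx⟩ := h1
    exact mem_autInducedBy_iff.2 ⟨g, hg, hgx⟩
  exact (isPGroup_autInducedBy hS S).to_le hle

theorem exists_bad_homocyclic {p : ℕ} [Fact p.Prime] {n : ℕ} (hn : 0 < n)
    (e : ↥S ≃* Multiplicative (ZMod (p ^ n)) × Multiplicative (ZMod (p ^ n))) :
    ∃ F : Cfsg.FusionSystem S, F.IsSaturated p ∧ ¬ MetaBad.Supersoluble F := by
  obtain ⟨G, _, _, T, ⟨eT⟩, hT⟩ := MetaBad.exists_bad_sylow (p := p) hn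
  exact MetaBad.exists_bad T (e.trans eT) hT

theorem exists_bad_two (hS : IsPGroup 2 S)
    (h : (∃ n : ℕ, 2 ≤ n ∧ Nonempty (↥S ≃* DihedralGroup n)) ∨ Cfsg.IsQuasiDihedral ↥S ∨
      (∃ n : ℕ, 2 ≤ n ∧ Nonempty (↥S ≃* QuaternionGroup n))) :
    ∃ F : Cfsg.FusionSystem S, F.IsSaturated 2 ∧ ¬ MetaBad.Supersoluble F := by
  haveI : Fact (Nat.Prime 2) := ⟨Nat.prime_two⟩
  rcases h with ⟨n, hn, ⟨e⟩⟩ | h | ⟨n, hn, ⟨e⟩⟩
  · obtain ⟨j, rfl⟩ := exists_two_pow_of_card hS (c := 1) (m := n)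
      (by rw [Nat.card_congr e.toEquiv, DihedralGroup.nat_card, pow_one])
    rcases j with _ | _ | k
    · simp at hn
    · obtain ⟨e'⟩ := dihedral_two_equiv
      exact exists_bad_homocyclic (p := 2) one_pos ((e.trans (MulEquiv.refl _)).trans e')
    · obtain ⟨G, _, _, T, ⟨eT⟩, hT⟩ := MetaBad.exists_bad_dihedral k
      exact MetaBad.exists_bad T (e.trans eT) hT
  · obtain ⟨k, x, y, hg⟩ := exists_sdGen h
    obtain ⟨G, _, _, T, a, b, hT, hbad⟩ := MetaBad.exists_bad_semidihedral k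
    obtain ⟨e⟩ := sdGen_equiv hg hT
    exact MetaBad.exists_bad T e hbad
  · haveI : NeZero n := ⟨by omega⟩
    obtain ⟨j, rfl⟩ := exists_two_pow_of_card hS (c := 2) (m := n)
      (by rw [Nat.card_congr e.toEquiv, Nat.card_eq_fintype_card, QuaternionGroup.card]; norm_num)
    rcases j with _ | k
    · simp at hn
    · obtain ⟨G, _, _, T, ⟨eT⟩, hT⟩ := MetaBad.exists_bad_quaternion k
      exact MetaBad.exists_bad T (e.trans eT) hT


/-- Let S be a finite metacyclic p-group (an extension of a cyclic group by a cyclic group). Every saturated fusion system over S is supersoluble (S has a chain of F-strongly closed subgroups from 1 to S with cyclic steps) if and only if S is not homocyclic of rank two (isomorphic to Z/p^n × Z/p^n with n ≥ 1) and, when p = 2, S is not dihedral of order at least 4, not quasi-dihedral (semidihedral) and not generalized quaternion of order at least 8. -/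
theorem result {Ω : Type*} [Group Ω] {S : Subgroup Ω} [Finite S] (p : ℕ) [Fact p.Prime] (hS : IsPGroup p ↥S) (hm : Cfsg.IsMetacyclic ↥S) : (∀ F : Cfsg.FusionSystem S, F.IsSaturated p → (∃ (m : ℕ) (c : Fin (m + 1) → Subgroup Ω), c 0 = ⊥ ∧ c (Fin.last m) = S ∧ (∀ i : Fin (m + 1), F.StronglyClosed (c i)) ∧ ∀ i : Fin m, c i.castSucc ≤ c i.succ ∧ ∃ x ∈ S, c i.succ = c i.castSucc ⊔ Subgroup.zpowers x)) ↔ ¬ ((∃ n : ℕ, 0 < n ∧ Nonempty (↥S ≃* Multiplicative (ZMod (p ^ n)) × Multiplicative (ZMod (p ^ n)))) ∨ (p = 2 ∧ ((∃ n : ℕ, 2 ≤ n ∧ Nonempty (↥S ≃* DihedralGroup n)) ∨ Cfsg.IsQuasiDihedral ↥S ∨ (∃ n : ℕ, 2 ≤ n ∧ Nonempty (↥S ≃* QuaternionGroup n))))) := by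
  constructor
  · intro h hbad
    have hex : ∃ F : Cfsg.FusionSystem S, F.IsSaturated p ∧ ¬ CfsgLib.TwoGroups.MetaBad.Supersoluble F := by
      rcases hbad with ⟨n, hn, ⟨e⟩⟩ | ⟨rfl, h2⟩
      · exact exists_bad_homocyclic hn e
      · exact exists_bad_two hS h2
    obtain ⟨F, hF, hno⟩ := hex
    exact hno (h F hF)
  · intro hno F hF
    rw [not_or] at hno
    rcases eq_or_ne p 2 with rfl | hp
    · have h2 := hno.2
      simp only [true_and, not_or] at h2
      exact supersoluble_two hS hm F hF hno.1 h2.1 h2.2.1 h2.2.2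
    · exact supersoluble_odd hp hS hm F hF hno.1

end Cfsg.Agent.S5287
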