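import Cfsg.Statements.S5299

set_option autoImplicit false
universe u
open Cfsg

namespace Cfsg.Agent.S5299

/-- Let F be a saturated fusion system over a finite p-group S, H a finite group and Q a p-subgroup of H. If Q is not involved in S (no section of S is isomorphic to Q), then F is H-free: H is involved in no model of the normalizer system of a fully normalized centric subgroup. -/
theorem result {Ω : Type u} [Group Ω] {S : Subgroup Ω} [Finite S] (p : ℕ) [Fact p.Prime] (hS : IsPGroup p S)
    (F : Cfsg.FusionSystem S) (hF : F.IsSaturated p) (H : Type*) [Group H] [Finite H] (Q : Subgroup H) (hQ : IsPGroup p Q)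
    (hfree : ¬ Cfsg.Involves (↥Q) (↥S)) : F.IsSectionFree p H := by
  intro Q' hQ' hQ'c N hN L _ ι hL hHL
  obtain ⟨hfin, ⟨hinj, -⟩, ⟨T, hT⟩, -⟩ := hL
  obtain ⟨K, R, hRn, ⟨e⟩⟩ := hHL
  haveI := hfin
  -- pull Q back to K
  let π : K →* H := e.toMonoidHom.comp (QuotientGroup.mk' (R.subgroupOf K))
  have hπ : Function.Surjective π := e.surjective.comp (QuotientGroup.mk'_surjective _)
  let K₁ : Subgroup K := Q.comap π
  let π₁ : K₁ →* Q := (π.comp K₁.subtype).codRestrict Q fun x => x.2
  have hπ₁ : Function.Surjective π₁ := by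
    rintro ⟨q, hq⟩
    obtain ⟨k, hk⟩ := hπ q
    exact ⟨⟨k, by show π k ∈ Q; rw [hk]; exact hq⟩, Subtype.ext hk⟩
  obtain ⟨V⟩ := (inferInstance : Nonempty (Sylow p K₁))
  have hV := V.mapSurjective hπ₁
  have hVtop : (V : Subgroup K₁).map π₁ = ⊤ := by
    have hV' : ((V.mapSurjective hπ₁ : Sylow p Q) : Subgroup Q) = ⊤ :=
      ((V.mapSurjective hπ₁).3 (hQ.of_equiv Subgroup.topEquiv.symm) le_top).symm
    simpa using hV'
  -- send V into a Sylow subgroup of L
  let f : (V : Subgroup K₁) →* L := K.subtype.comp (K₁.subtype.comp (V : Subgroup K₁).subtype)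
  have hf : Function.Injective f :=
    Subtype.val_injective.comp (Subtype.val_injective.comp Subtype.val_injective)
  have hfr : IsPGroup p f.range := V.isPGroup'.of_surjective f.rangeRestrict f.rangeRestrict_surjective
  obtain ⟨T', hT'⟩ := hfr.exists_le_sylow
  obtain ⟨l, hl⟩ := MulAction.exists_smul_eq L T' T
  have hmem : ∀ v, ∃ s : Cfsg.FusionSystem.normalizerIn S Q', ι s = l * f v * l⁻¹ := by
    intro v
    have : l * f v * l⁻¹ ∈ (T : Subgroup L) := by
      rw [← hl, Sylow.coe_subgroup_smul]
      exact ⟨f v, hT' ⟨v, rfl⟩, rfl⟩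
    rw [hT] at this
    exact this
  choose g hg using hmem
  let j : (V : Subgroup K₁) →* S :=
    MonoidHom.mk' (fun v => ⟨(g v : Ω), (g v).2.1⟩) fun a b => by
      have h' : g (a * b) = g a * g b := hinj (by rw [map_mul, hg, hg, hg, map_mul]; group)
      exact Subtype.ext (by rw [h']; rfl)
  have hj : Function.Injective j := by
    intro a b h
    apply hf
    have : g a = g b := Subtype.ext (congrArg (fun z : S => (z : Ω)) h)
    have h2 := congrArg ι this
    rw [hg, hg] at h2
    simpa using h2
  apply hfree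
  let π₂ : (V : Subgroup K₁) →* Q := π₁.comp (V : Subgroup K₁).subtype
  have hπ₂ : Function.Surjective π₂ := fun q => by
    obtain ⟨v, hv, hv'⟩ := (hVtop ▸ Subgroup.mem_top q : q ∈ (V : Subgroup K₁).map π₁)
    exact ⟨⟨v, hv⟩, hv'⟩
  let π₃ : j.range →* Q := π₂.comp (MonoidHom.ofInjective hj).symm.toMonoidHom
  have hπ₃ : Function.Surjective π₃ := hπ₂.comp (MonoidHom.ofInjective hj).symm.surjective
  have hker : (π₃.ker.map j.range.subtype).subgroupOf j.range = π₃.ker :=
    Subgroup.comap_map_eq_self_of_injective Subtype.val_injective _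
  haveI hnor : ((π₃.ker.map j.range.subtype).subgroupOf j.range).Normal := by
    rw [hker]; exact MonoidHom.normal_ker π₃
  exact ⟨j.range, π₃.ker.map j.range.subtype, hnor,
    ⟨(QuotientGroup.quotientMulEquivOfEq hker).trans (QuotientGroup.quotientKerEquivOfSurjective π₃ hπ₃)⟩⟩

end Cfsg.Agent.S5299
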