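import Cfsg.Statements.S5309
import Cfsg.Agent.Lib.FusionFitting.Exists
import Cfsg.Agent.Lib.FusionLifting.Components
import Cfsg.Agent.Lib.FusionBasics.Normal
import Cfsg.Agent.Lib.FusionBasics.Reduction.CentralizerNormal
import Cfsg.Agent.S5146
import Cfsg.Agent.S5148

set_option autoImplicit false
set_option linter.style.haveILetI false
open Cfsg Cfsg.FusionSystem CfsgLib.Alperin CfsgLib.FusionSub

namespace Cfsg.Agent.S5309

/-- Self-centralizing property of the generalized Fitting subsystem. Let F be a saturated fusion system over a finite p-group S and D a generalized Fitting subsystem of F, over U. Then the centre of D is the largest subgroup Y of C_S(U) centralized by D in F, in the sense that every map of D extends to a map of F fixing Y elementwise: the centre of D is such a subgroup, and every such Y lies in the centre of D. -/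
theorem result {Ω : Type*} [Group Ω] {S : Subgroup Ω} [Finite S] (p : ℕ) [Fact p.Prime] (hS : IsPGroup p S) (F : Cfsg.FusionSystem S) (hF : F.IsSaturated p)
    {U : Subgroup Ω} (D : Cfsg.FusionSystem U) (hD : D.IsGeneralizedFittingOf F p) :
    (D.center ≤ Cfsg.FusionSystem.centralizerIn S U ∧ ∀ P : Subgroup Ω, D.Hom P ⊆ F.centralizerHom D.center P) ∧
      ∀ Y : Subgroup Ω, Y ≤ Cfsg.FusionSystem.centralizerIn S U →
        (∀ P : Subgroup Ω, D.Hom P ⊆ F.centralizerHom Y P) → Y ≤ D.center := by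
  have hDn := (CfsgLib.FusionFitting.exists_and_isNormalIn hS hF).2 U D hD
  obtain ⟨T, E, hE, hDc⟩ := hD
  obtain ⟨D₁, -, hD₁c⟩ := CfsgLib.FusionFitting.exists_fitting hS hF hE
  obtain ⟨hU, -⟩ := CfsgLib.FusionFitting.centralProduct_unique hD₁c hDc
  have hQU : F.core ≤ U := le_sup_left.trans hU.le
  have hTU : T ≤ U := le_sup_right.trans hU.le
  have hUS : U ≤ S := hDn.1.2.2.2.1.1
  haveI := finite_of_le hUS
  have hcU := CfsgLib.FusionExamples.center_le D
  have hcc : ∀ c ∈ D.center, ∀ u ∈ U, u * c = c * u := fun c hc u hu =>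
    D.center_le_centralizer hc u hu
  refine ⟨⟨fun c hc => ⟨hUS (hcU hc), fun u hu => hcc c hc u hu⟩, fun P φ hφ => ?_⟩,
    fun Y hY hYfix => ?_⟩
  · obtain ⟨ψ, hψ, hψx, hψZ⟩ := (CfsgLib.FusionExamples.isCentral_center D).2 P φ hφ
    have hUC : U ≤ centralizerIn S D.center := fun u hu =>
      ⟨hUS hu, fun c hc => (hcc c hc u hu).symm⟩
    exact ⟨hDn.1.2.2.1 P hφ, (D.le_of_mem hφ).1.trans hUC, fun x => hUC ((D.le_of_mem hφ).2 x),
      ψ, hDn.1.2.2.1 _ hψ, hψx, hψZ⟩
  have hYfe : Y ≤ Subgroup.closure (CfsgLib.FusionBasics.Central.fixedElts F D) := by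
    intro y hy
    refine Subgroup.subset_closure ⟨hY hy, fun P φ hφ => ?_⟩
    obtain ⟨-, -, -, ψ, hψ, hψx, hψY⟩ := hYfix P hφ
    exact ⟨_, restrict_mem hψ (sup_le_sup_left (Subgroup.zpowers_le.mpr hy) P),
      fun x => hψx x, fun z => hψY ⟨z, Subgroup.zpowers_le.mpr hy z.2⟩⟩
  set R := Subgroup.closure (CfsgLib.FusionBasics.Central.fixedElts F D) with hR
  have hRC : R ≤ centralizerIn S U := (Subgroup.closure_le _).mpr fun y hy => hy.1
  obtain ⟨D', hD'n, -⟩ :=
    CfsgLib.FusionBasics.Reduction.exists_centralizer_normal hS hDn hRC hR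
  haveI := finite_of_le (hRC.trans (centralizerIn_le S U))
  have hRp := isPGroup_of_le hS (hRC.trans (centralizerIn_le S U))
  -- the centralizer of `D` has no component
  have hno : ¬ ∃ (V : Subgroup Ω) (C : FusionSystem V), C.IsComponentIn D' p := by
    rintro ⟨V, C, hC, hq⟩
    have hVR : V ≤ R := subsystem_le (CoreComponent.subnormal_isSubsystemOf hC)
    have hVT : V ≤ T := subsystem_le (hE.2.1 V C ⟨.step hC hD'n, hq⟩)
    haveI := finite_of_le hVR
    refine Cfsg.Agent.S5148.result p (isPGroup_of_le hRp hVR) C hq ⟨⟨fun a b => Subtype.ext ?_⟩⟩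
    exact (hRC (hVR b.2)).2 a (hTU (hVT a.2))
  obtain ⟨-, Q, hQ, hQc⟩ :=
    (Cfsg.Agent.S5146.result p hRp D' hD'n.1.1).mpr hno
  have hQU' : Q ≤ U := ((CfsgLib.FusionExamples.isNormal_le_core hQ).trans
    (CfsgLib.FusionExamples.isNormal_le_core (core_isNormal hS hF hD'n))).trans hQU
  have hRU : R ≤ U := fun r hr => hQU' (hQc.2 Q (isConj_refl D' hQ.1)
    ⟨hr, fun q hq => (hRC hr).2 q (hQU' hq)⟩)
  -- hence `Y` lies in `U`, and is central in `D`
  refine CfsgLib.FusionExamples.isCentral_le_center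
    (CfsgLib.FusionBasics.isCentral_of_generators (isPGroup_of_le hS hUS) hDn.1.1 fun P hP => ?_)
  have hPU : P ≤ U := by
    rcases hP with rfl | hP
    exacts [le_rfl, hP.1.1]
  have hYP : Y ≤ P := by
    rcases hP with rfl | hP
    · exact hYfe.trans hRU
    · exact fun y hy => hP.1.2 P (isConj_refl D hPU)
        ⟨hRU (hYfe hy), fun x hx => (hY hy).2 x (hPU hx)⟩
  refine ⟨hYP, fun α hα x hx => Subtype.ext ?_⟩
  obtain ⟨-, -, -, ψ, hψ, hψx, hψY⟩ := hYfix P ((mem_autGroup_iff D hPU).mp hα)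
  exact ((hψx x).symm.trans (congrArg ψ (Subtype.ext rfl))).trans (hψY ⟨x, hx⟩)

end Cfsg.Agent.S5309
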