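import Cfsg.Statements.S5310
import Cfsg.Agent.Lib.FusionFitting.Exists
import Cfsg.Agent.Lib.FusionLifting.Components
import Cfsg.Agent.S5146

set_option autoImplicit false
set_option linter.style.haveILetI false
open Cfsg Cfsg.FusionSystem CfsgLib.Alperin CfsgLib.FusionSub

namespace Cfsg.Agent.S5310

section

variable {Ω : Type*} [Group Ω]

/-- The maps of a central product with a system over the trivial subgroup come from the first
factor. -/
theorem hom_le_left {Q T : Subgroup Ω} {E₁ : FusionSystem Q} {E : FusionSystem T}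
    {U : Subgroup Ω} {D : FusionSystem U} (hT : T = ⊥) (h : IsCentralProductOf E₁ E D)
    {P' : Subgroup Ω} {φ' : P' →* Ω} (hφ : φ' ∈ D.Hom P') :
    ∃ (P₁ : Subgroup Ω) (φ₁ : P₁ →* Ω), φ₁ ∈ E₁.Hom P₁ ∧ P' ≤ P₁ ∧
      ∀ (x : P') (hx : (x : Ω) ∈ P₁), φ' x = φ₁ ⟨x, hx⟩ := by
  obtain ⟨D₀, hP₀, Z, θ, -, -, -, h1, -, hfac⟩ := h
  obtain ⟨-, -, hrange, hmem⟩ := hfac
  obtain ⟨hP'U, φ, hφ₀, hind⟩ := (hmem P' φ').mp hφ
  obtain ⟨hPS, φ₁, hφ₁, φ₂, hφ₂, hsplit⟩ := (hP₀ _ φ).mp hφ₀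
  refine ⟨_, φ₁, hφ₁, fun y hy => ?_, fun x hx => ?_⟩
  · obtain ⟨⟨⟨a, b⟩, hw⟩, hwy⟩ := hrange.ge (hP'U hy)
    obtain rfl : b = 1 := by simpa [hT] using hw.2
    rw [h1 a hw] at hwy
    subst hwy
    exact ⟨(a, 1), mem_preimageAlong.mpr ⟨hw, (h1 a hw).symm ▸ hy⟩, rfl⟩
  · obtain ⟨⟨⟨a, b⟩, hw⟩, hwy⟩ := hrange.ge (hP'U x.2)
    obtain rfl : b = 1 := by simpa [hT] using hw.2
    have hax : a = (x : Ω) := (h1 a hw).symm.trans hwy
    subst hax
    have hmemP : (((x : Ω), (1 : Ω)) : Ω × Ω) ∈ preimageAlong θ P' :=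
      mem_preimageAlong.mpr ⟨hw, (h1 _ hw).symm ▸ x.2⟩
    obtain ⟨hP, hφS, hPP, hxx⟩ := hind
    have e := hxx ⟨_, hmemP⟩
    have h₂ : (1 : Ω) ∈ (preimageAlong θ P').map (MonoidHom.snd Ω Ω) := Subgroup.one_mem _
    have es := hsplit ⟨_, hmemP⟩ hx h₂
    have e2 : φ ⟨_, hmemP⟩ = (φ₁ ⟨x, hx⟩, 1) := by
      rw [es]; exact Prod.ext rfl (map_one φ₂)
    have hw' : ((φ₁ ⟨x, hx⟩, 1) : Ω × Ω) ∈ Q.prod T := e2 ▸ hφS ⟨_, hmemP⟩
    refine ((congrArg φ' (Subtype.ext (h1 _ _).symm)).trans e).trans ?_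
    exact (congrArg θ (Subtype.ext e2)).trans (h1 _ hw')

end

/-- A saturated fusion system over a finite p-group S is constrained if and only if its generalized Fitting subsystem is the inner fusion system of its largest normal subgroup. -/
theorem result {Ω : Type*} [Group Ω] {S : Subgroup Ω} [Finite S] (p : ℕ) [Fact p.Prime] (hS : IsPGroup p S) (F : Cfsg.FusionSystem S) (hF : F.IsSaturated p) :
    F.IsConstrained p ↔ (Cfsg.innerFusionSystem F.core).IsGeneralizedFittingOf F p := by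
  rw [Cfsg.Agent.S5146.result p hS F hF]
  constructor
  · intro hno
    obtain ⟨T, E, hE⟩ := CfsgLib.FusionBasics.Layer.exists_layer hS hF
    have hT : T = ⊥ := le_bot_iff.mp (subsystem_le (hE.2.2 ⊥ _
      (CoreComponent.inner_isNormalIn hS hF (CfsgLib.FusionExamples.isNormal_bot F))
      fun V C hC => absurd ⟨V, C, hC⟩ hno))
    obtain ⟨D, -, hD⟩ := CfsgLib.FusionFitting.exists_fitting hS hF hE
    refine ⟨T, E, hE, ?_⟩
    have key : ∀ U : Subgroup Ω, U = F.core → ∀ D : FusionSystem U,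
        IsCentralProductOf (innerFusionSystem F.core) E D →
        IsCentralProductOf (innerFusionSystem F.core) E (innerFusionSystem F.core) := by
      rintro U rfl D hD
      have hDi : D = innerFusionSystem F.core := by
        refine system_ext fun P => Set.ext fun φ => ⟨fun hφ => ?_, fun hφ => ?_⟩
        · obtain ⟨P₁, φ₁, ⟨-, g, hg, hgx⟩, hle, hφ₁⟩ := hom_le_left hT hD hφ
          exact ⟨(D.le_of_mem hφ).1, g, hg, fun x => (hφ₁ x (hle x.2)).trans (hgx _)⟩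
        · obtain ⟨hP, g, hg, hgx⟩ := hφ
          exact (MonoidHom.ext fun x => (hgx x).symm : conjHom P g = φ) ▸ D.conj_mem hP hg
      exact hDi ▸ hD
    exact key _ (by rw [hT, sup_bot_eq]) D hD
  · rintro ⟨T, E, hE, hD⟩ ⟨V, C, hC⟩
    obtain ⟨D₀, -, Z, θ, -, -, -, h1, h2, hfac⟩ := hD
    obtain ⟨-, -, hrange, -⟩ := hfac
    have hTQ : T ≤ F.core := fun t ht =>
      hrange.le ⟨⟨((1, t) : Ω × Ω), ⟨F.core.one_mem, ht⟩⟩, h2 t ⟨F.core.one_mem, ht⟩⟩
    have hcomm : ∀ a ∈ F.core, ∀ b ∈ T, a * b = b * a := fun a ha b hb => by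
      have ea : ((a, 1) : Ω × Ω) ∈ F.core.prod T := ⟨ha, T.one_mem⟩
      have eb : ((1, b) : Ω × Ω) ∈ F.core.prod T := ⟨F.core.one_mem, hb⟩
      have := congrArg θ (show (⟨_, ea⟩ : ↥(F.core.prod T)) * ⟨_, eb⟩ = ⟨_, eb⟩ * ⟨_, ea⟩ from
        Subtype.ext (by simp))
      rwa [map_mul, map_mul, h1 a ea, h2 b eb] at this
    have hVT : V ≤ T := subsystem_le (hE.2.1 V C hC)
    have hVS : V ≤ S := subsystem_le (CoreComponent.subnormal_isSubsystemOf hC.1)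
    haveI := finite_of_le hVS
    refine Cfsg.Agent.S5148.result p (isPGroup_of_le hS hVS) C hC.2 ⟨⟨fun a b => Subtype.ext ?_⟩⟩
    exact hcomm a (hTQ (hVT a.2)) b (hVT b.2)

end Cfsg.Agent.S5310
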