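import Cfsg.Statements.S5312
import Cfsg.Agent.Lib.FusionFitting.ComponentNormal
import Cfsg.Agent.Lib.FusionFitting.Exists

set_option autoImplicit false
set_option linter.style.haveILetI false
open Cfsg Cfsg.FusionSystem CfsgLib.Alperin CfsgLib.FusionSub

namespace Cfsg.Agent.S5312

/-- Let F be a saturated fusion system over a finite p-group S. Every component C of F is a normal subsystem of every generalized Fitting subsystem of F. -/
theorem result {Ω : Type*} [Group Ω] {S : Subgroup Ω} [Finite S] (p : ℕ) [Fact p.Prime] (hS : IsPGroup p S) (F : Cfsg.FusionSystem S) (hF : F.IsSaturated p)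
    {T : Subgroup Ω} (C : Cfsg.FusionSystem T) (hC : C.IsComponentIn F p)
    {U : Subgroup Ω} (D : Cfsg.FusionSystem U) (hD : D.IsGeneralizedFittingOf F p) : C.IsNormalIn D p := by
  have hDn := (CfsgLib.FusionFitting.exists_and_isNormalIn hS hF).2 U D hD
  obtain ⟨V, E, hE, hDc⟩ := hD
  obtain ⟨D₁, -, hD₁c⟩ := CfsgLib.FusionFitting.exists_fitting hS hF hE
  obtain ⟨hU, -⟩ := CfsgLib.FusionFitting.centralProduct_unique hD₁c hDc
  have hQU : F.core ≤ U := le_sup_left.trans hU.le
  have hVU : V ≤ U := le_sup_right.trans hU.le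
  have hUS : U ≤ S := hDn.1.2.2.2.1.1
  haveI := finite_of_le hUS
  haveI := finite_of_le hQU
  haveI := finite_of_le hVU
  have h₂ : E.IsSubsystemOf D := hE.2.2 U D hDn fun W C hC =>
    CfsgLib.FusionBasics.Layer.component_le hC.1 hC.2 hS hDn
      ((subsystem_le (hE.2.1 W C hC)).trans hVU)
  have h₁ : (innerFusionSystem F.core).IsSubsystemOf D := fun P φ hφ => by
    obtain ⟨hP, g, hg, hgx⟩ := hφ
    exact (MonoidHom.ext fun x => (hgx x).symm : conjHom P g = φ) ▸
      D.conj_mem (hP.trans hQU) (hQU hg)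
  obtain ⟨hs, -, hsE⟩ := Cfsg.Agent.S5162.split_of_central h₁ h₂ hDc
  exact CfsgLib.FusionFitting.isNormalIn_of_left hDn.1.1 hs.symm
    (hsE.symm ▸ CfsgLib.FusionFitting.component_isNormalIn_layer hS hE hC)

end Cfsg.Agent.S5312
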