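import Cfsg.Statements.S5343
import Cfsg.Agent.Lib.FusionExamples.SimpleRealized

set_option autoImplicit false
set_option linter.style.haveILetI false
universe u
open Cfsg

namespace Cfsg.Agent.S5343

/-- Let F be a simple saturated fusion system over a finite p-group S that is realized by some finite group on a Sylow p-subgroup. Then F is realized by a finite simple group on a Sylow p-subgroup. -/
theorem result {Ω : Type u} [Group Ω] {S : Subgroup Ω} [Finite S] (p : ℕ) [Fact p.Prime] (hS : IsPGroup p S) (F : Cfsg.FusionSystem S) (hsimple : F.IsSimple p) (hreal : F.IsRealizable p) : ∃ (G : Type u) (_ : Group G) (_ : Finite G) (_ : IsSimpleGroup G) (ι : ↥S →* G), F.IsRealizedBy ι ∧ ∃ T : Sylow p G, (T : Subgroup G) = ι.range := by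
  classical
  obtain ⟨G₀, i₁, i₂, ι₀, h0, T₀, hT₀⟩ := hreal
  have hex : ∃ n, ∃ (G : Type u) (_ : Group G) (_ : Finite G) (ι : ↥S →* G),
      (F.IsRealizedBy ι ∧ ∃ T : Sylow p G, (T : Subgroup G) = ι.range) ∧ Nat.card G = n :=
    ⟨_, G₀, i₁, i₂, ι₀, ⟨h0, T₀, hT₀⟩, rfl⟩
  obtain ⟨G, iG, iF, ι, ⟨hι, R, hR⟩, hcard⟩ := Nat.find_spec hex
  refine ⟨G, iG, iF, ?_, ι, hι, R, hR⟩
  refine CfsgLib.FusionExamples.SimpleRealized.isSimpleGroup hS hR hι hsimple ?_ ?_
  · by_contra hne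
    set K := Cfsg.pPrimeCore p G with hK
    haveI hKn : K.Normal := inferInstance
    have h1 := CfsgLib.FusionExamples.SimpleRealized.isRealizedBy_quotient hS hR hι K
      (CfsgLib.Cores.card_pPrimeCore_coprime p)
    refine Nat.find_min hex (m := Nat.card (G ⧸ K)) ?_ ⟨G ⧸ K, inferInstance, inferInstance, _,
      ⟨h1, R.mapSurjective (QuotientGroup.mk'_surjective K), ?_⟩, rfl⟩
    · rw [← hcard, Subgroup.card_eq_card_quotient_mul_card_subgroup K]
      exact lt_mul_of_one_lt_right Nat.card_pos (K.one_lt_card_iff_ne_bot.mpr hne)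
    · rw [Sylow.coe_mapSurjective, MonoidHom.range_comp, hR]
  · intro H hH hall
    by_contra hne
    let ιH : ↥S →* ↥H := ι.codRestrict H fun s => hH ⟨s, rfl⟩
    refine Nat.find_min hex (m := Nat.card H) ?_ ⟨↥H, inferInstance, inferInstance, ιH,
      ⟨⟨fun a b hab => hι.1 (congrArg Subtype.val hab), fun P hP φ hφ => ⟨fun h => ?_, ?_⟩⟩,
        R.subtype (hR.le.trans hH), ?_⟩, rfl⟩
    · rw [← hcard]
      exact lt_of_le_of_ne (Subgroup.card_le_card_group H) fun h => hne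
        (H.eq_top_of_card_eq h)
    · obtain ⟨g, hg, hx⟩ := hall P φ h
      exact ⟨⟨g, hg⟩, fun x => Subtype.ext (hx x (hP x.2) (hφ x))⟩
    · rintro ⟨g, hg⟩
      exact (hι.2 P hP φ hφ).mpr ⟨g, fun x => congrArg Subtype.val (hg x)⟩
    · ext y
      rw [Sylow.coe_subtype, Subgroup.mem_subgroupOf, hR]
      exact ⟨fun ⟨s, hs⟩ => ⟨s, Subtype.ext hs⟩, fun ⟨s, hs⟩ => ⟨s, congrArg Subtype.val hs⟩⟩

end Cfsg.Agent.S5343
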