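import Cfsg.Statements.S5405
import Cfsg.Agent.Lib.Fischer.OrthCocycle
import Cfsg.Agent.Lib.ClassicalForms.Ortho.Standard

set_option autoImplicit false
open scoped MatrixGroups
open Cfsg

namespace Cfsg.Agent.S5405

open CfsgLib.Fischer.OrthCocycle

/-- Certificate in dimension 4. -/
def cert4 : Cert where
  basis := [4, 13, 14, 12]
  s₀ := 5
  rest := [12, 4, 14]
  ent := [(9, 5, 12), (8, 12, 4), (10, 4, 14), (13, 9, 4), (6, 8, 14), (3, 13, 14)]
  wa := [6, 12, 5, 8]
  wu := [13, 3]
  words := [[true, false, false, false],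
    [true, false, true],
    [true, true, false, false, true, false]]
  rels := [[true, true, true],
    [false, true, true, false, true, true]]

/-- Certificate in dimension 6. -/
def cert6 : Cert where
  basis := [50, 54, 44, 25, 13, 57]
  s₀ := 18
  rest := [52, 11, 31, 17, 33]
  ent := [(38, 18, 52), (25, 18, 11), (13, 18, 31), (51, 18, 33), (63, 52, 11), (20, 11, 31), (14, 31, 17), (48, 17, 33), (57, 38, 31), (7, 38, 33), (56, 25, 33), (28, 13, 17), (44, 13, 33), (34, 51, 17), (32, 63, 31), (5, 20, 17), (47, 14, 33), (50, 57, 11), (40, 57, 17), (24, 57, 33), (22, 7, 17), (41, 56, 17), (49, 32, 17), (36, 5, 33), (35, 50, 17), (19, 50, 33), (10, 24, 18), (54, 41, 31), (16, 49, 33), (60, 35, 31)]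
  wa := [50, 22, 56, 51, 14, 17]
  wu := [56, 16]
  words := [[false, false, true, false, false, false, true, false, false, true, true, false, false, true, true],
    [false, false, false, false, true, false, false, true, false, false, false, false, true, false, true],
    [false, false, false, true, false, false, false, false, false, true, false, false, false, true, false, true, false, true, false, true],
    [false, false, false, true, true, false, false, true, false, false, false, false],
    [false, false, false, true, false, false, true, false, false, false, false]]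
  rels := [[true, true, true],
    [false, true, false, true, false, true, false, true, false, true, false, true]]

/-- Certificate in dimension 8. -/
def cert8 : Cert where
  basis := [140, 184, 113, 227, 76, 47, 188, 21]
  s₀ := 50
  rest := [184, 247, 38, 139, 58, 200, 145]
  ent := [(138, 50, 184), (197, 50, 247), (163, 50, 145), (79, 184, 247), (158, 184, 38), (209, 247, 38), (124, 247, 139), (173, 38, 139), (238, 38, 200), (177, 139, 58), (242, 58, 200), (89, 200, 145), (172, 138, 38), (27, 138, 145), (227, 197, 38), (78, 197, 139), (84, 197, 145), (107, 163, 200), (196, 79, 139), (21, 158, 139), (86, 158, 200), (25, 209, 200), (70, 124, 58), (151, 173, 58), (101, 173, 200), (212, 238, 58), (127, 238, 145), (121, 177, 200), (99, 242, 145), (91, 172, 247), (39, 172, 139), (100, 172, 200), (61, 172, 145), (211, 27, 200), (43, 227, 200), (114, 227, 145), (116, 78, 58), (223, 78, 145), (156, 84, 200), (77, 107, 38), (81, 107, 58), (226, 196, 38), (254, 196, 58), (47, 21, 58), (221, 21, 200),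 (108, 86, 58), (199, 86, 145), (35, 25, 58), (136, 25, 145), (142, 70, 200), (244, 101, 145), (69, 212, 145), (232, 121, 145), (147, 91, 200), (202, 91, 145), (29, 39, 58), (239, 39, 200), (182, 39, 145), (94, 100, 58), (233, 211, 58), (17, 43, 58), (188, 116, 200), (229, 116, 145), (23, 223, 200), (166, 156, 58), (198, 77, 139), (119, 77, 58), (218, 81, 139), (216, 226, 58), (42, 226, 200), (54, 254, 200), (251, 221, 38), (76, 221, 145), (253, 108, 145), (168, 35, 139), (178, 35, 145), (31, 142, 145), (141, 69, 200), (181, 147, 38), (169, 147, 58), (248, 202, 50), (140, 29, 145), (201, 239, 38), (98, 233, 139), (154, 17, 139), (49, 23, 38), (191, 119, 200), (83, 216, 139), (187, 42, 145), (167, 54, 145), (106, 251, 145), (53, 253, 200), (57, 168, 145), (122, 178, 200), (62, 181, 139), (143, 181, 58), (34, 169, 139), (68, 140, 200), (113, 201, 184), (149, 98, 247), (109, 154, 247), (137, 49, 184), (46, 191, 145), (162, 106, 200), (19, 53, 38), (241, 57, 200), (92, 122, 38), (71, 143, 200), (152,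 162, 58), (228, 19, 247), (203, 241, 58), (214, 71, 145)]
  wa := [143, 57, 254, 138, 23, 42, 81, 248]
  wu := [138, 38]
  words := [[false, false, false, false, false, false, false, false, false, false, false, false, false, false, true, false],
    [true, false, true, false, false, false, true, false, true, false, false, false, false, false, true, false, true, false, false, false, true, false, true, true, false],
    [false, false, false, false, false, false, false, false, false, false, false, false, false, false, true, true, false, true],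
    [false, false, false, false, true, false, false, true, false, false, true, false, false, true, false, false, false, false, true, false, false, true, false, true, true, false, false, false, true],
    [false, true, false, false, false, false, false, true, false, true, false, false, false, true, false, true, false, false, false, true, false, false, true],
    [true, false, true, true, false, true, true, false, true, true, false, true, true, false, true, true, false, true, false, true, true, false, true, false, true],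
    [false, false, true, false, false, false, false, false, false, false, true, false, false, true, false, false, true, false, false, false, false, false, false, false, false, true]]
  rels := [[true, true, true],
    [false, false, false, true, false, true, false, false, false, true, false, true, false, false, false, true, false, true, false, false, false, true, false, true]]

/-- Parity of the four low bits. -/
def par4 (x : ℕ) : Bool := ((x.testBit 0 != x.testBit 1) != x.testBit 2) != x.testBit 3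

/-- The hyperbolic form in dimension 8 on codes. -/
def qp (x : ℕ) : Bool := par4 (x &&& (x >>> 4) &&& 15)

/-- The elliptic form in dimension `2 m + 2` on codes. -/
def qm (m x : ℕ) : Bool := par4 (x &&& (x >>> m) &&& (2 ^ m - 1)) != (x.testBit (2 * m) || x.testBit (2 * m + 1))

/-- Coordinates of the elliptic form. -/
def eMinus (m : ℕ) : (Fin m ⊕ Fin m) ⊕ Fin 2 ≃ Fin (m + m + 2) :=
  (finSumFinEquiv.sumCongr (Equiv.refl (Fin 2))).trans finSumFinEquiv

set_option maxRecDepth 100000 in
theorem hq_four : ∀ x : Fin (2 ^ (1 + 1 + 2)),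
    Cfsg.quadFormMinus 1 (ZMod 2) 1 1 (dec (eMinus 1) x) = bit₂ (qm 1 x) := by decide +kernel

set_option maxRecDepth 100000 in
theorem hq_six : ∀ x : Fin (2 ^ (2 + 2 + 2)),
    Cfsg.quadFormMinus 2 (ZMod 2) 1 1 (dec (eMinus 2) x) = bit₂ (qm 2 x) := by decide +kernel

set_option maxRecDepth 100000 in
theorem hq_eight : ∀ x : Fin (2 ^ (4 + 4)),
    Cfsg.quadFormPlus 4 (ZMod 2) (dec finSumFinEquiv x) = bit₂ (qp x) := by decide +kernel

set_option maxRecDepth 100000 in
theorem check_four : checkCert (1 + 1 + 2) (qm 1) cert4 = true := by decide +kernel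

set_option maxRecDepth 100000 in
theorem check_six : checkCert (2 + 2 + 2) (qm 2) cert6 = true := by decide +kernel

set_option maxRecDepth 100000 in
theorem check_eight : checkCert (4 + 4) qp cert8 = true := by decide +kernel

theorem h1_of_cert {ι : Type} [Fintype ι] [DecidableEq ι] {n : ℕ} (e : ι ≃ Fin n)
    (F : (ι → ZMod 2) → ZMod 2) (Q : QuadraticForm (ZMod 2) (ι → ZMod 2)) (hF : ∀ v, Q v = F v)
    (q : ℕ → Bool) (hq : ∀ x : Fin (2 ^ n), F (dec e x) = bit₂ (q x)) (c : Cert)
    (hc : checkCert n q c = true)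
    (f : ↥(Cfsg.Omega (ZMod 2) F) → ι → ZMod 2)
    (hf : ∀ g h : ↥(Cfsg.Omega (ZMod 2) F), f (g * h) = f g + Matrix.mulVec
      (((g : ↥(Cfsg.isometryGroup (ZMod 2) F)) : GL ι (ZMod 2)) : Matrix ι ι (ZMod 2)) (f h)) :
    ∃ v : ι → ZMod 2, ∀ g : ↥(Cfsg.Omega (ZMod 2) F), f g = Matrix.mulVec
      (((g : ↥(Cfsg.isometryGroup (ZMod 2) F)) : GL ι (ZMod 2)) : Matrix ι ι (ZMod 2)) v - v := by
  obtain rfl : ⇑Q = F := funext hF
  exact h1_eq_zero e (fun x hx => hq ⟨x, hx⟩) c hc f hf

/-- Vanishing of first cohomology on the natural module for three small orthogonal groups over the field with two elements: for the commutator subgroup of the isometry group of the elliptic quadratic form in dimension 4, of the elliptic form in dimension 6, and of the hyperbolic form in dimension 8, every crossed homomorphism into the natural module (a map f with f(gh) = f(g) + g·f(h)) is principal (of the form g ↦ g·v − v). -/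
theorem result : (∀ f : ↥(Cfsg.Omega (ZMod 2) (Cfsg.quadFormMinus 1 (ZMod 2) 1 1)) → ((Fin 1 ⊕ Fin 1) ⊕ Fin 2 → ZMod 2), (∀ g h : ↥(Cfsg.Omega (ZMod 2) (Cfsg.quadFormMinus 1 (ZMod 2) 1 1)), f (g * h) = f g + Matrix.mulVec (((g : ↥(Cfsg.isometryGroup (ZMod 2) (Cfsg.quadFormMinus 1 (ZMod 2) 1 1))) : GL ((Fin 1 ⊕ Fin 1) ⊕ Fin 2) (ZMod 2)) : Matrix ((Fin 1 ⊕ Fin 1) ⊕ Fin 2) ((Fin 1 ⊕ Fin 1) ⊕ Fin 2) (ZMod 2)) (f h)) → ∃ v : (Fin 1 ⊕ Fin 1) ⊕ Fin 2 → ZMod 2, ∀ g : ↥(Cfsg.Omega (ZMod 2) (Cfsg.quadFormMinus 1 (ZMod 2) 1 1)), f g = Matrix.mulVec (((g : ↥(Cfsg.isometryGroup (ZMod 2) (Cfsg.quadFormMinus 1 (ZMod 2) 1 1))) : GL ((Fin 1 ⊕ Fin 1) ⊕ Fin 2) (ZMod 2)) : Matrix ((Fin 1 ⊕ Fin 1) ⊕ Fin 2) ((Fin 1 ⊕ Fin 1) ⊕ Fin 2) (ZMod 2)) v - v) ∧ (∀ f : ↥(Cfsg.Omega (ZMod 2) (Cfsg.quadFormMinus 2 (ZMod 2) 1 1)) → ((Fin 2 ⊕ Fin 2) ⊕ Fin 2 → ZMod 2), (∀ g h : ↥(Cfsg.Omega (ZMod 2) (Cfsg.quadFormMinus 2 (ZMod 2) 1 1)), f (g * h) = f g + Matrix.mulVec (((g : ↥(Cfsg.isometryGroup (ZMod 2) (Cfsg.quadFormMinus 2 (ZMod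 2) 1 1))) : GL ((Fin 2 ⊕ Fin 2) ⊕ Fin 2) (ZMod 2)) : Matrix ((Fin 2 ⊕ Fin 2) ⊕ Fin 2) ((Fin 2 ⊕ Fin 2) ⊕ Fin 2) (ZMod 2)) (f h)) → ∃ v : (Fin 2 ⊕ Fin 2) ⊕ Fin 2 → ZMod 2, ∀ g : ↥(Cfsg.Omega (ZMod 2) (Cfsg.quadFormMinus 2 (ZMod 2) 1 1)), f g = Matrix.mulVec (((g : ↥(Cfsg.isometryGroup (ZMod 2) (Cfsg.quadFormMinus 2 (ZMod 2) 1 1))) : GL ((Fin 2 ⊕ Fin 2) ⊕ Fin 2) (ZMod 2)) : Matrix ((Fin 2 ⊕ Fin 2) ⊕ Fin 2) ((Fin 2 ⊕ Fin 2) ⊕ Fin 2) (ZMod 2)) v - v) ∧ (∀ f : ↥(Cfsg.Omega (ZMod 2) (Cfsg.quadFormPlus 4 (ZMod 2))) → (Fin 4 ⊕ Fin 4 → ZMod 2), (∀ g h : ↥(Cfsg.Omega (ZMod 2) (Cfsg.quadFormPlus 4 (ZMod 2))), f (g * h) = f g + Matrix.mulVec (((g : ↥(Cfsg.isometryGroup (ZMod 2) (Cfsg.quadFormPlus 4 (ZMod 2)))) : GL (Fin 4 ⊕ Fin 4) (ZMod 2)) : Matrix (Fin 4 ⊕ Fin 4) (Fin 4 ⊕ Fin 4) (ZMod 2)) (f h)) → ∃ v : Fin 4 ⊕ Fin 4 → ZMod 2, ∀ g : ↥(Cfsg.Omega (ZMod 2) (Cfsg.quadFormPlus 4 (ZMod 2))), f g = Matrix.mulVec (((g : ↥(Cfsg.isometryGroup (ZMod 2) (Cfsg.quadFormPlus 4 (ZMod 2)))) : GL (Fin 4 ⊕ Fin 4) (ZMod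 2)) : Matrix (Fin 4 ⊕ Fin 4) (Fin 4 ⊕ Fin 4) (ZMod 2)) v - v) := by
  exact ⟨h1_of_cert (eMinus 1) _ _ (CfsgLib.ClassicalForms.qMinus_apply 1 1 1) _ hq_four _ check_four,
    h1_of_cert (eMinus 2) _ _ (CfsgLib.ClassicalForms.qMinus_apply 2 1 1) _ hq_six _ check_six,
    h1_of_cert finSumFinEquiv _ _ (CfsgLib.ClassicalForms.qPlus_apply 4) _ hq_eight _ check_eight⟩

end Cfsg.Agent.S5405
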