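import Cfsg.Statements.S5473
import Cfsg.Agent.Lib.Fischer.M22Pair.Main
import Cfsg.Agent.Lib.Fischer.M22Pair.OddCore
-- import your own Cfsg.Agent.* helpers here

set_option autoImplicit false
open Cfsg

namespace Cfsg.Agent.S5473

/-- Let G be a finite group with trivial centre generated by a conjugation-invariant set D of 3-transpositions on which it acts primitively, such that for some d in D the subgroup generated by the members of D other than d commuting with d has central largest normal 2- and 3-subgroups, and suppose G with D is of type M(22), and let A be the automorphism group of G. Let d₁, d₂ be distinct commuting members of D and j the inner automorphism of their product. Then the generalized Fitting subgroup Q of the centralizer of j in A is a large extraspecial 2-subgroup of A of order 2^11 (extraspecial; centralizer equal to its centre; normal in the centralizer of its centre; normalizing no non-trivial odd-order subgroup), and the centralizer of j modulo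 Q is isomorphic to the full automorphism group of the projective special unitary group of dimension 4 over the field with four elements. -/
theorem result {G : Type*} [Group G] [Finite G] {D : Set G} (hD : Cfsg.IsThreeTranspositionGroup D) (hprim : Cfsg.IsPrimitiveUnderConj D) (d₀ : G) (hd₀ : d₀ ∈ D) (h3 : Cfsg.pCore 3 ↥(Subgroup.closure {y : G | y ∈ D ∧ y ≠ d₀ ∧ Commute d₀ y}) ≤ Subgroup.center ↥(Subgroup.closure {y : G | y ∈ D ∧ y ≠ d₀ ∧ Commute d₀ y})) (h2 : Cfsg.pCore 2 ↥(Subgroup.closure {y : G | y ∈ D ∧ y ≠ d₀ ∧ Commute d₀ y}) ≤ Subgroup.center ↥(Subgroup.closure {y : G | y ∈ D ∧ y ≠ d₀ ∧ Commute d₀ y})) (h22 : Cfsg.IsOfTypeM22 G D) (d₁ d₂ : G) (h₁ : d₁ ∈ D) (h₂ : d₂ ∈ D) (hne : d₁ ≠ d₂) (hc : Commute d₁ d₂) (j : MulAut G) (hj : j = MulAut.conj (d₁ * d₂)) (Q : Subgroup (MulAut G)) (hQ : Q = (Cfsg.generalizedFittingSubgroup ↥(Subgroup.centralizer ({j} : Set (MulAut G)))).map (Subgroup.centralizer ({j} : Set (MulAut G))).subtype) : Cfsg.IsLargeExtraspecial Q ∧ Nat.card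 Q = 2 ^ 11 ∧ Q ≤ Subgroup.centralizer ({j} : Set (MulAut G)) ∧ ∃ (_ : (Q.subgroupOf (Subgroup.centralizer ({j} : Set (MulAut G)))).Normal) (F : Type) (_ : Field F) (_ : Fintype F), Fintype.card F = 4 ∧ Nonempty (↥(Subgroup.centralizer ({j} : Set (MulAut G))) ⧸ Q.subgroupOf (Subgroup.centralizer ({j} : Set (MulAut G))) ≃* MulAut (Cfsg.PSU 4 F 2)) := by
  have hb : d₂ ∈ CfsgLib.Fischer.perp D d₁ := ⟨h₂, hne.symm, hc⟩
  obtain ⟨Q₀, hn, hcard, hmem, hcore, hn', F, iF, iF', hF, ⟨iso⟩⟩ :=
    CfsgLib.Fischer.M22Pair.exists_kernel hD hprim h22 h₁ hb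
  subst hj
  rw [CfsgLib.Fischer.M22Pair.fitting_eq hD hprim h22 h₁ hb hmem hcore] at hQ
  subst hQ
  have hsub : (Q₀.map (Subgroup.centralizer ({MulAut.conj (d₁ * d₂)} : Set (MulAut G))).subtype).subgroupOf
      (Subgroup.centralizer ({MulAut.conj (d₁ * d₂)} : Set (MulAut G))) = Q₀ :=
    Subgroup.comap_map_eq_self_of_injective (Subgroup.subtype_injective _) Q₀
  have hQcard : Nat.card (Q₀.map (Subgroup.centralizer ({MulAut.conj (d₁ * d₂)} : Set (MulAut G))).subtype) = 2 ^ 11 := by
    rw [Subgroup.card_map_of_injective (Subgroup.subtype_injective _), hcard]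
  have hQmem : ∀ φ, φ ∈ Q₀.map (Subgroup.centralizer ({MulAut.conj (d₁ * d₂)} : Set (MulAut G))).subtype ↔
      φ ∈ Subgroup.centralizer ({MulAut.conj (d₁ * d₂)} : Set (MulAut G)) ∧
      ∀ x ∈ Subgroup.centralizer ({d₁ * d₂} : Set G), φ x * x⁻¹ ∈ CfsgLib.Fischer.TypeTwentyTwo.pairTwo d₁ d₂ := fun φ =>
    ⟨fun ⟨ψ, hψ, e⟩ => e ▸ ⟨ψ.2, (hmem ψ).1 hψ⟩, fun ⟨h1, h2⟩ => ⟨⟨φ, h1⟩, (hmem _).2 h2, rfl⟩⟩
  obtain ⟨hex, hZ, hC⟩ := CfsgLib.Fischer.M22Pair.kernel_structure hD hprim h22 h₁ hb hQcard hQmem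
  have hnorm : Subgroup.centralizer ({MulAut.conj (d₁ * d₂)} : Set (MulAut G)) ≤ Subgroup.normalizer
      ((Q₀.map (Subgroup.centralizer ({MulAut.conj (d₁ * d₂)} : Set (MulAut G))).subtype : Subgroup (MulAut G)) :
        Set (MulAut G)) := by
    rw [← Subgroup.normal_subgroupOf_iff_le_normalizer (Subgroup.map_subtype_le _), hsub]
    exact hn
  have hle : Subgroup.centralizer (((Subgroup.center ↥(Q₀.map (Subgroup.centralizer ({MulAut.conj (d₁ * d₂)} : Set (MulAut G))).subtype)).map
      (Q₀.map (Subgroup.centralizer ({MulAut.conj (d₁ * d₂)} : Set (MulAut G))).subtype).subtype : Subgroup (MulAut G)) : Set (MulAut G)) ≤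
      Subgroup.normalizer ((Q₀.map (Subgroup.centralizer ({MulAut.conj (d₁ * d₂)} : Set (MulAut G))).subtype : Subgroup (MulAut G)) :
        Set (MulAut G)) :=
    le_trans (by
      rw [hZ]
      exact Subgroup.centralizer_le (Set.singleton_subset_iff.2 (Subgroup.mem_zpowers _))) hnorm
  refine ⟨⟨hex, hC, hle, fun K hK hN => ?_⟩, hQcard, Subgroup.map_subtype_le _,
    (by rw [hsub]; exact hn), F, iF, iF', hF, ?_⟩
  · refine CfsgLib.Fischer.M22Pair.eq_bot_of_extraspecial (w := 5) hex hQcard hC hle (fun p hp hp2 hdvd => ?_) K hK hN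
    have hle' := Nat.le_of_dvd Nat.card_pos hdvd
    have h3 : 3 ≤ p := by have := hp.two_le; omega
    have h4 : 3 ^ 32 ≤ p ^ 32 := Nat.pow_le_pow_left h3 32
    rw [CfsgLib.Fischer.M22Pair.natCard_mulAut hD hprim h22,
      CfsgLib.Fischer.TypeTwentyTwo.natCard_group hD hprim h22] at hle'
    norm_num at hle' h4
    omega
  · haveI := hn
    haveI : ((Q₀.map (Subgroup.centralizer ({MulAut.conj (d₁ * d₂)} : Set (MulAut G))).subtype).subgroupOf
      (Subgroup.centralizer ({MulAut.conj (d₁ * d₂)} : Set (MulAut G)))).Normal := by rw [hsub]; exact hn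
    exact ⟨(QuotientGroup.quotientMulEquivOfEq hsub).trans iso⟩

end Cfsg.Agent.S5473
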