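import Cfsg.Statements.S5522
import Cfsg.Agent.Lib.Golay.M24
import Cfsg.Agent.Lib.Plane4.ChainElems

set_option autoImplicit false
open Cfsg
open scoped Pointwise

namespace Cfsg.Agent.S5522

open CfsgLib.Golay CfsgLib.Plane4.ChainElems

/-- The points outside the dodecad of squares. -/
def outIdx : List ℕ := (List.range 24).filter fun i => !dodMask.testBit i

/-- Either a point outside the dodecad is fixed, or the order is not a prime divisor of 7920. -/
def good (ts : List ℕ) : Bool :=
  (outIdx.any fun i => evalT ts i == i) ||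
    [2, 3, 5, 11].all fun n => !((List.range 24).all fun i => (evalT ts)^[n] i == i)

set_option maxRecDepth 100000 in
theorem good_all : allElems (chainM12.drop 1) good = true := by decide +kernel

theorem squareDodecad_eq : Cfsg.Spor.squareDodecad = unmask dodMask := by decide +kernel

theorem iter_idx {g : Equiv.Perm GolayPt} {ts : List ℕ} (h : ∀ q, idx (g q) = evalT ts (idx q)) :
    ∀ (n : ℕ) q, idx ((g ^ n) q) = (evalT ts)^[n] (idx q)
  | 0, q => by simp
  | n + 1, q => by
    rw [pow_succ', Equiv.Perm.mul_apply, h, iter_idx h n q, Function.iterate_succ_apply']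

/-- The Mathieu group M₁₁, realised as the stabiliser of one point of the dodecad of squares inside the stabiliser M₁₂ of that dodecad in M₂₄, acts on the twelve coordinate positions outside the dodecad of squares (its 3-transitive action of degree 12); in this action every element of prime order fixes a point, i.e. the action is elusive. -/
theorem result (g : Equiv.Perm Cfsg.GolayPt) (hg : g ∈ Cfsg.Spor.M11) (hord : (orderOf g).Prime) :
    ∃ x : Cfsg.GolayPt, x ∉ Cfsg.Spor.squareDodecad ∧ g x = x := by
  have hmem : g ∈ stabK [1, dodMask] := by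
    rw [mem_stabK]
    simp only [Spor.M11, Spor.M12, squareDodecad_eq, Subgroup.mem_inf,
      MulAction.mem_stabilizer_iff] at hg
    refine ⟨hg.1.1, ?_⟩
    simp only [List.mem_cons, List.not_mem_nil, or_false, forall_eq_or_imp, forall_eq]
    refine ⟨?_, hg.1.2⟩
    rw [show (1 : ℕ) = 2 ^ 0 by norm_num, unmask_two_pow_of_lt (by norm_num),
      Finset.smul_finset_singleton, show pt 0 = (some 0 : GolayPt) from rfl]
    exact congrArg _ hg.2
  obtain ⟨ts, hts, hev⟩ := exists_word chainM12_ok.2.1 good_all g hmem
  rw [good, Bool.or_eq_true] at hts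
  rcases hts with h | h
  · obtain ⟨i, hi, he⟩ := List.any_eq_true.1 h
    rw [outIdx, List.mem_filter, List.mem_range] at hi
    refine ⟨pt i, ?_, idx_injective ?_⟩
    · rw [squareDodecad_eq, pt_mem_unmask hi.1]
      simpa using hi.2
    · rw [hev, idx_pt hi.1]
      simpa using he
  · exfalso
    have hdvd : orderOf g ∣ 7920 := by
      rw [← card_stabK_dodecad_point]
      exact Subgroup.orderOf_dvd_natCard _ hmem
    have hn : orderOf g ∈ [2, 3, 5, 11] := by
      have h1 : orderOf g ∈ (7920 : ℕ).primeFactors :=
        Nat.mem_primeFactors.2 ⟨hord, hdvd, by norm_num⟩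
      have h2 : ∀ q, q.Prime → q ∣ 2 ^ 4 * 3 ^ 2 * 5 * 11 → q ∈ [2, 3, 5, 11] := by
        intro q hq hd
        rcases (Nat.Prime.dvd_mul hq).1 hd with h | h
        · rcases (Nat.Prime.dvd_mul hq).1 h with h | h
          · rcases (Nat.Prime.dvd_mul hq).1 h with h | h
            · simp [(Nat.prime_dvd_prime_iff_eq hq Nat.prime_two).1 (hq.dvd_of_dvd_pow h)]
            · simp [(Nat.prime_dvd_prime_iff_eq hq Nat.prime_three).1 (hq.dvd_of_dvd_pow h)]
          · simp [(Nat.prime_dvd_prime_iff_eq hq Nat.prime_five).1 h]
        · simp [(Nat.prime_dvd_prime_iff_eq hq (by norm_num)).1 h]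
      exact h2 _ hord (by norm_num; exact hdvd)
    have h3 := List.all_eq_true.1 h _ hn
    rw [Bool.not_eq_true', ← Bool.not_eq_true, List.all_eq_true] at h3
    apply h3
    intro i hi
    rw [List.mem_range] at hi
    have := iter_idx hev (orderOf g) (pt i)
    rw [pow_orderOf_eq_one, Equiv.Perm.one_apply, idx_pt hi] at this
    rw [beq_iff_eq]
    exact this.symm

end Cfsg.Agent.S5522
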