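import Cfsg.Statements.S5726
-- import your own Cfsg.Agent.* helpers here

set_option autoImplicit false
open Cfsg

namespace Cfsg.Agent.S5726

/-- A Sylow subgroup of a group transitive on a set of prime power size is transitive. -/
theorem sylow_transitive {G Ω : Type*} [Group G] [Finite G] [MulAction G Ω] [Fintype Ω] {p k : ℕ} [Fact p.Prime]
    (htr : MulAction.IsPretransitive G Ω) (hΩ : Fintype.card Ω = p ^ k) (P : Sylow p G) :
    MulAction.IsPretransitive (P : Subgroup G) Ω := by
  refine ⟨fun a b => ?_⟩
  have hidx : (MulAction.stabilizer G a).index = p ^ k := by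
    rw [MulAction.index_stabilizer_of_transitive G a, Nat.card_eq_fintype_card, hΩ]
  have hmem : b ∈ MulAction.orbit (P : Subgroup G) a := by
    have h2 : Nat.card (MulAction.orbit (P : Subgroup G) a) = Nat.card Ω := by
      have e : Nat.card (MulAction.orbit (P : Subgroup G) a) = ((MulAction.stabilizer G a).subgroupOf P).index := by
        rw [Nat.card_coe_set_eq, ← MulAction.index_stabilizer]; rfl
      refine le_antisymm (Finite.card_subtype_le _) ?_
      rw [e, Nat.card_eq_fintype_card, hΩ]
      set H := MulAction.stabilizer G a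
      have h3 : H.index * (P : Subgroup G).index ∣ (H.relIndex P) * ((P : Subgroup G).index) * H.index := ⟨H.relIndex P, by ring⟩
      have h4 : (H ⊓ (P : Subgroup G)).index = H.relIndex P * (P : Subgroup G).index := by
        rw [← Subgroup.inf_relIndex_right, Subgroup.relIndex_mul_index inf_le_right]
      have h5 : p ^ k ∣ H.relIndex P * (P : Subgroup G).index := by
        rw [← h4, ← hidx]; exact Subgroup.index_dvd_of_le inf_le_left
      have h6 : (p ^ k).Coprime (P : Subgroup G).index :=
        ((Fact.out : p.Prime).coprime_iff_not_dvd.mpr P.not_dvd_index).pow_left k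
      exact Nat.le_of_dvd (Nat.pos_of_ne_zero Subgroup.index_ne_zero_of_finite) (h6.dvd_of_dvd_mul_right h5)
    have : MulAction.orbit (P : Subgroup G) a = Set.univ := by
      apply Set.eq_univ_of_forall
      intro x
      by_contra hx
      have hlt := Set.ncard_lt_ncard (s := MulAction.orbit (P : Subgroup G) a) (t := Set.univ)
        ⟨Set.subset_univ _, fun h => hx (h (Set.mem_univ x))⟩
      rw [Set.ncard_univ, ← Nat.card_coe_set_eq] at hlt
      omega
    rw [this]; trivial
  exact hmem

/-- If a finite group acts faithfully and transitively on a set with p^k elements, p a prime and k ≥ 1, then some element of order p fixes no point. -/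
theorem result {G Ω : Type*} [Group G] [Finite G] [MulAction G Ω] [FaithfulSMul G Ω] [Fintype Ω] (htr : MulAction.IsPretransitive G Ω)
    (p k : ℕ) (hp : p.Prime) (hk : 1 ≤ k) (hΩ : Fintype.card Ω = p ^ k) :
    ∃ g : G, orderOf g = p ∧ ∀ ω : Ω, g • ω ≠ ω := by
  haveI := Fact.mk hp
  have P : Sylow p G := default
  have htr' : MulAction.IsPretransitive (P : Subgroup G) Ω := sylow_transitive htr hΩ P
  have hne : Nonempty Ω := Fintype.card_pos_iff.mp (hΩ ▸ pow_pos hp.pos k)
  have hnt : Nontrivial (P : Subgroup G) := by
    by_contra hc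
    rw [not_nontrivial_iff_subsingleton] at hc
    obtain ⟨ω⟩ := hne
    have hsub : Subsingleton Ω := ⟨fun a b => by
      obtain ⟨g, hg⟩ := htr'.exists_smul_eq a b
      rw [← hg, Subsingleton.elim g 1, one_smul]⟩
    have := Fintype.card_le_one_iff_subsingleton.mpr hsub
    have : 1 < p ^ k := Nat.one_lt_pow (by omega) hp.one_lt
    omega
  have hc : Nontrivial (Subgroup.center (P : Subgroup G)) := P.2.center_nontrivial
  obtain ⟨z, hz⟩ := exists_prime_orderOf_dvd_card' (G := Subgroup.center (P : Subgroup G)) p (by
    obtain ⟨m, hm, hm'⟩ := (IsPGroup.to_subgroup P.2 (Subgroup.center (P : Subgroup G))).exists_card_eq.elim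
      (fun m hm => (⟨m, hm, Finite.one_lt_card⟩ : ∃ m, Nat.card (Subgroup.center (P : Subgroup G)) = p ^ m ∧ 1 < Nat.card (Subgroup.center (P : Subgroup G))))
    rw [hm]
    refine dvd_pow_self p ?_
    rintro rfl
    rw [pow_zero] at hm; omega)
  refine ⟨((z : (P : Subgroup G)) : G), ?_, fun ω hω => ?_⟩
  · rw [← orderOf_injective ((Subgroup.center (P : Subgroup G)).subtype) Subtype.val_injective,
      ← orderOf_injective ((P : Subgroup G).subtype) Subtype.val_injective] at hz
    exact hz
  · have hall : ∀ x : Ω, ((z : (P : Subgroup G)) : G) • x = x := by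
      intro x
      obtain ⟨g, rfl⟩ := htr'.exists_smul_eq ω x
      have := (Subgroup.mem_center_iff.mp z.2 g)
      show ((z : (P : Subgroup G)) : G) • ((g : G) • ω) = (g : G) • ω
      rw [smul_smul, ← Subgroup.coe_mul, ← this, Subgroup.coe_mul, ← smul_smul, hω]
    have : ((z : (P : Subgroup G)) : G) = 1 := FaithfulSMul.eq_of_smul_eq_smul fun x => by rw [hall x, one_smul]
    rw [← orderOf_injective ((Subgroup.center (P : Subgroup G)).subtype) Subtype.val_injective,
      ← orderOf_injective ((P : Subgroup G).subtype) Subtype.val_injective] at hz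
    simp only [Subgroup.coe_subtype] at hz
    rw [this, orderOf_one] at hz
    exact hp.one_lt.ne hz

end Cfsg.Agent.S5726
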