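import Cfsg.Statements.S5727
import Cfsg.Agent.S5726

set_option autoImplicit false
open Cfsg

namespace Cfsg.Agent.S5727

theorem small {G Ω : Type*} [Group G] [Finite G] [MulAction G Ω] [FaithfulSMul G Ω] [Fintype Ω]
    (htr : MulAction.IsPretransitive G Ω) {p m : ℕ} (hp : p.Prime) (hm : 1 ≤ m) (hmp : m < p)
    (hΩ : Fintype.card Ω = m * p) : ∃ g : G, orderOf g = p ∧ ∀ ω : Ω, g • ω ≠ ω := by
  classical
  haveI := Fact.mk hp
  have P : Sylow p G := default
  -- every stabiliser in `P` has index exactly `p`
  have hidx : ∀ ω : Ω, ((MulAction.stabilizer G ω).relIndex P) = p := by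
    intro ω
    obtain ⟨j, hj⟩ := P.2.index ((MulAction.stabilizer G ω).subgroupOf P)
    change (MulAction.stabilizer G ω).relIndex P = _ at hj
    have h0 : (MulAction.stabilizer G ω).index = m * p := by
      rw [MulAction.index_stabilizer_of_transitive G ω, Nat.card_eq_fintype_card, hΩ]
    have h4 : ((MulAction.stabilizer G ω) ⊓ (P : Subgroup G)).index
        = (MulAction.stabilizer G ω).relIndex P * (P : Subgroup G).index := by
      rw [← Subgroup.inf_relIndex_right, Subgroup.relIndex_mul_index inf_le_right]
    have h5 : p ∣ (MulAction.stabilizer G ω).relIndex P * (P : Subgroup G).index := by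
      rw [← h4]; exact (Dvd.intro_left m h0.symm).trans (Subgroup.index_dvd_of_le inf_le_left)
    have h5' : p ∣ (MulAction.stabilizer G ω).relIndex P :=
      (hp.dvd_mul.mp h5).resolve_right P.not_dvd_index
    have hle : (MulAction.stabilizer G ω).relIndex P ≤ m * p := by
      rw [← hΩ, ← Nat.card_eq_fintype_card]
      calc (MulAction.stabilizer G ω).relIndex P = Nat.card (MulAction.orbit (P : Subgroup G) ω) := by
            rw [Nat.card_coe_set_eq, ← MulAction.index_stabilizer]; rfl
        _ ≤ _ := Finite.card_subtype_le _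
    rw [hj] at h5' hle ⊢
    match j, h5', hle with
    | 0, h, _ => simp at h; omega
    | 1, _, _ => simp
    | j + 2, _, h =>
      have h1 : p * p ≤ p ^ (j + 2) := by
        rw [← pow_two]; exact Nat.pow_le_pow_right hp.pos (by omega)
      have h2 : m * p < p * p := Nat.mul_lt_mul_of_pos_right hmp hp.pos
      omega
  -- count the elements of `P` fixing some point
  have hne : Nonempty Ω := Fintype.card_pos_iff.mp (by rw [hΩ]; exact Nat.mul_pos hm hp.pos)
  let orb := MulAction.orbitRel.Quotient (P : Subgroup G) Ω
  haveI : Fintype orb := Fintype.ofFinite _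
  let bad : orb → Finset (P : Subgroup G) := fun o =>
    haveI : Fintype (P : Subgroup G) := Fintype.ofFinite _
    Finset.univ.filter fun x => (x : G) • o.out = o.out
  haveI : Fintype (P : Subgroup G) := Fintype.ofFinite _
  have hcardbad : ∀ o, (bad o).card * p = Fintype.card (P : Subgroup G) := by
    intro o
    have := ((MulAction.stabilizer G o.out).subgroupOf (P : Subgroup G)).card_mul_index
    rw [← Subgroup.relIndex, hidx] at this
    rw [← Nat.card_eq_fintype_card, ← this]
    congr 1
    rw [Nat.card_eq_fintype_card]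
    rw [Fintype.card_subtype]
    congr 1
    ext x
    simp [bad, Subgroup.mem_subgroupOf]
  have horb : Fintype.card orb * p = m * p := by
    rw [← hΩ, Fintype.card_congr (MulAction.selfEquivSigmaOrbits (P : Subgroup G) Ω), Fintype.card_sigma]
    rw [Finset.sum_congr rfl (fun o _ => show Fintype.card (MulAction.orbit (P : Subgroup G) (Quotient.out o)) = p by
      rw [← Nat.card_eq_fintype_card, Nat.card_coe_set_eq, ← MulAction.index_stabilizer]; exact hidx _)]
    simp [orb]
  have hm' : Fintype.card orb = m := Nat.eq_of_mul_eq_mul_right hp.pos horb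
  have hlt : (Finset.univ.biUnion bad).card < Fintype.card (P : Subgroup G) := by
    have h1 : (Finset.univ.biUnion bad).card * p ≤ m * Fintype.card (P : Subgroup G) := by
      calc _ ≤ (∑ o, (bad o).card) * p := Nat.mul_le_mul_right p Finset.card_biUnion_le
        _ = _ := by rw [Finset.sum_mul]; simp [hcardbad, hm']
    by_contra hcon
    have h2 : Fintype.card (P : Subgroup G) * p ≤ m * Fintype.card (P : Subgroup G) :=
      (Nat.mul_le_mul_right p (not_lt.mp hcon)).trans h1
    have h3 : m * Fintype.card (P : Subgroup G) < p * Fintype.card (P : Subgroup G) :=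
      Nat.mul_lt_mul_of_pos_right hmp Fintype.card_pos
    rw [Nat.mul_comm p] at h3
    omega
  obtain ⟨x, -, hx⟩ := Finset.exists_mem_notMem_of_card_lt_card (t := Finset.univ) (s := Finset.univ.biUnion bad)
    (by simpa using hlt)
  have hfree : ∀ ω : Ω, (x : G) • ω ≠ ω := by
    intro ω hω
    apply hx
    refine Finset.mem_biUnion.mpr ⟨Quotient.mk'' ω, Finset.mem_univ _, ?_⟩
    simp only [bad, Finset.mem_filter, Finset.mem_univ, true_and]
    have hrel : (Quotient.out (Quotient.mk'' ω : orb)) ∈ MulAction.orbit (P : Subgroup G) ω :=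
      Quotient.exact' (Quotient.out_eq' (Quotient.mk'' ω : orb))
    obtain ⟨y, hy⟩ := hrel
    have hnorm : ((MulAction.stabilizer G ω).subgroupOf (P : Subgroup G)).Normal := by
      refine Subgroup.normal_of_index_eq_minFac_card ?_
      change (MulAction.stabilizer G ω).relIndex P = _
      rw [hidx]
      obtain ⟨j, hj⟩ := P.2.exists_card_eq
      have hdvd := Subgroup.index_dvd_card ((MulAction.stabilizer G ω).subgroupOf (P : Subgroup G))
      change (MulAction.stabilizer G ω).relIndex P ∣ _ at hdvd
      rw [hidx, hj] at hdvd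
      rw [hj, hp.pow_minFac]
      rintro rfl
      simp at hdvd
      omega
    have := hnorm.conj_mem x (by simpa [Subgroup.mem_subgroupOf] using hω) y⁻¹
    simp only [Subgroup.mem_subgroupOf, MulAction.mem_stabilizer_iff, inv_inv, Subgroup.coe_mul,
      Subgroup.coe_inv, mul_smul] at this
    rw [inv_smul_eq_iff] at this
    rw [← hy]
    exact this
  -- reduce to order `p`: the power of `x` of order `p` still lies in `P`
  refine ⟨(x : G), ?_, hfree⟩
  have hxp : (x : G) ^ p = 1 := by
    apply FaithfulSMul.eq_of_smul_eq_smul (α := Ω)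
    intro ω
    rw [one_smul]
    set S := (MulAction.stabilizer G ω).subgroupOf (P : Subgroup G)
    have hnorm : S.Normal := by
      refine Subgroup.normal_of_index_eq_minFac_card ?_
      change (MulAction.stabilizer G ω).relIndex P = _
      rw [hidx]
      obtain ⟨j, hj⟩ := P.2.exists_card_eq
      have hdvd := Subgroup.index_dvd_card S
      change (MulAction.stabilizer G ω).relIndex P ∣ _ at hdvd
      rw [hidx, hj] at hdvd
      rw [hj, hp.pow_minFac]
      rintro rfl
      simp at hdvd
      omega
    have hpow := S.pow_index_mem x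
    change x ^ ((MulAction.stabilizer G ω).relIndex P) ∈ S at hpow
    rw [hidx] at hpow
    simpa [S, Subgroup.mem_subgroupOf] using hpow
  refine (Nat.dvd_prime hp).mp (orderOf_dvd_of_pow_eq_one hxp) |>.resolve_left fun h => ?_
  obtain ⟨ω⟩ := hne
  exact hfree ω (by rw [orderOf_eq_one_iff.mp h, one_smul])

/-- If a finite group acts faithfully and transitively on a set with m·p elements, where p is a prime and 1 ≤ m ≤ p, then some element of order p fixes no point. -/
theorem result {G Ω : Type*} [Group G] [Finite G] [MulAction G Ω] [FaithfulSMul G Ω] [Fintype Ω] (htr : MulAction.IsPretransitive G Ω)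
    (p m : ℕ) (hp : p.Prime) (hm : 1 ≤ m) (hmp : m ≤ p) (hΩ : Fintype.card Ω = m * p) :
    ∃ g : G, orderOf g = p ∧ ∀ ω : Ω, g • ω ≠ ω := by
  rcases hmp.lt_or_eq with hlt | rfl
  · exact small htr hp hm hlt hΩ
  · exact S5726.result htr m 2 hp (by norm_num) (by rw [hΩ, pow_two])

end Cfsg.Agent.S5727
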