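import Cfsg.Statements.S5728
-- import your own Cfsg.Agent.* helpers here

set_option autoImplicit false
open Cfsg

namespace Cfsg.Agent.S5728

/-- The bottom subfield consists of the scalars. -/
theorem exists_algebraMap {p : ℕ} [Fact p.Prime] {F : Type*} [Field F] [Algebra (ZMod p) F]
    [CharP F p] {a : F} (h : a ^ p = a) : ∃ a' : ZMod p, algebraMap (ZMod p) F a' = a := by
  have hb : a ∈ (⊥ : Subfield F) := (Subfield.mem_bot_iff_pow_eq_self F p).2 h
  have hle : (⊥ : Subfield F) ≤ (algebraMap (ZMod p) F).fieldRange := bot_le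
  exact hle hb

/-- An elusive transitive action. Let p = 2^s − 1 be a prime and let F be the field with p² elements. Inside the group of affine maps x ↦ a·x + b of F (a ≠ 0), consider the subgroup of maps with both coefficients in the prime field. Then every element of prime order of the affine group is conjugate, within the affine group, to an element of that subgroup; equivalently, in the transitive action of the affine group on the cosets of that subgroup (of degree p(p + 1)) every element of prime order fixes a point. -/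
theorem result (p s : ℕ) [Fact p.Prime] (hs : p = 2 ^ s - 1)
    (g : Equiv.Perm (GaloisField p 2)) (hg : g ∈ Cfsg.affineGroup (GaloisField p 2)) (hord : (orderOf g).Prime) :
    ∃ x ∈ Cfsg.affineGroup (GaloisField p 2), ∃ a b : ZMod p, a ≠ 0 ∧
      ∀ y : GaloisField p 2, (x * g * x⁻¹) y = algebraMap (ZMod p) (GaloisField p 2) a * y + algebraMap (ZMod p) (GaloisField p 2) b := by
  have hp : p.Prime := Fact.out
  obtain ⟨a, b, hg'⟩ := hg
  have hpow : ∀ k : ℕ, ∃ bk, ∀ y, (g ^ k) y = (a : GaloisField p 2) ^ k * y + bk := by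
    intro k
    induction k with
    | zero => exact ⟨0, fun y => by simp⟩
    | succ k ih =>
      obtain ⟨bk, hbk⟩ := ih
      refine ⟨(a : GaloisField p 2) ^ k * b + bk, fun y => ?_⟩
      rw [pow_succ g, Equiv.Perm.mul_apply, hbk, hg']
      ring
  have har : (a : GaloisField p 2) ^ orderOf g = 1 := by
    obtain ⟨bk, hbk⟩ := hpow (orderOf g)
    have h0 := hbk 0
    have h1 := hbk 1
    rw [pow_orderOf_eq_one g, Equiv.Perm.one_apply] at h0 h1
    rw [mul_zero, zero_add] at h0
    rw [← h0, add_zero, mul_one] at h1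
    exact h1.symm
  by_cases ha : (a : GaloisField p 2) = 1
  · have hb : b ≠ 0 := by
      intro hb
      apply hord.ne_one
      rw [orderOf_eq_one_iff]
      refine Equiv.ext fun y => ?_
      rw [hg' y, ha, hb, one_mul, add_zero, Equiv.Perm.one_apply]
    let x : Equiv.Perm (GaloisField p 2) := Equiv.mulLeft₀ b⁻¹ (inv_ne_zero hb)
    refine ⟨x, ⟨(Units.mk0 b hb)⁻¹, 0, fun y => by simp [x]⟩, 1, 1, one_ne_zero, fun y => ?_⟩
    have hx : ∀ y, x y = b⁻¹ * y := fun y => rfl
    obtain ⟨z, rfl⟩ := x.surjective y
    rw [map_one, one_mul, Equiv.Perm.mul_apply, Equiv.Perm.mul_apply, Equiv.Perm.coe_inv,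
      Equiv.symm_apply_apply, hg', ha, one_mul, hx, hx, mul_add, inv_mul_cancel₀ hb]
  · haveI := Fintype.ofFinite (GaloisField p 2)
    haveI : Fact (orderOf g).Prime := ⟨hord⟩
    have hr : orderOf (a : GaloisField p 2) = orderOf g := orderOf_eq_prime har ha
    have hcard : Fintype.card (GaloisField p 2) = p ^ 2 := by
      rw [Fintype.card_eq_nat_card, GaloisField.card p 2 two_ne_zero]
    have hd : orderOf g ∣ p ^ 2 - 1 := by
      rw [← hr, ← hcard]
      exact orderOf_dvd_of_pow_eq_one (FiniteField.pow_card_sub_one_eq_one _ a.ne_zero)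
    have h2 : 2 ∣ p - 1 := by
      have hs0 : s ≠ 0 := fun e => hp.ne_zero (by rw [hs, e]; rfl)
      obtain ⟨t, rfl⟩ : ∃ t, s = t + 1 := ⟨s - 1, by omega⟩
      rw [pow_succ] at hs
      have := hp.two_le
      omega
    have hd' : orderOf g ∣ (p - 1) * 2 ^ s := by
      have e : p + 1 = 2 ^ s := by have := Nat.one_le_two_pow (n := s); omega
      rw [← e, mul_comm, ← Nat.sq_sub_sq, one_pow]
      exact hd
    have hdp : orderOf g ∣ p - 1 := by
      rcases (Nat.Prime.dvd_mul hord).1 hd' with h | h
      · exact h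
      · rw [(Nat.prime_dvd_prime_iff_eq hord Nat.prime_two).1 (hord.dvd_of_dvd_pow h)]
        exact h2
    have hap : (a : GaloisField p 2) ^ p = a := by
      have e : (a : GaloisField p 2) ^ p = (a : GaloisField p 2) ^ (p - 1 + 1) := by
        congr 1
        have := hp.one_le; omega
      rw [e]
      rw [pow_succ, orderOf_dvd_iff_pow_eq_one.1 (hr.symm ▸ hdp), one_mul]
    obtain ⟨a', ha'⟩ := exists_algebraMap hap
    set c : GaloisField p 2 := b / (1 - a) with hc
    have h1a : (1 : GaloisField p 2) - a ≠ 0 := sub_ne_zero.2 (Ne.symm ha)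
    let x : Equiv.Perm (GaloisField p 2) := Equiv.addRight (-c)
    have hx : ∀ y, x y = y + -c := fun y => rfl
    refine ⟨x, ⟨1, -c, fun y => by rw [Units.val_one, one_mul]; rfl⟩, a', 0, ?_, fun y => ?_⟩
    · intro e
      exact a.ne_zero (by rw [← ha', e, map_zero])
    · obtain ⟨z, rfl⟩ := x.surjective y
      rw [Equiv.Perm.mul_apply, Equiv.Perm.mul_apply, Equiv.Perm.coe_inv, Equiv.symm_apply_apply,
        hg', hx, hx, ha', map_zero, add_zero, hc]
      field_simp
      ring

end Cfsg.Agent.S5728
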