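import Cfsg.Statements.S5742
import Cfsg.Agent.Lib.Fi22InE6.Nonconj

set_option autoImplicit false
open Cfsg

namespace Cfsg.Agent.S5742

/-- The simple group ²E₆(2) (the twisted group of type E₆ over the field with 4 elements) contains at least three pairwise non-conjugate subgroups isomorphic to the Fischer group Fi₂₂. -/
theorem result {K : Type*} [Field K] [Fintype K] (hK : Fintype.card K = 4) :
    ∃ H : Fin 3 → Subgroup (Cfsg.Lie.twistedE6 K 2),
      (∀ i, Cfsg.Spor.IsoFi22 (H i)) ∧
      (∀ i j, i ≠ j → ∀ g : (Cfsg.Lie.twistedE6 K 2), (H i).map (MulAut.conj g).toMonoidHom ≠ H j) := by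
  classical
  haveI : Fact (Nat.Prime 2) := ⟨Nat.prime_two⟩
  haveI : CharP K 2 := by
    obtain ⟨p, hp⟩ := CharP.exists K
    obtain ⟨n, hn, hpn⟩ := FiniteField.card K p
    have : p ∣ 2 ^ 2 := by
      rw [show (2 : ℕ) ^ 2 = Fintype.card K from hK.symm, hpn]
      exact dvd_pow_self p n.ne_zero
    rw [(Nat.prime_dvd_prime_iff_eq hn Nat.prime_two).1 (hn.dvd_of_dvd_pow this)] at hp
    exact hp
  have S : CfsgLib.TwistedE6Involutions.Setting (iterateFrobenius K 2 1) 2 :=
    ⟨Nat.prime_two.isPrimePow, by rw [Nat.card_eq_fintype_card, hK]; norm_num,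
      fun x => by rw [iterateFrobenius_def, pow_one]⟩
  have hcard : Nat.card Kˣ = 3 := by rw [Nat.card_units, Nat.card_eq_fintype_card, hK]
  haveI : Fact (Nat.Prime 3) := ⟨Nat.prime_three⟩
  obtain ⟨z, hz⟩ : ∃ z : Kˣ, orderOf z = 3 := exists_prime_orderOf_dvd_card' 3 (by rw [hcard])
  have h1 : (z : K) ≠ 1 := fun e => by
    have : z = 1 := Units.ext e
    simp [this] at hz
  have h3 : (z : K) ^ 3 = 1 := by
    rw [← Units.val_pow_eq_pow_val, ← hz, pow_orderOf_eq_one, Units.val_one]
  have hw : (z : K) * z = z + 1 := by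
    have h0 : ((z : K) - 1) * ((z : K) * z + z + 1) = 0 := by linear_combination h3
    have h2 := (mul_eq_zero.1 h0).resolve_left (sub_ne_zero.2 h1)
    linear_combination h2 - CharTwo.add_self_eq_zero ((z : K) + 1)
  exact CfsgLib.Fi22InE6.exists_three hw S hcard hz

end Cfsg.Agent.S5742
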