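import Cfsg.Statements.S5744
import Cfsg.Agent.Lib.OutAut.OmegaSevenE6.Hom

set_option autoImplicit false
open Cfsg

namespace Cfsg.Agent.S5744

/-- The simple group ²E₆(2) (the twisted group of type E₆ over the field with 4 elements) contains at least three pairwise non-conjugate subgroups isomorphic to the orthogonal group Ω₇(3) (the commutator subgroup of the isometry group of x₀² + x₁y₁ + x₂y₂ + x₃y₃ over the field with 3 elements). -/
theorem result {K : Type*} [Field K] [Fintype K] (hK : Fintype.card K = 4) :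
    ∃ H : Fin 3 → Subgroup (Cfsg.Lie.twistedE6 K 2),
      (∀ i, Nonempty ((H i) ≃* Cfsg.Omega (ZMod 3) (Cfsg.quadFormOdd 3 (ZMod 3)))) ∧
      (∀ i j, i ≠ j → ∀ g : (Cfsg.Lie.twistedE6 K 2), (H i).map (MulAut.conj g).toMonoidHom ≠ H j) := by
  classical
  haveI : Fact (Nat.Prime 2) := ⟨Nat.prime_two⟩
  haveI : CharP K 2 := by
    obtain ⟨p, hp⟩ := CharP.exists K
    obtain ⟨n, hn, hpn⟩ := FiniteField.card K p
    have : p ∣ 2 ^ 2 := by
      rw [show (2 : ℕ) ^ 2 = Fintype.card K from hK.symm, hpn]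
      exact dvd_pow_self p n.ne_zero
    rw [(Nat.prime_dvd_prime_iff_eq hn Nat.prime_two).1 (hn.dvd_of_dvd_pow this)] at hp
    exact hp
  have S : CfsgLib.TwistedE6Involutions.Setting (iterateFrobenius K 2 1) 2 :=
    ⟨Nat.prime_two.isPrimePow, by rw [Nat.card_eq_fintype_card, hK]; norm_num,
      fun x => by rw [iterateFrobenius_def, pow_one]⟩
  have hcard : Nat.card Kˣ = 3 := by rw [Nat.card_units, Nat.card_eq_fintype_card, hK]
  haveI : Fact (Nat.Prime 3) := ⟨Nat.prime_three⟩
  obtain ⟨u, hu⟩ : ∃ u : Kˣ, orderOf u = 3 :=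
    exists_prime_orderOf_dvd_card' 3 (by rw [hcard])
  have hw : (u : K) * u = u + 1 := by
    have h3 : (u : K) ^ 3 = 1 := by rw [← Units.val_pow_eq_pow_val, ← hu, pow_orderOf_eq_one, Units.val_one]
    have h1 : (u : K) - 1 ≠ 0 := sub_ne_zero.2 fun e => by
      rw [Units.val_eq_one] at e
      rw [e, orderOf_one] at hu
      omega
    have hz : (u : K) * u + u + 1 = 0 :=
      (mul_eq_zero.1 (show ((u : K) - 1) * ((u : K) * u + u + 1) = 0 by linear_combination h3)).resolve_left h1
    have h2 : (1 : K) + 1 = 0 := CharTwo.add_self_eq_zero 1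
    linear_combination hz - ((u : K) + 1) * h2
  exact CfsgLib.OutAut.OmegaSevenE6.Hom.exists_three_omega7 hw S hcard hu

end Cfsg.Agent.S5744
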