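import Cfsg.Statements.S5804
import Cfsg.Agent.Lib.Geometric.SympStab
import Cfsg.Agent.Lib.Geometric.SympDecomp
import Cfsg.Agent.Lib.Geometric.SympSubfield
import Cfsg.Agent.Lib.Geometric.SympQuadSix
import Cfsg.Agent.Lib.Geometric.SympPairSix
import Cfsg.Agent.Lib.Geometric.ExtField.SympMax
import Cfsg.Agent.Lib.Geometric.ExtField.SympUnitarySixMax
import Cfsg.Agent.Lib.Geometric.SOTensor.ThreeMax

set_option autoImplicit false
open Cfsg

namespace Cfsg.Agent.S5804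

/-- Maximal subgroups of Sp_6(q) of geometric type (any q). Let F be a finite field with q elements, f the standard alternating form on F^6 (coordinates Fin 3 ⊕ Fin 3) and Sp_6(F) its isometry group inside GL_6(F). Each of the following, intersected with Sp_6(F), is a maximal subgroup of Sp_6(F): (1) the stabiliser of any non-zero totally isotropic subspace (dimensions 1, 2, 3); (2) the stabiliser of any non-degenerate 2-space; (3) for q ≥ 3, the stabiliser of any decomposition of F^6 into three mutually orthogonal non-degenerate 2-spaces; (4) for q odd, the stabiliser of any decomposition into two totally isotropic 3-spaces; (5) the normaliser of any degree-3 subfield K of the matrix algebra whose elements are self-adjoint for f with f(k v, v) = 0 (f is the trace of an alternating form over K); (6) for q odd, the normaliser of any degree-2 subfield of the matrix algebra that is closed under adjoints but not self-adjoint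 (f is the trace of a multiple of a unitary form over K); (7) for q odd with q ≥ 5, the stabiliser of any tensor decomposition of f as (alternating form on F^2) ⊗ (non-degenerate symmetric bilinear form on F^3) up to a scalar; (8) every subfield group for a subfield F₀ with |F| = |F₀|^r, r prime, whose F₀-structure carries a non-zero scalar multiple of f; (9) for q even, the similarity group of any non-degenerate quadratic form whose polar form is f (either Witt type); its intersection with Sp_6(F) is the orthogonal group of that form. -/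
theorem result {F : Type*} [Field F] [Fintype F] :
    (∀ W : Submodule F (Fin 3 ⊕ Fin 3 → F), W ≠ ⊥ → Cfsg.Geo.IsTotallySingularFor (Cfsg.sympForm 3 F) W → Cfsg.Geo.IsMaximalIn (Cfsg.spGL 3 F) (Cfsg.Geo.subspaceStabilizer W ⊓ Cfsg.spGL 3 F)) ∧
    (∀ W : Submodule F (Fin 3 ⊕ Fin 3 → F), W ≠ ⊥ → Cfsg.Geo.IsNondegenerateOn (Cfsg.sympForm 3 F) W → Module.finrank F W < 3 → Cfsg.Geo.IsMaximalIn (Cfsg.spGL 3 F) (Cfsg.Geo.subspaceStabilizer W ⊓ Cfsg.spGL 3 F)) ∧
    (3 ≤ Fintype.card F → ∀ D : Fin 3 → Submodule F (Fin 3 ⊕ Fin 3 → F), Cfsg.Geo.IsNondegenerateMDecomposition (Cfsg.sympForm 3 F) 2 D → Cfsg.Geo.IsMaximalIn (Cfsg.spGL 3 F) (Cfsg.Geo.decompositionStabilizer D ⊓ Cfsg.spGL 3 F)) ∧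
    (Odd (Fintype.card F) → ∀ D : Fin 2 → Submodule F (Fin 3 ⊕ Fin 3 → F), Cfsg.Geo.IsMDecomposition 3 D → (∀ i, Cfsg.Geo.IsTotallySingularFor (Cfsg.sympForm 3 F) (D i)) → Cfsg.Geo.IsMaximalIn (Cfsg.spGL 3 F) (Cfsg.Geo.decompositionStabilizer D ⊓ Cfsg.spGL 3 F)) ∧
    (∀ K : Subalgebra F (Matrix (Fin 3 ⊕ Fin 3) (Fin 3 ⊕ Fin 3) F), Cfsg.Geo.IsFieldSubalgebra 3 K → Cfsg.Geo.IsSelfAdjointFor (Cfsg.sympForm 3 F) K → (∀ k ∈ K, ∀ v : (Fin 3 ⊕ Fin 3 → F), (Cfsg.sympForm 3 F) (Matrix.mulVec k v) v = 0) → Cfsg.Geo.IsMaximalIn (Cfsg.spGL 3 F) (Cfsg.Geo.subalgebraNormalizer K ⊓ Cfsg.spGL 3 F)) ∧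
    (Odd (Fintype.card F) → ∀ K : Subalgebra F (Matrix (Fin 3 ⊕ Fin 3) (Fin 3 ⊕ Fin 3) F), Cfsg.Geo.IsFieldSubalgebra 2 K → Cfsg.Geo.IsAdjointClosedFor (Cfsg.sympForm 3 F) K → ¬ Cfsg.Geo.IsSelfAdjointFor (Cfsg.sympForm 3 F) K → Cfsg.Geo.IsMaximalIn (Cfsg.spGL 3 F) (Cfsg.Geo.subalgebraNormalizer K ⊓ Cfsg.spGL 3 F)) ∧
    (Odd (Fintype.card F) → 5 ≤ Fintype.card F → ∀ (e : (Fin 3 ⊕ Fin 3) ≃ Fin 2 × Fin 3) (P : Matrix.GeneralLinearGroup (Fin 3 ⊕ Fin 3) F) (f₁ : (Fin 2 → F) → (Fin 2 → F) → F) (f₂ : (Fin 3 → F) → (Fin 3 → F) → F), Cfsg.Geo.IsSymplecticForm f₁ → Cfsg.Geo.IsSymmetricForm f₂ → Cfsg.Geo.IsTensorFormStructure id (Cfsg.sympForm 3 F) f₁ f₂ e P → Cfsg.Geo.IsMaximalIn (Cfsg.spGL 3 F) (Cfsg.Geo.tensorProductSubgroup 2 3 e P ⊓ Cfsg.spGL 3 F)) ∧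
    (∀ (F₀ : Subfield F) (r : ℕ) (P : Matrix.GeneralLinearGroup (Fin 3 ⊕ Fin 3) F) (ζ : F), r.Prime → Fintype.card F = Nat.card F₀ ^ r → ζ ≠ 0 → Cfsg.Geo.IsFormRationalStructure (Cfsg.sympForm 3 F) F₀ ζ P → Cfsg.Geo.IsMaximalIn (Cfsg.spGL 3 F) (Cfsg.Geo.subfieldSubgroup F₀ P ⊓ Cfsg.spGL 3 F)) ∧
    (¬ Odd (Fintype.card F) → ∀ Q : (Fin 3 ⊕ Fin 3 → F) → F, Cfsg.Geo.IsNondegenerateQuadraticForm Q → (∀ u v : (Fin 3 ⊕ Fin 3 → F), QuadraticMap.polar Q u v = (Cfsg.sympForm 3 F) u v) → Cfsg.Geo.IsMaximalIn (Cfsg.spGL 3 F) (Cfsg.Geo.quadSimilarityGroup Q ⊓ Cfsg.spGL 3 F)) := by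
  have hf := CfsgLib.Geometric.isSymplecticForm_sympForm 3 F
  have hcard6 : Fintype.card (Fin 3 ⊕ Fin 3) = 6 := by simp
  refine ⟨fun W hW hts => ?_, fun W h0 hW hlt => ?_, fun hq D hD => ?_, fun hodd D hD hts => ?_,
    fun K hK hsa halt => ?_, fun hodd K hK hac hnsa => ?_,
    fun hodd hq e P f₁ f₂ hf₁ hf₂ hT => ?_, fun F₀ r P ζ hr hcard hζ hP => ?_,
    fun hev Q hQ hpol => ?_⟩
  · exact CfsgLib.Geometric.Symp.stab_isMaximalIn_of_totallySingular hf hW hts
  · exact CfsgLib.Geometric.Symp.stab_isMaximalIn_of_nondegenerate hf h0 hW (by omega)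
  · exact CfsgLib.Geometric.Symp.decompStab_isMaximalIn hf hD (by omega)
  · have h2 : (2 : F) ≠ 0 := CfsgLib.ClassicalForms.two_ne_zero_of_odd
      (by rwa [Nat.card_eq_fintype_card])
    exact CfsgLib.Geometric.Symp.pair_isMaximalIn_six hf h2 (by omega) hD hts
  · letI := CfsgLib.Geometric.ExtF.fieldOfSubalg hK (by norm_num)
    have : Finite K := Finite.of_injective
      (fun x : K => (x : Matrix (Fin 3 ⊕ Fin 3) (Fin 3 ⊕ Fin 3) F)) Subtype.val_injective
    exact CfsgLib.Geometric.ExtF.symp_maximal' hf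
      (show (Module.finrank F K).Prime by rw [hK.finrank_eq]; norm_num)
      (Or.inr ⟨by omega, Or.inl (by rw [hK.finrank_eq])⟩) K.val K
      (fun k => ⟨fun hk => ⟨⟨k, hk⟩, rfl⟩, fun ⟨a, ha⟩ => ha ▸ a.2⟩) hsa halt
  · exact CfsgLib.Geometric.ExtF.symp_unitary_maximal_six hf (by omega) hodd K hK hac hnsa
  · exact CfsgLib.Geometric.symp_two_three_tensor_isMaximalIn hf hodd hq hf₁ hf₂ hT
  · exact CfsgLib.Geometric.sympSubfield_isMaximalIn' (by omega) hf hζ hP hr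
      (by rwa [Nat.card_eq_fintype_card])
  · have hchar : ringChar F = 2 := by
      by_contra h
      exact hev (Nat.odd_iff.mpr (FiniteField.odd_card_of_char_ne_two h))
    exact CfsgLib.Geometric.Symp.quad_isMaximalIn_six hf hchar hQ.smul hpol (by omega)


end Cfsg.Agent.S5804
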