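import Cfsg.Statements.S5823
import Cfsg.Agent.Lib.SmallDim.SympEight

set_option autoImplicit false
open Cfsg

namespace Cfsg.Agent.S5823

/-- Every maximal subgroup of Sp_8(q) is of one of the listed geometric types or lies in the residual class. Let F be a finite field with q elements, f the standard alternating form on F^8 (coordinates Fin 4 ⊕ Fin 4), and H a maximal subgroup of Sp_8(F) (inside GL_8(F)). Then H is the intersection with Sp_8(F) of one of: the stabiliser of a non-zero totally isotropic subspace; the stabiliser of a non-degenerate 2-space; for q ≥ 3, the stabiliser of a decomposition into four mutually orthogonal non-degenerate 2-spaces; of a decomposition into two orthogonal non-degenerate 4-spaces; for q odd, of a decomposition into two totally isotropic 4-spaces; the normaliser of a degree-2 subfield K, self-adjoint with f(k v, v) = 0; for q odd, the normaliser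 of a degree-2 subfield closed under adjoints but not self-adjoint; for q odd, the stabiliser of a tensor decomposition of f into an alternating form on F^2 and a minus-type symmetric form on F^4; a subfield group (|F| = |F₀|^r, r prime) whose F₀-structure carries a non-zero multiple of f; for q = p an odd prime, the normaliser of an absolutely irreducible extraspecial group 2_-^(1+6) of exponent 4 inside the similarity group of f; for q odd, q ≥ 5, the stabiliser of a tensor decomposition of f as a third tensor power of an alternating form on F^2; for q even, the similarity group of a non-degenerate quadratic form polarising to f — or else H lies in the residual class of the symplectic case. -/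
theorem result {F : Type*} [Field F] [Fintype F] (H : Subgroup (Matrix.GeneralLinearGroup (Fin 4 ⊕ Fin 4) F)) (hH : Cfsg.Geo.IsMaximalIn (Cfsg.spGL 4 F) H) :
    (∃ W : Submodule F (Fin 4 ⊕ Fin 4 → F), W ≠ ⊥ ∧ Cfsg.Geo.IsTotallySingularFor (Cfsg.sympForm 4 F) W ∧ H = Cfsg.Geo.subspaceStabilizer W ⊓ Cfsg.spGL 4 F) ∨
    (∃ W : Submodule F (Fin 4 ⊕ Fin 4 → F), W ≠ ⊥ ∧ Cfsg.Geo.IsNondegenerateOn (Cfsg.sympForm 4 F) W ∧ Module.finrank F W < 4 ∧ H = Cfsg.Geo.subspaceStabilizer W ⊓ Cfsg.spGL 4 F) ∨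
    (3 ≤ Fintype.card F ∧ ∃ D : Fin 4 → Submodule F (Fin 4 ⊕ Fin 4 → F), Cfsg.Geo.IsNondegenerateMDecomposition (Cfsg.sympForm 4 F) 2 D ∧ H = Cfsg.Geo.decompositionStabilizer D ⊓ Cfsg.spGL 4 F) ∨
    (∃ D : Fin 2 → Submodule F (Fin 4 ⊕ Fin 4 → F), Cfsg.Geo.IsNondegenerateMDecomposition (Cfsg.sympForm 4 F) 4 D ∧ H = Cfsg.Geo.decompositionStabilizer D ⊓ Cfsg.spGL 4 F) ∨
    (Odd (Fintype.card F) ∧ ∃ D : Fin 2 → Submodule F (Fin 4 ⊕ Fin 4 → F), Cfsg.Geo.IsMDecomposition 4 D ∧ (∀ i, Cfsg.Geo.IsTotallySingularFor (Cfsg.sympForm 4 F) (D i)) ∧ H = Cfsg.Geo.decompositionStabilizer D ⊓ Cfsg.spGL 4 F) ∨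
    (∃ K : Subalgebra F (Matrix (Fin 4 ⊕ Fin 4) (Fin 4 ⊕ Fin 4) F), Cfsg.Geo.IsFieldSubalgebra 2 K ∧ Cfsg.Geo.IsSelfAdjointFor (Cfsg.sympForm 4 F) K ∧ (∀ k ∈ K, ∀ v : (Fin 4 ⊕ Fin 4 → F), (Cfsg.sympForm 4 F) (Matrix.mulVec k v) v = 0) ∧ H = Cfsg.Geo.subalgebraNormalizer K ⊓ Cfsg.spGL 4 F) ∨
    (Odd (Fintype.card F) ∧ ∃ K : Subalgebra F (Matrix (Fin 4 ⊕ Fin 4) (Fin 4 ⊕ Fin 4) F), Cfsg.Geo.IsFieldSubalgebra 2 K ∧ Cfsg.Geo.IsAdjointClosedFor (Cfsg.sympForm 4 F) K ∧ ¬ Cfsg.Geo.IsSelfAdjointFor (Cfsg.sympForm 4 F) K ∧ H = Cfsg.Geo.subalgebraNormalizer K ⊓ Cfsg.spGL 4 F) ∨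
    (Odd (Fintype.card F) ∧ ∃ (e : (Fin 4 ⊕ Fin 4) ≃ Fin 2 × Fin 4) (P : Matrix.GeneralLinearGroup (Fin 4 ⊕ Fin 4) F) (f₁ : (Fin 2 → F) → (Fin 2 → F) → F) (f₂ : (Fin 4 → F) → (Fin 4 → F) → F), Cfsg.Geo.IsSymplecticForm f₁ ∧ Cfsg.Geo.IsSymmetricForm f₂ ∧ ¬ Cfsg.Geo.IsPlusTypeOn (fun v : Fin 4 → F => f₂ v v) ⊤ ∧ Cfsg.Geo.IsTensorFormStructure id (Cfsg.sympForm 4 F) f₁ f₂ e P ∧ H = Cfsg.Geo.tensorProductSubgroup 2 4 e P ⊓ Cfsg.spGL 4 F) ∨
    (∃ (F₀ : Subfield F) (r : ℕ) (P : Matrix.GeneralLinearGroup (Fin 4 ⊕ Fin 4) F) (ζ : F), r.Prime ∧ Fintype.card F = Nat.card F₀ ^ r ∧ ζ ≠ 0 ∧ Cfsg.Geo.IsFormRationalStructure (Cfsg.sympForm 4 F) F₀ ζ P ∧ H = Cfsg.Geo.subfieldSubgroup F₀ P ⊓ Cfsg.spGL 4 F) ∨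
    (∃ (p : ℕ) (R : Subgroup (Matrix.GeneralLinearGroup (Fin 4 ⊕ Fin 4) F)), p.Prime ∧ Odd p ∧ Fintype.card F = p ∧ Cfsg.Geo.IsSymplecticTypeGroup 2 R ∧ Cfsg.Geo.ActsAbsolutelyIrreducibly (Cfsg.Geo.matrixSet R) ∧ R ≤ Cfsg.Geo.similarityGroup (Cfsg.sympForm 4 F) ∧ Nat.card R = 128 ∧ Nat.card (Subgroup.center R) = 2 ∧ Cfsg.Geo.IsOfMinusType 3 R ∧ H = Cfsg.Geo.subgroupNormalizer R ⊓ Cfsg.spGL 4 F) ∨
    (Odd (Fintype.card F) ∧ 5 ≤ Fintype.card F ∧ ∃ (e : (Fin 4 ⊕ Fin 4) ≃ (Fin 3 → Fin 2)) (P : Matrix.GeneralLinearGroup (Fin 4 ⊕ Fin 4) F) (f₁ : (Fin 2 → F) → (Fin 2 → F) → F), Cfsg.Geo.IsSymplecticForm f₁ ∧ Cfsg.Geo.IsTensorPowerFormStructure id (Cfsg.sympForm 4 F) f₁ e P ∧ H = Cfsg.Geo.tensorWreathSubgroup 2 3 e P ⊓ Cfsg.spGL 4 F) ∨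
    (¬ Odd (Fintype.card F) ∧ ∃ Q : (Fin 4 ⊕ Fin 4 → F) → F, Cfsg.Geo.IsNondegenerateQuadraticForm Q ∧ (∀ u v : (Fin 4 ⊕ Fin 4 → F), QuadraticMap.polar Q u v = (Cfsg.sympForm 4 F) u v) ∧ H = Cfsg.Geo.quadSimilarityGroup Q ⊓ Cfsg.spGL 4 F) ∨
    Cfsg.Geo.InSymplecticResidualClass H := by
  classical
  rcases CfsgLib.SmallDim.symp_maximal_cases (by omega) hH with h | ⟨W, h0, hW, hlt, hev, h⟩ |
      ⟨t, k, D, htk, hk, ht, hD, h3, h⟩ | ⟨D, hodd', hD, hts, h⟩ | ⟨r, K, hr, hrn, hr2, hK, hsa, halt, h⟩ |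
      ⟨K, hodd', hK, hadj, hnsa, h⟩ | ⟨n₁, n₂, e, P, f₁, f₂, hodd', hnn, h₁, he₁, h₂, hf₁, hf₂, hts, h⟩ | h |
      ⟨R, p, k, hp, hpodd, hFp, hdim, hR, habs, hsim, hcard, hz, hminus, h⟩ |
      ⟨k, t, e, P, f₁, hodd', hkt, hk, hk2, ht, ht3, hne, hf₁, hts, h⟩ | ⟨Q, hev, hQ, hpol, h⟩ | h
  · exact Or.inl h
  · exact Or.inr (Or.inl ⟨W, h0, hW, hlt, h⟩)
  · obtain ⟨j, rfl⟩ := hk
    have h5 : t * j = 4 := by linarith
    have hd : t ∣ 2 ^ 2 := ⟨j, by rw [h5]; norm_num⟩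
    obtain ⟨i, hi, rfl⟩ := (Nat.dvd_prime_pow Nat.prime_two).1 hd
    interval_cases i
    · omega
    · obtain rfl : j = 2 := by omega
      exact Or.inr (Or.inr (Or.inr (Or.inl ⟨D, hD, h⟩)))
    · obtain rfl : j = 1 := by omega
      exact Or.inr (Or.inr (Or.inl ⟨h3 rfl, D, hD, h⟩))
  · exact Or.inr (Or.inr (Or.inr (Or.inr (Or.inl ⟨hodd', D, hD, hts, h⟩))))
  · obtain rfl : r = 2 := by
      rcases (Nat.Prime.dvd_mul hr).1 hrn with h' | h'
      · exact (Nat.prime_dvd_prime_iff_eq hr Nat.prime_two).1 h'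
      · exact (Nat.prime_dvd_prime_iff_eq hr Nat.prime_two).1 (hr.dvd_of_dvd_pow (show r ∣ 2 ^ 2 from h'))
    exact Or.inr (Or.inr (Or.inr (Or.inr (Or.inr (Or.inl ⟨K, hK, hsa, halt, h⟩)))))
  · exact Or.inr (Or.inr (Or.inr (Or.inr (Or.inr (Or.inr (Or.inl ⟨hodd', K, hK, hadj, hnsa, h⟩))))))
  · obtain ⟨rfl, rfl⟩ : n₁ = 2 ∧ n₂ = 4 := by
      obtain ⟨j, rfl⟩ := he₁
      have h5 : j * n₂ = 4 := by linarith
      have hj : j ≤ 1 := by
        by_contra hj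
        have := Nat.mul_le_mul (show 2 ≤ j by omega) h₂
        omega
      obtain rfl : j = 1 := by omega
      omega
    by_cases hplus : Cfsg.Geo.IsPlusTypeOn (fun v : Fin 4 → F => f₂ v v) ⊤
    swap
    · exact Or.inr (Or.inr (Or.inr (Or.inr (Or.inr (Or.inr (Or.inr (Or.inl
        ⟨hodd', e, P, f₁, f₂, hf₁, hf₂, hplus, hts, h⟩)))))))
    obtain ⟨e', P', d, δ, hd, hδ, hg1, hG, hshape⟩ := CfsgLib.SmallDim.plus_type_refine hodd' hH.1.le hf₁ hf₂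
      hplus hts (h.le.trans inf_le_left)
    by_cases h5 : 5 ≤ Fintype.card F
    · have hle : H ≤ Cfsg.Geo.tensorWreathSubgroup 2 3 (e'.trans CfsgLib.SmallDim.tripleEquiv) P' := by
        intro g hg
        obtain ⟨a, b, c, w, hw, rfl⟩ := hshape g hg
        exact CfsgLib.SmallDim.triple_mem_wreath e' P' a b c w hw
      exact Or.inr (Or.inr (Or.inr (Or.inr (Or.inr (Or.inr (Or.inr (Or.inr (Or.inr (Or.inr (Or.inl
        ⟨hodd', h5, _, P', f₁, hf₁, CfsgLib.SmallDim.power_structure hd hδ hg1 hG,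
          CfsgLib.SmallDim.IsMaximalIn.eq_inf hH hle
            (CfsgLib.SmallDim.sp_not_le_tensorWreathSubgroup le_rfl (by norm_num) _ P')⟩))))))))))
    · have hq : Fintype.card F = 3 := by
        obtain ⟨j, hj⟩ := hodd'
        have := Fintype.one_lt_card (α := F)
        omega
      obtain ⟨R, hR, hRsp, hle⟩ := CfsgLib.SmallDim.plus_type_three hq hG hshape
      obtain ⟨hst, habs, hsim, hcard, hz, hminus, heq⟩ :=
        CfsgLib.SmallDim.pauli_maximal hq (k := 3) (by norm_num) (by norm_num) hH hR hRsp hle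
      exact Or.inr (Or.inr (Or.inr (Or.inr (Or.inr (Or.inr (Or.inr (Or.inr (Or.inr (Or.inl
        ⟨3, R, Nat.prime_three, by decide, hq, hst, habs, hsim, hcard.trans (by norm_num), hz, hminus,
          heq⟩)))))))))
  · exact Or.inr (Or.inr (Or.inr (Or.inr (Or.inr (Or.inr (Or.inr (Or.inr (Or.inl h))))))))
  · obtain rfl : k = 3 := Nat.pow_right_injective le_rfl (hdim.symm.trans (by norm_num))
    exact Or.inr (Or.inr (Or.inr (Or.inr (Or.inr (Or.inr (Or.inr (Or.inr (Or.inr (Or.inl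
      ⟨p, R, hp, hpodd, hFp, hR, habs, hsim, hcard.trans (by norm_num), hz, hminus, h⟩)))))))))
  · obtain ⟨rfl, rfl⟩ : k = 2 ∧ t = 3 := by
      rcases Nat.lt_or_ge k 3 with hk3 | hk3
      · obtain rfl : k = 2 := by omega
        exact ⟨rfl, Nat.pow_right_injective le_rfl (hkt.trans (by norm_num))⟩
      · have := (Nat.pow_le_pow_left hk3 3).trans (Nat.pow_le_pow_right (show 1 ≤ k by omega) ht3)
        omega
    have h5 : 5 ≤ Fintype.card F := by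
      obtain ⟨j, hj⟩ := hodd'
      have := Fintype.one_lt_card (α := F)
      by_contra h5
      exact hne ⟨by omega, rfl⟩
    exact Or.inr (Or.inr (Or.inr (Or.inr (Or.inr (Or.inr (Or.inr (Or.inr (Or.inr (Or.inr (Or.inl
      ⟨hodd', h5, e, P, f₁, hf₁, hts, h⟩))))))))))
  · exact Or.inr (Or.inr (Or.inr (Or.inr (Or.inr (Or.inr (Or.inr (Or.inr (Or.inr (Or.inr (Or.inr (Or.inl
      ⟨hev, Q, hQ, hpol, h⟩)))))))))))
  · exact Or.inr (Or.inr (Or.inr (Or.inr (Or.inr (Or.inr (Or.inr (Or.inr (Or.inr (Or.inr (Or.inr (Or.inr h)))))))))))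

end Cfsg.Agent.S5823
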