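import Cfsg.Statements.S5825
import Cfsg.Agent.Lib.Geometric.Orth.Eight.Max
import Cfsg.Agent.Lib.Geometric.Orth.Eight.PointStab
import Cfsg.Agent.Lib.Geometric.Orth.Eight.SubfieldMax
import Cfsg.Agent.Lib.Geometric.ExtField.OrthExt
import Cfsg.Agent.Lib.Geometric.Orth.SingularStab
import Cfsg.Agent.Lib.SmallDim.OrthEvenTwelveType

set_option autoImplicit false
open Cfsg

namespace Cfsg.Agent.S5825

open CfsgLib.Geometric CfsgLib.Geometric.Orth CfsgLib.ClassicalForms QuadraticMap

variable {F : Type*} [Field F] [Fintype F] {T : QuadraticForm F (Fin 8 → F)}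

/-- A plane that is not of plus type has no non-zero singular vector. -/
lemma aniso_of_plane {U : Submodule F (Fin 8 → F)} (hU2 : Module.finrank F U = 2)
    (hU : ¬ Cfsg.Geo.IsPlusTypeOn (⇑T) U) : ∀ x ∈ U, T x = 0 → x = 0 := by
  intro x hx hQx
  by_contra hx0
  refine hU ⟨Submodule.span F {x}, (Submodule.span_singleton_le_iff_mem _ _).2 hx,
    fun y hy => ?_, by rw [finrank_span_singleton hx0, hU2]⟩
  obtain ⟨c, rfl⟩ := Submodule.mem_span_singleton.1 hy
  rw [QuadraticMap.map_smul, hQx, smul_zero]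

/-- Stabilisers of non-degenerate subspaces of dimension other than four. -/
lemma stab_max (hT : Nondeg T) {W : Submodule F (Fin 8 → F)}
    (hW : Cfsg.Geo.IsNondegenerateOn (polar ⇑T) W) (hW0 : W ≠ ⊥) (hW1 : W ≠ ⊤)
    (h4 : Module.finrank F W ≠ 4)
    (hex : ∀ U : Submodule F (Fin 8 → F), (U = W ∨ U = perpW T W) → Nat.card F ≤ 3 →
      Module.finrank F U = 2 → ¬ Cfsg.Geo.IsPlusTypeOn (⇑T) U) :
    Cfsg.Geo.IsMaximalIn (Cfsg.Geo.omegaGL (⇑T))
      (Cfsg.Geo.subspaceStabilizer W ⊓ Cfsg.Geo.omegaGL (⇑T)) := by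
  have hdim := finrank_add_perpW hW
  rw [Fintype.card_fin] at hdim
  rcases Nat.lt_or_gt_of_ne h4 with h | h
  · exact Eight.nondeg_stab_isMaximalIn_big hT hW (by rw [Fintype.card_fin]; omega) hW0
      (by rw [Fintype.card_fin]; omega)
      fun h3 h2 => aniso_of_plane h2 (hex W (Or.inl rfl) h3 h2)
  · rw [← stab_perpW_inf hW hT]
    refine Eight.nondeg_stab_isMaximalIn_big hT (isNondegenerateOn_perpW hW hT)
      (by rw [Fintype.card_fin]; omega) ?_ (by rw [Fintype.card_fin]; omega)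
      fun h3 h2 => aniso_of_plane h2 (hex _ (Or.inr rfl) h3 h2)
    intro h0
    refine hW1 (Submodule.eq_top_of_finrank_eq ?_)
    rw [h0, finrank_bot] at hdim
    rw [Module.finrank_fintype_fun_eq_card, Fintype.card_fin]
    omega

/-- Stabilisers of four-dimensional non-degenerate subspaces in minus type. -/
lemma stab_four (hT : Nondeg T) (hminus : ¬ Cfsg.Geo.IsPlusTypeOn (⇑T) ⊤)
    {W : Submodule F (Fin 8 → F)} (hW : Cfsg.Geo.IsNondegenerateOn (polar ⇑T) W)
    (h4 : Module.finrank F W = 4) :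
    Cfsg.Geo.IsMaximalIn (Cfsg.Geo.omegaGL (⇑T))
      (Cfsg.Geo.subspaceStabilizer W ⊓ Cfsg.Geo.omegaGL (⇑T)) := by
  have hdim := finrank_add_perpW hW
  rw [Fintype.card_fin] at hdim
  have hno : ∀ U : Submodule F (Fin 8 → F), (∀ x ∈ U, T x = 0) → Module.finrank F U ≠ 4 :=
    fun U hU hd => hminus ⟨U, le_top, hU, by
      rw [finrank_top, Module.finrank_fintype_fun_eq_card, Fintype.card_fin, hd]⟩
  have hP := isNondegenerateOn_perpW hW hT
  by_cases hp : Cfsg.Geo.IsPlusTypeOn (⇑T) (perpW T W)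
  · exact Eight.nondeg_stab_isMaximalIn_four hT hW (Fintype.card_fin 8) h4 hno hp
  by_cases hw : Cfsg.Geo.IsPlusTypeOn (⇑T) W
  · rw [← stab_perpW_inf hW hT]
    refine Eight.nondeg_stab_isMaximalIn_four hT hP (Fintype.card_fin 8) (by omega) hno ?_
    rwa [perpW_perpW hW hT]
  exfalso
  have hiso := CfsgLib.SmallDim.OrthEven.areIsometric_of_type (m := 2) hW hP (by omega) h4
    (by omega) (iff_of_false hw hp)
  obtain ⟨U, -, hU, hUd⟩ := CfsgLib.SmallDim.OrthEven.exists_singular_of_isometric hW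
    (by rw [h4]; decide) (fun x hx y hy => mem_perpW.mp hy x hx) (isCompl_perpW hW).disjoint hiso
  exact hno U hU (hUd.trans h4)


/-- Maximal subgroups of Ω_8^-(q) of geometric type (any q). Let F be a finite field with q elements, Q a non-degenerate quadratic form on F^8 (non-degenerate polar form) of minus type (Witt index 3: no totally singular 4-space), and Ω = Ω_8^-(q) the commutator subgroup of the isometry group of Q, inside GL_8(F). Each of the following, intersected with Ω, is a maximal subgroup of Ω: (1) the stabiliser of any non-zero subspace on which Q vanishes identically (totally singular 1-, 2- and 3-spaces); (2) for q odd, the stabiliser of any proper subspace of odd dimension (1, 3, 5 or 7) on which the polar form of Q is non-degenerate; (3) the stabiliser of any non-degenerate 2-space of minus type (containing no non-zero singular vector); (4) for q ≥ 4, the stabiliser of any non-degenerate 2-space of plus type (containing a non-zero singular vector);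 (5) the stabiliser of any non-degenerate 4-space (its orthogonal complement is then a non-degenerate 4-space of the opposite type); (6) for q even, the stabiliser of the 1-space spanned by any non-singular vector v (Q(v) ≠ 0); (7) for q odd, the normaliser of any degree-2 subfield K of the matrix algebra whose elements are self-adjoint for the polar form of Q (Q is then the trace of a quadratic form over K); (8) every subfield group for a subfield F₀ of odd prime index r in F whose F₀-structure carries a non-zero scalar multiple of Q. -/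
theorem result {F : Type*} [Field F] [Fintype F] (Q : (Fin 8 → F) → F) (hQ : Cfsg.Geo.IsNondegenerateQuadraticForm Q) (hminus : ¬ Cfsg.Geo.IsPlusTypeOn Q ⊤) :
    (∀ W : Submodule F (Fin 8 → F), W ≠ ⊥ → Cfsg.Geo.IsTotallySingularQuad Q W → Cfsg.Geo.IsMaximalIn (Cfsg.Geo.omegaGL Q) (Cfsg.Geo.subspaceStabilizer W ⊓ Cfsg.Geo.omegaGL Q)) ∧
    (Odd (Fintype.card F) → ∀ W : Submodule F (Fin 8 → F), W ≠ ⊥ → W ≠ ⊤ → Odd (Module.finrank F W) → Cfsg.Geo.IsNondegenerateOn (QuadraticMap.polar Q) W → Cfsg.Geo.IsMaximalIn (Cfsg.Geo.omegaGL Q) (Cfsg.Geo.subspaceStabilizer W ⊓ Cfsg.Geo.omegaGL Q)) ∧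
    (∀ W : Submodule F (Fin 8 → F), Module.finrank F W = 2 → Cfsg.Geo.IsNondegenerateOn (QuadraticMap.polar Q) W → ¬ Cfsg.Geo.IsPlusTypeOn Q W → Cfsg.Geo.IsMaximalIn (Cfsg.Geo.omegaGL Q) (Cfsg.Geo.subspaceStabilizer W ⊓ Cfsg.Geo.omegaGL Q)) ∧
    (4 ≤ Fintype.card F → ∀ W : Submodule F (Fin 8 → F), Module.finrank F W = 2 → Cfsg.Geo.IsNondegenerateOn (QuadraticMap.polar Q) W → Cfsg.Geo.IsPlusTypeOn Q W → Cfsg.Geo.IsMaximalIn (Cfsg.Geo.omegaGL Q) (Cfsg.Geo.subspaceStabilizer W ⊓ Cfsg.Geo.omegaGL Q)) ∧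
    (∀ W : Submodule F (Fin 8 → F), Module.finrank F W = 4 → Cfsg.Geo.IsNondegenerateOn (QuadraticMap.polar Q) W → Cfsg.Geo.IsMaximalIn (Cfsg.Geo.omegaGL Q) (Cfsg.Geo.subspaceStabilizer W ⊓ Cfsg.Geo.omegaGL Q)) ∧
    (¬ Odd (Fintype.card F) → ∀ v : (Fin 8 → F), Q v ≠ 0 → Cfsg.Geo.IsMaximalIn (Cfsg.Geo.omegaGL Q) (Cfsg.Geo.subspaceStabilizer (Submodule.span F {v}) ⊓ Cfsg.Geo.omegaGL Q)) ∧
    (Odd (Fintype.card F) → ∀ K : Subalgebra F (Matrix (Fin 8) (Fin 8) F), Cfsg.Geo.IsFieldSubalgebra 2 K → Cfsg.Geo.IsSelfAdjointFor (QuadraticMap.polar Q) K → Cfsg.Geo.IsMaximalIn (Cfsg.Geo.omegaGL Q) (Cfsg.Geo.subalgebraNormalizer K ⊓ Cfsg.Geo.omegaGL Q)) ∧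
    (∀ (F₀ : Subfield F) (r : ℕ) (P : Matrix.GeneralLinearGroup (Fin 8) F) (ζ : F), r.Prime → Odd r → Fintype.card F = Nat.card F₀ ^ r → ζ ≠ 0 → Cfsg.Geo.IsQuadFormRationalStructure (fun v : Fin 8 → F => ζ * Q v) F₀ P → Cfsg.Geo.IsMaximalIn (Cfsg.Geo.omegaGL Q) (Cfsg.Geo.subfieldSubgroup F₀ P ⊓ Cfsg.Geo.omegaGL Q)) := by
  classical
  have hT := nondeg_toQF hQ
  have hn : Fintype.card (Fin 8) = 8 := Fintype.card_fin 8
  have hF : Nat.card F = Fintype.card F := Nat.card_eq_fintype_card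
  refine ⟨fun W hW0 hW => ?_, fun _ W hW0 hW1 hWo hW => ?_, fun W hW2 hW hWm => ?_,
    fun hq W hW2 hW _ => ?_, fun W hW4 hW => stab_four (T := toQF hQ) hT hminus hW hW4,
    fun hev v hv => ?_, fun hodd K hK hsa => ?_, fun F₀ r P ζ hr _ hcard hζ hP => ?_⟩
  · refine singular_stab_isMaximalIn (Q := toQF hQ) hT (by omega) hW0 hW fun _ U hU hd =>
      hminus ⟨U, le_top, hU, ?_⟩
    rw [finrank_top, Module.finrank_fintype_fun_eq_card]
    omega
  · obtain ⟨j, hj⟩ := hWo
    have hdim := finrank_add_perpW (Q := toQF hQ) hW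
    refine stab_max (T := toQF hQ) hT hW hW0 hW1 (by omega) ?_
    rintro U (rfl | rfl) _ h2 <;> omega
  · have hdim := finrank_add_perpW (Q := toQF hQ) hW
    refine stab_max (T := toQF hQ) hT hW (fun h => ?_) (fun h => ?_) (by omega) ?_
    · rw [h, finrank_bot] at hW2; omega
    · rw [h, finrank_top, Module.finrank_fintype_fun_eq_card] at hW2; omega
    · rintro U (rfl | rfl) _ h2
      · exact hWm
      · omega
  · refine stab_max (T := toQF hQ) hT hW (fun h => ?_) (fun h => ?_) (by omega) ?_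
    · rw [h, finrank_bot] at hW2; omega
    · rw [h, finrank_top, Module.finrank_fintype_fun_eq_card] at hW2; omega
    · intro U _ h3
      omega
  · have h2 : (2 : F) = 0 := by
      by_contra h2
      refine hev (Nat.odd_iff.2 (FiniteField.odd_card_of_char_ne_two fun hc => h2 ?_))
      have : ((ringChar F : ℕ) : F) = 0 := ringChar.Nat.cast_ringChar
      rw [hc] at this
      exact_mod_cast this
    exact Eight.point_stab_isMaximalIn (Q := toQF hQ) hT h2 (by omega) hv
  · exact ExtF.orth_ext_maximal_low hQ hodd Nat.prime_two (by omega) K hK hsa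
      fun m hm => Or.inl (by omega)
  · exact orthSubfield_isMaximalIn_eight' (by omega) hQ hζ hP hr
      (by rw [hF]; exact hcard)

end Cfsg.Agent.S5825
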