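import Cfsg.Statements.S5834
import Cfsg.Agent.Lib.Geometric.Orth.Frame.Odd
import Cfsg.Agent.Lib.Geometric.Orth.Frames
import Cfsg.Agent.Lib.Geometric.Orth.DecompStabMax
import Cfsg.Agent.Lib.Geometric.Orth.SingularStab
import Cfsg.Agent.Lib.Geometric.Orth.Eight.SubfieldMax
import Cfsg.Agent.Lib.Geometric.Orth.Eight.Max
import Cfsg.Agent.Lib.Geometric.Orth.Eight.PointStab
import Cfsg.Agent.Lib.Geometric.ExtField.OrthExt
import Cfsg.Agent.Lib.ClassicalForms.Ortho.Standard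
import Cfsg.Agent.Lib.Geometric.Orth.TensorSquare.Thm

-- import your own Cfsg.Agent.* helpers here

set_option autoImplicit false
open Cfsg

namespace Cfsg.Agent.S5834

/-- Maximal subgroups of Ω_9(q) of geometric type, q odd. Let F be a finite field of odd order q, Q the standard quadratic form x₀² + Σ x_i y_i on F^9 (coordinates Unit ⊕ (Fin 4 ⊕ Fin 4)), and Ω = Ω_9(q) the commutator subgroup of its isometry group, inside GL_9(F). Each of the following, intersected with Ω, is a maximal subgroup of Ω: (1) the stabiliser of any non-zero subspace on which Q vanishes identically (totally singular 1- to 4-spaces); (2) the stabiliser of any non-zero even-dimensional subspace W (dimension 2, 4, 6 or 8) on which the polar form of Q is non-degenerate (equivalently of its odd-dimensional orthogonal complement), except when q = 3 and W is a 2-space containing a non-zero singular vector (a plus-type plane); (3) for q = p prime, the stabiliser of any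 decomposition of F^9 into nine pairwise orthogonal, pairwise Q-isometric non-degenerate 1-spaces; (4) for q ≥ 5, the stabiliser of any decomposition of F^9 into three pairwise orthogonal, pairwise Q-isometric non-degenerate 3-spaces; (5) the normaliser of any degree-3 subfield K of the matrix algebra whose elements are self-adjoint for the polar form of Q (Q is then the trace of a quadratic form over K); (6) every subfield group for a subfield F₀ with |F| = |F₀|^r, r prime, whose F₀-structure carries Q; (7) for q ≥ 5, the stabiliser of any decomposition of the polar form of Q as the tensor square of a non-degenerate symmetric bilinear form on F^3 up to a scalar (tensor-wreath subgroup). -/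
theorem result {F : Type*} [Field F] [Fintype F] (hodd : Odd (Fintype.card F)) :
    (∀ W : Submodule F (Unit ⊕ (Fin 4 ⊕ Fin 4) → F), W ≠ ⊥ → Cfsg.Geo.IsTotallySingularQuad (Cfsg.quadFormOdd 4 F) W → Cfsg.Geo.IsMaximalIn (Cfsg.Geo.omegaGL (Cfsg.quadFormOdd 4 F)) (Cfsg.Geo.subspaceStabilizer W ⊓ Cfsg.Geo.omegaGL (Cfsg.quadFormOdd 4 F))) ∧
    (∀ W : Submodule F (Unit ⊕ (Fin 4 ⊕ Fin 4) → F), W ≠ ⊥ → Even (Module.finrank F W) → Cfsg.Geo.IsNondegenerateOn (QuadraticMap.polar (Cfsg.quadFormOdd 4 F)) W → ¬ (Fintype.card F = 3 ∧ Module.finrank F W = 2 ∧ Cfsg.Geo.IsPlusTypeOn (Cfsg.quadFormOdd 4 F) W) → Cfsg.Geo.IsMaximalIn (Cfsg.Geo.omegaGL (Cfsg.quadFormOdd 4 F)) (Cfsg.Geo.subspaceStabilizer W ⊓ Cfsg.Geo.omegaGL (Cfsg.quadFormOdd 4 F))) ∧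
    ((Fintype.card F).Prime → ∀ D : Fin 9 → Submodule F (Unit ⊕ (Fin 4 ⊕ Fin 4) → F), Cfsg.Geo.IsOrthogonalMDecomposition (Cfsg.quadFormOdd 4 F) 1 D → Cfsg.Geo.IsMaximalIn (Cfsg.Geo.omegaGL (Cfsg.quadFormOdd 4 F)) (Cfsg.Geo.decompositionStabilizer D ⊓ Cfsg.Geo.omegaGL (Cfsg.quadFormOdd 4 F))) ∧
    (5 ≤ Fintype.card F → ∀ D : Fin 3 → Submodule F (Unit ⊕ (Fin 4 ⊕ Fin 4) → F), Cfsg.Geo.IsOrthogonalMDecomposition (Cfsg.quadFormOdd 4 F) 3 D → Cfsg.Geo.IsMaximalIn (Cfsg.Geo.omegaGL (Cfsg.quadFormOdd 4 F)) (Cfsg.Geo.decompositionStabilizer D ⊓ Cfsg.Geo.omegaGL (Cfsg.quadFormOdd 4 F))) ∧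
    (∀ K : Subalgebra F (Matrix (Unit ⊕ (Fin 4 ⊕ Fin 4)) (Unit ⊕ (Fin 4 ⊕ Fin 4)) F), Cfsg.Geo.IsFieldSubalgebra 3 K → Cfsg.Geo.IsSelfAdjointFor (QuadraticMap.polar (Cfsg.quadFormOdd 4 F)) K → Cfsg.Geo.IsMaximalIn (Cfsg.Geo.omegaGL (Cfsg.quadFormOdd 4 F)) (Cfsg.Geo.subalgebraNormalizer K ⊓ Cfsg.Geo.omegaGL (Cfsg.quadFormOdd 4 F))) ∧
    (∀ (F₀ : Subfield F) (r : ℕ) (P : Matrix.GeneralLinearGroup (Unit ⊕ (Fin 4 ⊕ Fin 4)) F), r.Prime → Fintype.card F = Nat.card F₀ ^ r → Cfsg.Geo.IsQuadFormRationalStructure (Cfsg.quadFormOdd 4 F) F₀ P → Cfsg.Geo.IsMaximalIn (Cfsg.Geo.omegaGL (Cfsg.quadFormOdd 4 F)) (Cfsg.Geo.subfieldSubgroup F₀ P ⊓ Cfsg.Geo.omegaGL (Cfsg.quadFormOdd 4 F))) ∧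
    (5 ≤ Fintype.card F → ∀ (e : (Unit ⊕ (Fin 4 ⊕ Fin 4)) ≃ (Fin 2 → Fin 3)) (P : Matrix.GeneralLinearGroup (Unit ⊕ (Fin 4 ⊕ Fin 4)) F) (f₁ : (Fin 3 → F) → (Fin 3 → F) → F), Cfsg.Geo.IsSymmetricForm f₁ → Cfsg.Geo.IsTensorPowerFormStructure id (QuadraticMap.polar (Cfsg.quadFormOdd 4 F)) f₁ e P → Cfsg.Geo.IsMaximalIn (Cfsg.Geo.omegaGL (Cfsg.quadFormOdd 4 F)) (Cfsg.Geo.tensorWreathSubgroup 3 2 e P ⊓ Cfsg.Geo.omegaGL (Cfsg.quadFormOdd 4 F))) := by
  have hQ := CfsgLib.Geometric.Orth.isNondegenerateQuadraticForm_quadFormOdd hodd 4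
  have hQ' := CfsgLib.Geometric.Orth.nondeg_toQF hQ
  have h2 := CfsgLib.Geometric.Orth.two_ne_zero_of_odd hodd
  have hcard : Fintype.card (Unit ⊕ (Fin 4 ⊕ Fin 4)) = 9 := by simp
  refine ⟨fun W hW0 hW => ?_, fun W hW0 hev hW hex => ?_, fun hprime D hD => ?_, fun hq D hD => ?_,
    fun K hK hsa => ?_, fun F₀ r P hr hF hP => ?_, fun hq e P f₁ hf₁ hT => ?_⟩
  · exact CfsgLib.Geometric.Orth.singular_stab_isMaximalIn (Q := CfsgLib.Geometric.Orth.toQF hQ)
      hQ' (by omega) hW0 hW (fun h => absurd h (by omega))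
  · set Q := CfsgLib.Geometric.Orth.toQF hQ with hQdef
    have hW' : Cfsg.Geo.IsNondegenerateOn (QuadraticMap.polar ⇑Q) W := hW
    have hd := CfsgLib.Geometric.Orth.finrank_add_perpW hW'
    rw [hcard] at hd
    obtain ⟨c, hc⟩ := hev
    have hpos : 0 < Module.finrank F W :=
      Nat.pos_of_ne_zero fun h => hW0 (Submodule.finrank_eq_zero.mp h)
    by_cases hsmall : Module.finrank F W ≤ 4
    · refine CfsgLib.Geometric.Orth.Eight.nondeg_stab_isMaximalIn_big hQ' hW' (by omega) hW0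
        (by omega) fun h3 h x hx hQx => by_contra fun hx0 => hex ⟨?_, h, ?_⟩
      · rw [Nat.card_eq_fintype_card] at h3
        obtain ⟨d, hd'⟩ := hodd
        have := Fintype.one_lt_card (α := F)
        omega
      · refine ⟨Submodule.span F {x}, (Submodule.span_singleton_le_iff_mem _ _).2 hx,
          fun y hy => ?_, by rw [finrank_span_singleton hx0, h]⟩
        obtain ⟨a, rfl⟩ := Submodule.mem_span_singleton.1 hy
        show Q (a • x) = 0
        rw [QuadraticMap.map_smul, hQx, smul_zero]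
    · show Cfsg.Geo.IsMaximalIn (Cfsg.Geo.omegaGL ⇑Q)
        (Cfsg.Geo.subspaceStabilizer W ⊓ Cfsg.Geo.omegaGL ⇑Q)
      rw [← CfsgLib.Geometric.Orth.stab_perpW_inf hW' hQ']
      refine CfsgLib.Geometric.Orth.Eight.nondeg_stab_isMaximalIn_big hQ'
        (CfsgLib.Geometric.Orth.isNondegenerateOn_perpW hW' hQ') (by omega) ?_ (by omega)
        fun _ h' => absurd h' (by omega)
      intro h0
      have hle : Module.finrank F W ≤ 8 := by
        have := Submodule.finrank_le W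
        rw [Module.finrank_fintype_fun_eq_card, hcard] at this
        omega
      rw [h0, finrank_bot] at hd
      omega
  · exact CfsgLib.Geometric.Orth.Frame.frame_isMaximalIn (Q := CfsgLib.Geometric.Orth.toQF hQ)
      h2 (by omega) (by norm_num) ⟨4, rfl⟩
      (CfsgLib.Geometric.Orth.Frame.exists_natCast_of_prime hprime) hD
  · exact CfsgLib.Geometric.Orth.orthDecomp_isMaximalIn (Q := CfsgLib.Geometric.Orth.toQF hQ) hQ' h2
      (by omega) hD (le_refl 3) (fun h => absurd h (by rw [Nat.card_eq_fintype_card]; omega))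
  · refine CfsgLib.Geometric.ExtF.orth_ext_maximal_three hQ hodd Nat.prime_three (by omega) K hK hsa
      fun m hm => Or.inr ⟨by omega, le_refl 3, le_of_eq ?_⟩
    rw [show Fintype.card (Unit ⊕ (Fin 4 ⊕ Fin 4)) - 1 = 2 * 4 by omega,
      ← CfsgLib.ClassicalForms.card_zeros_qOdd]
    exact Nat.card_congr (Equiv.subtypeEquivRight fun v => by rw [CfsgLib.ClassicalForms.qOdd_apply])
  · refine CfsgLib.Geometric.Orth.orthSubfield_isMaximalIn_eight' (ζ := 1) (by omega) hQ one_ne_zero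
      ?_ hr (by rwa [Nat.card_eq_fintype_card])
    intro u hu
    simp only [one_mul]
    exact hP u hu
  · exact CfsgLib.Geometric.Orth.TensorSquare.tensorSquare_isMaximalIn hodd hq e P f₁ hf₁ hT

end Cfsg.Agent.S5834
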