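import Cfsg.Statements.S5847
import Cfsg.Agent.Lib.SmallDim.OrthEvenTen

set_option autoImplicit false
open Cfsg

namespace Cfsg.Agent.S5847

/-- Every maximal subgroup of Ω_10^+(q) is of one of the listed geometric types or lies in the residual class. Let F be a finite field with q elements (characteristic p), Q a non-degenerate quadratic form on F^10 of plus type (Witt index 5: some totally singular 5-space), Ω the commutator subgroup of its isometry group, and H a maximal subgroup of Ω (inside GL_10(F)). Then H is the intersection with Ω of one of: the stabiliser of a non-zero totally singular subspace of dimension ≠ 4; for q odd, the stabiliser of a non-degenerate subspace of odd dimension ≠ 5; the stabiliser of a non-degenerate 2-space of minus type; for q ≥ 4, the stabiliser of a non-degenerate 2-space of plus type; the stabiliser of a non-degenerate 4-space; for q even, the stabiliser of the span of a non-singular vector; for q = p prime with p ≡ 1 mod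 4, the stabiliser of a decomposition into 10 pairwise orthogonal, pairwise isometric non-degenerate 1-spaces; for q ≥ 7, the stabiliser of a decomposition into 5 pairwise orthogonal, pairwise isometric non-degenerate 2-spaces; for q ≡ 1 mod 4, the stabiliser of a decomposition into 2 pairwise orthogonal, pairwise isometric non-degenerate 5-spaces; for q ≡ 3 mod 4, the stabiliser of a decomposition into two orthogonal, non-isometric non-degenerate 5-spaces; for q odd, the normaliser of a degree-2 subfield of the matrix algebra, self-adjoint for the polar form; a subfield group (|F| = |F₀|^r, r prime) whose F₀-structure carries a non-zero multiple of Q — or else H lies in the residual class of the orthogonal case (modulo scalars H is almost simple, with absolutely irreducible perfect socle preimage realisable over no proper subfield and fixing no non-degenerate unitary form). -/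
theorem result {F : Type*} [Field F] [Fintype F] (Q : (Fin 10 → F) → F) (hQ : Cfsg.Geo.IsNondegenerateQuadraticForm Q) (hplus : Cfsg.Geo.IsPlusTypeOn Q ⊤) (H : Subgroup (Matrix.GeneralLinearGroup (Fin 10) F)) (hH : Cfsg.Geo.IsMaximalIn (Cfsg.Geo.omegaGL Q) H) :
    (∃ W : Submodule F (Fin 10 → F), W ≠ ⊥ ∧ Cfsg.Geo.IsTotallySingularQuad Q W ∧ Module.finrank F W ≠ 4 ∧ H = Cfsg.Geo.subspaceStabilizer W ⊓ Cfsg.Geo.omegaGL Q) ∨
    (Odd (Fintype.card F) ∧ ∃ W : Submodule F (Fin 10 → F), W ≠ ⊥ ∧ W ≠ ⊤ ∧ Odd (Module.finrank F W) ∧ 2 * Module.finrank F W ≠ 10 ∧ Cfsg.Geo.IsNondegenerateOn (QuadraticMap.polar Q) W ∧ H = Cfsg.Geo.subspaceStabilizer W ⊓ Cfsg.Geo.omegaGL Q) ∨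
    (∃ W : Submodule F (Fin 10 → F), Module.finrank F W = 2 ∧ Cfsg.Geo.IsNondegenerateOn (QuadraticMap.polar Q) W ∧ ¬ Cfsg.Geo.IsPlusTypeOn Q W ∧ H = Cfsg.Geo.subspaceStabilizer W ⊓ Cfsg.Geo.omegaGL Q) ∨
    (4 ≤ Fintype.card F ∧ ∃ W : Submodule F (Fin 10 → F), Module.finrank F W = 2 ∧ Cfsg.Geo.IsNondegenerateOn (QuadraticMap.polar Q) W ∧ Cfsg.Geo.IsPlusTypeOn Q W ∧ H = Cfsg.Geo.subspaceStabilizer W ⊓ Cfsg.Geo.omegaGL Q) ∨
    (∃ W : Submodule F (Fin 10 → F), Module.finrank F W = 4 ∧ Cfsg.Geo.IsNondegenerateOn (QuadraticMap.polar Q) W ∧ H = Cfsg.Geo.subspaceStabilizer W ⊓ Cfsg.Geo.omegaGL Q) ∨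
    (¬ Odd (Fintype.card F) ∧ ∃ v : (Fin 10 → F), Q v ≠ 0 ∧ H = Cfsg.Geo.subspaceStabilizer (Submodule.span F {v}) ⊓ Cfsg.Geo.omegaGL Q) ∨
    ((∃ p : ℕ, p.Prime ∧ Fintype.card F = p ∧ (p % 4 = 1)) ∧ ∃ D : Fin 10 → Submodule F (Fin 10 → F), Cfsg.Geo.IsOrthogonalMDecomposition Q 1 D ∧ H = Cfsg.Geo.decompositionStabilizer D ⊓ Cfsg.Geo.omegaGL Q) ∨
    (7 ≤ Fintype.card F ∧ ∃ D : Fin 5 → Submodule F (Fin 10 → F), Cfsg.Geo.IsOrthogonalMDecomposition Q 2 D ∧ H = Cfsg.Geo.decompositionStabilizer D ⊓ Cfsg.Geo.omegaGL Q) ∨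
    (Fintype.card F % 4 = 1 ∧ ∃ D : Fin 2 → Submodule F (Fin 10 → F), Cfsg.Geo.IsOrthogonalMDecomposition Q 5 D ∧ H = Cfsg.Geo.decompositionStabilizer D ⊓ Cfsg.Geo.omegaGL Q) ∨
    (Fintype.card F % 4 = 3 ∧ ∃ D : Fin 2 → Submodule F (Fin 10 → F), Cfsg.Geo.IsNondegenerateMDecomposition (QuadraticMap.polar Q) 5 D ∧ ¬ Cfsg.Geo.AreIsometricFor Q (D 0) (D 1) ∧ H = Cfsg.Geo.decompositionStabilizer D ⊓ Cfsg.Geo.omegaGL Q) ∨
    (Odd (Fintype.card F) ∧ ∃ K : Subalgebra F (Matrix (Fin 10) (Fin 10) F), Cfsg.Geo.IsFieldSubalgebra 2 K ∧ Cfsg.Geo.IsSelfAdjointFor (QuadraticMap.polar Q) K ∧ H = Cfsg.Geo.subalgebraNormalizer K ⊓ Cfsg.Geo.omegaGL Q) ∨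
    (∃ (F₀ : Subfield F) (r : ℕ) (P : Matrix.GeneralLinearGroup (Fin 10) F) (ζ : F), r.Prime ∧ Fintype.card F = Nat.card F₀ ^ r ∧ ζ ≠ 0 ∧ Cfsg.Geo.IsQuadFormRationalStructure (fun v : Fin 10 → F => ζ * Q v) F₀ P ∧ H = Cfsg.Geo.subfieldSubgroup F₀ P ⊓ Cfsg.Geo.omegaGL Q) ∨
    Cfsg.Geo.InOrthogonalResidualClass H := by
  classical
  open CfsgLib.SmallDim CfsgLib.SmallDim.OrthEven CfsgLib.Geometric.Orth Cfsg.Geo in
  (
    set T := toQF hQ with hT
    have hQ' := nondeg_toQF hQ
    have hn : 5 ≤ Fintype.card (Fin 10) := by simp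
    have hG : H ≤ omegaGL (⇑T) := hH.1.le
    have hiso := isometric_of_le_omega hG
    by_cases hirr : ActsIrreducibly (matrixSet H)
    swap
    · obtain ⟨W, h0, h1, hle, hW, hdim⟩ :=
        reducible_witness hQ' (by simp) hiso hirr
      have heq : H = subspaceStabilizer W ⊓ omegaGL Q :=
        IsMaximalIn.eq_inf hH hle (omega_not_le_subspaceStabilizer hQ' hn h0 h1)
      rcases hW with hts | ⟨hq, ho, hnd⟩ | ⟨hd, hnd, hp⟩ | ⟨hq, hd, hnd, hp⟩ | ⟨hd, hnd⟩ | ⟨hq, v, hv, rfl⟩
      · by_cases h4 : Module.finrank F W = 4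
        · obtain ⟨U, hU, hUd, hUle⟩ := exists_stable_maximal hQ' hn (m := 5) (by simp) hplus hG hts (by omega) hle
          have hU0 : U ≠ ⊥ := fun e => by rw [e, finrank_bot] at hUd; omega
          have hU1 : U ≠ ⊤ := fun e => by rw [e, finrank_top, Module.finrank_fintype_fun_eq_card] at hUd; simp at hUd
          exact Or.inl ⟨U, hU0, hU, by omega, IsMaximalIn.eq_inf hH hUle
            (omega_not_le_subspaceStabilizer hQ' hn hU0 hU1)⟩
        · exact Or.inl ⟨W, h0, hts, h4, heq⟩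
      · by_cases hk : 2 * Module.finrank F W = 10
        · obtain ⟨D, hD, hDle⟩ := exists_pair_decomposition hQ' hiso (k := 5) (by simp) h0 hnd (by omega) hle
          have heqD : H = decompositionStabilizer D ⊓ omegaGL Q :=
            IsMaximalIn.eq_inf hH hDle (omega_not_le_decompositionStabilizer hQ' hn hD.decomp
              (count_ten (by simp) (t := 2) (m := 5) rfl (by norm_num)))
          rcases (ten_pair hQ' (by simp) hD).1 hplus with ⟨h4, hO⟩ | ⟨h4, hO⟩
          · iterate 8 right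
            exact Or.inl ⟨h4, D, hO, heqD⟩
          · iterate 9 right
            exact Or.inl ⟨h4, D, hD, hO, heqD⟩
        · exact Or.inr (Or.inl ⟨hq, W, h0, h1, ho, hk, hnd, heq⟩)
      · exact Or.inr (Or.inr (Or.inl ⟨W, hd, hnd, hp, heq⟩))
      · exact Or.inr (Or.inr (Or.inr (Or.inl ⟨hq, W, hd, hnd, hp, heq⟩)))
      · exact Or.inr (Or.inr (Or.inr (Or.inr (Or.inl ⟨W, hd, hnd, heq⟩))))
      · exact Or.inr (Or.inr (Or.inr (Or.inr (Or.inr (Or.inl ⟨hq, v, hv, heq⟩)))))
    iterate 6 right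
    have hsubfield : SubfieldCase T H → ∃ (F₀ : Subfield F) (r : ℕ) (P : Matrix.GeneralLinearGroup (Fin 10) F) (ζ : F),
        r.Prime ∧ Fintype.card F = Nat.card F₀ ^ r ∧ ζ ≠ 0 ∧
        IsQuadFormRationalStructure (fun v : Fin 10 → F => ζ * Q v) F₀ P ∧
        H = subfieldSubgroup F₀ P ⊓ omegaGL Q := fun ⟨K, r, P, ζ, hr, hcard, hK, hζ, hrat, hle⟩ =>
      ⟨K, r, P, ζ, hr, hcard, hζ, hrat,
        IsMaximalIn.eq_inf hH hle (omega_not_le_subfieldSubgroup hQ' hn hK P)⟩
    rcases ten_cases hQ' (Fintype.card_fin 10) hG hirr with h | ⟨K, hK, hadj, hle⟩ | h | h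
    · rcases ten_plus_decomp hQ' (Fintype.card_fin 10) hplus hiso hirr h with
        ⟨hp, D, hD, hle⟩ | ⟨hq, D, hD, hle⟩ | ⟨hq, D, hD, hle⟩ | h
      · exact Or.inl ⟨hp, D, hD, IsMaximalIn.eq_inf hH hle (omega_not_le_decompositionStabilizer hQ' hn
          hD.decomp.decomp (count_ten (by simp) rfl (by norm_num)))⟩
      · exact Or.inr (Or.inl ⟨hq, D, hD, IsMaximalIn.eq_inf hH hle (omega_not_le_decompositionStabilizer hQ' hn
          hD.decomp.decomp (count_ten (by simp) rfl (by norm_num)))⟩)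
      · exact Or.inr (Or.inr (Or.inl ⟨hq, D, hD, IsMaximalIn.eq_inf hH hle (omega_not_le_decompositionStabilizer hQ' hn
          hD.decomp.decomp (count_ten (by simp) rfl (by norm_num)))⟩))
      · iterate 5 right
        exact Or.inl (hsubfield h)
    · by_cases hsa : IsSelfAdjointFor (QuadraticMap.polar (⇑T)) K
      · have hodd := odd_of_selfAdjoint hQ' (m := 5) (by simp) (by decide) hiso hirr hK hsa hle
        iterate 4 right
        exact Or.inl ⟨hodd, K, hK, hsa, IsMaximalIn.eq_inf hH hle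
          (omega_not_le_subalgebraNormalizer hQ' hn le_rfl hK)⟩
      · have hsim := similarity_of_not_selfAdjoint (by simp) hQ' hiso hirr hK hadj hsa hle
        exact absurd hplus (not_isPlus_of_similarity hQ' (m := 5) (by simp) (by decide) hK hsim)
    · iterate 5 right
      exact Or.inl (hsubfield h)
    · iterate 6 right
      exact h)

end Cfsg.Agent.S5847
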