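import Cfsg.Statements.S5849
import Cfsg.Agent.Lib.Geometric.Orth.TenTypes
import Cfsg.Agent.Lib.Geometric.Orth.Frame.Even
import Cfsg.Agent.Lib.Geometric.Orth.Blocks.BinaryPlanes
import Cfsg.Agent.Lib.Geometric.Orth.UnitaryTypeMax
import Cfsg.Agent.Lib.Geometric.Orth.Blocks.MinusPlanes

set_option autoImplicit false
open Cfsg

namespace Cfsg.Agent.S5849

open Matrix QuadraticMap CfsgLib.ClassicalForms CfsgLib.Geometric CfsgLib.Geometric.Orth

/-- In minus type the members of a decomposition into five isometric planes have no singular vectors. -/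
lemma planes_aniso {F : Type*} [Field F] {Q : QuadraticForm F (Fin 10 → F)}
    (hminus : ¬ Cfsg.Geo.IsPlusTypeOn (⇑Q) ⊤) {D : Fin 5 → Submodule F (Fin 10 → F)}
    (hD : Cfsg.Geo.IsOrthogonalMDecomposition (⇑Q) 2 D) (i : Fin 5) :
    ∀ x ∈ D i, Q x = 0 → x = 0 := by
  intro x hx hQx
  by_contra hx0
  choose e he using fun j => hD.isometric i j
  set z : Fin 5 → Fin 10 → F := fun j => (e j ⟨x, hx⟩ : Fin 10 → F) with hz
  have hz0 : ∀ j, z j ≠ 0 := fun j h => hx0 (by
    have : e j ⟨x, hx⟩ = 0 := Subtype.ext h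
    simpa using congrArg Subtype.val ((LinearEquiv.map_eq_zero_iff _).1 this))
  have hzQ : ∀ j, Q (z j) = 0 := fun j => (he j ⟨x, hx⟩).trans hQx
  have hli : LinearIndependent F z :=
    hD.decomp.decomp.indep.linearIndependent _ (fun j => (e j ⟨x, hx⟩).2) hz0
  refine hminus ⟨Submodule.span F (Set.range z), le_top, fun w hw => ?_, ?_⟩
  · have hperp : ∀ y ∈ Submodule.span F (Set.range z), ∀ j, polar Q y (z j) = 0 := by
      intro y hy j
      have : Submodule.span F (Set.range z) ≤ LinearMap.ker (polarBilin Q (z j)) := by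
        refine Submodule.span_le.2 ?_
        rintro _ ⟨k, rfl⟩
        rw [SetLike.mem_coe, LinearMap.mem_ker, polarBilin_apply_apply]
        by_cases hjk : j = k
        · subst hjk; rw [polar_self, hzQ, smul_zero]
        · exact hD.decomp.orthogonal j k hjk _ (e j ⟨x, hx⟩).2 _ (e k ⟨x, hx⟩).2
      rw [polar_comm]; exact this hy
    induction hw using Submodule.span_induction with
    | mem y hy => obtain ⟨j, rfl⟩ := hy; exact hzQ j
    | zero => exact QuadraticMap.map_zero Q
    | add a b ha hb iha ihb =>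
      have : Submodule.span F (Set.range z) ≤ LinearMap.ker (polarBilin Q a) :=
        Submodule.span_le.2 (by rintro _ ⟨k, rfl⟩; exact hperp a ha k)
      rw [QuadraticMap.map_add (⇑Q), iha, ihb, show polar Q a b = 0 from this hb]
      simp
    | smul c a _ iha => rw [QuadraticMap.map_smul, iha, smul_zero]
  · rw [finrank_span_eq_card hli, Fintype.card_fin, finrank_top,
      Module.finrank_fintype_fun_eq_card, Fintype.card_fin]

/-- Maximal subgroups of Ω_10^-(q) of geometric type (any q). Let F be a finite field with q elements (characteristic p), Q a non-degenerate quadratic form on F^10 (non-degenerate polar form) of minus type (Witt index 4: no totally singular 5-space), and Ω = Ω_10^-(q) the commutator subgroup of the isometry group of Q, inside GL_10(F). Each of the following, intersected with Ω, is a maximal subgroup of Ω: (1) the stabiliser of any non-zero subspace on which Q vanishes identically (totally singular subspaces, dimensions 1 to 4); (2) for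 q odd, the stabiliser of any proper subspace of odd dimension other than 5 on which the polar form of Q is non-degenerate; (3) the stabiliser of any non-degenerate 2-space of minus type (containing no non-zero singular vector); (4) for q ≥ 4, the stabiliser of any non-degenerate 2-space of plus type (containing a non-zero singular vector); (5) the stabiliser of any non-degenerate 4-space (either type); (6) for q even, the stabiliser of the 1-space spanned by any non-singular vector v (Q(v) ≠ 0); (7) for q = p prime with p ≡ 3 mod 4, the stabiliser of any decomposition of F^10 into 10 pairwise orthogonal, pairwise Q-isometric non-degenerate 1-spaces; (8) for q ≠ 3, the stabiliser of any decomposition of F^10 into 5 pairwise orthogonal, pairwise Q-isometric non-degenerate 2-spaces; (9) for q ≡ 3 mod 4, the stabiliser of any decomposition of F^10 into 2 pairwise orthogonal, pairwise Q-isometric non-degenerate 5-spaces; (10) for q ≡ 1 mod 4, the stabiliser of any decomposition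 of F^10 into two orthogonal non-degenerate 5-spaces that are not Q-isometric; (11) for q odd, the normaliser of any degree-2 subfield K of the matrix algebra whose elements are self-adjoint for the polar form of Q (Q is then the trace of a quadratic form over K); (12) the normaliser of any degree-2 subfield K of the matrix algebra, closed under adjoints for the polar form but not self-adjoint, whose elements act as similarities of Q (so F^10 becomes a 5-dimensional space over K with a hermitian form, and the subgroup is of the type of the unitary group GU_5(q)); (13) every subfield group for a subfield F₀ with |F| = |F₀|^r, r an odd prime, whose F₀-structure carries a non-zero scalar multiple of Q. -/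
theorem result {F : Type*} [Field F] [Fintype F] (Q : (Fin 10 → F) → F) (hQ : Cfsg.Geo.IsNondegenerateQuadraticForm Q) (hminus : ¬ Cfsg.Geo.IsPlusTypeOn Q ⊤) :
    (∀ W : Submodule F (Fin 10 → F), W ≠ ⊥ → Cfsg.Geo.IsTotallySingularQuad Q W → Cfsg.Geo.IsMaximalIn (Cfsg.Geo.omegaGL Q) (Cfsg.Geo.subspaceStabilizer W ⊓ Cfsg.Geo.omegaGL Q)) ∧
    (Odd (Fintype.card F) → ∀ W : Submodule F (Fin 10 → F), W ≠ ⊥ → W ≠ ⊤ → Odd (Module.finrank F W) → 2 * Module.finrank F W ≠ 10 → Cfsg.Geo.IsNondegenerateOn (QuadraticMap.polar Q) W → Cfsg.Geo.IsMaximalIn (Cfsg.Geo.omegaGL Q) (Cfsg.Geo.subspaceStabilizer W ⊓ Cfsg.Geo.omegaGL Q)) ∧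
    (∀ W : Submodule F (Fin 10 → F), Module.finrank F W = 2 → Cfsg.Geo.IsNondegenerateOn (QuadraticMap.polar Q) W → ¬ Cfsg.Geo.IsPlusTypeOn Q W → Cfsg.Geo.IsMaximalIn (Cfsg.Geo.omegaGL Q) (Cfsg.Geo.subspaceStabilizer W ⊓ Cfsg.Geo.omegaGL Q)) ∧
    (4 ≤ Fintype.card F → ∀ W : Submodule F (Fin 10 → F), Module.finrank F W = 2 → Cfsg.Geo.IsNondegenerateOn (QuadraticMap.polar Q) W → Cfsg.Geo.IsPlusTypeOn Q W → Cfsg.Geo.IsMaximalIn (Cfsg.Geo.omegaGL Q) (Cfsg.Geo.subspaceStabilizer W ⊓ Cfsg.Geo.omegaGL Q)) ∧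
    (∀ W : Submodule F (Fin 10 → F), Module.finrank F W = 4 → Cfsg.Geo.IsNondegenerateOn (QuadraticMap.polar Q) W → Cfsg.Geo.IsMaximalIn (Cfsg.Geo.omegaGL Q) (Cfsg.Geo.subspaceStabilizer W ⊓ Cfsg.Geo.omegaGL Q)) ∧
    (¬ Odd (Fintype.card F) → ∀ v : (Fin 10 → F), Q v ≠ 0 → Cfsg.Geo.IsMaximalIn (Cfsg.Geo.omegaGL Q) (Cfsg.Geo.subspaceStabilizer (Submodule.span F {v}) ⊓ Cfsg.Geo.omegaGL Q)) ∧
    ((∃ p : ℕ, p.Prime ∧ Fintype.card F = p ∧ (p % 4 = 3)) → ∀ D : Fin 10 → Submodule F (Fin 10 → F), Cfsg.Geo.IsOrthogonalMDecomposition Q 1 D → Cfsg.Geo.IsMaximalIn (Cfsg.Geo.omegaGL Q) (Cfsg.Geo.decompositionStabilizer D ⊓ Cfsg.Geo.omegaGL Q)) ∧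
    (Fintype.card F ≠ 3 → ∀ D : Fin 5 → Submodule F (Fin 10 → F), Cfsg.Geo.IsOrthogonalMDecomposition Q 2 D → Cfsg.Geo.IsMaximalIn (Cfsg.Geo.omegaGL Q) (Cfsg.Geo.decompositionStabilizer D ⊓ Cfsg.Geo.omegaGL Q)) ∧
    (Fintype.card F % 4 = 3 → ∀ D : Fin 2 → Submodule F (Fin 10 → F), Cfsg.Geo.IsOrthogonalMDecomposition Q 5 D → Cfsg.Geo.IsMaximalIn (Cfsg.Geo.omegaGL Q) (Cfsg.Geo.decompositionStabilizer D ⊓ Cfsg.Geo.omegaGL Q)) ∧
    (Fintype.card F % 4 = 1 → ∀ D : Fin 2 → Submodule F (Fin 10 → F), Cfsg.Geo.IsNondegenerateMDecomposition (QuadraticMap.polar Q) 5 D → ¬ Cfsg.Geo.AreIsometricFor Q (D 0) (D 1) → Cfsg.Geo.IsMaximalIn (Cfsg.Geo.omegaGL Q) (Cfsg.Geo.decompositionStabilizer D ⊓ Cfsg.Geo.omegaGL Q)) ∧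
    (Odd (Fintype.card F) → ∀ K : Subalgebra F (Matrix (Fin 10) (Fin 10) F), Cfsg.Geo.IsFieldSubalgebra 2 K → Cfsg.Geo.IsSelfAdjointFor (QuadraticMap.polar Q) K → Cfsg.Geo.IsMaximalIn (Cfsg.Geo.omegaGL Q) (Cfsg.Geo.subalgebraNormalizer K ⊓ Cfsg.Geo.omegaGL Q)) ∧
    (∀ K : Subalgebra F (Matrix (Fin 10) (Fin 10) F), Cfsg.Geo.IsFieldSubalgebra 2 K → Cfsg.Geo.IsAdjointClosedFor (QuadraticMap.polar Q) K → ¬ Cfsg.Geo.IsSelfAdjointFor (QuadraticMap.polar Q) K → (∀ k ∈ K, ∃ c : F, ∀ v : (Fin 10 → F), Q (Matrix.mulVec k v) = c * Q v) → Cfsg.Geo.IsMaximalIn (Cfsg.Geo.omegaGL Q) (Cfsg.Geo.subalgebraNormalizer K ⊓ Cfsg.Geo.omegaGL Q)) ∧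
    (∀ (F₀ : Subfield F) (r : ℕ) (P : Matrix.GeneralLinearGroup (Fin 10) F) (ζ : F), r.Prime → Odd r → Fintype.card F = Nat.card F₀ ^ r → ζ ≠ 0 → Cfsg.Geo.IsQuadFormRationalStructure (fun v : Fin 10 → F => ζ * Q v) F₀ P → Cfsg.Geo.IsMaximalIn (Cfsg.Geo.omegaGL Q) (Cfsg.Geo.subfieldSubgroup F₀ P ⊓ Cfsg.Geo.omegaGL Q)) := by
  refine ⟨?_, ?_, ?_, ?_, ?_, ?_, ?_, ?_, ?_, ?_, ?_, ?_, ?_⟩
  · intro W hW0 hW
    refine singular_stab_isMaximalIn (Q := toQF hQ) (nondeg_toQF hQ) (by simp) hW0 hW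
      fun _ U hU hU2 => hminus ⟨U, le_top, hU, ?_⟩
    rw [hU2, finrank_top, Module.finrank_fintype_fun_eq_card]
  · exact fun _ W _ hW1 hodd h5 hW => Ten.nondeg_odd_isMaximalIn hQ hW1 hodd h5 hW
  · exact fun W h2 hW hnp => Ten.plane_isMaximalIn hQ h2 (fun h => absurd h hnp) hW
  · exact fun h4 W h2 hW _ => Ten.plane_isMaximalIn hQ h2 (fun _ => h4) hW
  · exact fun W h4 hW => Ten.four_isMaximalIn hQ h4 hW
  · exact fun heven v hv => Ten.point_isMaximalIn hQ heven hv
  · rintro ⟨p, hp, hcard, hp4⟩ D hD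
    have hodd : Odd (Fintype.card F) := by rw [Nat.odd_iff, hcard]; omega
    refine Frame.frame_isMaximalIn_even (Q := toQF hQ) (t := 10) (D := D)
      (CfsgLib.Geometric.Orth.two_ne_zero_of_odd hodd) (by simp) le_rfl (fun a => ?_) hD
    have : Fact p.Prime := ⟨hp⟩
    have : CharP F p := charP_of_card_eq_prime hcard
    obtain ⟨k, rfl⟩ := (ZMod.castHom_bijective (n := p) F hcard).2 a
    exact ⟨k.val, by rw [ZMod.castHom_apply, ← ZMod.natCast_val]⟩
  · intro hq3 D hD
    have hani := planes_aniso (Q := toQF hQ) hminus hD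
    by_cases hq2 : Fintype.card F = 2
    · exact Blocks.binaryPlanes_isMaximalIn (Q := toQF hQ) (nondeg_toQF hQ)
        (by rw [Nat.card_eq_fintype_card, hq2]) (by norm_num) hD hani
    · refine Blocks.anisoPlanes_isMaximalIn (Q := toQF hQ) (nondeg_toQF hQ) ?_ le_rfl hD hani
      have h1 := Fintype.one_lt_card (α := F)
      rw [Nat.card_eq_fintype_card]
      omega
  · intro h43 D hD
    exact orthDecomp_isMaximalIn (Q := toQF hQ) (nondeg_toQF hQ)
      (CfsgLib.Geometric.Orth.two_ne_zero_of_odd (by rw [Nat.odd_iff]; omega)) (by simp) hD (by omega) (fun _ => by omega)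
  · exact fun _ D hD hni => Ten.five_five_swapless_isMaximalIn hQ hD hni
  · exact fun hodd K hK hsa => Ten.ext_two_isMaximalIn hQ hodd hK hsa
  · exact fun K hK hac _ hsc => unitaryType_isMaximalIn_ten hQ (by simp) K hK hac hsc
  · exact fun F₀ r P ζ hr _ hcard hζ hP => Ten.subfield_isMaximalIn hQ hr hcard hζ hP

end Cfsg.Agent.S5849
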