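import Cfsg.Statements.S5870
import Cfsg.Agent.Lib.Geometric.Orth.SingularStab
import Cfsg.Agent.Lib.Geometric.Orth.NondegStabLow
import Cfsg.Agent.Lib.Geometric.Orth.PointStab
import Cfsg.Agent.Lib.Geometric.Orth.Frame.Even
import Cfsg.Agent.Lib.Geometric.Orth.DecompStabMax
import Cfsg.Agent.Lib.Geometric.OrthEven.Max
import Cfsg.Agent.Lib.Geometric.Orth.PairStab
import Cfsg.Agent.Lib.Geometric.ExtField.OrthExt
import Cfsg.Agent.Lib.Geometric.Orth.UnitaryTypeMax
import Cfsg.Agent.Lib.Geometric.Orth.SympTensorMax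
import Cfsg.Agent.Lib.Geometric.Orth.SubfieldMax
import Cfsg.Agent.Lib.Geometric.UnitaryTensor
import Cfsg.Agent.Lib.Geometric.Orth.Blocks.BinaryPlanes
import Cfsg.Agent.Lib.Geometric.Orth.Blocks.MinusPlanes
import Cfsg.Agent.Lib.Geometric.Orth.Blocks.SplitClosure
-- import your own Cfsg.Agent.* helpers here

set_option autoImplicit false
open Cfsg CfsgLib.Geometric

namespace Cfsg.Agent.S5870

/-- Maximal subgroups of Ω_12^+(q) of geometric type (any q). Let F be a finite field with q elements (characteristic p), Q a non-degenerate quadratic form on F^12 (non-degenerate polar form) of plus type (Witt index 6: some totally singular 6-space), and Ω = Ω_12^+(q) the commutator subgroup of the isometry group of Q, inside GL_12(F). Each of the following, intersected with Ω, is a maximal subgroup of Ω: (1) the stabiliser of any non-zero subspace on which Q vanishes identically other than those of dimension 5 (totally singular subspaces, dimensions 1, 2, 3, 4 and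 6); (2) for q odd, the stabiliser of any subspace of odd dimension on which the polar form of Q is non-degenerate; (3) the stabiliser of any non-degenerate 2-space of minus type (containing no non-zero singular vector); (4) for q ≥ 4, the stabiliser of any non-degenerate 2-space of plus type (containing a non-zero singular vector); (5) the stabiliser of any non-degenerate 4-space (either type); (6) for q even, the stabiliser of the 1-space spanned by any non-singular vector v (Q(v) ≠ 0); (7) for q = p an odd prime, the stabiliser of any decomposition of F^12 into 12 pairwise orthogonal, pairwise Q-isometric non-degenerate 1-spaces; (8) for q ≥ 7, the stabiliser of any decomposition of F^12 into 6 pairwise orthogonal, pairwise Q-isometric non-degenerate 2-spaces of plus type; (9) for q ≠ 3, the stabiliser of any decomposition of F^12 into 6 pairwise orthogonal, pairwise Q-isometric non-degenerate 2-spaces of minus type; (10) for q odd with q ≥ 5, the stabiliser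 of any decomposition of F^12 into 4 pairwise orthogonal, pairwise Q-isometric non-degenerate 3-spaces; (11) for q ≥ 3, the stabiliser of any decomposition of F^12 into 3 pairwise orthogonal, pairwise Q-isometric non-degenerate 4-spaces; (12) the stabiliser of any decomposition of F^12 into 2 pairwise orthogonal, pairwise Q-isometric non-degenerate 6-spaces; (13) the stabiliser of any decomposition into two totally singular 6-spaces; (14) for q odd, the normaliser of any degree-2 subfield K of the matrix algebra whose elements are self-adjoint for the polar form of Q (Q is then the trace of a quadratic form over K); (15) for q odd, the normaliser of any degree-3 subfield K of the matrix algebra whose elements are self-adjoint for the polar form of Q (Q is then the trace of a quadratic form over K); (16) the normaliser of any degree-2 subfield K of the matrix algebra, closed under adjoints for the polar form but not self-adjoint, whose elements act as similarities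 of Q (so F^12 becomes a 6-dimensional space over K with a hermitian form, and the subgroup is of the type of the unitary group GU_6(q)); (17) for q ≥ 3, the stabiliser of any tensor decomposition F^12 = F^2 ⊗ F^6 in which the polar form of Q is (alternating form) ⊗ (alternating form) up to a scalar and Q vanishes on all pure tensors; (18) every subfield group for a subfield F₀ with |F| = |F₀|^r, r prime, whose F₀-structure carries a non-zero scalar multiple of Q. -/
theorem result {F : Type*} [Field F] [Fintype F] (Q : (Fin 12 → F) → F) (hQ : Cfsg.Geo.IsNondegenerateQuadraticForm Q) (hplus : Cfsg.Geo.IsPlusTypeOn Q ⊤) :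
    (∀ W : Submodule F (Fin 12 → F), W ≠ ⊥ → Cfsg.Geo.IsTotallySingularQuad Q W → Module.finrank F W ≠ 5 → Cfsg.Geo.IsMaximalIn (Cfsg.Geo.omegaGL Q) (Cfsg.Geo.subspaceStabilizer W ⊓ Cfsg.Geo.omegaGL Q)) ∧
    (Odd (Fintype.card F) → ∀ W : Submodule F (Fin 12 → F), W ≠ ⊥ → W ≠ ⊤ → Odd (Module.finrank F W) → 2 * Module.finrank F W ≠ 12 → Cfsg.Geo.IsNondegenerateOn (QuadraticMap.polar Q) W → Cfsg.Geo.IsMaximalIn (Cfsg.Geo.omegaGL Q) (Cfsg.Geo.subspaceStabilizer W ⊓ Cfsg.Geo.omegaGL Q)) ∧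
    (∀ W : Submodule F (Fin 12 → F), Module.finrank F W = 2 → Cfsg.Geo.IsNondegenerateOn (QuadraticMap.polar Q) W → ¬ Cfsg.Geo.IsPlusTypeOn Q W → Cfsg.Geo.IsMaximalIn (Cfsg.Geo.omegaGL Q) (Cfsg.Geo.subspaceStabilizer W ⊓ Cfsg.Geo.omegaGL Q)) ∧
    (4 ≤ Fintype.card F → ∀ W : Submodule F (Fin 12 → F), Module.finrank F W = 2 → Cfsg.Geo.IsNondegenerateOn (QuadraticMap.polar Q) W → Cfsg.Geo.IsPlusTypeOn Q W → Cfsg.Geo.IsMaximalIn (Cfsg.Geo.omegaGL Q) (Cfsg.Geo.subspaceStabilizer W ⊓ Cfsg.Geo.omegaGL Q)) ∧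
    (∀ W : Submodule F (Fin 12 → F), Module.finrank F W = 4 → Cfsg.Geo.IsNondegenerateOn (QuadraticMap.polar Q) W → Cfsg.Geo.IsMaximalIn (Cfsg.Geo.omegaGL Q) (Cfsg.Geo.subspaceStabilizer W ⊓ Cfsg.Geo.omegaGL Q)) ∧
    (¬ Odd (Fintype.card F) → ∀ v : (Fin 12 → F), Q v ≠ 0 → Cfsg.Geo.IsMaximalIn (Cfsg.Geo.omegaGL Q) (Cfsg.Geo.subspaceStabilizer (Submodule.span F {v}) ⊓ Cfsg.Geo.omegaGL Q)) ∧
    ((∃ p : ℕ, p.Prime ∧ Odd p ∧ Fintype.card F = p) → ∀ D : Fin 12 → Submodule F (Fin 12 → F), Cfsg.Geo.IsOrthogonalMDecomposition Q 1 D → Cfsg.Geo.IsMaximalIn (Cfsg.Geo.omegaGL Q) (Cfsg.Geo.decompositionStabilizer D ⊓ Cfsg.Geo.omegaGL Q)) ∧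
    (7 ≤ Fintype.card F → ∀ D : Fin 6 → Submodule F (Fin 12 → F), Cfsg.Geo.IsOrthogonalMDecomposition Q 2 D → (∀ i, Cfsg.Geo.IsPlusTypeOn Q (D i)) → Cfsg.Geo.IsMaximalIn (Cfsg.Geo.omegaGL Q) (Cfsg.Geo.decompositionStabilizer D ⊓ Cfsg.Geo.omegaGL Q)) ∧
    (Fintype.card F ≠ 3 → ∀ D : Fin 6 → Submodule F (Fin 12 → F), Cfsg.Geo.IsOrthogonalMDecomposition Q 2 D → (∀ i, ¬ Cfsg.Geo.IsPlusTypeOn Q (D i)) → Cfsg.Geo.IsMaximalIn (Cfsg.Geo.omegaGL Q) (Cfsg.Geo.decompositionStabilizer D ⊓ Cfsg.Geo.omegaGL Q)) ∧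
    (Odd (Fintype.card F) ∧ 5 ≤ Fintype.card F → ∀ D : Fin 4 → Submodule F (Fin 12 → F), Cfsg.Geo.IsOrthogonalMDecomposition Q 3 D → Cfsg.Geo.IsMaximalIn (Cfsg.Geo.omegaGL Q) (Cfsg.Geo.decompositionStabilizer D ⊓ Cfsg.Geo.omegaGL Q)) ∧
    (3 ≤ Fintype.card F → ∀ D : Fin 3 → Submodule F (Fin 12 → F), Cfsg.Geo.IsOrthogonalMDecomposition Q 4 D → Cfsg.Geo.IsMaximalIn (Cfsg.Geo.omegaGL Q) (Cfsg.Geo.decompositionStabilizer D ⊓ Cfsg.Geo.omegaGL Q)) ∧
    (∀ D : Fin 2 → Submodule F (Fin 12 → F), Cfsg.Geo.IsOrthogonalMDecomposition Q 6 D → Cfsg.Geo.IsMaximalIn (Cfsg.Geo.omegaGL Q) (Cfsg.Geo.decompositionStabilizer D ⊓ Cfsg.Geo.omegaGL Q)) ∧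
    (∀ D : Fin 2 → Submodule F (Fin 12 → F), Cfsg.Geo.IsMDecomposition 6 D → (∀ i, Cfsg.Geo.IsTotallySingularQuad Q (D i)) → Cfsg.Geo.IsMaximalIn (Cfsg.Geo.omegaGL Q) (Cfsg.Geo.decompositionStabilizer D ⊓ Cfsg.Geo.omegaGL Q)) ∧
    (Odd (Fintype.card F) → ∀ K : Subalgebra F (Matrix (Fin 12) (Fin 12) F), Cfsg.Geo.IsFieldSubalgebra 2 K → Cfsg.Geo.IsSelfAdjointFor (QuadraticMap.polar Q) K → Cfsg.Geo.IsMaximalIn (Cfsg.Geo.omegaGL Q) (Cfsg.Geo.subalgebraNormalizer K ⊓ Cfsg.Geo.omegaGL Q)) ∧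
    (Odd (Fintype.card F) → ∀ K : Subalgebra F (Matrix (Fin 12) (Fin 12) F), Cfsg.Geo.IsFieldSubalgebra 3 K → Cfsg.Geo.IsSelfAdjointFor (QuadraticMap.polar Q) K → Cfsg.Geo.IsMaximalIn (Cfsg.Geo.omegaGL Q) (Cfsg.Geo.subalgebraNormalizer K ⊓ Cfsg.Geo.omegaGL Q)) ∧
    (∀ K : Subalgebra F (Matrix (Fin 12) (Fin 12) F), Cfsg.Geo.IsFieldSubalgebra 2 K → Cfsg.Geo.IsAdjointClosedFor (QuadraticMap.polar Q) K → ¬ Cfsg.Geo.IsSelfAdjointFor (QuadraticMap.polar Q) K → (∀ k ∈ K, ∃ c : F, ∀ v : (Fin 12 → F), Q (Matrix.mulVec k v) = c * Q v) → Cfsg.Geo.IsMaximalIn (Cfsg.Geo.omegaGL Q) (Cfsg.Geo.subalgebraNormalizer K ⊓ Cfsg.Geo.omegaGL Q)) ∧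
    (3 ≤ Fintype.card F → ∀ (e : Fin 12 ≃ Fin 2 × Fin 6) (P : Matrix.GeneralLinearGroup (Fin 12) F) (f₁ : (Fin 2 → F) → (Fin 2 → F) → F) (f₂ : (Fin 6 → F) → (Fin 6 → F) → F), Cfsg.Geo.IsSymplecticForm f₁ → Cfsg.Geo.IsSymplecticForm f₂ → Cfsg.Geo.IsTensorFormStructure id (QuadraticMap.polar Q) f₁ f₂ e P → (∀ (x₁ : Fin 2 → F) (x₂ : Fin 6 → F), Q (Matrix.mulVec (P : Matrix (Fin 12) (Fin 12) F) ((fun a : Fin 2 × Fin 6 => x₁ a.1 * x₂ a.2) ∘ e)) = 0) → Cfsg.Geo.IsMaximalIn (Cfsg.Geo.omegaGL Q) (Cfsg.Geo.tensorProductSubgroup 2 6 e P ⊓ Cfsg.Geo.omegaGL Q)) ∧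
    (∀ (F₀ : Subfield F) (r : ℕ) (P : Matrix.GeneralLinearGroup (Fin 12) F) (ζ : F), r.Prime → Fintype.card F = Nat.card F₀ ^ r → ζ ≠ 0 → Cfsg.Geo.IsQuadFormRationalStructure (fun v : Fin 12 → F => ζ * Q v) F₀ P → Cfsg.Geo.IsMaximalIn (Cfsg.Geo.omegaGL Q) (Cfsg.Geo.subfieldSubgroup F₀ P ⊓ Cfsg.Geo.omegaGL Q)) := by
  classical
  have hnd := Orth.nondeg_toQF hQ
  have h12 : Fintype.card (Fin 12) = 12 := Fintype.card_fin 12
  have hcast : Nat.card F = Fintype.card F := Nat.card_eq_fintype_card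
  -- non-degenerate subspaces
  have hsub : ∀ W : Submodule F (Fin 12 → F), Cfsg.Geo.IsNondegenerateOn (QuadraticMap.polar Q) W →
      W ≠ ⊥ → W ≠ ⊤ → (Module.finrank F W ≤ 5 ∨ 7 ≤ Module.finrank F W) →
      (Module.finrank F W ≠ 2 ∨ 4 ≤ Fintype.card F ∨ ¬ Cfsg.Geo.IsPlusTypeOn Q W) →
      Module.finrank F W ≠ 10 →
      Cfsg.Geo.IsMaximalIn (Cfsg.Geo.omegaGL Q)
        (Cfsg.Geo.subspaceStabilizer W ⊓ Cfsg.Geo.omegaGL Q) := by
    intro W hW hW0 hW1 hd h2 h10
    have hW' : Cfsg.Geo.IsNondegenerateOn (QuadraticMap.polar ⇑(Orth.toQF hQ)) W := hW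
    have hsum := Orth.finrank_add_perpW hW'
    rw [h12] at hsum
    refine Orth.Low.nondeg_stab_isMaximalIn' (Q := Orth.toQF hQ) hnd hW' (by omega) (by omega) hW0 hW1
      ?_ (fun h => by omega)
    intro U hU h3 hU2
    rcases hU with rfl | rfl
    · rcases h2 with h2 | h2 | h2
      · exact absurd hU2 h2
      · omega
      · exact h2
    · omega
  have hbot : ∀ W : Submodule F (Fin 12 → F), Module.finrank F W ≠ 0 → W ≠ ⊥ := by
    rintro W h rfl; simp at h
  have htop : ∀ W : Submodule F (Fin 12 → F), Module.finrank F W ≠ 12 → W ≠ ⊤ := by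
    rintro W h rfl; simp at h
  have heven : ¬ Odd (Fintype.card F) → (2 : F) = 0 := fun h => by
    by_contra h2
    refine h ?_
    have hc : ringChar F ≠ 2 := fun hc => h2 (by
      have := ringChar.Nat.cast_ringChar (R := F)
      rw [hc] at this
      exact_mod_cast this)
    exact Nat.odd_iff.2 (FiniteField.odd_card_of_char_ne_two hc)
  have hext : ∀ r, r.Prime → r = 2 ∨ r = 3 → Odd (Fintype.card F) →
      ∀ K : Subalgebra F (Matrix (Fin 12) (Fin 12) F), Cfsg.Geo.IsFieldSubalgebra r K →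
        Cfsg.Geo.IsSelfAdjointFor (QuadraticMap.polar Q) K →
        Cfsg.Geo.IsMaximalIn (Cfsg.Geo.omegaGL Q)
          (Cfsg.Geo.subalgebraNormalizer K ⊓ Cfsg.Geo.omegaGL Q) := by
    intro r hr hr' hodd K hK hsa
    refine ExtF.orth_ext_maximal_low hQ hodd hr (by omega) K hK hsa fun m hm => Or.inl ?_
    rw [h12] at hm
    rcases hr' with rfl | rfl <;> omega
  refine ⟨?_, ?_, ?_, ?_, ?_, ?_, ?_, ?_, ?_, ?_, ?_, ?_, ?_, ?_, ?_, ?_, ?_, ?_⟩
  · intro W hW0 hW h5
    exact Orth.singular_stab_isMaximalIn (Q := Orth.toQF hQ) hnd (by omega) hW0 hW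
      (fun h => by omega)
  · intro hodd W hW0 hW1 ho h6 hW
    obtain ⟨j, hj⟩ := ho
    exact hsub W hW hW0 hW1 (by omega) (Or.inl (by omega)) (by omega)
  · intro W h hW hm
    exact hsub W hW (hbot W (by omega)) (htop W (by omega)) (by omega) (Or.inr (Or.inr hm)) (by omega)
  · intro hq W h hW _
    exact hsub W hW (hbot W (by omega)) (htop W (by omega)) (by omega) (Or.inr (Or.inl hq)) (by omega)
  · intro W h hW
    exact hsub W hW (hbot W (by omega)) (htop W (by omega)) (by omega) (Or.inl (by omega)) (by omega)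
  · intro he v hv
    exact Orth.point_stab_isMaximalIn (Q := Orth.toQF hQ) hnd (heven he) (by omega) hv
  · rintro ⟨p, hp, hpo, hpq⟩ D hD
    exact Orth.Frame.frame_isMaximalIn_even (Q := Orth.toQF hQ)
      (Orth.two_ne_zero_of_odd (hpq ▸ hpo)) (by omega) (by omega)
      (Orth.Frame.exists_natCast_of_prime (hpq ▸ hp)) hD
  · intro h7 D hD hp
    refine Orth.Blocks.splitPlanes_isMaximalIn (Q := Orth.toQF hQ) hnd h7 (by omega)
      (Or.inr (Or.inr le_rfl)) hD fun i => ?_
    obtain ⟨U, hUD, hU, hUd⟩ := hp i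
    rw [hD.decomp.decomp.finrank_eq i] at hUd
    obtain ⟨x, hx, hx0⟩ := Submodule.exists_mem_ne_zero_of_ne_bot (p := U) fun h => by
      rw [h, finrank_bot] at hUd; omega
    exact ⟨x, hUD hx, hx0, hU x hx⟩
  · intro hq D hD hm
    have hani : ∀ i, ∀ x ∈ D i, Q x = 0 → x = 0 := fun i x hx hQx => by
      by_contra hx0
      refine hm i ⟨Submodule.span F {x}, (Submodule.span_singleton_le_iff_mem _ _).2 hx,
        fun y hy => ?_, ?_⟩
      · obtain ⟨c, rfl⟩ := Submodule.mem_span_singleton.1 hy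
        show Orth.toQF hQ (c • x) = 0
        rw [QuadraticMap.map_smul, Orth.coe_toQF]
        simp [hQx]
      · rw [finrank_span_singleton hx0, hD.decomp.decomp.finrank_eq]
    by_cases h2 : Fintype.card F = 2
    · exact Orth.Blocks.binaryPlanes_isMaximalIn (Q := Orth.toQF hQ) hnd (by omega) (by omega) hD
        hani
    · have := Fintype.one_lt_card (α := F)
      exact Orth.Blocks.anisoPlanes_isMaximalIn (Q := Orth.toQF hQ) hnd
        (by rw [Nat.card_eq_fintype_card]; omega) (by omega) hD hani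
  · intro hq D hD
    exact Orth.orthDecomp_isMaximalIn (Q := Orth.toQF hQ) hnd (Orth.two_ne_zero_of_odd hq.1)
      (by omega) hD le_rfl (fun h => by omega)
  · intro hq D hD
    by_cases hodd : Odd (Fintype.card F)
    · exact Orth.orthDecomp_isMaximalIn (Q := Orth.toQF hQ) hnd (Orth.two_ne_zero_of_odd hodd)
        (by omega) hD (by omega) (fun _ => le_rfl)
    · exact Orth.EvenChar.orthDecomp_isMaximalIn_even (Q := Orth.toQF hQ) hnd (heven hodd)
        (by omega) hD le_rfl (fun _ h => by omega)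
  · intro D hD
    by_cases hodd : Odd (Fintype.card F)
    · exact Orth.orthDecomp_isMaximalIn (Q := Orth.toQF hQ) hnd (Orth.two_ne_zero_of_odd hodd)
        (by omega) hD (by omega) (fun _ => by omega)
    · exact Orth.EvenChar.orthDecomp_isMaximalIn_even (Q := Orth.toQF hQ) hnd (heven hodd)
        (by omega) hD (by omega) (fun h => by omega)
  · intro D hD hts
    exact Orth.pair_stab_isMaximalIn (Q := Orth.toQF hQ) hnd (by omega) ⟨3, rfl⟩ hD hts
  · intro hodd K hK hsa
    exact hext 2 Nat.prime_two (Or.inl rfl) hodd K hK hsa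
  · intro hodd K hK hsa
    exact hext 3 Nat.prime_three (Or.inr rfl) hodd K hK hsa
  · intro K hK hac _ hsc
    obtain ⟨W, -, hW, hd⟩ := hplus
    rw [finrank_top, Module.finrank_fintype_fun_eq_card, h12] at hd
    exact Orth.unitaryType_isMaximalIn hQ (by omega) (Or.inr ⟨W, hW, by omega⟩) K hK hac hsc
  · intro hq e P f₁ f₂ hf₁ hf₂ hT hpure
    obtain ⟨c, hc, hform⟩ := Tensor.form_pt e P (σ := RingHom.id F)
      (eq_formOfGram hf₁.bilinear.add_left hf₁.bilinear.smul_left
        (fun x y v => hf₁.bilinear.add_right v x y) fun t v x => hf₁.bilinear.smul_right t v x)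
      (eq_formOfGram hf₂.bilinear.add_left hf₂.bilinear.smul_left
        (fun x y v => hf₂.bilinear.add_right v x y) fun t v x => hf₂.bilinear.smul_right t v x) hT
    have hS : Orth.STensor (Orth.toQF hQ) e P f₁ f₂ c :=
      ⟨hf₁, hf₂, hc, hform, fun x y => by
        rw [Orth.coe_toQF, Tensor.pt, Tensor.coords_apply, ap_def]
        exact hpure x y⟩
    have h := hS.isMaximalIn hnd (by omega) (by omega) (Or.inl ?_) (by omega)
    · rwa [Orth.coe_toQF] at h
    by_contra hex
    push Not at hex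
    have h := Finset.card_le_card (s := (Finset.univ : Finset F)) (t := ({0, 1} : Finset F))
      fun x _ => by
        by_cases hx : x = 0
        · simp [hx]
        · simp [hex x hx]
    have := h.trans Finset.card_le_two
    rw [Finset.card_univ] at this
    omega
  · intro F₀ r P ζ hr hcard hζ hP
    exact Orth.orthSubfield_isMaximalIn' (by omega) hQ hζ hP hr (by rwa [Nat.card_eq_fintype_card])

end Cfsg.Agent.S5870
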