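import Cfsg.Statements.S5871
import Cfsg.Agent.Lib.SmallDim.OrthEvenTwelve

set_option autoImplicit false
open Cfsg

namespace Cfsg.Agent.S5871

/-- Every maximal subgroup of Ω_12^+(q) is of one of the listed geometric types or lies in the residual class. Let F be a finite field with q elements (characteristic p), Q a non-degenerate quadratic form on F^12 of plus type (Witt index 6: some totally singular 6-space), Ω the commutator subgroup of its isometry group, and H a maximal subgroup of Ω (inside GL_12(F)). Then H is the intersection with Ω of one of: the stabiliser of a non-zero totally singular subspace of dimension ≠ 5; for q odd, the stabiliser of a non-degenerate subspace of odd dimension; the stabiliser of a non-degenerate 2-space of minus type; for q ≥ 4, the stabiliser of a non-degenerate 2-space of plus type; the stabiliser of a non-degenerate 4-space; for q even, the stabiliser of the span of a non-singular vector; for q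 = p an odd prime, the stabiliser of a decomposition into 12 pairwise orthogonal, pairwise isometric non-degenerate 1-spaces; for q ≥ 7, the stabiliser of a decomposition into 6 pairwise orthogonal, pairwise isometric non-degenerate 2-spaces of plus type; for q ≠ 3, the stabiliser of a decomposition into 6 pairwise orthogonal, pairwise isometric non-degenerate 2-spaces of minus type; for q odd with q ≥ 5, the stabiliser of a decomposition into 4 pairwise orthogonal, pairwise isometric non-degenerate 3-spaces; for q ≥ 3, the stabiliser of a decomposition into 3 pairwise orthogonal, pairwise isometric non-degenerate 4-spaces; the stabiliser of a decomposition into 2 pairwise orthogonal, pairwise isometric non-degenerate 6-spaces; of a decomposition into two totally singular 6-spaces; the normaliser of a degree-2 subfield of the matrix algebra; the normaliser of a degree-3 subfield of the matrix algebra; the normaliser of a degree-2 subfield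 K, adjoint-closed but not self-adjoint, acting by similarities of Q; for q ≥ 3, the stabiliser of a tensor decomposition of Q into alternating forms on F^2 and F^6 (Q vanishing on pure tensors); a subfield group (|F| = |F₀|^r, r prime) whose F₀-structure carries a non-zero multiple of Q — or else H lies in the residual class of the orthogonal case (modulo scalars H is almost simple, with absolutely irreducible perfect socle preimage realisable over no proper subfield and fixing no non-degenerate unitary form). -/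
theorem result {F : Type*} [Field F] [Fintype F] (Q : (Fin 12 → F) → F) (hQ : Cfsg.Geo.IsNondegenerateQuadraticForm Q) (hplus : Cfsg.Geo.IsPlusTypeOn Q ⊤) (H : Subgroup (Matrix.GeneralLinearGroup (Fin 12) F)) (hH : Cfsg.Geo.IsMaximalIn (Cfsg.Geo.omegaGL Q) H) :
    (∃ W : Submodule F (Fin 12 → F), W ≠ ⊥ ∧ Cfsg.Geo.IsTotallySingularQuad Q W ∧ Module.finrank F W ≠ 5 ∧ H = Cfsg.Geo.subspaceStabilizer W ⊓ Cfsg.Geo.omegaGL Q) ∨
    (Odd (Fintype.card F) ∧ ∃ W : Submodule F (Fin 12 → F), W ≠ ⊥ ∧ W ≠ ⊤ ∧ Odd (Module.finrank F W) ∧ 2 * Module.finrank F W ≠ 12 ∧ Cfsg.Geo.IsNondegenerateOn (QuadraticMap.polar Q) W ∧ H = Cfsg.Geo.subspaceStabilizer W ⊓ Cfsg.Geo.omegaGL Q) ∨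
    (∃ W : Submodule F (Fin 12 → F), Module.finrank F W = 2 ∧ Cfsg.Geo.IsNondegenerateOn (QuadraticMap.polar Q) W ∧ ¬ Cfsg.Geo.IsPlusTypeOn Q W ∧ H = Cfsg.Geo.subspaceStabilizer W ⊓ Cfsg.Geo.omegaGL Q) ∨
    (4 ≤ Fintype.card F ∧ ∃ W : Submodule F (Fin 12 → F), Module.finrank F W = 2 ∧ Cfsg.Geo.IsNondegenerateOn (QuadraticMap.polar Q) W ∧ Cfsg.Geo.IsPlusTypeOn Q W ∧ H = Cfsg.Geo.subspaceStabilizer W ⊓ Cfsg.Geo.omegaGL Q) ∨
    (∃ W : Submodule F (Fin 12 → F), Module.finrank F W = 4 ∧ Cfsg.Geo.IsNondegenerateOn (QuadraticMap.polar Q) W ∧ H = Cfsg.Geo.subspaceStabilizer W ⊓ Cfsg.Geo.omegaGL Q) ∨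
    (¬ Odd (Fintype.card F) ∧ ∃ v : (Fin 12 → F), Q v ≠ 0 ∧ H = Cfsg.Geo.subspaceStabilizer (Submodule.span F {v}) ⊓ Cfsg.Geo.omegaGL Q) ∨
    ((∃ p : ℕ, p.Prime ∧ Odd p ∧ Fintype.card F = p) ∧ ∃ D : Fin 12 → Submodule F (Fin 12 → F), Cfsg.Geo.IsOrthogonalMDecomposition Q 1 D ∧ H = Cfsg.Geo.decompositionStabilizer D ⊓ Cfsg.Geo.omegaGL Q) ∨
    (7 ≤ Fintype.card F ∧ ∃ D : Fin 6 → Submodule F (Fin 12 → F), Cfsg.Geo.IsOrthogonalMDecomposition Q 2 D ∧ (∀ i, Cfsg.Geo.IsPlusTypeOn Q (D i)) ∧ H = Cfsg.Geo.decompositionStabilizer D ⊓ Cfsg.Geo.omegaGL Q) ∨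
    (Fintype.card F ≠ 3 ∧ ∃ D : Fin 6 → Submodule F (Fin 12 → F), Cfsg.Geo.IsOrthogonalMDecomposition Q 2 D ∧ (∀ i, ¬ Cfsg.Geo.IsPlusTypeOn Q (D i)) ∧ H = Cfsg.Geo.decompositionStabilizer D ⊓ Cfsg.Geo.omegaGL Q) ∨
    (Odd (Fintype.card F) ∧ 5 ≤ Fintype.card F ∧ ∃ D : Fin 4 → Submodule F (Fin 12 → F), Cfsg.Geo.IsOrthogonalMDecomposition Q 3 D ∧ H = Cfsg.Geo.decompositionStabilizer D ⊓ Cfsg.Geo.omegaGL Q) ∨
    (3 ≤ Fintype.card F ∧ ∃ D : Fin 3 → Submodule F (Fin 12 → F), Cfsg.Geo.IsOrthogonalMDecomposition Q 4 D ∧ H = Cfsg.Geo.decompositionStabilizer D ⊓ Cfsg.Geo.omegaGL Q) ∨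
    (∃ D : Fin 2 → Submodule F (Fin 12 → F), Cfsg.Geo.IsOrthogonalMDecomposition Q 6 D ∧ H = Cfsg.Geo.decompositionStabilizer D ⊓ Cfsg.Geo.omegaGL Q) ∨
    (∃ D : Fin 2 → Submodule F (Fin 12 → F), Cfsg.Geo.IsMDecomposition 6 D ∧ (∀ i, Cfsg.Geo.IsTotallySingularQuad Q (D i)) ∧ H = Cfsg.Geo.decompositionStabilizer D ⊓ Cfsg.Geo.omegaGL Q) ∨
    (∃ K : Subalgebra F (Matrix (Fin 12) (Fin 12) F), Cfsg.Geo.IsFieldSubalgebra 2 K ∧ H = Cfsg.Geo.subalgebraNormalizer K ⊓ Cfsg.Geo.omegaGL Q) ∨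
    (∃ K : Subalgebra F (Matrix (Fin 12) (Fin 12) F), Cfsg.Geo.IsFieldSubalgebra 3 K ∧ H = Cfsg.Geo.subalgebraNormalizer K ⊓ Cfsg.Geo.omegaGL Q) ∨
    (∃ K : Subalgebra F (Matrix (Fin 12) (Fin 12) F), Cfsg.Geo.IsFieldSubalgebra 2 K ∧ Cfsg.Geo.IsAdjointClosedFor (QuadraticMap.polar Q) K ∧ ¬ Cfsg.Geo.IsSelfAdjointFor (QuadraticMap.polar Q) K ∧ (∀ k ∈ K, ∃ c : F, ∀ v : (Fin 12 → F), Q (Matrix.mulVec k v) = c * Q v) ∧ H = Cfsg.Geo.subalgebraNormalizer K ⊓ Cfsg.Geo.omegaGL Q) ∨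
    (3 ≤ Fintype.card F ∧ ∃ (e : Fin 12 ≃ Fin 2 × Fin 6) (P : Matrix.GeneralLinearGroup (Fin 12) F) (f₁ : (Fin 2 → F) → (Fin 2 → F) → F) (f₂ : (Fin 6 → F) → (Fin 6 → F) → F), Cfsg.Geo.IsSymplecticForm f₁ ∧ Cfsg.Geo.IsSymplecticForm f₂ ∧ Cfsg.Geo.IsTensorFormStructure id (QuadraticMap.polar Q) f₁ f₂ e P ∧ (∀ (x₁ : Fin 2 → F) (x₂ : Fin 6 → F), Q (Matrix.mulVec (P : Matrix (Fin 12) (Fin 12) F) ((fun a : Fin 2 × Fin 6 => x₁ a.1 * x₂ a.2) ∘ e)) = 0) ∧ H = Cfsg.Geo.tensorProductSubgroup 2 6 e P ⊓ Cfsg.Geo.omegaGL Q) ∨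
    (∃ (F₀ : Subfield F) (r : ℕ) (P : Matrix.GeneralLinearGroup (Fin 12) F) (ζ : F), r.Prime ∧ Fintype.card F = Nat.card F₀ ^ r ∧ ζ ≠ 0 ∧ Cfsg.Geo.IsQuadFormRationalStructure (fun v : Fin 12 → F => ζ * Q v) F₀ P ∧ H = Cfsg.Geo.subfieldSubgroup F₀ P ⊓ Cfsg.Geo.omegaGL Q) ∨
    Cfsg.Geo.InOrthogonalResidualClass H := by
  classical
  open CfsgLib.SmallDim CfsgLib.SmallDim.OrthEven CfsgLib.Geometric.Orth Cfsg.Geo in
  (
    set T := toQF hQ with hT
    have hQ' := nondeg_toQF hQ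
    have hn : 5 ≤ Fintype.card (Fin 12) := by simp
    have hG : H ≤ omegaGL (⇑T) := hH.1.le
    have hiso := isometric_of_le_omega hG
    have hdecomp : ∀ {t m : ℕ} {D : Fin t → Submodule F (Fin 12 → F)}, IsMDecomposition m D → t * m = 12 → m ≤ 6 →
        H ≤ decompositionStabilizer D → H = decompositionStabilizer D ⊓ omegaGL Q := fun hD htm hm hle =>
      IsMaximalIn.eq_inf hH hle (omega_not_le_decompositionStabilizer hQ' hn hD
        (count_twelve (by simp) htm hm))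
    by_cases hirr : ActsIrreducibly (matrixSet H)
    swap
    · obtain ⟨W, h0, h1, hle, hW, hdim⟩ := reducible_witness_six hQ' (by simp) hiso hirr
      have heq : H = subspaceStabilizer W ⊓ omegaGL Q :=
        IsMaximalIn.eq_inf hH hle (omega_not_le_subspaceStabilizer hQ' hn h0 h1)
      rcases hW with (hts | ⟨hq, ho, hnd⟩ | ⟨hd, hnd, hp⟩ | ⟨hq, hd, hnd, hp⟩ | ⟨hd, hnd⟩ | ⟨hq, v, hv, rfl⟩) |
        ⟨hd, hnd⟩
      · by_cases h5 : Module.finrank F W = 5
        · obtain ⟨U, hU, hUd, hUle⟩ := exists_stable_maximal hQ' hn (m := 6) (by simp) hplus hG hts (by omega) hle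
          have hU0 : U ≠ ⊥ := fun e => by rw [e, finrank_bot] at hUd; omega
          have hU1 : U ≠ ⊤ := fun e => by rw [e, finrank_top, Module.finrank_fintype_fun_eq_card] at hUd; simp at hUd
          exact Or.inl ⟨U, hU0, hU, by omega, IsMaximalIn.eq_inf hH hUle
            (omega_not_le_subspaceStabilizer hQ' hn hU0 hU1)⟩
        · exact Or.inl ⟨W, h0, hts, h5, heq⟩
      · exact Or.inr (Or.inl ⟨hq, W, h0, h1, ho, fun hk => by obtain ⟨k, hk'⟩ := ho; omega, hnd, heq⟩)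
      · exact Or.inr (Or.inr (Or.inl ⟨W, hd, hnd, hp, heq⟩))
      · exact Or.inr (Or.inr (Or.inr (Or.inl ⟨hq, W, hd, hnd, hp, heq⟩)))
      · exact Or.inr (Or.inr (Or.inr (Or.inr (Or.inl ⟨W, hd, hnd, heq⟩))))
      · exact Or.inr (Or.inr (Or.inr (Or.inr (Or.inr (Or.inl ⟨hq, v, hv, heq⟩)))))
      · obtain ⟨D, hD, hDle⟩ := exists_pair_decomposition hQ' hiso (k := 6) (by simp) h0 hnd hd hle
        iterate 11 right
        exact Or.inl ⟨D, pair_isometric hQ' hplus hD, hdecomp hD.decomp rfl le_rfl hDle⟩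
    iterate 6 right
    have hsubfield : SubfieldCase T H → ∃ (F₀ : Subfield F) (r : ℕ) (P : Matrix.GeneralLinearGroup (Fin 12) F) (ζ : F),
        r.Prime ∧ Fintype.card F = Nat.card F₀ ^ r ∧ ζ ≠ 0 ∧
        IsQuadFormRationalStructure (fun v : Fin 12 → F => ζ * Q v) F₀ P ∧
        H = subfieldSubgroup F₀ P ⊓ omegaGL Q := fun ⟨K, r, P, ζ, hr, hcard, hK, hζ, hrat, hle⟩ =>
      ⟨K, r, P, ζ, hr, hcard, hζ, hrat,
        IsMaximalIn.eq_inf hH hle (omega_not_le_subfieldSubgroup hQ' hn hK P)⟩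
    rcases (twelve_cases hQ' (Fintype.card_fin 12) hG hirr).imp_right (Or.imp_right (Or.imp_right or_assoc.mpr)) with
      h | ⟨m, D, hm, hD, hsing, hle⟩ | h | h | h | h
    · rcases twelve_plus_decomp hQ' (Fintype.card_fin 12) hplus hiso hirr h with
        ⟨hp, D, hD, hle⟩ | ⟨hq, D, hD, hall, hle⟩ | ⟨hq, D, hD, hall, hle⟩ | ⟨ho, hq, D, hD, hle⟩ |
        ⟨hq, D, hD, hle⟩ | ⟨D, hD, hle⟩ | h
      · exact Or.inl ⟨hp, D, hD, hdecomp hD.decomp.decomp rfl (by norm_num) hle⟩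
      · exact Or.inr (Or.inl ⟨hq, D, hD, hall, hdecomp hD.decomp.decomp rfl (by norm_num) hle⟩)
      · exact Or.inr (Or.inr (Or.inl ⟨hq, D, hD, hall, hdecomp hD.decomp.decomp rfl (by norm_num) hle⟩))
      · iterate 3 right
        exact Or.inl ⟨ho, hq, D, hD, hdecomp hD.decomp.decomp rfl (by norm_num) hle⟩
      · iterate 4 right
        exact Or.inl ⟨hq, D, hD, hdecomp hD.decomp.decomp rfl (by norm_num) hle⟩
      · iterate 5 right
        exact Or.inl ⟨D, hD, hdecomp hD.decomp.decomp rfl le_rfl hle⟩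
      · iterate 11 right
        exact Or.inl (hsubfield h)
    · obtain rfl : m = 6 := by rw [Fintype.card_fin] at hm; omega
      iterate 6 right
      exact Or.inl ⟨D, hD, hsing, hdecomp hD rfl le_rfl hle⟩
    · obtain ⟨r, K, hr, hK, hle⟩ := h
      have heq := IsMaximalIn.eq_inf hH hle (omega_not_le_subalgebraNormalizer hQ' hn (by omega) hK)
      rcases hr with rfl | rfl
      · iterate 7 right
        exact Or.inl ⟨K, hK, heq⟩
      · iterate 8 right
        exact Or.inl ⟨K, hK, heq⟩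
    · rcases twelve_plus_tensor hQ' hplus hG hirr h with
        ⟨hq, e, P, f₁, f₂, hf₁, hf₂, hf, hz, hle⟩ | ⟨r, K, hr, hK, hle⟩
      · iterate 10 right
        exact Or.inl ⟨hq, e, P, f₁, f₂, hf₁, hf₂, hf, hz, IsMaximalIn.eq_inf hH hle
          (omega_not_le_tensorProductSubgroup hQ' hn (by norm_num) (by norm_num) (by simp) e P)⟩
      · have heq := IsMaximalIn.eq_inf hH hle (omega_not_le_subalgebraNormalizer hQ' hn (by omega) hK)
        rcases hr with rfl | rfl
        · iterate 7 right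
          exact Or.inl ⟨K, hK, heq⟩
        · iterate 8 right
          exact Or.inl ⟨K, hK, heq⟩
    · iterate 11 right
      exact Or.inl (hsubfield h)
    · iterate 12 right
      exact h)

end Cfsg.Agent.S5871
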