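import Cfsg.Statements.S5873
import Cfsg.Agent.Lib.Geometric.Orth.SingularStab
import Cfsg.Agent.Lib.Geometric.Orth.NondegStabLow
import Cfsg.Agent.Lib.Geometric.Orth.PointStab
import Cfsg.Agent.Lib.Geometric.Orth.DecompStabMax
import Cfsg.Agent.Lib.Geometric.Orth.SubfieldMax
import Cfsg.Agent.Lib.Geometric.OrthEven.Max
import Cfsg.Agent.Lib.Geometric.ExtField.OrthExt
import Cfsg.Agent.Lib.Geometric.OrthThreeFour.Max

set_option autoImplicit false
open Cfsg

namespace Cfsg.Agent.S5873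

open CfsgLib.Geometric CfsgLib.ClassicalForms

variable {F : Type*} [Field F] [Fintype F]

theorem two_eq_zero_of_not_odd (h : ¬ Odd (Fintype.card F)) : (2 : F) = 0 := by
  by_contra h2
  refine h ?_
  have hc : ringChar F ≠ 2 := fun hc => h2 (by
    have : ((ringChar F : ℕ) : F) = 0 := ringChar.Nat.cast_ringChar
    rw [hc] at this
    exact_mod_cast this)
  exact Nat.odd_iff.2 (FiniteField.odd_card_of_char_ne_two hc)

/-- A non-degenerate subspace of admissible dimension has maximal stabiliser. -/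
theorem nondeg_case {Q : (Fin 12 → F) → F} (hQ : Cfsg.Geo.IsNondegenerateQuadraticForm Q)
    (hminus : ¬ Cfsg.Geo.IsPlusTypeOn Q ⊤) {W : Submodule F (Fin 12 → F)}
    (hW0 : W ≠ ⊥) (hW1 : W ≠ ⊤) (hW : Cfsg.Geo.IsNondegenerateOn (QuadraticMap.polar Q) W)
    (h2 : Module.finrank F W = 2 → Fintype.card F ≤ 3 → ¬ Cfsg.Geo.IsPlusTypeOn Q W)
    (h10 : Module.finrank F W ≠ 10) (h6 : 2 * Module.finrank F W = 12 → Even (Module.finrank F W)) :
    Cfsg.Geo.IsMaximalIn (Cfsg.Geo.omegaGL Q)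
      (Cfsg.Geo.subspaceStabilizer W ⊓ Cfsg.Geo.omegaGL Q) := by
  have hQ' := Orth.nondeg_toQF hQ
  have hW' : Cfsg.Geo.IsNondegenerateOn (QuadraticMap.polar ⇑(Orth.toQF hQ)) W := hW
  refine Orth.Low.nondeg_stab_isMaximalIn' (Q := Orth.toQF hQ) hQ' hW'
    (by rw [Fintype.card_fin]; norm_num) (by rw [Fintype.card_fin]; omega) hW0 hW1 ?_ ?_
  · intro U hU h3 hU2
    rw [Nat.card_eq_fintype_card] at h3
    rcases hU with rfl | rfl
    · exact h2 hU2 h3
    · have := Orth.finrank_add_perpW hW'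
      rw [Fintype.card_fin] at this
      omega
  · intro h
    rw [Fintype.card_fin] at h
    refine ⟨h6 h, fun U hU hUd => hminus ⟨U, le_top, hU, ?_⟩⟩
    rw [hUd, finrank_top, Module.finrank_fintype_fun_eq_card]

/-- The decomposition into three minus-type four-spaces. -/
theorem decomp_case {Q : (Fin 12 → F) → F} (hQ : Cfsg.Geo.IsNondegenerateQuadraticForm Q)
    {D : Fin 3 → Submodule F (Fin 12 → F)} (hD : Cfsg.Geo.IsOrthogonalMDecomposition Q 4 D)
    (hm : ∀ i, ¬ Cfsg.Geo.IsPlusTypeOn Q (D i)) :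
    Cfsg.Geo.IsMaximalIn (Cfsg.Geo.omegaGL Q)
      (Cfsg.Geo.decompositionStabilizer D ⊓ Cfsg.Geo.omegaGL Q) := by
  have hQ' := Orth.nondeg_toQF hQ
  by_cases h2 : (2 : F) = 0
  · refine Orth.EvenChar.orthDecomp_isMaximalIn_even (Q := Orth.toQF hQ) hQ' h2
      (by rw [Fintype.card_fin]; norm_num) hD le_rfl fun _ _ l x hx y hy hx0 hQx hQy hxy => ?_
    by_contra hyx
    refine hm l ⟨Submodule.span F {x, y}, Submodule.span_le.2 ?_, ?_, ?_⟩
    · simp [Set.insert_subset_iff, hx, hy]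
    · intro w hw
      obtain ⟨a, b, rfl⟩ := Submodule.mem_span_pair.1 hw
      show Orth.toQF hQ (a • x + b • y) = 0
      rw [QuadraticMap.map_add (Orth.toQF hQ), QuadraticMap.map_smul, QuadraticMap.map_smul,
        QuadraticMap.polar_smul_left, QuadraticMap.polar_smul_right, hQx, hQy, hxy]
      simp
    · have hli : LinearIndependent F ![x, y] := (LinearIndependent.pair_iff' hx0).2 fun a ha =>
        hyx (Submodule.mem_span_singleton.2 ⟨a, ha⟩)
      have hr : Module.finrank F (Submodule.span F (Set.range ![x, y])) = 2 := by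
        rw [finrank_span_eq_card hli, Fintype.card_fin]
      rw [Matrix.range_cons_cons_empty] at hr
      rw [hr, hD.decomp.decomp.finrank_eq]
  · exact Orth.orthDecomp_isMaximalIn (Q := Orth.toQF hQ) hQ' h2
      (by rw [Fintype.card_fin]; norm_num) hD (by norm_num) fun _ => le_rfl

/-- The field extension members. -/
theorem ext_case {Q : (Fin 12 → F) → F} (hQ : Cfsg.Geo.IsNondegenerateQuadraticForm Q)
    (hodd : Odd (Fintype.card F)) {r : ℕ} (hr : r.Prime) (hr3 : r ≤ 3)
    {K : Subalgebra F (Matrix (Fin 12) (Fin 12) F)} (hK : Cfsg.Geo.IsFieldSubalgebra r K)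
    (hsa : Cfsg.Geo.IsSelfAdjointFor (QuadraticMap.polar Q) K) :
    Cfsg.Geo.IsMaximalIn (Cfsg.Geo.omegaGL Q)
      (Cfsg.Geo.subalgebraNormalizer K ⊓ Cfsg.Geo.omegaGL Q) := by
  letI := ExtF.fieldOfSubalg hK hr.ne_zero
  have : Finite K := Finite.of_injective (fun x : K => (x : Matrix (Fin 12) (Fin 12) F))
    Subtype.val_injective
  have hfr : Module.finrank F K = r := hK.finrank_eq
  refine ExtF.orth_ext_maximal' hQ hodd (E := K) (hfr ▸ hr) (by rw [Fintype.card_fin]; norm_num)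
    K.val K (fun k => ⟨fun hk => ⟨⟨k, hk⟩, rfl⟩, fun ⟨a, ha⟩ => ha ▸ a.2⟩) hsa fun m hm => ?_
  rw [hfr, Fintype.card_fin] at hm
  refine Or.inl ?_
  nlinarith

/-- The tensor decomposition into a three-space and a minus-type four-space. -/
theorem tensor_case {Q : (Fin 12 → F) → F} (hQ : Cfsg.Geo.IsNondegenerateQuadraticForm Q)
    (hodd : Odd (Fintype.card F)) (h5 : 5 ≤ Fintype.card F) {e : Fin 12 ≃ Fin 3 × Fin 4}
    {P : Matrix.GeneralLinearGroup (Fin 12) F} {f₁ : (Fin 3 → F) → (Fin 3 → F) → F}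
    {f₂ : (Fin 4 → F) → (Fin 4 → F) → F} (hf₁ : Cfsg.Geo.IsSymmetricForm f₁)
    (hf₂ : Cfsg.Geo.IsSymmetricForm f₂)
    (hf₂m : ¬ Cfsg.Geo.IsPlusTypeOn (fun v : Fin 4 → F => f₂ v v) ⊤)
    (hT : Cfsg.Geo.IsTensorFormStructure id (QuadraticMap.polar Q) f₁ f₂ e P) :
    Cfsg.Geo.IsMaximalIn (Cfsg.Geo.omegaGL Q)
      (Cfsg.Geo.tensorProductSubgroup 3 4 e P ⊓ Cfsg.Geo.omegaGL Q) := by
  classical
  have h2 : (2 : F) ≠ 0 := Orth.two_ne_zero_of_odd hodd
  obtain ⟨c, hc, hform⟩ := Tensor.form_pt e P (σ := RingHom.id F)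
    (Orth.bilinear_eq_formOfGram hf₁.bilinear) (Orth.bilinear_eq_formOfGram hf₂.bilinear) hT
  have hb := hf₂.bilinear
  refine OrthThreeFour.Data.isMaximalIn (Q := Orth.toQF hQ) (f₁ := f₁)
    (f₂ := fun x y => c * f₂ x y)
    { sym₁ := ⟨h2, hf₁⟩
      sym₂ := ⟨h2, ?_⟩
      minus := fun z z' hz hz' hzz' hz0 => ?_
      nondeg := Orth.nondeg_toQF hQ
      many := ?_
      polar_pt := fun x x' y y' => by
        show QuadraticMap.polar Q _ _ = _
        rw [hform]; ring }
  · exact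
      { bilinear :=
          { add_left := fun x y v => by rw [hb.add_left, mul_add]
            smul_left := fun a x v => by rw [hb.smul_left, mul_left_comm]
            add_right := fun v x y => by rw [hb.add_right, mul_add]
            smul_right := fun a v x => by rw [hb.smul_right, mul_left_comm] }
        symm := fun x y => by rw [hf₂.symm]
        nondegenerate := fun v hv =>
          ⟨(hf₂.nondegenerate v hv).1.imp fun x hx => mul_ne_zero hc hx,
            (hf₂.nondegenerate v hv).2.imp fun x hx => mul_ne_zero hc hx⟩ }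
  · by_contra hzs
    have e1 : f₂ z z = 0 := (mul_eq_zero.mp hz).resolve_left hc
    have e2 : f₂ z' z' = 0 := (mul_eq_zero.mp hz').resolve_left hc
    have e3 : f₂ z z' = 0 := (mul_eq_zero.mp hzz').resolve_left hc
    refine hf₂m ⟨Submodule.span F {z, z'}, le_top, fun w hw => ?_, ?_⟩
    · obtain ⟨a, b, rfl⟩ := Submodule.mem_span_pair.1 hw
      show f₂ (a • z + b • z') (a • z + b • z') = 0
      simp [hb.add_left, hb.add_right, hb.smul_left, hb.smul_right, e1, e2, e3, hf₂.symm z' z]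
    · have hli : LinearIndependent F ![z, z'] := (LinearIndependent.pair_iff' hz0).2 fun a ha =>
        hzs (Submodule.mem_span_singleton.2 ⟨a, ha⟩)
      have hr : Module.finrank F (Submodule.span F (Set.range ![z, z'])) = 2 := by
        rw [finrank_span_eq_card hli, Fintype.card_fin]
      rw [Matrix.range_cons, Matrix.range_cons, Matrix.range_empty, Set.union_empty,
        Set.singleton_union] at hr
      rw [hr, finrank_top, Module.finrank_fin_fun]
  · obtain ⟨s, hs⟩ : ∃ s : F, s ∉ ({0, 1, -1} : Finset F) :=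
      Finset.exists_mem_notMem_of_card_lt_card (lt_of_le_of_lt Finset.card_le_three
        (by simpa using by omega : 3 < (Finset.univ : Finset F).card)) |>.imp fun _ h => h.2
    simp only [Finset.mem_insert, Finset.mem_singleton, not_or] at hs
    exact ⟨s, hs.1, fun h => (mul_self_eq_one_iff.mp h).elim hs.2.1 hs.2.2⟩

/-- Maximal subgroups of Ω_12^-(q) of geometric type (any q). Let F be a finite field with q elements (characteristic p), Q a non-degenerate quadratic form on F^12 (non-degenerate polar form) of minus type (Witt index 5: no totally singular 6-space), and Ω = Ω_12^-(q) the commutator subgroup of the isometry group of Q, inside GL_12(F). Each of the following, intersected with Ω, is a maximal subgroup of Ω: (1) the stabiliser of any non-zero subspace on which Q vanishes identically (totally singular subspaces, dimensions 1 to 5); (2) for q odd, the stabiliser of any subspace of odd dimension on which the polar form of Q is non-degenerate;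 (3) the stabiliser of any non-degenerate 2-space of minus type (containing no non-zero singular vector); (4) for q ≥ 4, the stabiliser of any non-degenerate 2-space of plus type (containing a non-zero singular vector); (5) the stabiliser of any non-degenerate 4-space (either type); (6) the stabiliser of any non-degenerate 6-space (either type); (7) for q even, the stabiliser of the 1-space spanned by any non-singular vector v (Q(v) ≠ 0); (8) the stabiliser of any decomposition of F^12 into 3 pairwise orthogonal, pairwise Q-isometric non-degenerate 4-spaces of minus type; (9) for q odd, the normaliser of any degree-2 subfield K of the matrix algebra whose elements are self-adjoint for the polar form of Q (Q is then the trace of a quadratic form over K); (10) for q odd, the normaliser of any degree-3 subfield K of the matrix algebra whose elements are self-adjoint for the polar form of Q (Q is then the trace of a quadratic form over K); (11) for q odd with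 q ≥ 5, the stabiliser of any tensor decomposition F^12 = F^3 ⊗ F^4 in which the polar form of Q is the product of non-degenerate symmetric bilinear forms, the second of minus type, up to a scalar; (12) every subfield group for a subfield F₀ with |F| = |F₀|^r, r an odd prime, whose F₀-structure carries a non-zero scalar multiple of Q. -/
theorem result {F : Type*} [Field F] [Fintype F] (Q : (Fin 12 → F) → F) (hQ : Cfsg.Geo.IsNondegenerateQuadraticForm Q) (hminus : ¬ Cfsg.Geo.IsPlusTypeOn Q ⊤) :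
    (∀ W : Submodule F (Fin 12 → F), W ≠ ⊥ → Cfsg.Geo.IsTotallySingularQuad Q W → Cfsg.Geo.IsMaximalIn (Cfsg.Geo.omegaGL Q) (Cfsg.Geo.subspaceStabilizer W ⊓ Cfsg.Geo.omegaGL Q)) ∧
    (Odd (Fintype.card F) → ∀ W : Submodule F (Fin 12 → F), W ≠ ⊥ → W ≠ ⊤ → Odd (Module.finrank F W) → 2 * Module.finrank F W ≠ 12 → Cfsg.Geo.IsNondegenerateOn (QuadraticMap.polar Q) W → Cfsg.Geo.IsMaximalIn (Cfsg.Geo.omegaGL Q) (Cfsg.Geo.subspaceStabilizer W ⊓ Cfsg.Geo.omegaGL Q)) ∧
    (∀ W : Submodule F (Fin 12 → F), Module.finrank F W = 2 → Cfsg.Geo.IsNondegenerateOn (QuadraticMap.polar Q) W → ¬ Cfsg.Geo.IsPlusTypeOn Q W → Cfsg.Geo.IsMaximalIn (Cfsg.Geo.omegaGL Q) (Cfsg.Geo.subspaceStabilizer W ⊓ Cfsg.Geo.omegaGL Q)) ∧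
    (4 ≤ Fintype.card F → ∀ W : Submodule F (Fin 12 → F), Module.finrank F W = 2 → Cfsg.Geo.IsNondegenerateOn (QuadraticMap.polar Q) W → Cfsg.Geo.IsPlusTypeOn Q W → Cfsg.Geo.IsMaximalIn (Cfsg.Geo.omegaGL Q) (Cfsg.Geo.subspaceStabilizer W ⊓ Cfsg.Geo.omegaGL Q)) ∧
    (∀ W : Submodule F (Fin 12 → F), Module.finrank F W = 4 → Cfsg.Geo.IsNondegenerateOn (QuadraticMap.polar Q) W → Cfsg.Geo.IsMaximalIn (Cfsg.Geo.omegaGL Q) (Cfsg.Geo.subspaceStabilizer W ⊓ Cfsg.Geo.omegaGL Q)) ∧
    (∀ W : Submodule F (Fin 12 → F), Module.finrank F W = 6 → Cfsg.Geo.IsNondegenerateOn (QuadraticMap.polar Q) W → Cfsg.Geo.IsMaximalIn (Cfsg.Geo.omegaGL Q) (Cfsg.Geo.subspaceStabilizer W ⊓ Cfsg.Geo.omegaGL Q)) ∧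
    (¬ Odd (Fintype.card F) → ∀ v : (Fin 12 → F), Q v ≠ 0 → Cfsg.Geo.IsMaximalIn (Cfsg.Geo.omegaGL Q) (Cfsg.Geo.subspaceStabilizer (Submodule.span F {v}) ⊓ Cfsg.Geo.omegaGL Q)) ∧
    (∀ D : Fin 3 → Submodule F (Fin 12 → F), Cfsg.Geo.IsOrthogonalMDecomposition Q 4 D → (∀ i, ¬ Cfsg.Geo.IsPlusTypeOn Q (D i)) → Cfsg.Geo.IsMaximalIn (Cfsg.Geo.omegaGL Q) (Cfsg.Geo.decompositionStabilizer D ⊓ Cfsg.Geo.omegaGL Q)) ∧
    (Odd (Fintype.card F) → ∀ K : Subalgebra F (Matrix (Fin 12) (Fin 12) F), Cfsg.Geo.IsFieldSubalgebra 2 K → Cfsg.Geo.IsSelfAdjointFor (QuadraticMap.polar Q) K → Cfsg.Geo.IsMaximalIn (Cfsg.Geo.omegaGL Q) (Cfsg.Geo.subalgebraNormalizer K ⊓ Cfsg.Geo.omegaGL Q)) ∧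
    (Odd (Fintype.card F) → ∀ K : Subalgebra F (Matrix (Fin 12) (Fin 12) F), Cfsg.Geo.IsFieldSubalgebra 3 K → Cfsg.Geo.IsSelfAdjointFor (QuadraticMap.polar Q) K → Cfsg.Geo.IsMaximalIn (Cfsg.Geo.omegaGL Q) (Cfsg.Geo.subalgebraNormalizer K ⊓ Cfsg.Geo.omegaGL Q)) ∧
    (Odd (Fintype.card F) ∧ 5 ≤ Fintype.card F → ∀ (e : Fin 12 ≃ Fin 3 × Fin 4) (P : Matrix.GeneralLinearGroup (Fin 12) F) (f₁ : (Fin 3 → F) → (Fin 3 → F) → F) (f₂ : (Fin 4 → F) → (Fin 4 → F) → F), Cfsg.Geo.IsSymmetricForm f₁ → Cfsg.Geo.IsSymmetricForm f₂ → ¬ Cfsg.Geo.IsPlusTypeOn (fun v : Fin 4 → F => f₂ v v) ⊤ → Cfsg.Geo.IsTensorFormStructure id (QuadraticMap.polar Q) f₁ f₂ e P → Cfsg.Geo.IsMaximalIn (Cfsg.Geo.omegaGL Q) (Cfsg.Geo.tensorProductSubgroup 3 4 e P ⊓ Cfsg.Geo.omegaGL Q)) ∧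
    (∀ (F₀ : Subfield F) (r : ℕ) (P : Matrix.GeneralLinearGroup (Fin 12) F) (ζ : F), r.Prime → Odd r → Fintype.card F = Nat.card F₀ ^ r → ζ ≠ 0 → Cfsg.Geo.IsQuadFormRationalStructure (fun v : Fin 12 → F => ζ * Q v) F₀ P → Cfsg.Geo.IsMaximalIn (Cfsg.Geo.omegaGL Q) (Cfsg.Geo.subfieldSubgroup F₀ P ⊓ Cfsg.Geo.omegaGL Q)) := by
  refine ⟨fun W hW0 hW => ?_, ?_, ?_, ?_, ?_, ?_, ?_, fun D hD hm => decomp_case hQ hD hm,
    fun hodd K hK hsa => ext_case hQ hodd Nat.prime_two (by norm_num) hK hsa,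
    fun hodd K hK hsa => ext_case hQ hodd Nat.prime_three le_rfl hK hsa, ?_, ?_⟩
  · refine Orth.singular_stab_isMaximalIn (Q := Orth.toQF hQ) (Orth.nondeg_toQF hQ)
      (by rw [Fintype.card_fin]; norm_num) hW0 hW (fun _ U hU h => hminus ⟨U, le_top, hU, ?_⟩)
    rw [h, finrank_top, Module.finrank_fintype_fun_eq_card]
  · intro _ W hW0 hW1 ho h12 hW
    obtain ⟨k, hk⟩ := ho
    exact nondeg_case hQ hminus hW0 hW1 hW (fun h => by omega) (by omega) (fun h => absurd h h12)
  · intro W h2 hW hm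
    refine nondeg_case hQ hminus ?_ ?_ hW (fun _ _ => hm) (by omega) (by omega)
    · rintro rfl; simp at h2
    · rintro rfl; simp at h2
  · intro h4 W h2 hW _
    refine nondeg_case hQ hminus ?_ ?_ hW (fun _ h3 => by omega) (by omega) (by omega)
    · rintro rfl; simp at h2
    · rintro rfl; simp at h2
  · intro W h4 hW
    refine nondeg_case hQ hminus ?_ ?_ hW (fun h => by omega) (by omega) (by omega)
    · rintro rfl; simp at h4
    · rintro rfl; simp at h4
  · intro W h6 hW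
    refine nondeg_case hQ hminus ?_ ?_ hW (fun h => by omega) (by omega)
      (fun _ => by rw [h6]; decide)
    · rintro rfl; simp at h6
    · rintro rfl; simp at h6
  · intro hev v hv
    exact Orth.point_stab_isMaximalIn (Q := Orth.toQF hQ) (Orth.nondeg_toQF hQ)
      (two_eq_zero_of_not_odd hev) (by rw [Fintype.card_fin]) hv
  · rintro ⟨hodd, h5⟩ e P f₁ f₂ hf₁ hf₂ hf₂m hT
    exact tensor_case hQ hodd h5 hf₁ hf₂ hf₂m hT
  · intro F₀ r P ζ hr _ hcard hζ hP
    exact Orth.orthSubfield_isMaximalIn' (by rw [Fintype.card_fin]; norm_num) hQ hζ hP hr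
      (by rw [Nat.card_eq_fintype_card]; exact hcard)

end Cfsg.Agent.S5873
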