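import Cfsg.Statements.S5874
import Cfsg.Agent.Lib.SmallDim.OrthEvenTwelve

set_option autoImplicit false
open Cfsg

namespace Cfsg.Agent.S5874

/-- Every maximal subgroup of Ω_12^-(q) is of one of the listed geometric types or lies in the residual class. Let F be a finite field with q elements (characteristic p), Q a non-degenerate quadratic form on F^12 of minus type (Witt index 5: no totally singular 6-space), Ω the commutator subgroup of its isometry group, and H a maximal subgroup of Ω (inside GL_12(F)). Then H is the intersection with Ω of one of: the stabiliser of a non-zero totally singular subspace; for q odd, the stabiliser of a non-degenerate subspace of odd dimension; the stabiliser of a non-degenerate 2-space of minus type; for q ≥ 4, the stabiliser of a non-degenerate 2-space of plus type; the stabiliser of a non-degenerate 4-space; the stabiliser of a non-degenerate 6-space; for q even, the stabiliser of the span of a non-singular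 vector; the stabiliser of a decomposition into 3 pairwise orthogonal, pairwise isometric non-degenerate 4-spaces of minus type; the normaliser of a degree-2 subfield of the matrix algebra; the normaliser of a degree-3 subfield of the matrix algebra; for q odd with q ≥ 5, the stabiliser of a tensor decomposition of the polar form into symmetric forms on F^3 and F^4 (minus type); a subfield group (|F| = |F₀|^r, r odd prime) whose F₀-structure carries a non-zero multiple of Q — or else H lies in the residual class of the orthogonal case (modulo scalars H is almost simple, with absolutely irreducible perfect socle preimage realisable over no proper subfield and fixing no non-degenerate unitary form). -/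
theorem result {F : Type*} [Field F] [Fintype F] (Q : (Fin 12 → F) → F) (hQ : Cfsg.Geo.IsNondegenerateQuadraticForm Q) (hminus : ¬ Cfsg.Geo.IsPlusTypeOn Q ⊤) (H : Subgroup (Matrix.GeneralLinearGroup (Fin 12) F)) (hH : Cfsg.Geo.IsMaximalIn (Cfsg.Geo.omegaGL Q) H) :
    (∃ W : Submodule F (Fin 12 → F), W ≠ ⊥ ∧ Cfsg.Geo.IsTotallySingularQuad Q W ∧ H = Cfsg.Geo.subspaceStabilizer W ⊓ Cfsg.Geo.omegaGL Q) ∨
    (Odd (Fintype.card F) ∧ ∃ W : Submodule F (Fin 12 → F), W ≠ ⊥ ∧ W ≠ ⊤ ∧ Odd (Module.finrank F W) ∧ 2 * Module.finrank F W ≠ 12 ∧ Cfsg.Geo.IsNondegenerateOn (QuadraticMap.polar Q) W ∧ H = Cfsg.Geo.subspaceStabilizer W ⊓ Cfsg.Geo.omegaGL Q) ∨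
    (∃ W : Submodule F (Fin 12 → F), Module.finrank F W = 2 ∧ Cfsg.Geo.IsNondegenerateOn (QuadraticMap.polar Q) W ∧ ¬ Cfsg.Geo.IsPlusTypeOn Q W ∧ H = Cfsg.Geo.subspaceStabilizer W ⊓ Cfsg.Geo.omegaGL Q) ∨
    (4 ≤ Fintype.card F ∧ ∃ W : Submodule F (Fin 12 → F), Module.finrank F W = 2 ∧ Cfsg.Geo.IsNondegenerateOn (QuadraticMap.polar Q) W ∧ Cfsg.Geo.IsPlusTypeOn Q W ∧ H = Cfsg.Geo.subspaceStabilizer W ⊓ Cfsg.Geo.omegaGL Q) ∨
    (∃ W : Submodule F (Fin 12 → F), Module.finrank F W = 4 ∧ Cfsg.Geo.IsNondegenerateOn (QuadraticMap.polar Q) W ∧ H = Cfsg.Geo.subspaceStabilizer W ⊓ Cfsg.Geo.omegaGL Q) ∨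
    (∃ W : Submodule F (Fin 12 → F), Module.finrank F W = 6 ∧ Cfsg.Geo.IsNondegenerateOn (QuadraticMap.polar Q) W ∧ H = Cfsg.Geo.subspaceStabilizer W ⊓ Cfsg.Geo.omegaGL Q) ∨
    (¬ Odd (Fintype.card F) ∧ ∃ v : (Fin 12 → F), Q v ≠ 0 ∧ H = Cfsg.Geo.subspaceStabilizer (Submodule.span F {v}) ⊓ Cfsg.Geo.omegaGL Q) ∨
    (∃ D : Fin 3 → Submodule F (Fin 12 → F), Cfsg.Geo.IsOrthogonalMDecomposition Q 4 D ∧ (∀ i, ¬ Cfsg.Geo.IsPlusTypeOn Q (D i)) ∧ H = Cfsg.Geo.decompositionStabilizer D ⊓ Cfsg.Geo.omegaGL Q) ∨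
    (∃ K : Subalgebra F (Matrix (Fin 12) (Fin 12) F), Cfsg.Geo.IsFieldSubalgebra 2 K ∧ H = Cfsg.Geo.subalgebraNormalizer K ⊓ Cfsg.Geo.omegaGL Q) ∨
    (∃ K : Subalgebra F (Matrix (Fin 12) (Fin 12) F), Cfsg.Geo.IsFieldSubalgebra 3 K ∧ H = Cfsg.Geo.subalgebraNormalizer K ⊓ Cfsg.Geo.omegaGL Q) ∨
    (Odd (Fintype.card F) ∧ 5 ≤ Fintype.card F ∧ ∃ (e : Fin 12 ≃ Fin 3 × Fin 4) (P : Matrix.GeneralLinearGroup (Fin 12) F) (f₁ : (Fin 3 → F) → (Fin 3 → F) → F) (f₂ : (Fin 4 → F) → (Fin 4 → F) → F), Cfsg.Geo.IsSymmetricForm f₁ ∧ Cfsg.Geo.IsSymmetricForm f₂ ∧ ¬ Cfsg.Geo.IsPlusTypeOn (fun v : Fin 4 → F => f₂ v v) ⊤ ∧ Cfsg.Geo.IsTensorFormStructure id (QuadraticMap.polar Q) f₁ f₂ e P ∧ H = Cfsg.Geo.tensorProductSubgroup 3 4 e P ⊓ Cfsg.Geo.omegaGL Q) ∨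
    (∃ (F₀ : Subfield F) (r : ℕ) (P : Matrix.GeneralLinearGroup (Fin 12) F) (ζ : F), r.Prime ∧ Odd r ∧ Fintype.card F = Nat.card F₀ ^ r ∧ ζ ≠ 0 ∧ Cfsg.Geo.IsQuadFormRationalStructure (fun v : Fin 12 → F => ζ * Q v) F₀ P ∧ H = Cfsg.Geo.subfieldSubgroup F₀ P ⊓ Cfsg.Geo.omegaGL Q) ∨
    Cfsg.Geo.InOrthogonalResidualClass H := by
  classical
  open CfsgLib.SmallDim CfsgLib.SmallDim.OrthEven CfsgLib.Geometric.Orth Cfsg.Geo in
  (
    set T := toQF hQ with hT
    have hQ' := nondeg_toQF hQ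
    have hn : 5 ≤ Fintype.card (Fin 12) := by simp
    have hG : H ≤ omegaGL (⇑T) := hH.1.le
    have hiso := isometric_of_le_omega hG
    by_cases hirr : ActsIrreducibly (matrixSet H)
    swap
    · obtain ⟨W, h0, h1, hle, hW, hdim⟩ := reducible_witness_six hQ' (by simp) hiso hirr
      have heq : H = subspaceStabilizer W ⊓ omegaGL Q :=
        IsMaximalIn.eq_inf hH hle (omega_not_le_subspaceStabilizer hQ' hn h0 h1)
      rcases hW with (hts | ⟨hq, ho, hnd⟩ | ⟨hd, hnd, hp⟩ | ⟨hq, hd, hnd, hp⟩ | ⟨hd, hnd⟩ | ⟨hq, v, hv, rfl⟩) |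
        ⟨hd, hnd⟩
      · exact Or.inl ⟨W, h0, hts, heq⟩
      · exact Or.inr (Or.inl ⟨hq, W, h0, h1, ho, fun hk => by obtain ⟨k, hk'⟩ := ho; omega, hnd, heq⟩)
      · exact Or.inr (Or.inr (Or.inl ⟨W, hd, hnd, hp, heq⟩))
      · exact Or.inr (Or.inr (Or.inr (Or.inl ⟨hq, W, hd, hnd, hp, heq⟩)))
      · exact Or.inr (Or.inr (Or.inr (Or.inr (Or.inl ⟨W, hd, hnd, heq⟩))))
      · iterate 6 right
        exact Or.inl ⟨hq, v, hv, heq⟩
      · iterate 5 right
        exact Or.inl ⟨W, hd, hnd, heq⟩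
    iterate 7 right
    have hfours : ∀ D : Fin 3 → Submodule F (Fin 12 → F), IsOrthogonalMDecomposition Q 4 D →
        (∀ i, ¬ IsPlusTypeOn Q (D i)) → H ≤ decompositionStabilizer D →
        ∃ D : Fin 3 → Submodule F (Fin 12 → F), IsOrthogonalMDecomposition Q 4 D ∧
          (∀ i, ¬ IsPlusTypeOn Q (D i)) ∧ H = decompositionStabilizer D ⊓ omegaGL Q := fun D hD hall hle =>
      ⟨D, hD, hall, IsMaximalIn.eq_inf hH hle (omega_not_le_decompositionStabilizer hQ' hn hD.decomp.decomp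
        (count_twelve (by simp) rfl (by norm_num)))⟩
    rcases (twelve_cases hQ' (Fintype.card_fin 12) hG hirr).imp_right (Or.imp_right (Or.imp_right or_assoc.mpr)) with
      h | h | ⟨r, K, hr, hK, hle⟩ | h |
      ⟨K, r, P, ζ, hr, hcard, hK, hζ, hrat, hle⟩ | h
    · obtain ⟨D, hD, hall, hle⟩ := twelve_minus_decomp hQ' (Fintype.card_fin 12) hminus hiso hirr h
      exact Or.inl (hfours D hD hall hle)
    · exact absurd h.isPlus hminus
    · have heq := IsMaximalIn.eq_inf hH hle (omega_not_le_subalgebraNormalizer hQ' hn (by omega) hK)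
      rcases hr with rfl | rfl
      · exact Or.inr (Or.inl ⟨K, hK, heq⟩)
      · exact Or.inr (Or.inr (Or.inl ⟨K, hK, heq⟩))
    · rcases twelve_minus_tensor hQ' hminus hG hirr h with
        ⟨ho, hq, e, P, f₁, f₂, hf₁, hf₂, hnp, hf, hle⟩ | ⟨D, hD, hall, hle⟩
      · iterate 3 right
        exact Or.inl ⟨ho, hq, e, P, f₁, f₂, hf₁, hf₂, hnp, hf, IsMaximalIn.eq_inf hH hle
          (omega_not_le_tensorProductSubgroup hQ' hn (by norm_num) (by norm_num) (by simp) e P)⟩
      · exact Or.inl (hfours D hD hall hle)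
    · iterate 4 right
      exact Or.inl ⟨K, r, P, ζ, hr, hr.eq_two_or_odd'.resolve_left fun e => by
        subst e
        exact hminus (isPlus_of_index_two (m := 6) (by simp) (by norm_num) hcard hζ hrat),
        hcard, hζ, hrat, IsMaximalIn.eq_inf hH hle (omega_not_le_subfieldSubgroup hQ' hn hK P)⟩
    · iterate 5 right
      exact h)

end Cfsg.Agent.S5874
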