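import Cfsg.Statements.S5904
-- import your own Cfsg.Agent.* helpers here

set_option autoImplicit false
open scoped Pointwise
open Cfsg

namespace Cfsg.Agent.S5904

open scoped Pointwise
open MulAction Equiv

lemma not_coatom {Ω : Type*} [Fintype Ω] [DecidableEq Ω] (hΩ : 2 < Fintype.card Ω)
    (O : Set Ω) (hO : Nat.card O = Nat.card ↥Oᶜ) :
    ¬ IsCoatom (MulAction.stabilizer (Equiv.Perm Ω) O) := by
  classical
  intro hco
  let P : Subgroup (Equiv.Perm Ω) :=
    { carrier := {g | g • O = O ∧ g • Oᶜ = Oᶜ ∨ g • O = Oᶜ ∧ g • Oᶜ = O}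
      one_mem' := Or.inl ⟨one_smul _ _, one_smul _ _⟩
      mul_mem' := by
        rintro a b (⟨ha, ha'⟩ | ⟨ha, ha'⟩) (⟨hb, hb'⟩ | ⟨hb, hb'⟩) <;> simp only [Set.mem_setOf_eq, mul_smul, hb, hb', ha, ha'] <;> simp
      inv_mem' := by
        rintro a (⟨ha, ha'⟩ | ⟨ha, ha'⟩)
        · exact Or.inl ⟨by rw [inv_smul_eq_iff, ha], by rw [inv_smul_eq_iff, ha']⟩
        · exact Or.inr ⟨by rw [inv_smul_eq_iff, ha'], by rw [inv_smul_eq_iff, ha]⟩ }
  have hle : stabilizer (Equiv.Perm Ω) O ≤ P := fun g hg => Or.inl ⟨hg, by rw [Set.smul_set_compl, hg]⟩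
  let e : {x // x ∈ O} ≃ {x // x ∈ Oᶜ} := (Finite.card_eq.mp hO).some
  let t : Equiv.Perm Ω := (Equiv.sumCompl (· ∈ O)).symm.trans
    (((Equiv.sumCongr e e.symm).trans (Equiv.sumComm _ _)).trans (Equiv.sumCompl (· ∈ O)))
  have ht : t • O = Oᶜ := by
    ext x
    simp only [Set.mem_smul_set_iff_inv_smul_mem]
    obtain ⟨y, rfl⟩ := t.surjective x
    simp only [Equiv.Perm.smul_def, Equiv.Perm.inv_def, Equiv.symm_apply_apply, Set.mem_compl_iff]
    by_cases hy : y ∈ O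
    · have : t y = (e ⟨y, hy⟩ : Ω) := by simp [t, hy]; rfl
      simp [this, hy, show (e ⟨y, hy⟩ : Ω) ∉ O from (e ⟨y, hy⟩).2]
    · have : t y = (e.symm ⟨y, hy⟩ : Ω) := by simp [t, hy]; rfl
      simp [this, hy, (e.symm ⟨y, hy⟩).2]
  have h2 : 1 < O.ncard := by
    have h := Set.ncard_add_ncard_compl O
    rw [← Nat.card_coe_set_eq, ← Nat.card_coe_set_eq, ← hO, Nat.card_eq_fintype_card (α := Ω)] at h
    rw [← Nat.card_coe_set_eq]; omega
  have h2c : 1 < Oᶜ.ncard := by rw [← Nat.card_coe_set_eq, ← hO, Nat.card_coe_set_eq]; exact h2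
  obtain ⟨a, ha, a', ha', hne⟩ := (Set.one_lt_ncard (Set.toFinite _)).mp h2
  obtain ⟨b, hb, b', hb', hne'⟩ := (Set.one_lt_ncard (Set.toFinite _)).mp h2c
  have htP : t ∈ P := Or.inr ⟨ht, by rw [Set.smul_set_compl, ht, compl_compl]⟩
  rcases hco.le_iff.mp hle with h | h
  · have hs : swap a b ∈ P := h ▸ Subgroup.mem_top _
    have e1 : swap a b • a' = a' := by
      simp [swap_apply_of_ne_of_ne, hne.symm, show a' ≠ b from fun h => hb (h ▸ ha')]
    have e2 : swap a b • a = b := by simp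
    rcases hs with ⟨hs, -⟩ | ⟨hs, -⟩
    · exact hb (hs ▸ ⟨a, ha, e2⟩ : b ∈ O)
    · exact (hs ▸ ⟨a', ha', e1⟩ : a' ∈ Oᶜ) ha'
  · rw [h] at htP
    have hoc : Oᶜ = O := ht.symm.trans htP
    have : a ∈ Oᶜ := by rw [hoc]; exact ha
    exact this ha

/-- Let Ω be a finite set with more than two elements and O ⊆ Ω a subset with exactly as many elements as its complement. Then the setwise stabilizer of O in the symmetric group on Ω is not a maximal subgroup (it is properly contained in the stabilizer of the partition {O, Ω ∖ O}, which is proper). -/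
theorem result {Ω : Type*} [Fintype Ω] [DecidableEq Ω] (hΩ : 2 < Fintype.card Ω)
    (O : Set Ω) (hO : Nat.card O = Nat.card ↥Oᶜ) :
    ¬ IsCoatom (MulAction.stabilizer (Equiv.Perm Ω) O) := by
  exact not_coatom hΩ O hO

end Cfsg.Agent.S5904
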