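import Cfsg.Statements.S5894
import Cfsg.Agent.S5904
-- import your own Cfsg.Agent.* helpers here

set_option autoImplicit false
open Cfsg

namespace Cfsg.Agent.S5894

open scoped Pointwise
open MulAction Equiv

lemma construction (m : ℕ) (hm : 2 ≤ m) :
    ∃ M H K : Subgroup (Equiv.Perm (Fin (2 * m))), IsCoatom M ∧ M.index = 2 * m ∧ H ≤ M ∧ IsCoatom (H.subgroupOf M) ∧
      IsCoatom K ∧ H ≤ K ∧ ¬ IsCoatom (H.subgroupOf K) := by
  classical
  set Ω := Fin (2 * m)
  obtain ⟨O, hO⟩ : ∃ O : Finset Ω, O.card = m := by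
    obtain ⟨O, -, hO⟩ := Finset.exists_subset_card_eq (s := (Finset.univ : Finset Ω)) (n := m) (by simp [Ω]; omega)
    exact ⟨O, hO⟩
  obtain ⟨a, ha⟩ := Finset.card_pos.mp (by omega : 0 < O.card)
  have hcompl : Nat.card (O : Set Ω) = Nat.card ((O : Set Ω)ᶜ : Set Ω) := by
    simp only [Nat.card_eq_fintype_card, Fintype.card_compl_set, Finset.coe_sort_coe, Fintype.card_coe, hO, Ω,
      Fintype.card_fin]
    omega
  have hS : ¬ IsCoatom (stabilizer (Perm Ω) (O : Set Ω)) :=
    S5904.result (by simp [Ω]; omega) _ hcompl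
  obtain ⟨b, hb⟩ : ∃ b, b ∉ O := by
    by_contra h
    push Not at h
    rw [Finset.eq_univ_iff_forall.mpr h, Finset.card_univ] at hO
    simp [Ω] at hO; omega
  have hSne : stabilizer (Perm Ω) (O : Set Ω) ≠ ⊤ :=
    Equiv.Perm.stabilizer_ne_top_of_nonempty_of_nonempty_compl ⟨a, ha⟩ ⟨b, hb⟩
  obtain ⟨K, hK, hSK⟩ := (eq_top_or_exists_le_coatom _).resolve_left hSne
  have hSK' : stabilizer (Perm Ω) (O : Set Ω) < K := lt_of_le_of_ne hSK fun h => hS (h ▸ hK)
  have : Nontrivial Ω := ⟨⟨a, b, fun h => hb (h ▸ ha)⟩⟩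
  refine ⟨stabilizer (Perm Ω) a, stabilizer (Perm Ω) a ⊓ stabilizer (Perm Ω) (O : Set Ω), K,
    MulAction.IsPreprimitive.isCoatom_stabilizer_of_isPreprimitive _ a, ?_, inf_le_left, ?_, hK, inf_le_right.trans hSK, ?_⟩
  · rw [MulAction.index_stabilizer_of_transitive]; simp [Ω]
  · let β := {x : Ω // x ≠ a}
    let φ : Perm β ≃* stabilizer (Perm Ω) a :=
      { toFun := fun g => ⟨Perm.ofSubtype g, Perm.ofSubtype_apply_of_not_mem g (by simp)⟩
        invFun := fun g => (g : Perm Ω).subtypePerm fun x => by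
          have : (g : Perm Ω) a = a := g.2
          exact not_congr ⟨fun h => (g : Perm Ω).injective (h.trans this.symm), fun h => h ▸ this⟩
        left_inv := fun g => Perm.subtypePerm_ofSubtype g
        right_inv := fun g => Subtype.ext (Perm.ofSubtype_subtypePerm _ (fun x hx h => hx (h ▸ g.2)))
        map_mul' := fun g h => Subtype.ext (map_mul _ g h) }
    let s : Set β := {x | (x : Ω) ∈ O}
    have hs : s.ncard = m - 1 := by
      have : (Subtype.val '' s) = ((O.erase a : Finset Ω) : Set Ω) := by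
        ext x; simp [s, β, and_comm]
      rw [← Set.ncard_image_of_injective s Subtype.val_injective, this, Set.ncard_coe_finset, Finset.card_erase_of_mem ha, hO]
    have hco : IsCoatom (stabilizer (Perm β) s) := by
      refine Equiv.Perm.isCoatom_stabilizer (Set.nonempty_of_ncard_ne_zero (by omega))
        ⟨⟨b, fun h => hb (h ▸ ha)⟩, by simpa [s] using hb⟩ ?_
      simp [β, Ω, hs]
      omega
    convert (φ.mapSubgroup.isCoatom_iff _).mpr hco using 1
    ext g
    obtain ⟨g, rfl⟩ := φ.surjective g
    rw [MulEquiv.mapSubgroup_apply, Subgroup.mem_subgroupOf, Subgroup.mem_inf]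
    refine ⟨fun h => ⟨g, ?_, rfl⟩, ?_⟩
    · refine MulAction.mem_stabilizer_set.mpr fun x => ?_
      have := MulAction.mem_stabilizer_set.mp h.2 (x : Ω)
      simpa [φ, s, Perm.ofSubtype_apply_of_mem _ (show (x : Ω) ≠ a from x.2)] using this
    · rintro ⟨g', hg', hgg⟩
      obtain rfl : g' = g := φ.injective hgg
      refine ⟨(φ g').2, MulAction.mem_stabilizer_set.mpr fun x => ?_⟩
      by_cases hx : x = a
      · subst hx
        have : (φ g' : Perm Ω) x = x := (φ g').2
        simp [this, ha]
      · have := MulAction.mem_stabilizer_set.mp hg' ⟨x, hx⟩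
        have he : Perm.ofSubtype g' x = g' ⟨x, hx⟩ := Perm.ofSubtype_apply_of_mem g' hx
        simpa [φ, s, he] using this
  · intro h
    obtain ⟨c, hc, hca⟩ := Finset.exists_mem_ne (by omega : 1 < O.card) a
    have hsw : swap a c ∈ stabilizer (Perm Ω) (O : Set Ω) := MulAction.mem_stabilizer_set.mpr fun x => by
      by_cases h1 : x = a
      · subst h1; simp [ha, hc]
      by_cases h2 : x = c
      · subst h2; simp [ha, hc]
      simp [swap_apply_of_ne_of_ne h1 h2]
    have hle : (stabilizer (Perm Ω) a ⊓ stabilizer (Perm Ω) (O : Set Ω)).subgroupOf K ≤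
        (stabilizer (Perm Ω) (O : Set Ω)).subgroupOf K := fun x hx => hx.2
    rcases h.le_iff.mp hle with h' | h'
    · exact hSK'.not_ge (Subgroup.subgroupOf_eq_top.mp h')
    · have : (⟨swap a c, hSK hsw⟩ : K) ∈ (stabilizer (Perm Ω) (O : Set Ω)).subgroupOf K := hsw
      rw [h'] at this
      have h1 : swap a c • a = a := this.1
      exact hca (by simpa using h1)

/-- For every m ≥ 2 the symmetric group on 2m letters has a maximal subgroup M of index 2m together with a maximal subgroup H of M that is not second maximal: some maximal subgroup K of the symmetric group contains H without H being maximal in K. (One may take M the stabiliser of a letter, H ≅ S_m × S_{m−1} inside it, and K ≅ S_m ≀ S₂ the stabiliser of a partition into two m-sets, with H < S_m × S_m < K.) So the prime-index hypothesis in the second-maximality criterion cannot be relaxed to any even index ≥ 4. -/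
theorem result (m : ℕ) (hm : 2 ≤ m) :
    ∃ M H K : Subgroup (Equiv.Perm (Fin (2 * m))), IsCoatom M ∧ M.index = 2 * m ∧ H ≤ M ∧ IsCoatom (H.subgroupOf M) ∧
      IsCoatom K ∧ H ≤ K ∧ ¬ IsCoatom (H.subgroupOf K) := by
  exact construction m hm

end Cfsg.Agent.S5894
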